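import Mathlib.RingTheory.Localization.Integral
import Mathlib.RingTheory.Localization.Finiteness
import Mathlib.RingTheory.Localization.LocalizationLocalization
import Mathlib.RingTheory.Localization.FractionRing

/-!
# Finiteness of integral closures and localization (helper10)
-/

set_option autoImplicit false

namespace Groth.Agent.Lib.helper10

open Algebra

/-- If `S = M⁻¹R`, `L` is an `S`-algebra and the integral closure of `R` in `L` is a finite
`R`-module, then the integral closure of `S` in `L` is a finite `S`-module. -/
theorem finite_integralClosure_of_isLocalization (R : Type*) [CommRing R] (M : Submonoid R)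
    (S : Type*) [CommRing S] [Algebra R S] [IsLocalization M S] (L : Type*) [CommRing L]
    [Algebra R L] [Algebra S L] [IsScalarTower R S L]
    [Module.Finite R (integralClosure R L)] : Module.Finite S (integralClosure S L) := by
  have : IsLocalization (Algebra.algebraMapSubmonoid L M) L := by
    apply IsLocalization.of_le_isUnit
    rintro _ ⟨m, hm, rfl⟩
    rw [IsScalarTower.algebraMap_apply R S L]
    exact (IsLocalization.map_units S ⟨m, hm⟩).map _
  let : Algebra (integralClosure R L) (integralClosure S L) := RingHom.toAlgebra
    { toFun := fun x => ⟨x.1, x.2.tower_top⟩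
      map_one' := rfl
      map_mul' := fun _ _ => rfl
      map_zero' := rfl
      map_add' := fun _ _ => rfl }
  have : IsScalarTower (integralClosure R L) (integralClosure S L) L :=
    IsScalarTower.of_algebraMap_eq' rfl
  have : IsScalarTower R (integralClosure R L) (integralClosure S L) :=
    IsScalarTower.of_algebraMap_eq' (by
      ext r
      rfl)
  have : IsScalarTower R S (integralClosure S L) :=
    ⟨fun r s x => Subtype.ext (smul_assoc r s (x : L))⟩
  have := IsLocalization.integralClosure (R := R) (S := L) (Rf := S) (Sf := L) M
  exact Module.Finite.of_isLocalization R (integralClosure R L) M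

section domain

variable (R : Type*) [CommRing R] [IsDomain R] (M : Submonoid R) (S : Type*) [CommRing S]
  [IsDomain S] [Algebra R S] [IsLocalization M S]

include S in
theorem le_nonZeroDivisors_of_isLocalization_isDomain : M ≤ nonZeroDivisors R := by
  intro m hm
  apply mem_nonZeroDivisors_of_ne_zero
  rintro rfl
  have := IsLocalization.map_units S (⟨0, hm⟩ : M)
  simp at this

include M in
theorem isFractionRing_of_isLocalization_isDomain (K : Type*) [Field K] [Algebra R K]
    [Algebra S K] [IsScalarTower R S K] [IsFractionRing S K] : IsFractionRing R K := by
  have hinj : Function.Injective (algebraMap R S) :=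
    IsLocalization.injective S (le_nonZeroDivisors_of_isLocalization_isDomain R M S)
  have h1 := IsLocalization.localization_localization_isLocalization_of_has_all_units M
    (nonZeroDivisors S) K (fun x hx => hx.mem_nonZeroDivisors)
  have h2 : (nonZeroDivisors S).comap (algebraMap R S) = nonZeroDivisors R := by
    ext x
    rw [Submonoid.mem_comap, mem_nonZeroDivisors_iff_ne_zero, mem_nonZeroDivisors_iff_ne_zero,
      map_ne_zero_iff _ hinj]
  rw [h2] at h1
  exact h1

end domain

section away

open Function

/-- For a domain `R`, `g : R` and a domain `Rg = R[1/g]`, the integral closure of `Rg` in its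
fraction field is the localization away from `g` of the integral closure of `R` in its fraction
field (as `R`-modules). -/
theorem exists_isLocalizedModule_integralClosure_away (R : Type*) [CommRing R] [IsDomain R]
    (g : R) (Rg : Type*) [CommRing Rg] [IsDomain Rg] [Algebra R Rg] [IsLocalization.Away g Rg] :
    ∃ φ : integralClosure R (FractionRing R) →ₗ[R] integralClosure Rg (FractionRing Rg),
      IsLocalizedModule.Away g φ := by
  have hM := le_nonZeroDivisors_of_isLocalization_isDomain R (Submonoid.powers g) Rg
  have hinj : Injective (algebraMap R Rg) := IsLocalization.injective Rg hM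
  have hg0 : g ≠ 0 := nonZeroDivisors.ne_zero (hM (Submonoid.mem_powers g))
  have : IsScalarTower R Rg (FractionRing Rg) := inferInstance
  have : FaithfulSMul R (FractionRing Rg) := (faithfulSMul_iff_algebraMap_injective R _).mpr (by
    rw [IsScalarTower.algebraMap_eq R Rg (FractionRing Rg)]
    exact (IsFractionRing.injective Rg (FractionRing Rg)).comp hinj)
  let _ : Algebra (FractionRing R) (FractionRing Rg) := FractionRing.liftAlgebra R _
  have : IsFractionRing R (FractionRing Rg) :=
    isFractionRing_of_isLocalization_isDomain R (Submonoid.powers g) Rg (FractionRing Rg)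
  have hsurj : Surjective (algebraMap (FractionRing R) (FractionRing Rg)) := by
    intro y
    obtain ⟨a, b, hb, rfl⟩ := IsFractionRing.div_surjective (A := R) y
    refine ⟨algebraMap R (FractionRing R) a / algebraMap R (FractionRing R) b, ?_⟩
    rw [map_div₀, ← IsScalarTower.algebraMap_apply, ← IsScalarTower.algebraMap_apply]
  have hbij : Bijective (algebraMap (FractionRing R) (FractionRing Rg)) :=
    ⟨(algebraMap (FractionRing R) (FractionRing Rg)).injective, hsurj⟩
  have : IsLocalization.Away (algebraMap R (FractionRing R) g) (FractionRing Rg) := by
    have h1 : IsLocalization (Submonoid.powers (algebraMap R (FractionRing R) g))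
        (FractionRing R) := by
      apply IsLocalization.of_le_isUnit
      rintro _ ⟨n, rfl⟩
      have : algebraMap R (FractionRing R) g ≠ 0 := by
        rwa [Ne, FaithfulSMul.algebraMap_eq_zero_iff]
      exact (IsUnit.mk0 _ this).pow n
    exact IsLocalization.isLocalization_of_algEquiv _
      (AlgEquiv.ofBijective (Algebra.ofId (FractionRing R) (FractionRing Rg)) hbij)
  let _ : Algebra (integralClosure R (FractionRing R)) (integralClosure Rg (FractionRing Rg)) :=
    RingHom.toAlgebra
    { toFun := fun x => ⟨algebraMap (FractionRing R) (FractionRing Rg) x.1,
        (x.2.map (IsScalarTower.toAlgHom R (FractionRing R) (FractionRing Rg))).tower_top⟩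
      map_one' := Subtype.ext (by simp)
      map_mul' := fun _ _ => Subtype.ext (by simp)
      map_zero' := Subtype.ext (by simp)
      map_add' := fun _ _ => Subtype.ext (by simp) }
  have : IsScalarTower (integralClosure R (FractionRing R))
      (integralClosure Rg (FractionRing Rg)) (FractionRing Rg) :=
    IsScalarTower.of_algebraMap_eq' rfl
  have : IsScalarTower R (integralClosure R (FractionRing R))
      (integralClosure Rg (FractionRing Rg)) :=
    IsScalarTower.of_algebraMap_eq' (by
      ext r
      change algebraMap R (FractionRing Rg) r =
        algebraMap (FractionRing R) (FractionRing Rg) (algebraMap R (FractionRing R) r)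
      rw [← IsScalarTower.algebraMap_apply])
  have hloc := IsLocalization.Away.integralClosure (R := R) (S := FractionRing R) (Rf := Rg)
    (Sf := FractionRing Rg) g
  refine ⟨(IsScalarTower.toAlgHom R (integralClosure R (FractionRing R))
    (integralClosure Rg (FractionRing Rg))).toLinearMap, ?_⟩
  rw [IsLocalizedModule.Away, isLocalizedModule_iff_isLocalization,
    Algebra.algebraMapSubmonoid_powers]
  exact hloc

end away

end Groth.Agent.Lib.helper10
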