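import Mathlib

set_option autoImplicit false
universe u
open IsLocalRing

namespace Groth.Agent.Lib.helper10.ValEF

section UL
variable {L Γ₀ : Type*} [Field L] [LinearOrderedCommGroupWithZero Γ₀] (v : Valuation L Γ₀)

/-- terms with pairwise distinct valuations cannot cancel. -/
theorem eq_zero_of_sum_eq_zero {J : Type*} [Fintype J] (z : J → L)
    (hd : ∀ j j', j ≠ j' → z j ≠ 0 → z j' ≠ 0 → v (z j) ≠ v (z j'))
    (hs : ∑ j, z j = 0) : ∀ j, z j = 0 := by
  classical
  by_contra hcon
  push Not at hcon
  obtain ⟨j1, hj1⟩ := hcon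
  obtain ⟨j0, -, hmax⟩ := Finset.exists_max_image Finset.univ (fun j => v (z j))
    ⟨j1, Finset.mem_univ _⟩
  have hv1 : v (z j1) ≠ 0 := (Valuation.ne_zero_iff v).mpr hj1
  have hv0 : v (z j0) ≠ 0 := by
    intro h0
    have := hmax j1 (Finset.mem_univ _)
    rw [h0] at this
    exact hv1 (le_antisymm this zero_le)
  have hz0 : z j0 ≠ 0 := (Valuation.ne_zero_iff v).mp hv0
  have key := Valuation.map_sum_eq_of_lt v (s := Finset.univ) (f := z) (Finset.mem_univ j0)
    (fun i hi => by
      have hij : i ≠ j0 := by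
        intro h; rw [h] at hi; simp at hi
      refine lt_of_le_of_ne (hmax i (Finset.mem_univ _)) ?_
      by_cases hzi : z i = 0
      · rw [hzi, map_zero]; exact fun h => hv0 h.symm
      · exact hd i j0 hij hzi hz0)
  rw [hs, map_zero] at key
  exact hv0 key.symm

end UL

section main
variable (A B K L : Type u) [CommRing A] [IsDomain A] [ValuationRing A] [CommRing B] [IsDomain B]
  [ValuationRing B] [Field K] [Field L] [Algebra A K] [IsFractionRing A K] [Algebra B L]
  [IsFractionRing B L] [Algebra A B] [Algebra K L] [Algebra A L] [IsScalarTower A K L]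
  [IsScalarTower A B L] [IsLocalHom (algebraMap A B)]

theorem residue_smul (a : A) (b : B) :
    residue B (a • b) = residue A a • residue B b := by
  rw [Algebra.smul_def, Algebra.smul_def, map_mul, ResidueField.algebraMap_residue]

variable {A B K L}

omit [IsFractionRing B L] in
/-- a `K`-combination of lifts of residually independent elements is `(unit of K)·(unit of B)`. -/
theorem exists_unit_mul {ι : Type*} [Fintype ι] (ω : ι → B)
    (hω : LinearIndependent (ResidueField A) (fun i => residue B (ω i))) (c : ι → K) :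
    (∀ i, c i = 0) ∨ ∃ (a : Kˣ) (w : Bˣ),
      ∑ i, c i • algebraMap B L (ω i) = algebraMap K L a * algebraMap B L w := by
  classical
  by_cases hall : ∀ i, c i = 0
  · exact Or.inl hall
  right
  push Not at hall
  obtain ⟨i1, hi1⟩ := hall
  let vA := ValuationRing.valuation A K
  obtain ⟨i0, -, hmax⟩ := Finset.exists_max_image Finset.univ (fun i => vA (c i))
    ⟨i1, Finset.mem_univ _⟩
  have hv1 : vA (c i1) ≠ 0 := (Valuation.ne_zero_iff vA).mpr hi1
  have hv0 : vA (c i0) ≠ 0 := by
    intro h0
    have := hmax i1 (Finset.mem_univ _)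
    rw [h0] at this
    exact hv1 (le_antisymm this zero_le)
  have hc0 : c i0 ≠ 0 := (Valuation.ne_zero_iff vA).mp hv0
  have hint : ∀ i, ∃ a : A, algebraMap A K a = c i / c i0 := by
    intro i
    rw [← ValuationRing.mem_integer_iff, Valuation.mem_integer_iff, map_div₀]
    exact div_le_one_of_le₀ (hmax i (Finset.mem_univ _)) zero_le
  choose c' hc' using hint
  have hc'0 : c' i0 = 1 := by
    apply IsFractionRing.injective A K
    rw [hc', div_self hc0, map_one]
  let β : B := ∑ i, c' i • ω i
  have hβ : IsUnit β := by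
    rw [← IsLocalRing.notMem_maximalIdeal, ← IsLocalRing.residue_eq_zero_iff]
    intro h0
    have h1 : ∑ i, residue A (c' i) • residue B (ω i) = 0 := by
      rw [← h0, map_sum]
      exact Finset.sum_congr rfl (fun i _ => (residue_smul A B (c' i) (ω i)).symm)
    have h2 := Fintype.linearIndependent_iff.mp hω (fun i => residue A (c' i)) h1 i0
    rw [hc'0, map_one] at h2
    exact one_ne_zero h2
  refine ⟨Units.mk0 (c i0) hc0, hβ.unit, ?_⟩
  rw [Units.val_mk0, IsUnit.unit_spec, ← Algebra.smul_def, map_sum, Finset.smul_sum]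
  refine Finset.sum_congr rfl (fun i _ => ?_)
  have e1 : c i = c i0 * algebraMap A K (c' i) := by
    rw [hc', mul_div_cancel₀ _ hc0]
  have e2 : algebraMap B L (c' i • ω i) = c' i • algebraMap B L (ω i) :=
    map_smul (IsScalarTower.toAlgHom A B L) _ _
  rw [e2, e1, mul_smul, algebraMap_smul]

omit [ValuationRing B] in
theorem unit_ne_zero (a : Kˣ) (w : Bˣ) : algebraMap K L a * algebraMap B L w ≠ 0 := by
  apply mul_ne_zero
  · exact (map_ne_zero _).mpr a.ne_zero
  · intro h0
    have : (w : B) = 0 := IsFractionRing.injective B L (by rw [h0, map_zero])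
    exact w.ne_zero this

theorem linearIndependent_mul {ι J : Type*} [Fintype ι] [Fintype J] (ω : ι → B)
    (hω : LinearIndependent (ResidueField A) (fun i => residue B (ω i)))
    (π : J → Lˣ)
    (hπ : ∀ j j', j ≠ j' → ∀ (a : Kˣ) (w : Bˣ),
      (π j : L) ≠ algebraMap K L a * algebraMap B L w * π j') :
    LinearIndependent K (fun p : ι × J => algebraMap B L (ω p.1) * (π p.2 : L)) := by
  classical
  rw [Fintype.linearIndependent_iff]
  intro g hg
  let y : J → L := fun j => ∑ i, g (i, j) • algebraMap B L (ω i)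
  have hsum : ∑ j, y j * (π j : L) = 0 := by
    rw [← hg, Fintype.sum_prod_type_right]
    refine Finset.sum_congr rfl (fun j _ => ?_)
    rw [Finset.sum_mul]
    refine Finset.sum_congr rfl (fun i _ => ?_)
    rw [smul_mul_assoc]
  have hB : ∀ j, (∀ i, g (i, j) = 0) ∨
      ∃ (a : Kˣ) (w : Bˣ), y j = algebraMap K L a * algebraMap B L w :=
    fun j => exists_unit_mul ω hω (fun i => g (i, j))
  have hy0 : ∀ j, (∀ i, g (i, j) = 0) → y j = 0 := by
    intro j h
    show ∑ i, g (i, j) • algebraMap B L (ω i) = 0
    exact Finset.sum_eq_zero (fun i _ => by rw [h i, zero_smul])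
  have hz := eq_zero_of_sum_eq_zero (ValuationRing.valuation B L)
    (fun j => y j * (π j : L)) ?_ hsum
  · rintro ⟨i, j⟩
    rcases hB j with h | ⟨a, w, h⟩
    · exact h i
    · exfalso
      have := hz j
      rw [h] at this
      exact mul_ne_zero (unit_ne_zero a w) (π j).ne_zero this
  · intro j j' hjj' hzj hzj' heq
    have hyj : y j ≠ 0 := left_ne_zero_of_mul hzj
    have hyj' : y j' ≠ 0 := left_ne_zero_of_mul hzj'
    rcases hB j with h | ⟨a, w, h⟩
    · exact hyj (hy0 j h)
    rcases hB j' with h' | ⟨a', w', h'⟩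
    · exact hyj' (hy0 j' h')
    obtain ⟨t, ht⟩ := Quotient.exact' heq
    have ht2 : t • (y j' * (π j' : L)) = y j * (π j : L) := ht
    have ht' : algebraMap B L t * (y j' * (π j' : L)) = y j * (π j : L) := by
      rw [← ht2, Units.smul_def, Algebra.smul_def]
    rw [h, h'] at ht'
    apply hπ j j' hjj' (a' * a⁻¹) (t * w' * w⁻¹)
    have ha0 : algebraMap K L a ≠ 0 := (map_ne_zero _).mpr a.ne_zero
    have hw0 : algebraMap B L w ≠ 0 := right_ne_zero_of_mul (unit_ne_zero a w)
    have e1 : algebraMap K L ((a' * a⁻¹ : Kˣ) : K) = algebraMap K L a' * (algebraMap K L a)⁻¹ := by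
      rw [Units.val_mul, map_mul, Units.val_inv_eq_inv_val, map_inv₀]
    have e2 : algebraMap B L ((t * w' * w⁻¹ : Bˣ) : B) =
        algebraMap B L t * algebraMap B L w' * (algebraMap B L w)⁻¹ := by
      rw [Units.val_mul, Units.val_mul, map_mul, map_mul, map_units_inv]
    rw [e1, e2]
    field_simp
    linear_combination -ht'

/-- version of `linearIndependent_mul` for arbitrary index types. -/
theorem linearIndependent_mul' {ι J : Type*} (ω : ι → B)
    (hω : LinearIndependent (ResidueField A) (fun i => residue B (ω i)))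
    (π : J → Lˣ)
    (hπ : ∀ j j', j ≠ j' → ∀ (a : Kˣ) (w : Bˣ),
      (π j : L) ≠ algebraMap K L a * algebraMap B L w * π j') :
    LinearIndependent K (fun p : ι × J => algebraMap B L (ω p.1) * (π p.2 : L)) := by
  classical
  rw [linearIndependent_iff_finset_linearIndependent]
  intro S
  have h := linearIndependent_mul (A := A) (K := K)
    (fun i : S.image Prod.fst => ω i) (hω.comp _ Subtype.val_injective)
    (fun j : S.image Prod.snd => π j) (fun j j' hjj' => hπ j j' (fun h => hjj' (Subtype.ext h)))
  let e : S → (S.image Prod.fst) × (S.image Prod.snd) := fun p =>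
    (⟨p.1.1, Finset.mem_image_of_mem _ p.2⟩, ⟨p.1.2, Finset.mem_image_of_mem _ p.2⟩)
  have he : Function.Injective e := by
    intro p p' hpp'
    apply Subtype.ext
    have h1 := congrArg (fun q => (q.1 : ι)) hpp'
    have h2 := congrArg (fun q => (q.2 : J)) hpp'
    exact Prod.ext h1 h2
  exact h.comp e he

variable (A B K L) in
theorem main [FiniteDimensional K L] :
    let UB : Subgroup Lˣ := (Units.map (algebraMap B L).toMonoidHom).range
    let ΓA : Subgroup (Lˣ ⧸ UB) :=
      ((QuotientGroup.mk' UB).comp (Units.map (algebraMap K L).toMonoidHom)).range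
    Module.Finite (ResidueField A) (ResidueField B) ∧ ΓA.index ≠ 0 ∧
      ΓA.index * Module.finrank (ResidueField A) (ResidueField B) ≤ Module.finrank K L := by
  classical
  intro UB ΓA
  have hq : ∀ (x x' : Lˣ) (a : Kˣ) (w : Bˣ),
      (x : L) = algebraMap K L a * algebraMap B L w * x' →
      (QuotientGroup.mk (QuotientGroup.mk x : Lˣ ⧸ UB) : (Lˣ ⧸ UB) ⧸ ΓA) =
        QuotientGroup.mk (QuotientGroup.mk x' : Lˣ ⧸ UB) := by
    intro x x' a w hx
    have hx' : x = Units.map (algebraMap K L).toMonoidHom a *
        Units.map (algebraMap B L).toMonoidHom w * x' := Units.ext hx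
    rw [QuotientGroup.eq]
    refine ⟨a⁻¹, ?_⟩
    show (QuotientGroup.mk (Units.map (algebraMap K L).toMonoidHom a⁻¹) : Lˣ ⧸ UB) =
      (QuotientGroup.mk x)⁻¹ * QuotientGroup.mk x'
    rw [← QuotientGroup.mk_inv, ← QuotientGroup.mk_mul, QuotientGroup.eq]
    refine ⟨w⁻¹, ?_⟩
    rw [map_inv, map_inv, hx', inv_inv, mul_inv, mul_inv, inv_mul_cancel_right,
      mul_inv_cancel_left]
  have hCL : ∀ {ι J : Type u} [Fintype ι] [Fintype J] (ω : ι → B)
      (_ : LinearIndependent (ResidueField A) (fun i => residue B (ω i))) (π : J → Lˣ)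
      (_ : Function.Injective (fun j => (QuotientGroup.mk (QuotientGroup.mk (π j) : Lˣ ⧸ UB) :
        (Lˣ ⧸ UB) ⧸ ΓA))),
      Fintype.card ι * Fintype.card J ≤ Module.finrank K L := by
    intro ι J _ _ ω hω π hπ
    have hli := linearIndependent_mul (A := A) (K := K) ω hω π (by
      intro j j' hjj' a w hx
      exact hjj' (hπ (hq _ _ a w hx)))
    have := hli.fintype_card_le_finrank
    rwa [Fintype.card_prod] at this
  have hfin : Module.Finite (ResidueField A) (ResidueField B) := by
    rw [← Module.rank_lt_aleph0_iff]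
    refine lt_of_le_of_lt (rank_le (n := Module.finrank K L) ?_) Cardinal.natCast_lt_aleph0
    intro s hs
    have hsurj : ∀ i : s, ∃ b : B, residue B b = (i : ResidueField B) :=
      fun i => IsLocalRing.residue_surjective _
    choose ω hω using hsurj
    have h1 := hCL (ι := s) (J := PUnit.{u+1}) ω (by simpa only [hω] using hs) (fun _ => 1)
      (fun _ _ _ => Subsingleton.elim _ _)
    simpa using h1
  have hfinQ : Finite ((Lˣ ⧸ UB) ⧸ ΓA) := by
    by_contra hinf
    rw [not_finite_iff_infinite] at hinf
    obtain ⟨s, hs⟩ := Infinite.exists_subset_card_eq ((Lˣ ⧸ UB) ⧸ ΓA) (Module.finrank K L + 1)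
    have h1 := hCL (ι := PUnit.{u+1}) (J := s) (fun _ => (1 : B))
      (by
        rw [linearIndependent_unique_iff]
        simp)
      (fun c => (c : (Lˣ ⧸ UB) ⧸ ΓA).out.out)
      (by
        intro c c' h
        simp only [QuotientGroup.out_eq'] at h
        exact Subtype.ext h)
    simp only [Fintype.card_unique, one_mul, Fintype.card_coe, hs] at h1
    omega
  refine ⟨hfin, Subgroup.index_ne_zero_iff_finite.mpr hfinQ, ?_⟩
  have : Fintype ((Lˣ ⧸ UB) ⧸ ΓA) := Fintype.ofFinite _
  let b := Module.finBasis (ResidueField A) (ResidueField B)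
  have hsurj : ∀ i, ∃ x : B, residue B x = b i := fun i => IsLocalRing.residue_surjective _
  choose ω hω using hsurj
  have h1 := hCL (ι := ULift.{u} (Fin (Module.finrank (ResidueField A) (ResidueField B))))
    (J := (Lˣ ⧸ UB) ⧸ ΓA) (fun i => ω i.down)
    (by
      simp only [hω]
      exact b.linearIndependent.comp _ ULift.down_injective)
    (fun c => c.out.out)
    (by
      intro c c' h
      simpa only [QuotientGroup.out_eq'] using h)
  rw [Subgroup.index, Nat.card_eq_fintype_card, mul_comm]
  simpa using h1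

end main

end Groth.Agent.Lib.helper10.ValEF
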