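import Mathlib
import Groth.Agent.Lib.helper10.ValEF

set_option autoImplicit false
universe u
open IsLocalRing Cardinal

namespace Groth.Agent.Lib.helper10.Abhyankar

theorem algebraicIndependent_of_linearIndependent_monomials {K L σ : Type*} [Field K] [CommRing L]
    [Algebra K L] (f : σ → L)
    (h : LinearIndependent K (fun d : σ →₀ ℕ => d.prod (fun i k => f i ^ k))) :
    AlgebraicIndependent K f := by
  rw [algebraicIndependent_iff_injective_aeval, injective_iff_map_eq_zero]
  intro P hP
  have h1 : ∑ d ∈ P.support, P.coeff d • (d.prod fun i k => f i ^ k) = 0 := by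
    rw [← hP]
    conv_rhs => rw [P.as_sum, map_sum]
    refine Finset.sum_congr rfl fun d _ => ?_
    rw [MvPolynomial.aeval_monomial, Algebra.smul_def]
  have h2 := linearIndependent_iff'.mp h P.support (fun d => P.coeff d) h1
  ext d
  by_cases hd : d ∈ P.support
  · exact h2 d hd
  · exact MvPolynomial.notMem_support_iff.mp hd

theorem linearIndependent_monomials_of_algebraicIndependent {k κ τ : Type*} [Field k] [CommRing κ]
    [Algebra k κ] (f : τ → κ) (h : AlgebraicIndependent k f) :
    LinearIndependent k (fun d : τ →₀ ℕ => d.prod (fun i n => f i ^ n)) := by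
  have h1 := (MvPolynomial.basisMonomials τ k).linearIndependent.map'
    (MvPolynomial.aeval f).toLinearMap
    (LinearMap.ker_eq_bot.mpr (algebraicIndependent_iff_injective_aeval.mp h))
  have h2 : (fun d : τ →₀ ℕ => d.prod (fun i n => f i ^ n)) =
      ⇑(MvPolynomial.aeval f).toLinearMap ∘ ⇑(MvPolynomial.basisMonomials τ k) := by
    funext d
    simp [MvPolynomial.aeval_monomial]
  rw [h2]
  exact h1

section main
variable {K L Γ₀ Γ₁ : Type u} [Field K] [Field L] [Algebra K L]
    [LinearOrderedCommGroupWithZero Γ₀] [LinearOrderedCommGroupWithZero Γ₁]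
    (vK : Valuation K Γ₀) (vL : Valuation L Γ₁) [vK.HasExtension vL]

theorem main :
    Module.rank ℤ (Additive Lˣ ⧸ Subgroup.toAddSubgroup
        (vL.valuationSubring.unitGroup ⊔ (Units.map (algebraMap K L).toMonoidHom).range)) +
      Algebra.trdeg (IsLocalRing.ResidueField vK.valuationSubring)
        (IsLocalRing.ResidueField vL.valuationSubring) ≤ Algebra.trdeg K L := by
  classical
  obtain ⟨H, hH⟩ : ∃ H : Subgroup Lˣ, H = vL.valuationSubring.unitGroup ⊔
      (Units.map (algebraMap K L).toMonoidHom).range := ⟨_, rfl⟩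
  rw [← hH]
  obtain ⟨s, hs_card, hs_li⟩ := exists_set_linearIndependent_of_isDomain (R := ℤ)
    (M := Additive Lˣ ⧸ Subgroup.toAddSubgroup H)
  obtain ⟨t, ht⟩ := exists_isTranscendenceBasis (ResidueField vK.valuationSubring)
    (A := ResidueField vL.valuationSubring)
  have hx : ∀ i : s, ∃ x : Lˣ,
      (QuotientAddGroup.mk (Additive.ofMul x) : Additive Lˣ ⧸ H.toAddSubgroup) = i := fun i => by
    obtain ⟨a, ha⟩ := QuotientAddGroup.mk_surjective (i : Additive Lˣ ⧸ H.toAddSubgroup)
    exact ⟨Additive.toMul a, ha⟩
  choose x hx using hx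
  have hy : ∀ j : t, ∃ y : vL.valuationSubring, residue _ y = (j : ResidueField vL.valuationSubring) :=
    fun j => residue_surjective _
  choose y hy using hy
  -- residues of monomials in `y`
  have hω : LinearIndependent (ResidueField vK.valuationSubring)
      (fun β : t →₀ ℕ => residue vL.valuationSubring (β.prod fun j k => y j ^ k)) := by
    have h1 := linearIndependent_monomials_of_algebraicIndependent
      (fun j : t => (j : ResidueField vL.valuationSubring)) ht.1
    have h2 : (fun β : t →₀ ℕ => residue vL.valuationSubring (β.prod fun j k => y j ^ k)) =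
        (fun β : t →₀ ℕ => β.prod fun j k => (j : ResidueField vL.valuationSubring) ^ k) := by
      funext β
      rw [map_finsuppProd]
      simp only [map_pow, hy]
    rw [h2]
    exact h1
  -- monomials in `x`
  let π : (s →₀ ℕ) → Lˣ := fun α => α.prod fun i k => x i ^ k
  have hLIN : LinearIndependent ℕ (fun i : s => (i : Additive Lˣ ⧸ H.toAddSubgroup)) :=
    LinearIndependent.restrict_scalars (R := ℕ) (K := ℤ)
      (fun a b h => by simpa using h) hs_li
  have hqπ : ∀ α : s →₀ ℕ,
      (QuotientAddGroup.mk (Additive.ofMul (π α)) : Additive Lˣ ⧸ H.toAddSubgroup) =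
        Finsupp.linearCombination ℕ (fun i : s => (i : Additive Lˣ ⧸ H.toAddSubgroup)) α := by
    intro α
    rw [Finsupp.linearCombination_apply]
    show (QuotientAddGroup.mk' H.toAddSubgroup) (Additive.ofMul (α.prod fun i k => x i ^ k)) = _
    unfold Finsupp.prod Finsupp.sum
    rw [ofMul_prod, map_sum]
    refine Finset.sum_congr rfl (fun i _ => ?_)
    rw [ofMul_pow, map_nsmul]
    congr 1
    exact hx i
  have hπ : ∀ α α', α ≠ α' → ∀ (a : Kˣ) (w : (vL.valuationSubring)ˣ),
      (π α : L) ≠ algebraMap K L a * algebraMap vL.valuationSubring L w * π α' := by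
    intro α α' hαα' a w heq
    apply hαα'
    apply hLIN
    rw [← hqπ, ← hqπ]
    have h1 : π α = Units.map (algebraMap K L).toMonoidHom a *
        ((vL.valuationSubring.unitGroupMulEquiv.symm w : vL.valuationSubring.unitGroup) : Lˣ) *
          π α' := Units.ext heq
    have ha : Units.map (algebraMap K L).toMonoidHom a ∈ H := by
      rw [hH]; exact Subgroup.mem_sup_right ⟨a, rfl⟩
    have hw : ((vL.valuationSubring.unitGroupMulEquiv.symm w : vL.valuationSubring.unitGroup) : Lˣ)
        ∈ H := by
      rw [hH]; exact Subgroup.mem_sup_left (SetLike.coe_mem _)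
    rw [QuotientAddGroup.eq]
    show (π α)⁻¹ * π α' ∈ H
    rw [h1, mul_inv_rev, mul_comm, mul_inv_cancel_left]
    exact H.inv_mem (H.mul_mem ha hw)
  have hLI := ValEF.linearIndependent_mul' (A := vK.valuationSubring) (B := vL.valuationSubring)
    (K := K) (L := L) (fun β : t →₀ ℕ => β.prod fun j k => y j ^ k) hω π hπ
  -- algebraic independence
  have hAI : AlgebraicIndependent K
      (Sum.elim (fun j : t => ((y j : vL.valuationSubring) : L)) (fun i : s => ((x i : Lˣ) : L))) := by
    apply algebraicIndependent_of_linearIndependent_monomials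
    rw [← linearIndependent_equiv Finsupp.sumFinsuppEquivProdFinsupp.symm]
    have h2 : ((fun d : (t ⊕ s) →₀ ℕ => d.prod fun i k =>
        (Sum.elim (fun j : t => ((y j : vL.valuationSubring) : L))
          (fun i : s => ((x i : Lˣ) : L))) i ^ k) ∘ Finsupp.sumFinsuppEquivProdFinsupp.symm) =
        (fun p : (t →₀ ℕ) × (s →₀ ℕ) =>
          algebraMap vL.valuationSubring L (p.1.prod fun j k => y j ^ k) * (π p.2 : L)) := by
      funext p
      simp only [Function.comp_apply, Finsupp.sumFinsuppEquivProdFinsupp_symm_apply,
        Finsupp.prod_sumElim]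
      congr 1
      · rw [map_finsuppProd]
        simp only [map_pow]
        rfl
      · show _ = Units.coeHom L (p.2.prod fun i k => x i ^ k)
        rw [map_finsuppProd]
        simp only [map_pow]
        rfl
    rw [h2]
    exact hLI
  have hcard := hAI.cardinalMk_le_trdeg
  rw [Cardinal.mk_sum, Cardinal.lift_id, Cardinal.lift_id, hs_card, ht.cardinalMk_eq_trdeg,
    add_comm] at hcard
  exact hcard

end main

end Groth.Agent.Lib.helper10.Abhyankar
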