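import Groth.Agent.Lib.helper10.NormalTotal

set_option maxHeartbeats 400000
set_option autoImplicit false
universe u

namespace Groth.Agent.Lib.helper10.NormalTotal

open Polynomial

section psiL
variable {R : Type u} [CommRing R] (M : Submonoid R) (hM : M ≤ nonZeroDivisors R)
  (L : Type u) [CommRing L] [Algebra R L] [IsLocalization M L]
  (P : Ideal R) [P.IsPrime] [IsDomain (Localization.AtPrime P)]

noncomputable def psiL : L →+* FractionRing (Localization.AtPrime P) :=
  IsLocalization.lift (M := M) (g := img P)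
    (fun y => isUnit_iff_ne_zero.mpr (img_ne_zero_of_mem_nonZeroDivisors P (hM y.2)))

@[simp] lemma psiL_algebraMap (r : R) : psiL M hM L P (algebraMap R L r) = img P r :=
  IsLocalization.lift_eq _ r

lemma psiL_comp : (psiL M hM L P).comp (algebraMap R L) = img P :=
  IsLocalization.lift_comp _

lemma psiL_mk' (a : R) (d : M) :
    psiL M hM L P (IsLocalization.mk' L a d) * img P d = img P a := by
  rw [← psiL_algebraMap M hM L, ← map_mul, IsLocalization.mk'_spec, psiL_algebraMap]

lemma exists_smul_eq_zero_of_psiL_eq_zero (v : L) (h : psiL M hM L P v = 0) :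
    ∃ t : R, t ∉ P ∧ algebraMap R L t * v = 0 := by
  obtain ⟨a, d, rfl⟩ := IsLocalization.exists_mk'_eq M v
  have h1 := psiL_mk' M hM L P a d
  rw [h, zero_mul] at h1
  obtain ⟨t, ht, h0⟩ := (img_eq_zero_iff P a).mp h1.symm
  refine ⟨t, ht, ?_⟩
  rw [← IsLocalization.mk'_one (M := M) L t, ← IsLocalization.mk'_mul, h0,
    IsLocalization.mk'_zero]

end psiL

section forwardL
variable {R : Type u} [CommRing R] (M : Submonoid R) (hM : M ≤ nonZeroDivisors R)
  (L : Type u) [CommRing L] [Algebra R L] [IsLocalization M L]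

/-- conductor of `x` -/
def conductorL (x : L) : Ideal R where
  carrier := {r | algebraMap R L r * x ∈ (algebraMap R L).range}
  add_mem' := by
    rintro a b ⟨a', ha⟩ ⟨b', hb⟩
    exact ⟨a' + b', by rw [map_add, ha, hb, map_add, add_mul]⟩
  zero_mem' := ⟨0, by simp⟩
  smul_mem' := by
    rintro c a ⟨a', ha⟩
    exact ⟨c * a', by rw [map_mul, ha, smul_eq_mul, map_mul, mul_assoc]⟩

include hM in
theorem forwardL
    (h : ∀ (p : Ideal R) [p.IsPrime], IsDomain (Localization.AtPrime p) ∧
      IsIntegrallyClosed (Localization.AtPrime p)) (x : L) (hx : IsIntegral R x) :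
    ∃ y, algebraMap R L y = x := by
  by_contra hne
  have hI : (conductorL L x : Ideal R) ≠ ⊤ := by
    intro h
    have h1 : (1 : R) ∈ (conductorL L x : Ideal R) := h ▸ Submodule.mem_top
    obtain ⟨y, hy⟩ := h1
    exact hne ⟨y, by rw [hy, map_one, one_mul]⟩
  obtain ⟨P, hP, hIP⟩ := Ideal.exists_le_maximal _ hI
  have := hP.isPrime
  obtain ⟨hdom, hic⟩ := h P
  have hint : IsIntegral (Localization.AtPrime P) (psiL M hM L P x) :=
    IsIntegral.map_of_comp_eq (algebraMap R (Localization.AtPrime P)) (psiL M hM L P)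
      (by rw [psiL_comp]; rfl) hx
  obtain ⟨z, hz⟩ := (isIntegrallyClosed_iff (FractionRing (Localization.AtPrime P))).mp hic hint
  obtain ⟨c, s, rfl⟩ := IsLocalization.exists_mk'_eq P.primeCompl z
  have h0 : psiL M hM L P (algebraMap R L s * x - algebraMap R L c) = 0 := by
    rw [map_sub, map_mul, psiL_algebraMap, psiL_algebraMap, ← hz, img, RingHom.comp_apply,
      RingHom.comp_apply, ← map_mul, mul_comm, IsLocalization.mk'_spec, sub_self]
  obtain ⟨t, ht, h1⟩ := exists_smul_eq_zero_of_psiL_eq_zero M hM L P _ h0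
  have hts : t * s ∈ (conductorL L x : Ideal R) := by
    refine ⟨t * c, ?_⟩
    rw [mul_sub, sub_eq_zero] at h1
    rw [map_mul, map_mul, mul_assoc, h1]
  rcases hP.isPrime.mem_or_mem (hIP hts) with h2 | h2
  · exact ht h2
  · exact s.2 h2

end forwardL


section sub
variable {A : Type u} [CommRing A] (B : Subalgebra A (FractionRing A))

def MB : Submonoid B := (nonZeroDivisors A).map (algebraMap A B)

lemma MB_le : MB B ≤ nonZeroDivisors B := by
  rintro _ ⟨s, hs, rfl⟩
  rw [mem_nonZeroDivisors_iff_right]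
  intro b hb
  have h1 : (b : FractionRing A) * algebraMap A (FractionRing A) s = 0 := by
    have := congrArg (Subtype.val) hb
    simpa using this
  have hu : IsUnit (algebraMap A (FractionRing A) s) :=
    IsLocalization.map_units _ (⟨s, hs⟩ : nonZeroDivisors A)
  exact Subtype.ext (hu.mul_left_eq_zero.mp h1)

lemma isLocalization_MB : IsLocalization (MB B) (FractionRing A) := by
  rw [isLocalization_iff]
  refine ⟨?_, ?_, ?_⟩
  · rintro ⟨_, s, hs, rfl⟩
    exact IsLocalization.map_units _ (⟨s, hs⟩ : nonZeroDivisors A)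
  · intro z
    obtain ⟨⟨a, s⟩, h⟩ := IsLocalization.surj (nonZeroDivisors A) z
    exact ⟨(algebraMap A B a, ⟨algebraMap A B s, s, s.2, rfl⟩), h⟩
  · intro x y h
    exact ⟨1, by rw [Subtype.ext h]⟩

theorem mem_of_isIntegral (hB : ∀ (p : Ideal B) [p.IsPrime],
      IsDomain (Localization.AtPrime p) ∧ IsIntegrallyClosed (Localization.AtPrime p))
    (x : FractionRing A) (hx : IsIntegral A x) : x ∈ B := by
  have := isLocalization_MB B
  have hxB : IsIntegral B x := hx.tower_top
  obtain ⟨y, rfl⟩ := forwardL (MB B) (MB_le B) (FractionRing A) hB x hxB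
  exact y.2

theorem isNormal_of_sInf [IsReduced A] (hfin : (minimalPrimes A).Finite)
    (S : Set (Subalgebra A (FractionRing A)))
    (hS : ∀ B ∈ S, ∀ (p : Ideal B) [p.IsPrime],
      IsDomain (Localization.AtPrime p) ∧ IsIntegrallyClosed (Localization.AtPrime p))
    (hinf : sInf S = ⊥) (P : Ideal A) [P.IsPrime] :
    IsDomain (Localization.AtPrime P) ∧ IsIntegrallyClosed (Localization.AtPrime P) := by
  apply backward hfin
  rw [isIntegrallyClosedIn_iff]
  refine ⟨IsLocalization.injective _ le_rfl, ?_⟩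
  intro x hx
  have : x ∈ sInf S := by
    rw [Algebra.mem_sInf]
    intro B hB
    exact mem_of_isIntegral B (hS B hB) x hx
  rw [hinf] at this
  exact Algebra.mem_bot.mp this

end sub

end Groth.Agent.Lib.helper10.NormalTotal
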