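import Mathlib

/-!
# Smoothness and lifting along small extensions

If a local `R`-algebra `T`, quotient of a Noetherian local formally smooth `R`-algebra `A` with
`Ω[A⁄R]` finite free, is not formally smooth, then there is a small extension of Artinian local
`R`-algebras `B' → B` and a local map `T → B` that does not lift to `B'`.
-/

set_option autoImplicit false
set_option linter.unusedSectionVars false

namespace Groth.Agent.Lib.helper10.SmallExt

open TensorProduct IsLocalRing

universe u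

/-- The quotient of a Noetherian local ring by an ideal containing a power of the maximal ideal is
Artinian. -/
theorem isArtinianRing_quotient {A : Type*} [CommRing A] [IsLocalRing A] [IsNoetherianRing A]
    (K : Ideal A) (N : ℕ) (hK : maximalIdeal A ^ N ≤ K) : IsArtinianRing (A ⧸ K) := by
  rw [isArtinianRing_iff_isNoetherianRing_krullDimLE_zero]
  refine ⟨inferInstance, ?_⟩
  rw [Ring.krullDimLE_zero_iff]
  intro P hP
  have h1 : maximalIdeal A ≤ P.comap (Ideal.Quotient.mk K) := by
    apply Ideal.IsPrime.le_of_pow_le (n := N)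
    intro x hx
    rw [Ideal.mem_comap]
    have : Ideal.Quotient.mk K x = 0 := Ideal.Quotient.eq_zero_iff_mem.2 (hK hx)
    rw [this]
    exact P.zero_mem
  have h2 : maximalIdeal A = P.comap (Ideal.Quotient.mk K) :=
    (maximalIdeal.isMaximal A).eq_of_le (Ideal.comap_ne_top _ hP.ne_top) h1
  have hK' : K ≤ maximalIdeal A := by
    rw [h2]
    intro x hx
    rw [Ideal.mem_comap, Ideal.Quotient.eq_zero_iff_mem.2 hx]
    exact P.zero_mem
  have h3 : P = (maximalIdeal A).map (Ideal.Quotient.mk K) := by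
    rw [h2, Ideal.map_comap_of_surjective _ Ideal.Quotient.mk_surjective]
  rw [h3]
  exact Ideal.IsMaximal.map_of_surjective_of_ker_le Ideal.Quotient.mk_surjective
    (by rwa [Ideal.mk_ker])

theorem mem_smul_top_of_tmul_eq_zero {A κ : Type*} [CommRing A] [CommRing κ] [Algebra A κ]
    (hκ : Function.Surjective (algebraMap A κ)) {M : Type*} [AddCommGroup M] [Module A M] (x : M)
    (h : (1 : κ) ⊗ₜ[A] x = 0) :
    x ∈ (RingHom.ker (algebraMap A κ)) • (⊤ : Submodule A M) := by
  let e : (A ⧸ RingHom.ker (algebraMap A κ)) ≃ₐ[A] κ :=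
    Ideal.quotientKerAlgEquivOfSurjective (f := Algebra.ofId A κ) hκ
  have h1 : TensorProduct.congr e.symm.toLinearEquiv (LinearEquiv.refl A M) ((1 : κ) ⊗ₜ[A] x) =
      0 := by rw [h, map_zero]
  rw [TensorProduct.congr_tmul] at h1
  have h2 : e.symm.toLinearEquiv 1 = 1 := map_one e.symm
  rw [h2, LinearEquiv.refl_apply] at h1
  have h3 := congrArg (TensorProduct.quotTensorEquivQuotSMul M (RingHom.ker (algebraMap A κ))) h1
  rw [TensorProduct.quotTensorEquivQuotSMul_mk_one_tmul, map_zero,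
    Submodule.Quotient.mk_eq_zero] at h3
  exact h3

section Main

variable {R : Type u} [CommRing R] {A T : Type u} [CommRing A] [CommRing T] [Algebra R A]
  [Algebra R T] [Algebra A T] [IsScalarTower R A T] [IsLocalRing A] [IsLocalRing T]
  [IsNoetherianRing A]

theorem exists_f [Algebra.FormallySmooth R A] [Module.Free A Ω[A⁄R]] [Module.Finite A Ω[A⁄R]]
    (hsurj : Function.Surjective (algebraMap A T)) (hns : ¬ Algebra.FormallySmooth R T) :
    ∃ f : RingHom.ker (algebraMap A T), (1 : ResidueField T) ⊗ₜ[A] f ≠ 0 ∧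
      (1 : ResidueField T) ⊗ₜ[A] (KaehlerDifferential.D R A f.1) = 0 := by
  have hfg : (RingHom.ker (algebraMap A T)).FG := IsNoetherian.noetherian _
  rw [Algebra.FormallySmooth.iff_injective_cotangentComplexBaseChange_residueField A hsurj hfg,
    injective_iff_map_eq_zero] at hns
  push Not at hns
  obtain ⟨z, hz, hz0⟩ := hns
  have hκ : Function.Surjective (algebraMap A (ResidueField T)) := by
    rw [IsScalarTower.algebraMap_eq A T (ResidueField T)]
    exact (IsLocalRing.residue_surjective).comp hsurj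
  obtain ⟨f, rfl⟩ := TensorProduct.mk_surjective A _ (ResidueField T) hκ z
  refine ⟨f, hz0, ?_⟩
  rw [TensorProduct.mk_apply, KaehlerDifferential.cotangentComplexBaseChange_tmul, one_smul,
    KaehlerDifferential.kerToTensor_apply] at hz
  exact hz

set_option maxHeartbeats 1600000 in
theorem exists_small_extension' [Algebra.FormallySmooth R A] [Module.Free A Ω[A⁄R]]
    [Module.Finite A Ω[A⁄R]]
    (hsurj : Function.Surjective (algebraMap A T)) (hns : ¬ Algebra.FormallySmooth R T) :
    ∃ (B' B : Type u) (_ : CommRing B') (_ : CommRing B) (_ : IsLocalRing B') (_ : IsLocalRing B)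
      (_ : IsArtinianRing B') (_ : IsArtinianRing B) (_ : Algebra R B') (_ : Algebra R B)
      (_ : Algebra A B') (_ : IsScalarTower R A B')
      (π : B' →ₐ[R] B) (g : T →ₐ[R] B), Function.Surjective π ∧
      (∃ t : B', RingHom.ker π.toRingHom = Ideal.span {t} ∧
        ∀ a ∈ maximalIdeal B', a * t = 0) ∧
      (maximalIdeal B).comap g = maximalIdeal T ∧
      (¬ ∃ g' : T →ₐ[R] B', π.comp g' = g) ∧
      Function.Surjective (algebraMap A B') ∧
      ∃ N : ℕ, maximalIdeal A ^ N ≤ RingHom.ker (algebraMap A B') := by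
  set I : Ideal A := RingHom.ker (algebraMap A T) with hI
  set m : Ideal A := maximalIdeal A with hm
  let κ := ResidueField T
  obtain ⟨f, hf0, hdf⟩ : ∃ f : I, (1 : κ) ⊗ₜ[A] f ≠ 0 ∧
      (1 : κ) ⊗ₜ[A] (KaehlerDifferential.D R A f.1) = 0 := exists_f (R := R) hsurj hns
  have hκ : Function.Surjective (algebraMap A κ) := by
    rw [IsScalarTower.algebraMap_eq A T κ]
    exact (IsLocalRing.residue_surjective).comp hsurj
  haveI hloc : IsLocalHom (algebraMap A T) := IsLocalHom.of_surjective _ hsurj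
  have hmκ : ∀ a ∈ m, algebraMap A κ a = 0 := by
    intro a ha
    rw [IsScalarTower.algebraMap_apply A T κ]
    refine (IsLocalRing.residue_eq_zero_iff _).mpr ?_
    rw [← IsLocalRing.map_maximalIdeal_of_surjective _ hsurj]
    exact Ideal.mem_map_of_mem _ ha
  have hIm : I ≤ m := by
    intro x hx
    rw [hm, IsLocalRing.mem_maximalIdeal, mem_nonunits_iff]
    intro hu
    have := hu.map (algebraMap A T)
    rw [RingHom.mem_ker.mp hx] at this
    exact not_isUnit_zero this
  -- the functional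
  obtain ⟨lam, hlam⟩ := Module.Projective.exists_dual_eq_one κ hf0
  let lamA : I →ₗ[A] κ := (lam.restrictScalars A) ∘ₗ (TensorProduct.mk A κ I 1)
  have hlamA : ∀ y : I, lamA y = lam ((1 : κ) ⊗ₜ[A] y) := fun y => rfl
  let J : Ideal A := (LinearMap.ker lamA).map (Submodule.subtype I)
  have hJI : J ≤ I := by
    rintro _ ⟨y, -, rfl⟩
    exact y.2
  have hmIJ : m * I ≤ J := by
    rw [Ideal.mul_le]
    intro a ha y hy
    refine ⟨⟨a * y, I.mul_mem_left a hy⟩, ?_, rfl⟩
    rw [SetLike.mem_coe, LinearMap.mem_ker]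
    have : (⟨a * y, I.mul_mem_left a hy⟩ : I) = a • (⟨y, hy⟩ : I) := rfl
    rw [this, map_smul, Algebra.smul_def, hmκ a ha, zero_mul]
  have hIJf : I ≤ J ⊔ Ideal.span {f.1} := by
    intro y hy
    obtain ⟨c, hc⟩ := hκ (lamA ⟨y, hy⟩)
    have h1 : (⟨y, hy⟩ : I) - c • f ∈ LinearMap.ker lamA := by
      rw [LinearMap.mem_ker, map_sub, map_smul, hlamA f, hlam, Algebra.smul_def, mul_one, hc,
        sub_self]
    have h2 : y - c * f.1 ∈ J := ⟨_, h1, rfl⟩
    have h3 : y = (y - c * f.1) + c * f.1 := by ring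
    rw [h3]
    exact Ideal.add_mem _ (Ideal.mem_sup_left h2)
      (Ideal.mem_sup_right (Ideal.mul_mem_left _ c (Ideal.subset_span rfl)))
  -- Artin–Rees
  obtain ⟨k, hk⟩ := Ideal.exists_pow_inf_eq_pow_smul m (I : Submodule A A)
  have hAR : m ^ (k + 1) ⊓ I ≤ m * I := by
    have h1 := hk (k + 1) (Nat.le_succ k)
    rw [Nat.add_sub_cancel_left, pow_one] at h1
    intro x hx
    have h2 : x ∈ m ^ (k + 1) • (⊤ : Submodule A A) ⊓ (I : Submodule A A) := by
      refine ⟨?_, hx.2⟩
      rw [smul_eq_mul, Ideal.mul_top]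
      exact hx.1
    rw [h1] at h2
    rw [smul_eq_mul] at h2
    exact Ideal.mul_mono_right inf_le_right h2
  set N := k + 1 with hN
  have hfJ : f.1 ∉ J ⊔ m ^ N := by
    intro hmem
    obtain ⟨j, hj, b, hb, hjb⟩ := Submodule.mem_sup.mp hmem
    have hbI : b ∈ I := by
      have : b = f.1 - j := by rw [← hjb]; ring
      rw [this]
      exact I.sub_mem f.2 (hJI hj)
    have hbJ : b ∈ J := hmIJ (hAR ⟨hb, hbI⟩)
    have hfJ : f.1 ∈ J := by
      rw [← hjb]
      exact J.add_mem hj hbJ
    obtain ⟨y, hy, hyf⟩ := hfJ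
    have : y = f := Subtype.ext hyf
    rw [this, SetLike.mem_coe, LinearMap.mem_ker, hlamA, hlam] at hy
    exact one_ne_zero hy
  have hN1 : 1 ≤ N := Nat.le_add_left 1 k
  have hKm : J ⊔ m ^ N ≤ m := sup_le (hJI.trans hIm) (Ideal.pow_le_self (by omega))
  have hKne : J ⊔ m ^ N ≠ ⊤ := fun h =>
    (maximalIdeal.isMaximal A).ne_top (top_le_iff.mp (h ▸ hKm))
  haveI : Nontrivial (A ⧸ (J ⊔ m ^ N)) := Ideal.Quotient.nontrivial_iff.mpr hKne
  haveI : IsLocalRing (A ⧸ (J ⊔ m ^ N)) :=
    IsLocalRing.of_surjective' (Ideal.Quotient.mk _) Ideal.Quotient.mk_surjective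
  haveI : IsArtinianRing (A ⧸ (J ⊔ m ^ N)) := isArtinianRing_quotient _ N le_sup_right
  have hTne : maximalIdeal T ^ N ≠ ⊤ := fun h =>
    (maximalIdeal.isMaximal T).ne_top (top_le_iff.mp (h ▸ Ideal.pow_le_self (by omega)))
  haveI : Nontrivial (T ⧸ maximalIdeal T ^ N) := Ideal.Quotient.nontrivial_iff.mpr hTne
  haveI : IsLocalRing (T ⧸ maximalIdeal T ^ N) :=
    IsLocalRing.of_surjective' (Ideal.Quotient.mk _) Ideal.Quotient.mk_surjective
  haveI : IsNoetherianRing T := isNoetherianRing_of_surjective A T (algebraMap A T) hsurj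
  haveI : IsArtinianRing (T ⧸ maximalIdeal T ^ N) := isArtinianRing_quotient _ N le_rfl
  have hmap : m.map (algebraMap A T) = maximalIdeal T :=
    IsLocalRing.map_maximalIdeal_of_surjective _ hsurj
  let p0 : A →ₐ[R] T ⧸ maximalIdeal T ^ N :=
    (Ideal.Quotient.mkₐ R (maximalIdeal T ^ N)).comp (IsScalarTower.toAlgHom R A T)
  have hp0 : ∀ a : A, p0 a = Ideal.Quotient.mk (maximalIdeal T ^ N) (algebraMap A T a) :=
    fun a => rfl
  have hp0K : ∀ a ∈ J ⊔ m ^ N, p0 a = 0 := by
    intro a ha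
    obtain ⟨j, hj, b, hb, rfl⟩ := Submodule.mem_sup.mp ha
    rw [hp0, map_add, RingHom.mem_ker.mp (hJI hj), zero_add, Ideal.Quotient.eq_zero_iff_mem,
      ← hmap, ← Ideal.map_pow]
    exact Ideal.mem_map_of_mem _ hb
  let π : A ⧸ (J ⊔ m ^ N) →ₐ[R] T ⧸ maximalIdeal T ^ N := Ideal.Quotient.liftₐ _ p0 hp0K
  have hπ : ∀ a : A, π (Ideal.Quotient.mk _ a) =
      Ideal.Quotient.mk (maximalIdeal T ^ N) (algebraMap A T a) := fun a => rfl
  let t : A ⧸ (J ⊔ m ^ N) := Ideal.Quotient.mk _ f.1
  have ht0 : t ≠ 0 := by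
    intro h
    exact hfJ (Ideal.Quotient.eq_zero_iff_mem.mp h)
  have hmaxB' : ∀ a : A, Ideal.Quotient.mk (J ⊔ m ^ N) a ∈ maximalIdeal (A ⧸ (J ⊔ m ^ N)) →
      a ∈ m := by
    intro a ha
    by_contra hnot
    have hu : IsUnit a := by
      by_contra hu
      exact hnot ((IsLocalRing.mem_maximalIdeal a).mpr hu)
    exact (IsLocalRing.mem_maximalIdeal _).mp ha (hu.map (Ideal.Quotient.mk _))
  have hmt : ∀ a ∈ maximalIdeal (A ⧸ (J ⊔ m ^ N)), a * t = 0 := by
    intro a ha
    obtain ⟨a, rfl⟩ := Ideal.Quotient.mk_surjective a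
    rw [← map_mul, Ideal.Quotient.eq_zero_iff_mem]
    exact Ideal.mem_sup_left (hmIJ (Ideal.mul_mem_mul (hmaxB' a ha) f.2))
  have hker : RingHom.ker π.toRingHom = Ideal.span {t} := by
    apply le_antisymm
    · intro x hx
      obtain ⟨a, rfl⟩ := Ideal.Quotient.mk_surjective x
      rw [RingHom.mem_ker] at hx
      have hx' : Ideal.Quotient.mk (maximalIdeal T ^ N) (algebraMap A T a) = 0 := hx
      rw [Ideal.Quotient.eq_zero_iff_mem, ← hmap, ← Ideal.map_pow,
        Ideal.mem_map_iff_of_surjective _ hsurj] at hx'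
      obtain ⟨b, hb, hba⟩ := hx'
      have h1 : a - b ∈ I := by
        rw [hI, RingHom.mem_ker, map_sub, hba, sub_self]
      obtain ⟨j, hj, c, hc, hjc⟩ := Submodule.mem_sup.mp (hIJf h1)
      obtain ⟨c, rfl⟩ := Ideal.mem_span_singleton'.mp hc
      have h2 : a = c * f.1 + (j + b) := by
        have : a = (a - b) + b := by ring
        rw [this, ← hjc]
        ring
      rw [h2, map_add, map_mul]
      have h3 : Ideal.Quotient.mk (J ⊔ m ^ N) (j + b) = 0 :=
        Ideal.Quotient.eq_zero_iff_mem.mpr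
          (Ideal.add_mem _ (Ideal.mem_sup_left hj) (Ideal.mem_sup_right hb))
      rw [h3, add_zero]
      exact Ideal.mul_mem_left _ _ (Ideal.subset_span rfl)
    · rw [Ideal.span_le, Set.singleton_subset_iff, SetLike.mem_coe, RingHom.mem_ker]
      show π t = 0
      rw [hπ, RingHom.mem_ker.mp f.2, map_zero]
  have hπsurj : Function.Surjective π := by
    intro y
    obtain ⟨y, rfl⟩ := Ideal.Quotient.mk_surjective y
    obtain ⟨a, rfl⟩ := hsurj y
    exact ⟨Ideal.Quotient.mk _ a, hπ a⟩
  refine ⟨A ⧸ (J ⊔ m ^ N), T ⧸ maximalIdeal T ^ N, inferInstance, inferInstance, inferInstance,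
    inferInstance, inferInstance, inferInstance, inferInstance, inferInstance, inferInstance,
    inferInstance, π,
    Ideal.Quotient.mkₐ R (maximalIdeal T ^ N), hπsurj, ⟨t, hker, hmt⟩, ?_, ?_,
    Ideal.Quotient.mk_surjective, ⟨N, ?_⟩⟩
  rotate_left 2
  · intro x hx
    rw [RingHom.mem_ker]
    exact Ideal.Quotient.eq_zero_iff_mem.mpr (Ideal.mem_sup_right hx)
  · ext x
    rw [Ideal.mem_comap, IsLocalRing.mem_maximalIdeal, IsLocalRing.mem_maximalIdeal,
      mem_nonunits_iff, mem_nonunits_iff, not_iff_not]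
    haveI : IsLocalHom (Ideal.Quotient.mk (maximalIdeal T ^ N)) :=
      IsLocalHom.of_surjective _ Ideal.Quotient.mk_surjective
    exact ⟨fun h => isUnit_of_map_unit (Ideal.Quotient.mk (maximalIdeal T ^ N)) x h,
      fun h => h.map (Ideal.Quotient.mk (maximalIdeal T ^ N))⟩
  · rintro ⟨g', hg'⟩
    haveI : IsLocalHom (Ideal.Quotient.mk (J ⊔ m ^ N)) :=
      IsLocalHom.of_surjective _ Ideal.Quotient.mk_surjective
    have hmaxB'2 : ∀ a ∈ m, Ideal.Quotient.mk (J ⊔ m ^ N) a ∈
        maximalIdeal (A ⧸ (J ⊔ m ^ N)) := by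
      intro a ha
      rw [IsLocalRing.mem_maximalIdeal, mem_nonunits_iff]
      intro hu
      exact (IsLocalRing.mem_maximalIdeal a).mp ha
        (isUnit_of_map_unit (Ideal.Quotient.mk (J ⊔ m ^ N)) a hu)
    let α' : A →ₐ[R] A ⧸ (J ⊔ m ^ N) := g'.comp (IsScalarTower.toAlgHom R A T)
    have hIk2 : (RingHom.ker π.toRingHom) ^ 2 = ⊥ := by
      rw [hker, Ideal.span_singleton_pow, pow_two, hmt t (hmaxB'2 f.1 (hIm f.2))]
      exact Ideal.span_singleton_eq_bot.mpr rfl
    have e : (Ideal.Quotient.mkₐ R (RingHom.ker π.toRingHom)).comp α' =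
        IsScalarTower.toAlgHom R A ((A ⧸ (J ⊔ m ^ N)) ⧸ RingHom.ker π.toRingHom) := by
      refine AlgHom.ext fun a => ?_
      show Ideal.Quotient.mk (RingHom.ker π.toRingHom) (α' a) =
        Ideal.Quotient.mk (RingHom.ker π.toRingHom) (Ideal.Quotient.mk (J ⊔ m ^ N) a)
      rw [Ideal.Quotient.eq, RingHom.mem_ker]
      show π (α' a - Ideal.Quotient.mk (J ⊔ m ^ N) a) = 0
      rw [map_sub, sub_eq_zero]
      exact (AlgHom.congr_fun hg' (algebraMap A T a)).trans (hπ a).symm
    let D' := derivationToSquareZeroOfLift (RingHom.ker π.toRingHom) hIk2 α' e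
    have hD'f : ((D' f.1 : RingHom.ker π.toRingHom) : A ⧸ (J ⊔ m ^ N)) = - t := by
      rw [derivationToSquareZeroOfLift_apply]
      show g' (algebraMap A T f.1) - t = -t
      rw [RingHom.mem_ker.mp f.2, map_zero, zero_sub]
    have hmem : KaehlerDifferential.D R A f.1 ∈ m • (⊤ : Submodule A Ω[A⁄R]) := by
      have := mem_smul_top_of_tmul_eq_zero hκ _ hdf
      refine Submodule.smul_mono_left ?_ this
      exact IsLocalRing.le_maximalIdeal (RingHom.ker_ne_top _)
    have hzero : ∀ ω ∈ m • (⊤ : Submodule A Ω[A⁄R]), D'.liftKaehlerDifferential ω = 0 := by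
      intro ω hω
      refine Submodule.smul_induction_on hω ?_ ?_
      · intro a ha x _
        rw [map_smul]
        apply Subtype.ext
        show Ideal.Quotient.mk (J ⊔ m ^ N) a *
          ((D'.liftKaehlerDifferential x : RingHom.ker π.toRingHom) : A ⧸ (J ⊔ m ^ N)) = 0
        have hy : ((D'.liftKaehlerDifferential x : RingHom.ker π.toRingHom) :
            A ⧸ (J ⊔ m ^ N)) ∈ Ideal.span {t} :=
          hker.le (D'.liftKaehlerDifferential x).2
        obtain ⟨c, hc⟩ := Ideal.mem_span_singleton'.mp hy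
        rw [← hc, mul_comm c, ← mul_assoc, hmt _ (hmaxB'2 a ha), zero_mul]
      · intro x y hx hy
        rw [map_add, hx, hy, add_zero]
    have h0 := hzero _ hmem
    rw [Derivation.liftKaehlerDifferential_comp_D] at h0
    have h1 : ((D' f.1 : RingHom.ker π.toRingHom) : A ⧸ (J ⊔ m ^ N)) = 0 := by
      rw [h0]
      rfl
    rw [hD'f, neg_eq_zero] at h1
    exact ht0 h1

theorem exists_small_extension [Algebra.FormallySmooth R A] [Module.Free A Ω[A⁄R]]
    [Module.Finite A Ω[A⁄R]]
    (hsurj : Function.Surjective (algebraMap A T)) (hns : ¬ Algebra.FormallySmooth R T) :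
    ∃ (B' B : Type u) (_ : CommRing B') (_ : CommRing B) (_ : IsLocalRing B') (_ : IsLocalRing B)
      (_ : IsArtinianRing B') (_ : IsArtinianRing B) (_ : Algebra R B') (_ : Algebra R B)
      (π : B' →ₐ[R] B) (g : T →ₐ[R] B), Function.Surjective π ∧
      (∃ t : B', RingHom.ker π.toRingHom = Ideal.span {t} ∧
        ∀ a ∈ maximalIdeal B', a * t = 0) ∧
      (maximalIdeal B).comap g = maximalIdeal T ∧
      ¬ ∃ g' : T →ₐ[R] B', π.comp g' = g := by
  obtain ⟨B', B, i1, i2, i3, i4, i5, i6, i7, i8, _, _, π, g, h1, h2, h3, h4, -, -⟩ :=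
    exists_small_extension' (R := R) hsurj hns
  exact ⟨B', B, i1, i2, i3, i4, i5, i6, i7, i8, π, g, h1, h2, h3, h4⟩

end Main

section Localization

open Algebra

set_option maxHeartbeats 1600000 in
set_option synthInstance.maxHeartbeats 400000 in
theorem exists_small_extension_of_not_isSmoothAt {R S : Type u} [CommRing R] [IsNoetherianRing R]
    [CommRing S] [Algebra R S] [Algebra.FiniteType R S] (q : Ideal S) [q.IsPrime]
    (hns : ¬ Algebra.FormallySmooth R (Localization.AtPrime q)) :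
    ∃ (B' B : Type u) (_ : CommRing B') (_ : CommRing B) (_ : IsLocalRing B') (_ : IsLocalRing B)
      (_ : IsArtinianRing B') (_ : IsArtinianRing B) (_ : Algebra R B') (_ : Algebra R B)
      (π : B' →ₐ[R] B) (g : Localization.AtPrime q →ₐ[R] B), Function.Surjective π ∧
      (∃ t : B', RingHom.ker π.toRingHom = Ideal.span {t} ∧
        ∀ a ∈ maximalIdeal B', a * t = 0) ∧
      (maximalIdeal B).comap g = maximalIdeal (Localization.AtPrime q) ∧
      ¬ ∃ g' : Localization.AtPrime q →ₐ[R] B', π.comp g' = g := by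
  obtain ⟨n, f₀, hf₀⟩ := Algebra.FiniteType.iff_quotient_mvPolynomial''.mp
    (inferInstance : Algebra.FiniteType R S)
  let Q : Ideal (MvPolynomial (Fin n) R) := q.comap f₀.toRingHom
  haveI : Q.IsPrime := Ideal.comap_isPrime _ _
  let P' := Localization.AtPrime Q
  let fP : P' →ₐ[R] Localization.AtPrime q := IsLocalization.liftAlgHom (M := Q.primeCompl)
      (f := (IsScalarTower.toAlgHom R S (Localization.AtPrime q)).comp f₀) fun x ↦ by
    simpa using IsLocalization.map_units (M := q.primeCompl) _ ⟨f₀ x.1, x.2⟩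
  have hf₁ : Function.Surjective fP := by
    intro x
    obtain ⟨x, ⟨s, hs⟩, rfl⟩ := IsLocalization.exists_mk'_eq q.primeCompl x
    obtain ⟨x, rfl⟩ := hf₀ x
    obtain ⟨s, rfl⟩ := hf₀ s
    refine ⟨IsLocalization.mk' (M := Q.primeCompl) _ x ⟨s, hs⟩, ?_⟩
    simp [fP, IsLocalization.lift_mk', Units.mul_inv_eq_iff_eq_mul, IsUnit.liftRight]
  algebraize [fP.toRingHom]
  haveI : IsScalarTower R P' (Localization.AtPrime q) :=
    IsScalarTower.of_algebraMap_eq' fP.comp_algebraMap.symm
  have : FormallyEtale (MvPolynomial (Fin n) R) P' := .of_isLocalization Q.primeCompl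
  have : FormallySmooth R P' := .comp _ (MvPolynomial (Fin n) R) _
  have : Module.Free P' Ω[P'⁄R] :=
    .of_equiv (KaehlerDifferential.tensorKaehlerEquivOfFormallyEtale R (MvPolynomial (Fin n) R) P')
  have : Module.Finite P' Ω[P'⁄R] :=
    Module.Finite.equiv
      (KaehlerDifferential.tensorKaehlerEquivOfFormallyEtale R (MvPolynomial (Fin n) R) P')
  haveI : IsNoetherianRing P' := IsLocalization.isNoetherianRing Q.primeCompl _ inferInstance
  exact exists_small_extension (R := R) (A := P') (T := Localization.AtPrime q) hf₁ hns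

set_option maxHeartbeats 1600000 in
set_option synthInstance.maxHeartbeats 400000 in
theorem exists_small_extension_of_not_isSmoothAt_of_isMaximal {R S : Type u} [CommRing R]
    [IsNoetherianRing R]
    [CommRing S] [Algebra R S] [Algebra.FiniteType R S] (q : Ideal S) [hq : q.IsMaximal]
    (hns : ¬ Algebra.FormallySmooth R (Localization.AtPrime q)) :
    ∃ (B' B : Type u) (_ : CommRing B') (_ : CommRing B) (_ : IsLocalRing B') (_ : IsLocalRing B)
      (_ : IsArtinianRing B') (_ : IsArtinianRing B) (_ : Algebra R B') (_ : Algebra R B)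
      (π : B' →ₐ[R] B) (g : Localization.AtPrime q →ₐ[R] B), Function.Surjective π ∧
      (∃ t : B', RingHom.ker π.toRingHom = Ideal.span {t} ∧
        ∀ a ∈ maximalIdeal B', a * t = 0) ∧
      (maximalIdeal B).comap g = maximalIdeal (Localization.AtPrime q) ∧
      (¬ ∃ g' : Localization.AtPrime q →ₐ[R] B', π.comp g' = g) ∧
      Algebra.FiniteType R B' := by
  obtain ⟨n, f₀, hf₀⟩ := Algebra.FiniteType.iff_quotient_mvPolynomial''.mp
    (inferInstance : Algebra.FiniteType R S)
  let Q : Ideal (MvPolynomial (Fin n) R) := q.comap f₀.toRingHom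
  haveI hQmax : Q.IsMaximal := Ideal.comap_isMaximal_of_surjective f₀.toRingHom hf₀
  haveI : Q.IsPrime := hQmax.isPrime
  let P' := Localization.AtPrime Q
  let fP : P' →ₐ[R] Localization.AtPrime q := IsLocalization.liftAlgHom (M := Q.primeCompl)
      (f := (IsScalarTower.toAlgHom R S (Localization.AtPrime q)).comp f₀) fun x ↦ by
    simpa using IsLocalization.map_units (M := q.primeCompl) _ ⟨f₀ x.1, x.2⟩
  have hf₁ : Function.Surjective fP := by
    intro x
    obtain ⟨x, ⟨s, hs⟩, rfl⟩ := IsLocalization.exists_mk'_eq q.primeCompl x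
    obtain ⟨x, rfl⟩ := hf₀ x
    obtain ⟨s, rfl⟩ := hf₀ s
    refine ⟨IsLocalization.mk' (M := Q.primeCompl) _ x ⟨s, hs⟩, ?_⟩
    simp [fP, IsLocalization.lift_mk', Units.mul_inv_eq_iff_eq_mul, IsUnit.liftRight]
  algebraize [fP.toRingHom]
  haveI : IsScalarTower R P' (Localization.AtPrime q) :=
    IsScalarTower.of_algebraMap_eq' fP.comp_algebraMap.symm
  have : FormallyEtale (MvPolynomial (Fin n) R) P' := .of_isLocalization Q.primeCompl
  have : FormallySmooth R P' := .comp _ (MvPolynomial (Fin n) R) _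
  have : Module.Free P' Ω[P'⁄R] :=
    .of_equiv (KaehlerDifferential.tensorKaehlerEquivOfFormallyEtale R (MvPolynomial (Fin n) R) P')
  have : Module.Finite P' Ω[P'⁄R] :=
    Module.Finite.equiv
      (KaehlerDifferential.tensorKaehlerEquivOfFormallyEtale R (MvPolynomial (Fin n) R) P')
  haveI : IsNoetherianRing P' := IsLocalization.isNoetherianRing Q.primeCompl _ inferInstance
  obtain ⟨B', B, i1, i2, i3, i4, i5, i6, i7, i8, i9, i10, π, g, h1, h2, h3, h4, h5, N, h6⟩ :=
    exists_small_extension' (R := R) (A := P') (T := Localization.AtPrime q) hf₁ hns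
  refine ⟨B', B, i1, i2, i3, i4, i5, i6, i7, i8, π, g, h1, h2, h3, h4, ?_⟩
  let ψ : MvPolynomial (Fin n) R →ₐ[R] B' :=
    (IsScalarTower.toAlgHom R P' B').comp (IsScalarTower.toAlgHom R (MvPolynomial (Fin n) R) P')
  refine Algebra.FiniteType.of_surjective ψ ?_
  intro b
  obtain ⟨y, rfl⟩ := h5 b
  obtain ⟨x, hx⟩ := Ideal.Quotient.mk_surjective
    ((IsLocalization.AtPrime.equivQuotMaximalIdealPow Q P' N).symm
      (Ideal.Quotient.mk (maximalIdeal P' ^ N) y))
  have h7 : Ideal.Quotient.mk (maximalIdeal P' ^ N) (algebraMap _ P' x) =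
      Ideal.Quotient.mk (maximalIdeal P' ^ N) y := by
    rw [← IsLocalization.AtPrime.equivQuotMaximalIdealPow_apply_mk Q P' N x, hx,
      AlgEquiv.apply_symm_apply]
  rw [Ideal.Quotient.eq] at h7
  refine ⟨x, ?_⟩
  have h8 := h6 h7
  rw [RingHom.mem_ker, map_sub, sub_eq_zero] at h8
  exact h8

end Localization

end Groth.Agent.Lib.helper10.SmallExt
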