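import Mathlib
import Groth.Agent.Lib.helper10.SmallExt
import Groth.Agent.Lib.Helper13.LocalSpecFactor

/-!
# Smoothness of morphisms of schemes and lifting along small extensions
-/

set_option autoImplicit false

open AlgebraicGeometry CategoryTheory IsLocalRing

universe u

namespace Groth.Agent.Lib.helper10.SmallExtSch

open Groth.Agent.Lib.Helper13.LocalSpecFactor

theorem closedPoint_map {B B' : Type u} [CommRing B] [CommRing B'] [IsLocalRing B]
    [IsLocalRing B'] (φ : B' →+* B) (hφ : Function.Surjective φ) :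
    (Spec.map (CommRingCat.ofHom φ)) (closedPoint B) = closedPoint B' := by
  haveI : IsLocalHom φ := IsLocalHom.of_surjective φ hφ
  exact IsLocalRing.comap_closedPoint φ

set_option maxHeartbeats 1600000 in
theorem lift_of_smooth {X S : Scheme.{u}} (f : X ⟶ S) [Smooth f]
    (B B' : Type u) [CommRing B] [CommRing B'] [IsLocalRing B] [IsLocalRing B']
    (φ : B' →+* B) (ε : B') (hφ : Function.Surjective φ) (hker : RingHom.ker φ = Ideal.span {ε})
    (hε : ∀ m ∈ maximalIdeal B', ε * m = 0)
    (α : Spec (CommRingCat.of B) ⟶ X) (β : Spec (CommRingCat.of B') ⟶ S)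
    (hcomm : Spec.map (CommRingCat.ofHom φ) ≫ β = α ≫ f) :
    ∃ γ : Spec (CommRingCat.of B') ⟶ X,
      Spec.map (CommRingCat.ofHom φ) ≫ γ = α ∧ γ ≫ f = β := by
  haveI : IsLocalRing (CommRingCat.of B) := ‹IsLocalRing B›
  haveI : IsLocalRing (CommRingCat.of B') := ‹IsLocalRing B'›
  let x : X := α (closedPoint B)
  obtain ⟨_, ⟨U, hU, rfl⟩, hxU, -⟩ :=
    S.isBasis_affineOpens.exists_subset_of_mem_open (Set.mem_univ (f x)) isOpen_univ
  obtain ⟨_, ⟨V, hV, rfl⟩, hxV, hVU⟩ :=
    X.isBasis_affineOpens.exists_subset_of_mem_open hxU (U.2.preimage f.continuous)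
  obtain ⟨a, ha⟩ := exists_factor (R := CommRingCat.of B) α hV hxV
  have hβU : β (closedPoint B') ∈ U := by
    rw [← closedPoint_map φ hφ]
    have : β ((Spec.map (CommRingCat.ofHom φ)) (closedPoint B)) =
        f (α (closedPoint B)) := by
      rw [← Scheme.Hom.comp_apply, ← Scheme.Hom.comp_apply, hcomm]
    rw [this]
    exact hxU
  obtain ⟨b, hb⟩ := exists_factor (R := CommRingCat.of B') β hU hβU
  have hcompat : b ≫ CommRingCat.ofHom φ = f.appLE U V hVU ≫ a := by
    apply factor_unique hU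
    rw [Spec.map_comp, Spec.map_comp, Category.assoc, Category.assoc, ← hb, hcomm, ha,
      Category.assoc, IsAffineOpen.SpecMap_appLE_fromSpec f hU hV hVU]
  have hsm := f.smooth_appLE hU hV hVU
  algebraize [(f.appLE U V hVU).hom]
  letI : Algebra Γ(S, U) B' := b.hom.toAlgebra
  letI : Algebra Γ(S, U) B := (φ.comp b.hom).toAlgebra
  let φa : B' →ₐ[Γ(S, U)] B := { φ with commutes' := fun r => rfl }
  let aa : Γ(X, V) →ₐ[Γ(S, U)] B :=
    { a.hom with
      commutes' := fun r => by
        have := congrArg (fun h => h.hom r) hcompat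
        exact this.symm }
  have hεm : ε ∈ maximalIdeal B' := by
    rw [IsLocalRing.mem_maximalIdeal, mem_nonunits_iff]
    intro hu
    have h0 : φ ε = 0 := by
      have : ε ∈ RingHom.ker φ := by rw [hker]; exact Ideal.subset_span rfl
      exact this
    have := hu.map φ
    rw [h0] at this
    exact not_isUnit_zero this
  have hnil : IsNilpotent (RingHom.ker (φa : B' →+* B)) := by
    refine ⟨2, ?_⟩
    have : RingHom.ker (φa : B' →+* B) = Ideal.span {ε} := hker
    rw [this, Ideal.span_singleton_pow, pow_two, hε ε hεm]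
    exact Ideal.span_singleton_eq_bot.mpr rfl
  let l := Algebra.FormallySmooth.liftOfSurjective aa φa hφ hnil
  have hl : φa.comp l = aa := Algebra.FormallySmooth.comp_liftOfSurjective aa φa hφ hnil
  refine ⟨Spec.map (CommRingCat.ofHom l.toRingHom) ≫ hV.fromSpec, ?_, ?_⟩
  · rw [← Category.assoc, ← Spec.map_comp, ha]
    congr 2
    ext r
    exact AlgHom.congr_fun hl r
  · rw [Category.assoc, ← IsAffineOpen.SpecMap_appLE_fromSpec f hU hV hVU, ← Category.assoc,
      ← Spec.map_comp, hb]
    congr 2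
    ext r
    exact l.commutes r

set_option maxHeartbeats 3200000 in
set_option synthInstance.maxHeartbeats 400000 in
theorem smooth_of_lift {X S : Scheme.{u}} (f : X ⟶ S) [IsLocallyNoetherian S]
    [LocallyOfFiniteType f]
    (H : ∀ (B B' : Type u) [CommRing B] [CommRing B'] [IsArtinianRing B] [IsArtinianRing B']
      [IsLocalRing B] [IsLocalRing B'] (φ : B' →+* B) (ε : B'), Function.Surjective φ →
      RingHom.ker φ = Ideal.span {ε} → (∀ m ∈ IsLocalRing.maximalIdeal B', ε * m = 0) →
      ∀ (α : Spec (CommRingCat.of B) ⟶ X) (β : Spec (CommRingCat.of B') ⟶ S),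
        LocallyOfFiniteType β → Spec.map (CommRingCat.ofHom φ) ≫ β = α ≫ f →
        ∃ γ : Spec (CommRingCat.of B') ⟶ X,
          Spec.map (CommRingCat.ofHom φ) ≫ γ = α ∧ γ ≫ f = β) : Smooth f := by
  rw [← Scheme.Hom.smoothLocus_eq_top_iff]
  by_contra hne
  obtain ⟨z, hz⟩ : ∃ z : X, z ∉ f.smoothLocus := by
    by_contra hall
    push Not at hall
    exact hne (top_le_iff.mp fun z _ => hall z)
  obtain ⟨_, ⟨U, hU, rfl⟩, hzU, -⟩ :=
    S.isBasis_affineOpens.exists_subset_of_mem_open (Set.mem_univ (f z)) isOpen_univ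
  obtain ⟨_, ⟨V, hV, rfl⟩, hzV, hVU⟩ :=
    X.isBasis_affineOpens.exists_subset_of_mem_open hzU (U.2.preimage f.continuous)
  have hft := f.finiteType_appLE hU hV hVU
  algebraize [(f.appLE U V hVU).hom]
  haveI : IsNoetherianRing Γ(S, U) := IsLocallyNoetherian.component_noetherian ⟨U, hU⟩
  haveI : Algebra.FinitePresentation Γ(S, U) Γ(X, V) :=
    Algebra.FinitePresentation.of_finiteType.mp inferInstance
  have hz' : hV.primeIdealOf ⟨z, hzV⟩ ∉ Algebra.smoothLocus Γ(S, U) Γ(X, V) := by
    rw [← formallySmooth_stalkMap_iff U hU V hV hVU hzV]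
    exact hz
  -- a maximal ideal outside the smooth locus
  obtain ⟨q, hqmax, hq⟩ : ∃ q : Ideal Γ(X, V), ∃ _ : q.IsMaximal,
      ¬ Algebra.FormallySmooth Γ(S, U) (Localization.AtPrime q) := by
    have hcl : IsClosed (Algebra.smoothLocus Γ(S, U) Γ(X, V))ᶜ :=
      Algebra.isOpen_smoothLocus.isClosed_compl
    obtain ⟨I, hI⟩ := (PrimeSpectrum.isClosed_iff_zeroLocus_ideal _).mp hcl
    have hIne : I ≠ ⊤ := by
      rintro rfl
      have : hV.primeIdealOf ⟨z, hzV⟩ ∈ (Algebra.smoothLocus Γ(S, U) Γ(X, V))ᶜ := hz'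
      rw [hI] at this
      simp at this
    obtain ⟨q, hqmax, hIq⟩ := Ideal.exists_le_maximal I hIne
    refine ⟨q, hqmax, ?_⟩
    have : (⟨q, hqmax.isPrime⟩ : PrimeSpectrum Γ(X, V)) ∈
        (Algebra.smoothLocus Γ(S, U) Γ(X, V))ᶜ := by
      rw [hI]
      exact hIq
    exact this
  obtain ⟨B', B, _, _, _, _, _, _, _, _, π, g, hπ, ⟨t, hker, hmt⟩, hg, hno, hftB'⟩ :=
    Groth.Agent.Lib.helper10.SmallExt.exists_small_extension_of_not_isSmoothAt_of_isMaximal q hq
  haveI : IsLocalRing (CommRingCat.of B) := ‹IsLocalRing B›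
  haveI : IsLocalRing (CommRingCat.of B') := ‹IsLocalRing B'›
  let g₀ : Γ(X, V) →ₐ[Γ(S, U)] B :=
    g.comp (IsScalarTower.toAlgHom Γ(S, U) Γ(X, V) (Localization.AtPrime q))
  let α : Spec (CommRingCat.of B) ⟶ X := Spec.map (CommRingCat.ofHom g₀.toRingHom) ≫ hV.fromSpec
  let β : Spec (CommRingCat.of B') ⟶ S :=
    Spec.map (CommRingCat.ofHom (algebraMap Γ(S, U) B')) ≫ hU.fromSpec
  have hβ : LocallyOfFiniteType β := by
    haveI : LocallyOfFiniteType (Spec.map (CommRingCat.ofHom (algebraMap Γ(S, U) B'))) := by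
      rw [HasRingHomProperty.Spec_iff (P := @LocallyOfFiniteType)]
      exact RingHom.finiteType_algebraMap.mpr hftB'
    infer_instance
  have hcomm : Spec.map (CommRingCat.ofHom π.toRingHom) ≫ β = α ≫ f := by
    show Spec.map (CommRingCat.ofHom π.toRingHom) ≫
        Spec.map (CommRingCat.ofHom (algebraMap Γ(S, U) B')) ≫ hU.fromSpec =
      (Spec.map (CommRingCat.ofHom g₀.toRingHom) ≫ hV.fromSpec) ≫ f
    rw [Category.assoc, ← IsAffineOpen.SpecMap_appLE_fromSpec f hU hV hVU, ← Category.assoc,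
      ← Category.assoc, ← Spec.map_comp, ← Spec.map_comp]
    congr 2
    ext r
    show π (algebraMap Γ(S, U) B' r) = g₀ (algebraMap Γ(S, U) Γ(X, V) r)
    rw [π.commutes, g₀.commutes]
  obtain ⟨γ, hγ1, hγ2⟩ := H B B' π.toRingHom t hπ hker
    (fun m hm => by rw [mul_comm]; exact hmt m hm) α β hβ hcomm
  have hγV : γ (closedPoint B') ∈ V := by
    rw [← closedPoint_map π.toRingHom hπ, ← Scheme.Hom.comp_apply, hγ1]
    show (Spec.map (CommRingCat.ofHom g₀.toRingHom) ≫ hV.fromSpec) (closedPoint B) ∈ V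
    rw [Scheme.Hom.comp_apply]
    have := hV.range_fromSpec
    rw [← SetLike.mem_coe, ← this]
    exact Set.mem_range_self _
  obtain ⟨c, hc⟩ := exists_factor (R := CommRingCat.of B') γ hV hγV
  have hc1 : c ≫ CommRingCat.ofHom π.toRingHom = CommRingCat.ofHom g₀.toRingHom := by
    apply factor_unique hV
    rw [Spec.map_comp, Category.assoc, ← hc, hγ1]
  have hc2 : f.appLE U V hVU ≫ c = CommRingCat.ofHom (algebraMap Γ(S, U) B') := by
    apply factor_unique hU
    rw [Spec.map_comp, Category.assoc, IsAffineOpen.SpecMap_appLE_fromSpec f hU hV hVU,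
      ← Category.assoc, ← hc, hγ2]
  let c' : Γ(X, V) →ₐ[Γ(S, U)] B' :=
    { c.hom with
      commutes' := fun r => by
        have := congrArg (fun h => h.hom r) hc2
        exact this }
  have hπc : π.comp c' = g₀ := by
    refine AlgHom.ext fun x => ?_
    have := congrArg (fun h => h.hom x) hc1
    exact this
  haveI : IsLocalHom π.toRingHom := IsLocalHom.of_surjective _ hπ
  have hunits : ∀ x : q.primeCompl, IsUnit (c' x.1) := by
    intro x
    have h1 : IsUnit (algebraMap Γ(X, V) (Localization.AtPrime q) x.1) :=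
      IsLocalization.map_units _ x
    have h2 : IsUnit (g (algebraMap Γ(X, V) (Localization.AtPrime q) x.1)) := h1.map g
    have h3 : π (c' x.1) = g (algebraMap Γ(X, V) (Localization.AtPrime q) x.1) :=
      AlgHom.congr_fun hπc x.1
    rw [← h3] at h2
    exact isUnit_of_map_unit π.toRingHom _ h2
  apply hno
  refine ⟨IsLocalization.liftAlgHom (M := q.primeCompl) (f := c') hunits, ?_⟩
  apply AlgHom.coe_ringHom_injective
  refine IsLocalization.ringHom_ext q.primeCompl (RingHom.ext fun x => ?_)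
  show π (IsLocalization.lift hunits (algebraMap Γ(X, V) _ x)) = g (algebraMap Γ(X, V) _ x)
  rw [IsLocalization.lift_eq]
  exact AlgHom.congr_fun hπc x

end Groth.Agent.Lib.helper10.SmallExtSch
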