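import Groth.Prelude.Def_Isoc
import Mathlib.RingTheory.WittVector.Identities

/-!
# Lattice calculus for isocrystals (helper10)

Basic lemmas on `Isoc.pPow`, `Isoc.latImg` and twisted iterates.
-/

set_option autoImplicit false
set_option linter.unusedSectionVars false

open scoped Pointwise Isocrystal

universe u v

namespace Groth.Agent.Lib.helper10.IsocL

variable {p : ℕ} [Fact p.Prime] {k : Type u} [Field k] [CharP k p]
variable {N : Type v} [AddCommGroup N] [Module (WittVector p k) N] [Module K(p, k) N]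
  [IsScalarTower (WittVector p k) K(p, k) N]
variable {τ : K(p, k) →+* K(p, k)}

theorem p_ne_zero : (p : K(p, k)) ≠ 0 := by
  have h : ((p : WittVector p k)) ≠ 0 := WittVector.p_nonzero p k
  intro h0
  apply h
  apply IsFractionRing.injective (WittVector p k) K(p, k)
  rw [map_natCast, map_zero, h0]

theorem pPow_zero (M : Submodule (WittVector p k) N) : Isoc.pPow 0 M = M := by
  unfold Isoc.pPow
  rw [zpow_zero, one_smul]

theorem pPow_pPow (r s : ℤ) (M : Submodule (WittVector p k) N) :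
    Isoc.pPow r (Isoc.pPow s M) = Isoc.pPow (r + s) M := by
  unfold Isoc.pPow
  rw [smul_smul, zpow_add₀ p_ne_zero]

theorem pPow_mono (r : ℤ) {M M' : Submodule (WittVector p k) N} (h : M ≤ M') :
    Isoc.pPow r M ≤ Isoc.pPow r M' :=
  Submodule.map_mono h

theorem pPow_le_pPow_iff (r : ℤ) {M M' : Submodule (WittVector p k) N} :
    Isoc.pPow r M ≤ Isoc.pPow r M' ↔ M ≤ M' := by
  refine ⟨fun h => ?_, pPow_mono r⟩
  have := pPow_mono (-r) h
  rwa [pPow_pPow, pPow_pPow, neg_add_cancel, pPow_zero, pPow_zero] at this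

theorem map_p_zpow (r : ℤ) : τ ((p : K(p, k)) ^ r) = (p : K(p, k)) ^ r := by
  rw [map_zpow₀, map_natCast]

theorem iterate_smul (F : N →ₛₗ[τ] N) (r : ℤ) (s : ℕ) (x : N) :
    (⇑F)^[s] (((p : K(p, k)) ^ r) • x) = ((p : K(p, k)) ^ r) • (⇑F)^[s] x := by
  induction s with
  | zero => rfl
  | succ s ih =>
    rw [Function.iterate_succ_apply', ih, map_smulₛₗ, map_p_zpow, Function.iterate_succ_apply']

theorem latImg_mono (F : N →ₛₗ[τ] N) (s : ℕ) {M M' : Submodule (WittVector p k) N}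
    (h : M ≤ M') : Isoc.latImg F s M ≤ Isoc.latImg F s M' :=
  Submodule.span_mono (Set.image_mono h)

theorem pPow_span (r : ℤ) (S : Set N) :
    Isoc.pPow r (Submodule.span (WittVector p k) S) =
      Submodule.span (WittVector p k) ((fun x => ((p : K(p, k)) ^ r) • x) '' S) := by
  unfold Isoc.pPow
  rw [Submodule.pointwise_smul_def, Submodule.map_span]
  rfl

theorem latImg_pPow (F : N →ₛₗ[τ] N) (s : ℕ) (r : ℤ) (M : Submodule (WittVector p k) N) :
    Isoc.latImg F s (Isoc.pPow r M) = Isoc.pPow r (Isoc.latImg F s M) := by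
  unfold Isoc.latImg
  rw [pPow_span]
  congr 1
  ext y
  constructor
  · rintro ⟨x, hx, rfl⟩
    obtain ⟨x', hx', rfl⟩ := (Submodule.mem_smul_pointwise_iff_exists _ _ _).mp hx
    exact ⟨(⇑F)^[s] x', ⟨x', hx', rfl⟩, (iterate_smul F r s x').symm⟩
  · rintro ⟨_, ⟨x', hx', rfl⟩, rfl⟩
    exact ⟨((p : K(p, k)) ^ r) • x', Submodule.smul_mem_pointwise_smul _ _ _ hx',
      iterate_smul F r s x'⟩

theorem latImg_zero (F : N →ₛₗ[τ] N) (M : Submodule (WittVector p k) N) :
    Isoc.latImg F 0 M = M := by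
  unfold Isoc.latImg
  simp

theorem iterate_smul_iter (F : N →ₛₗ[τ] N) (m : ℤ) (n j : ℕ) (x : N) :
    (⇑(((p : K(p, k)) ^ m) • Isoc.iter F n))^[j] x =
      ((p : K(p, k)) ^ (m * j)) • (⇑F)^[n * j] x := by
  induction j with
  | zero => simp
  | succ j ih =>
    rw [Function.iterate_succ_apply', ih, LinearMap.smul_apply, map_smulₛₗ, map_p_zpow,
      Isoc.iter_apply, ← Function.iterate_add_apply, smul_smul, ← zpow_add₀ p_ne_zero]
    congr 2
    · push_cast; ring
    · ring

theorem latImg_smul_iter (F : N →ₛₗ[τ] N) (m : ℤ) (n j : ℕ)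
    (M : Submodule (WittVector p k) N) :
    Isoc.latImg (((p : K(p, k)) ^ m) • Isoc.iter F n) j M =
      Isoc.pPow (m * j) (Isoc.latImg F (n * j) M) := by
  unfold Isoc.latImg
  rw [pPow_span]
  congr 1
  ext y
  constructor
  · rintro ⟨x, hx, rfl⟩
    exact ⟨(⇑F)^[n * j] x, ⟨x, hx, rfl⟩, (iterate_smul_iter F m n j x).symm⟩
  · rintro ⟨_, ⟨x, hx, rfl⟩, rfl⟩
    exact ⟨x, hx, iterate_smul_iter F m n j x⟩

end Groth.Agent.Lib.helper10.IsocL
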