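import Groth.Agent.Lib.Helper5.Imperf218D
import Groth.Agent.Lib.Helper5.PBasisInter

/-!
A decreasing directed family of subfields `E α ⊇ k₀(K^p)` of finite codegree with intersection
`k₀(K^p)`, built from a differential basis.
-/

set_option autoImplicit false
set_option linter.unusedVariables false
set_option linter.unusedSectionVars false

universe u

namespace Groth.Agent.Lib.helper10.PBasisFamily

open EGA41 Groth.Agent.Lib.Helper5.PBasis Groth.Agent.Lib.Helper5.Imperf218

variable (p : ℕ) [hpF : Fact p.Prime] {k₀ K : Type u} [Field k₀] [Field K] [Algebra k₀ K]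
  [CharP K p]

theorem exists_family :
    ∃ (b : Set K) (E : Finset b → IntermediateField k₀ K),
      (∀ α α', α ⊆ α' → E α' ≤ E α) ∧ (∀ α (y : K), y ^ p ∈ E α) ∧
      (∀ α, Module.Finite (E α) K) ∧
      (⨅ α, E α) = IntermediateField.adjoin k₀ (Set.range fun y : K => y ^ p) := by
  classical
  set v : K → Ω[K⁄k₀] := fun y => KaehlerDifferential.D k₀ K y with hv
  obtain ⟨b, -, -, hspan, hlib⟩ := exists_linearIndepOn_extension (K := K) (v := v) (s := ∅)
    (t := Set.univ) (linearIndepOn_empty _ _) (Set.empty_subset _)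
  have hspanb : ⊤ ≤ Submodule.span K (Set.range fun b' : b => v b') := by
    rw [← KaehlerDifferential.span_range_derivation k₀ K, Submodule.span_le]
    rintro _ ⟨y, rfl⟩
    have h1 : v y ∈ Submodule.span K (v '' b) := hspan ⟨y, Set.mem_univ y, rfl⟩
    have h2 : v '' b = Set.range fun b' : b => v b' := by
      ext η
      constructor
      · rintro ⟨y, hy, rfl⟩; exact ⟨⟨y, hy⟩, rfl⟩
      · rintro ⟨y, rfl⟩; exact ⟨y, y.2, rfl⟩
    rw [h2] at h1
    exact h1
  let Bas : Module.Basis b K (Ω[K⁄k₀]) := Module.Basis.mk hlib hspanb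
  have hBas : ∀ b' : b, Bas b' = v b' := fun b' => Module.Basis.mk_apply hlib hspanb b'
  let Z : Finset b → Set K := fun α => b \ (Subtype.val '' (α : Set b))
  let E : Finset b → IntermediateField k₀ K := fun α =>
    IntermediateField.adjoin k₀ ((Set.range fun y : K => y ^ p) ∪ Z α)
  have hpow : ∀ α (y : K), y ^ p ∈ E α := fun α y =>
    IntermediateField.subset_adjoin k₀ _ (Or.inl ⟨y, rfl⟩)
  have hZE : ∀ α, ∀ z ∈ Z α, z ∈ E α := fun α z hz =>
    IntermediateField.subset_adjoin k₀ _ (Or.inr hz)
  refine ⟨b, E, ?_, hpow, ?_, ?_⟩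
  · intro α α' hαα'
    apply IntermediateField.adjoin.mono
    apply Set.union_subset_union_right
    intro z hz
    refine ⟨hz.1, fun hz' => hz.2 ?_⟩
    obtain ⟨t, ht, rfl⟩ := hz'
    exact ⟨t, hαα' ht, rfl⟩
  · -- finiteness
    intro α
    let x : {t : b // t ∈ α} → K := fun t => t.1.1
    have hspanK : Submodule.span K (Set.range fun t => KaehlerDifferential.D (E α) K (x t)) = ⊤ := by
      rw [eq_top_iff, ← KaehlerDifferential.span_range_derivation (E α) K, Submodule.span_le]
      rintro _ ⟨y, rfl⟩
      have h1 : v y ∈ Submodule.span K (v '' b) := hspan ⟨y, Set.mem_univ y, rfl⟩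
      have h2 : KaehlerDifferential.map k₀ (E α) K K (v y) ∈
          (Submodule.span K (v '' b)).map (KaehlerDifferential.map k₀ (E α) K K) :=
        Submodule.mem_map_of_mem h1
      rw [Submodule.map_span] at h2
      have h3 : KaehlerDifferential.map k₀ (E α) K K (v y) = KaehlerDifferential.D (E α) K y := by
        rw [hv, KaehlerDifferential.map_D]; rfl
      rw [h3] at h2
      refine (Submodule.span_le.2 ?_) h2
      rintro _ ⟨_, ⟨b', hb', rfl⟩, rfl⟩
      have h4 : KaehlerDifferential.map k₀ (E α) K K (v b') =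
          KaehlerDifferential.D (E α) K b' := by
        rw [hv, KaehlerDifferential.map_D]; rfl
      rw [h4]
      by_cases hbx : (⟨b', hb'⟩ : b) ∈ α
      · exact Submodule.subset_span ⟨⟨⟨b', hb'⟩, hbx⟩, rfl⟩
      · have hbk : b' ∈ E α := by
          apply hZE α b'
          refine ⟨hb', ?_⟩
          rintro ⟨t, ht, hte⟩
          apply hbx
          have : t = ⟨b', hb'⟩ := Subtype.ext hte
          rw [← this]
          exact ht
        have : KaehlerDifferential.D (E α) K b' = 0 :=
          (KaehlerDifferential.D (E α) K).map_algebraMap (⟨b', hbk⟩ : E α)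
        rw [SetLike.mem_coe, this]
        exact Submodule.zero_mem _
    have hgen : IsPGenerating p (E α) x := isPGenerating_of_span_D_field p x hspanK
    have hpow' : ∀ y : K, y ^ p ∈ Set.range (algebraMap (E α) K) :=
      fun y => ⟨⟨y ^ p, hpow α y⟩, rfl⟩
    have hsp := span_base p hpow' x hgen
    have : Finite (Red {t : b // t ∈ α} p) := finite_red p _
    refine Module.finite_def.2 ?_
    rw [← hsp]
    exact Submodule.fg_span (Set.finite_range _)
  · -- intersection
    have hsup : ∀ α, E α ⊔ IntermediateField.adjoin k₀ (Set.range fun y : K => y ^ p) = E α := by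
      intro α
      rw [sup_eq_left]
      apply IntermediateField.adjoin.mono
      exact Set.subset_union_left
    have hmain := iInf_eq_of_separating p E ?_
    · rw [← hmain]
      congr 1
      funext α
      exact (hsup α).symm
    intro ω hω
    by_contra hne
    have hrepr : Bas.repr ω ≠ 0 := fun h0 => hne (by
      have := congrArg Bas.repr.symm h0
      rwa [LinearEquiv.symm_apply_apply, map_zero] at this)
    obtain ⟨b₀, hb₀⟩ := Finsupp.ne_iff.1 hrepr
    rw [Finsupp.zero_apply] at hb₀
    set α₀ : Finset b := (Bas.repr ω).support with hα₀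
    have hb₀α : b₀ ∈ α₀ := Finsupp.mem_support_iff.2 hb₀
    let D₀ : Derivation k₀ K K := (Bas.coord b₀).compDer (KaehlerDifferential.D k₀ K)
    have hD₀ : ∀ b' : b, D₀ b' = if b' = b₀ then 1 else 0 := by
      intro b'
      change Bas.coord b₀ (v b') = _
      rw [← hBas b', Module.Basis.coord_apply, Module.Basis.repr_self, Finsupp.single_apply]
    have hD₀Z : ∀ z ∈ Z α₀, D₀ z = 0 := by
      intro z hz
      have := hD₀ ⟨z, hz.1⟩
      rw [if_neg] at this
      · exact this
      · intro heq
        apply hz.2
        exact ⟨b₀, hb₀α, (congrArg Subtype.val heq).symm⟩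
    have hD₀k : ∀ c : E α₀, D₀ (algebraMap (E α₀) K c) = 0 := fun c =>
      derivation_eq_zero_of_mem_adjoin p D₀ (Z α₀) hD₀Z c.2
    let D₁ : Derivation (E α₀) K K := toAlgDer (toIntDer D₀) hD₀k
    have hcomp : D₁.liftKaehlerDifferential ∘ₗ
        ((KaehlerDifferential.map k₀ (E α₀) K K).restrictScalars K) = D₀.liftKaehlerDifferential := by
      apply LinearMap.ext_on (KaehlerDifferential.span_range_derivation k₀ K)
      rintro _ ⟨y, rfl⟩
      rw [LinearMap.comp_apply, LinearMap.restrictScalars_apply, KaehlerDifferential.map_D,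
        Derivation.liftKaehlerDifferential_comp_D, Derivation.liftKaehlerDifferential_comp_D]
      rfl
    have h1 := LinearMap.congr_fun hcomp ω
    rw [LinearMap.comp_apply, LinearMap.restrictScalars_apply, hω α₀, map_zero] at h1
    have h2 : D₀.liftKaehlerDifferential ω = Bas.repr ω b₀ := by
      have : D₀.liftKaehlerDifferential = Bas.coord b₀ := by
        apply LinearMap.ext_on (KaehlerDifferential.span_range_derivation k₀ K)
        rintro _ ⟨y, rfl⟩
        rw [Derivation.liftKaehlerDifferential_comp_D]
        rfl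
      rw [this, Module.Basis.coord_apply]
    rw [h2] at h1
    exact hb₀ h1.symm

end Groth.Agent.Lib.helper10.PBasisFamily
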