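import Mathlib

set_option autoImplicit false
set_option linter.style.haveILetI false
set_option linter.unusedVariables false
set_option linter.unusedSectionVars false

universe u

namespace Groth.Agent.Lib.helper10.PowSerSub

open MvPowerSeries

variable {k : Type u} [Field k] {σ : Type} [DecidableEq σ]

/-- the subring of power series with coefficients in a subfield -/
def coeffSubring (F : Subfield k) : Subring (MvPowerSeries σ k) where
  carrier := {f | ∀ n, coeff n f ∈ F}
  mul_mem' := by
    intro a b ha hb n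
    rw [coeff_mul]
    exact sum_mem fun p _ => mul_mem (ha _) (hb _)
  one_mem' := by
    intro n
    rw [coeff_one]
    split_ifs
    · exact one_mem F
    · exact zero_mem F
  add_mem' := by
    intro a b ha hb n
    rw [map_add]
    exact add_mem (ha n) (hb n)
  zero_mem' := by
    intro n
    rw [map_zero]
    exact zero_mem F
  neg_mem' := by
    intro a ha n
    rw [map_neg]
    exact neg_mem (ha n)

lemma mem_coeffSubring {F : Subfield k} {f : MvPowerSeries σ k} :
    f ∈ coeffSubring F ↔ ∀ n, coeff n f ∈ F := Iff.rfl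

lemma coeffSubring_mono {F G : Subfield k} (h : F ≤ G) :
    (coeffSubring F : Subring (MvPowerSeries σ k)) ≤ coeffSubring G :=
  fun f hf n => h (hf n)

/-- division by a series with coefficients in `F` stays in the subring -/
theorem mem_of_mul_mem (F : Subfield k) (g b a : MvPowerSeries σ k) (hb : b ∈ coeffSubring F)
    (hb0 : b ≠ 0) (ha : a ∈ coeffSubring F) (h : g * b = a) : g ∈ coeffSubring F := by
  classical
  by_contra hg
  rw [mem_coeffSubring] at hg
  push Not at hg
  obtain ⟨n₀, hn₀⟩ := hg
  let p : Submodule F k := LinearMap.range (Algebra.linearMap F k)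
  have hp : ∀ y : k, y ∈ p ↔ y ∈ F := by
    intro y
    constructor
    · rintro ⟨z, rfl⟩
      exact z.2
    · intro hy
      exact ⟨⟨y, hy⟩, rfl⟩
  have hx : coeff n₀ g ∉ p := fun hmem => hn₀ ((hp _).1 hmem)
  obtain ⟨f, hf1, hf2⟩ := Submodule.exists_dual_map_eq_bot_of_notMem hx inferInstance
  have hfp : ∀ y ∈ F, f y = 0 := by
    intro y hy
    have : f y ∈ p.map f := Submodule.mem_map_of_mem ((hp y).2 hy)
    rw [hf2] at this
    exact (Submodule.mem_bot F).1 this
  let lam : MvPowerSeries σ k → MvPowerSeries σ k := fun g n => ((f (coeff n g) : F) : k)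
  have hlam : ∀ g n, coeff n (lam g) = ((f (coeff n g) : F) : k) := fun g n => rfl
  have hmul : lam (g * b) = lam g * b := by
    ext n
    rw [hlam, coeff_mul, coeff_mul, map_sum, AddSubmonoidClass.coe_finsetSum]
    refine Finset.sum_congr rfl fun q _ => ?_
    rw [hlam]
    have : coeff q.1 g * coeff q.2 b = (⟨coeff q.2 b, hb q.2⟩ : F) • coeff q.1 g := by
      rw [Subfield.smul_def, smul_eq_mul, mul_comm]
    rw [this, map_smul, smul_eq_mul, Subfield.coe_mul, mul_comm]
  have hzero : lam a = 0 := by
    ext n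
    rw [hlam, hfp _ (ha n), map_zero]
    rfl
  rw [h, hzero] at hmul
  have h0 : lam g = 0 := by
    rcases mul_eq_zero.1 hmul.symm with h1 | h1
    · exact h1
    · exact absurd h1 hb0
  apply hf1
  have := congrArg (coeff n₀) h0
  rw [hlam, map_zero] at this
  exact Subtype.ext this

section frac

variable {K : Type*} [Field K] [Algebra (MvPowerSeries σ k) K] [IsFractionRing (MvPowerSeries σ k) K]

theorem mem_closure_iff (F : Subfield k) (x : K) :
    x ∈ Subfield.closure (algebraMap (MvPowerSeries σ k) K '' {f | ∀ n, coeff n f ∈ F}) ↔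
      ∃ a b : MvPowerSeries σ k, a ∈ coeffSubring F ∧ b ∈ coeffSubring F ∧
        algebraMap _ K a / algebraMap _ K b = x := by
  have hset : algebraMap (MvPowerSeries σ k) K '' {f | ∀ n, coeff n f ∈ F} =
      (((coeffSubring F).map (algebraMap (MvPowerSeries σ k) K) : Subring K) : Set K) := by
    rw [Subring.coe_map]; rfl
  rw [hset, Subfield.mem_closure_iff, Subring.closure_eq]
  constructor
  · rintro ⟨y, ⟨a, ha, rfl⟩, z, ⟨b, hb, rfl⟩, rfl⟩
    exact ⟨a, b, ha, hb, rfl⟩
  · rintro ⟨a, b, ha, hb, rfl⟩
    exact ⟨_, ⟨a, ha, rfl⟩, _, ⟨b, hb, rfl⟩, rfl⟩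

/-- `q`-th powers have coefficients in the intersection -/
theorem pow_mem (F₀ : Subfield k) (e : ℕ) (hq : ∀ x : k, x ^ ringExpChar k ^ e ∈ F₀)
    (h : MvPowerSeries σ k) : h ^ ringExpChar k ^ e ∈ coeffSubring F₀ := by
  haveI : ExpChar k (ringExpChar k) := ringExpChar.expChar k
  have hp : ringExpChar k ≠ 0 := (expChar_pos k (ringExpChar k)).ne'
  rw [← map_iterateFrobenius_expand (ringExpChar k) hp h e]
  intro n
  rw [coeff_map, iterateFrobenius_def]
  exact hq _

theorem main {ι : Type*} [Nonempty ι] (F : ι → Subfield k) (e : ℕ)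
    (hq : ∀ x : k, x ^ ringExpChar k ^ e ∈ ⨅ i, F i) :
    (⨅ i, Subfield.closure (algebraMap (MvPowerSeries σ k) K '' {f | ∀ n, coeff n f ∈ F i})) =
      Subfield.closure (algebraMap (MvPowerSeries σ k) K '' {f | ∀ n, coeff n f ∈ ⨅ i, F i}) := by
  classical
  apply le_antisymm
  · intro x hx
    rw [Subfield.mem_iInf] at hx
    by_cases hx0 : x = 0
    · rw [hx0]; exact zero_mem _
    obtain ⟨g, h, hh, rfl⟩ := IsFractionRing.div_surjective (A := MvPowerSeries σ k) x
    have hinj : Function.Injective (algebraMap (MvPowerSeries σ k) K) :=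
      IsFractionRing.injective _ _
    have hh0 : h ≠ 0 := nonZeroDivisors.ne_zero hh
    have hh0' : algebraMap (MvPowerSeries σ k) K h ≠ 0 := fun h0 =>
      hh0 (hinj (by rw [h0, map_zero]))
    set q := ringExpChar k ^ e with hqdef
    have hqpos : 0 < q := pow_pos (expChar_pos k (ringExpChar k)) e
    have hhq : h ^ q ∈ coeffSubring (⨅ i, F i) := pow_mem _ e hq h
    have hhq0 : h ^ q ≠ 0 := pow_ne_zero _ hh0
    have hhq0' : algebraMap (MvPowerSeries σ k) K (h ^ q) ≠ 0 := fun h0 =>
      hhq0 (hinj (by rw [h0, map_zero]))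
    set g' := g * h ^ (q - 1) with hg'
    have hxg : algebraMap (MvPowerSeries σ k) K g / algebraMap (MvPowerSeries σ k) K h =
        algebraMap (MvPowerSeries σ k) K g' / algebraMap (MvPowerSeries σ k) K (h ^ q) := by
      rw [div_eq_div_iff hh0' hhq0', ← map_mul, ← map_mul, hg']
      congr 1
      have : h ^ q = h ^ (q - 1) * h := by rw [← pow_succ, Nat.sub_add_cancel hqpos]
      rw [this]; ring
    have hg'mem : g' ∈ coeffSubring (⨅ i, F i) := by
      intro n
      rw [Subfield.mem_iInf]
      intro i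
      obtain ⟨a, b, ha, hb, hab⟩ := (mem_closure_iff (F i) _).1 (hx i)
      have hb0 : b ≠ 0 := by
        rintro rfl
        rw [map_zero, div_zero] at hab
        exact hx0 hab.symm
      have hb0' : algebraMap (MvPowerSeries σ k) K b ≠ 0 := fun h0 =>
        hb0 (hinj (by rw [h0, map_zero]))
      rw [hxg, div_eq_div_iff hb0' hhq0', ← map_mul, ← map_mul] at hab
      have hab' := hinj hab
      have hmem : a * h ^ q ∈ coeffSubring (F i) :=
        mul_mem ha (coeffSubring_mono (iInf_le F i) hhq)
      exact mem_of_mul_mem (F i) g' b (a * h ^ q) hb hb0 hmem hab'.symm n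
    rw [hxg]
    exact (mem_closure_iff _ _).2 ⟨g', h ^ q, hg'mem, hhq, rfl⟩
  · refine le_iInf fun i => Subfield.closure_mono (Set.image_mono ?_)
    intro f hf n
    exact (iInf_le F i) (hf n)

end frac

end Groth.Agent.Lib.helper10.PowSerSub
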