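import Mathlib
import Groth.Agent.Lib.helper10.PowSerSub

/-!
The subring `E[[T^p]]` of `K[[T]]` for a subfield `E` of `K` with `[K : E]` finite:
it is Noetherian and `K[[T]]` is finite free over it.
-/

set_option autoImplicit false
set_option linter.unusedVariables false
set_option linter.unusedSectionVars false

universe u

namespace Groth.Agent.Lib.helper10.PowSerFrob

open MvPowerSeries

variable {K : Type u} [Field K] (p : ℕ) [hpF : Fact p.Prime] {r : ℕ}

/-- componentwise division of an exponent -/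
noncomputable def ediv (n : Fin r →₀ ℕ) : Fin r →₀ ℕ := n.mapRange (· / p) (Nat.zero_div p)

/-- componentwise remainder of an exponent, as a function to `Fin p` -/
def emodJ (n : Fin r →₀ ℕ) : Fin r → Fin p := fun a => ⟨n a % p, Nat.mod_lt _ hpF.out.pos⟩

/-- a function to `Fin p` as an exponent -/
noncomputable def toExp (j : Fin r → Fin p) : Fin r →₀ ℕ :=
  Finsupp.equivFunOnFinite.symm fun a => (j a : ℕ)

@[simp] lemma toExp_apply (j : Fin r → Fin p) (a : Fin r) : toExp p j a = (j a : ℕ) := rfl

@[simp] lemma ediv_apply (n : Fin r →₀ ℕ) (a : Fin r) : ediv p n a = n a / p := rfl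

lemma ediv_add_emod (n : Fin r →₀ ℕ) : p • ediv p n + toExp p (emodJ p n) = n := by
  ext a
  simp only [Finsupp.add_apply, Finsupp.smul_apply, ediv_apply, toExp_apply, emodJ, smul_eq_mul]
  exact Nat.div_add_mod _ _

lemma emodJ_smul_add (m : Fin r →₀ ℕ) (j : Fin r → Fin p) :
    emodJ p (p • m + toExp p j) = j := by
  funext a
  apply Fin.ext
  simp only [emodJ, Finsupp.add_apply, Finsupp.smul_apply, toExp_apply, smul_eq_mul]
  rw [Nat.mul_add_mod, Nat.mod_eq_of_lt (j a).2]

lemma ediv_smul_add (m : Fin r →₀ ℕ) (j : Fin r → Fin p) :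
    ediv p (p • m + toExp p j) = m := by
  ext a
  simp only [ediv_apply, Finsupp.add_apply, Finsupp.smul_apply, toExp_apply, smul_eq_mul]
  rw [Nat.mul_add_div hpF.out.pos, Nat.div_eq_of_lt (j a).2, add_zero]

/-- `g ↦ g(T^p)` with coefficients included into `K` -/
noncomputable def psi (E : Subfield K) : MvPowerSeries (Fin r) E →+* MvPowerSeries (Fin r) K :=
  ((expand p hpF.out.ne_zero : MvPowerSeries (Fin r) K →ₐ[K] MvPowerSeries (Fin r) K) :
    MvPowerSeries (Fin r) K →+* MvPowerSeries (Fin r) K).comp (MvPowerSeries.map E.subtype)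

lemma coeff_psi_smul (E : Subfield K) (g : MvPowerSeries (Fin r) E) (m : Fin r →₀ ℕ) :
    coeff (p • m) (psi p E g) = ((coeff m g : E) : K) := by
  change coeff (p • m) (expand p hpF.out.ne_zero (MvPowerSeries.map E.subtype g)) = _
  rw [coeff_expand_smul, coeff_map]
  rfl

lemma coeff_psi_of_not_dvd (E : Subfield K) (g : MvPowerSeries (Fin r) E) {n : Fin r →₀ ℕ}
    {a : Fin r} (h : ¬ p ∣ n a) : coeff n (psi p E g) = 0 :=
  coeff_expand_of_not_dvd p hpF.out.ne_zero _ h

/-- the subring `E[[T^p]]` -/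
noncomputable def S (E : Subfield K) : Subring (MvPowerSeries (Fin r) K) := (psi p E (r := r)).range

lemma eq_smul_ediv {n : Fin r →₀ ℕ} (h : ∀ a, p ∣ n a) : n = p • ediv p n := by
  ext a
  simp only [Finsupp.smul_apply, ediv_apply, smul_eq_mul]
  exact (Nat.mul_div_cancel' (h a)).symm

theorem mem_S_iff (E : Subfield K) (f : MvPowerSeries (Fin r) K) :
    f ∈ S p E ↔ (∀ n, coeff n f ∈ E) ∧ ∀ n, (∃ a, ¬ p ∣ n a) → coeff n f = 0 := by
  constructor
  · rintro ⟨g, rfl⟩
    refine ⟨fun n => ?_, fun n hn => ?_⟩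
    · by_cases h : ∀ a, p ∣ n a
      · rw [eq_smul_ediv p h, coeff_psi_smul]
        exact (coeff (ediv p n) g).2
      · push Not at h
        obtain ⟨a, ha⟩ := h
        rw [coeff_psi_of_not_dvd p E g ha]
        exact E.zero_mem
    · obtain ⟨a, ha⟩ := hn
      exact coeff_psi_of_not_dvd p E g ha
  · rintro ⟨h1, h2⟩
    refine ⟨fun m => ⟨coeff (p • m) f, h1 _⟩, ?_⟩
    ext n
    by_cases h : ∀ a, p ∣ n a
    · rw [eq_smul_ediv p h, coeff_psi_smul]
      rfl
    · push Not at h
      obtain ⟨a, ha⟩ := h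
      rw [coeff_psi_of_not_dvd p E _ ha, h2 n ⟨a, ha⟩]

lemma S_mono {E E' : Subfield K} (h : E ≤ E') : (S p E : Subring (MvPowerSeries (Fin r) K)) ≤ S p E' := by
  intro f hf
  rw [mem_S_iff] at hf ⊢
  exact ⟨fun n => h (hf.1 n), hf.2⟩

instance (E : Subfield K) : IsNoetherianRing (S p E : Subring (MvPowerSeries (Fin r) K)) :=
  isNoetherianRing_of_surjective _ _ (psi p E (r := r)).rangeRestrict
    (psi p E (r := r)).rangeRestrict_surjective

/-- coefficient formula -/
theorem coeff_psi_mul_monomial (E : Subfield K) (g : MvPowerSeries (Fin r) E)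
    (j : Fin r → Fin p) (c : K) (n : Fin r →₀ ℕ) :
    coeff n (psi p E g * monomial (toExp p j) c) =
      if emodJ p n = j then ((coeff (ediv p n) g : E) : K) * c else 0 := by
  classical
  rw [coeff_mul_monomial]
  by_cases hj : emodJ p n = j
  · rw [if_pos hj]
    have hn := ediv_add_emod p n
    rw [hj] at hn
    have hle : toExp p j ≤ n := by
      conv_rhs => rw [← hn]
      exact le_add_self
    rw [if_pos hle]
    have : n - toExp p j = p • ediv p n := by
      conv_lhs => rw [← hn]
      exact add_tsub_cancel_right _ _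
    rw [this, coeff_psi_smul]
  · rw [if_neg hj]
    split_ifs with hle
    · have hex : ∃ a, n a % p ≠ (j a : ℕ) := by
        by_contra hcon
        push Not at hcon
        apply hj
        funext a
        exact Fin.ext (hcon a)
      obtain ⟨a, ha⟩ := hex
      have hnd : ¬ p ∣ (n - toExp p j) a := by
        intro hd
        apply ha
        rw [Finsupp.tsub_apply, toExp_apply] at hd
        have hle' : (j a : ℕ) ≤ n a := by
          have := hle a
          rwa [toExp_apply] at this
        have h1 : n a % p = (j a : ℕ) % p := by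
          have := (Nat.modEq_iff_dvd' hle').2 hd
          exact this.symm
        rw [h1, Nat.mod_eq_of_lt (j a).2]
      rw [coeff_psi_of_not_dvd p E g hnd, zero_mul]
    · rfl

section Basis

variable (E : Subfield K) {d : ℕ} (c : Module.Basis (Fin d) E K)

/-- the basis family `c_i T^j` -/
noncomputable def w (x : Fin d × (Fin r → Fin p)) : MvPowerSeries (Fin r) K :=
  monomial (toExp p x.2) (c x.1)

theorem sum_formula (g : Fin d × (Fin r → Fin p) → MvPowerSeries (Fin r) E) (n : Fin r →₀ ℕ) :
    coeff n (∑ x, psi p E (g x) * w p E c x) =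
      ∑ i, ((coeff (ediv p n) (g (i, emodJ p n)) : E) : K) * c i := by
  classical
  rw [map_sum, Fintype.sum_prod_type]
  refine Finset.sum_congr rfl fun i _ => ?_
  simp only [w, coeff_psi_mul_monomial]
  rw [Finset.sum_ite_eq]
  simp

theorem linearIndependent_w : LinearIndependent (S p E (r := r)) (w p E c (r := r)) := by
  classical
  rw [Fintype.linearIndependent_iff]
  intro s hs x₀
  have hg : ∀ x, ∃ g : MvPowerSeries (Fin r) E, psi p E g = (s x : MvPowerSeries (Fin r) K) :=
    fun x => (s x).2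
  choose g hg using hg
  have hsum : ∑ x, psi p E (g x) * w p E c x = 0 := by
    rw [← hs]
    refine Finset.sum_congr rfl fun x _ => ?_
    rw [hg x, Subring.smul_def, smul_eq_mul]
  have hg0 : g x₀ = 0 := by
    ext m
    obtain ⟨i₀, j₀⟩ := x₀
    have h1 := sum_formula p E c g (p • m + toExp p j₀)
    rw [hsum, map_zero, emodJ_smul_add, ediv_smul_add] at h1
    have h2 : ∑ i, (coeff m (g (i, j₀)) : E) • c i = 0 := by
      rw [h1]
      refine Finset.sum_congr rfl fun i _ => ?_
      rw [Subfield.smul_def, smul_eq_mul]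
    have := Fintype.linearIndependent_iff.1 c.linearIndependent _ h2 i₀
    rw [this, map_zero]
  apply Subtype.ext
  rw [← hg x₀, hg0, map_zero]
  rfl

theorem span_w : ⊤ ≤ Submodule.span (S p E (r := r)) (Set.range (w p E c (r := r))) := by
  classical
  intro f _
  let g : Fin d × (Fin r → Fin p) → MvPowerSeries (Fin r) E := fun x m =>
    c.repr (coeff (p • m + toExp p x.2) f) x.1
  have hf : f = ∑ x, psi p E (g x) * w p E c x := by
    ext n
    rw [sum_formula]
    have h1 : ∀ i, ((coeff (ediv p n) (g (i, emodJ p n)) : E) : K) * c i =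
        (c.repr (coeff n f) i) • c i := by
      intro i
      rw [Subfield.smul_def, smul_eq_mul]
      congr 2
      change c.repr (coeff (p • ediv p n + toExp p (emodJ p n)) f) i = _
      rw [ediv_add_emod]
    rw [Finset.sum_congr rfl fun i _ => h1 i, c.sum_repr]
  rw [hf]
  refine Submodule.sum_mem _ fun x _ => ?_
  have : psi p E (g x) * w p E c x =
      (⟨psi p E (g x), ⟨g x, rfl⟩⟩ : S p E (r := r)) • w p E c x := by
    rw [Subring.smul_def, smul_eq_mul]
  rw [this]
  exact Submodule.smul_mem _ _ (Submodule.subset_span ⟨x, rfl⟩)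

theorem free_finite [FiniteDimensional E K] :
    Module.Free (S p E (r := r)) (MvPowerSeries (Fin r) K) ∧
      Module.Finite (S p E (r := r)) (MvPowerSeries (Fin r) K) := by
  let c := Module.finBasis E K
  let B := Module.Basis.mk (linearIndependent_w p E c (r := r)) (span_w p E c)
  exact ⟨Module.Free.of_basis B, Module.Finite.of_basis B⟩

end Basis

section CharP

variable [CharP K p]

theorem pderiv_eq_zero_iff (f : MvPowerSeries (Fin r) K) :
    (∀ a, pderiv K a f = 0) ↔ ∀ n, (∃ a, ¬ p ∣ n a) → coeff n f = 0 := by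
  constructor
  · rintro h n ⟨a, ha⟩
    have hna : n a ≠ 0 := fun h0 => ha (h0 ▸ dvd_zero p)
    have hn : n = (n - Finsupp.single a 1) + Finsupp.single a 1 := by
      ext b
      by_cases hb : b = a
      · subst hb
        simp only [Finsupp.add_apply, Finsupp.tsub_apply, Finsupp.single_eq_same]
        omega
      · simp [Finsupp.single_eq_of_ne hb]
    have h1 := coeff_pderiv (R := K) (i := a) f (n - Finsupp.single a 1)
    rw [h a, map_zero, ← hn] at h1
    have h2 : (((n - Finsupp.single a 1 : Fin r →₀ ℕ) a : ℕ) : K) + 1 = ((n a : ℕ) : K) := by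
      rw [Finsupp.tsub_apply, Finsupp.single_eq_same]
      have : n a - 1 + 1 = n a := by omega
      exact_mod_cast congrArg (Nat.cast (R := K)) this
    rw [h2] at h1
    have h3 : ((n a : ℕ) : K) ≠ 0 := by
      rw [Ne, CharP.cast_eq_zero_iff K p]
      exact ha
    rcases mul_eq_zero.1 h1.symm with h4 | h4
    · exact h4
    · exact absurd h4 h3
  · intro h a
    ext n
    rw [coeff_pderiv, map_zero]
    by_cases hd : p ∣ n a + 1
    · have : ((n a : ℕ) : K) + 1 = 0 := by
        have := (CharP.cast_eq_zero_iff K p (n a + 1)).2 hd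
        exact_mod_cast this
      rw [this, mul_zero]
    · rw [h _ ⟨a, ?_⟩, zero_mul]
      simpa using hd

theorem mem_S_of_mul_mem (E : Subfield K) (a' t : MvPowerSeries (Fin r) K) (ht : t ∈ S p E)
    (ht0 : t ≠ 0) (h : a' * t ∈ S p E) : a' ∈ S p E := by
  rw [mem_S_iff] at ht h ⊢
  refine ⟨?_, ?_⟩
  · exact Groth.Agent.Lib.helper10.PowSerSub.mem_of_mul_mem E a' t (a' * t) ht.1 ht0 h.1 rfl
  · rw [← pderiv_eq_zero_iff] at ht h ⊢
    intro a
    have h1 := h.2 a
    rw [Derivation.leibniz, ht.2 a, smul_zero, zero_add, smul_eq_mul] at h1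
    rcases mul_eq_zero.1 h1 with h2 | h2
    · exact absurd h2 ht0
    · exact h2

theorem pow_mem_S (E : Subfield K) (hE : ∀ y : K, y ^ p ∈ E) (f : MvPowerSeries (Fin r) K) :
    f ^ p ∈ S p E := by
  rw [mem_S_iff, ← map_frobenius_expand (p := p) (hp := hpF.out.ne_zero)]
  refine ⟨fun n => ?_, fun n hn => ?_⟩
  · rw [coeff_map, frobenius_def]
    exact hE _
  · obtain ⟨a, ha⟩ := hn
    rw [coeff_map, coeff_expand_of_not_dvd p hpF.out.ne_zero f ha, map_zero]

theorem exists_pow_eq_of_mem_S (E : Subfield K) (hE : ∀ y ∈ E, ∃ z : K, z ^ p = y)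
    (f : MvPowerSeries (Fin r) K) (hf : f ∈ S p E) : ∃ c : MvPowerSeries (Fin r) K, c ^ p = f := by
  rw [mem_S_iff] at hf
  choose z hz using fun m : Fin r →₀ ℕ => hE _ (hf.1 (p • m))
  refine ⟨fun m => z m, ?_⟩
  rw [← map_frobenius_expand (p := p) (hp := hpF.out.ne_zero)]
  ext n
  rw [coeff_map, frobenius_def]
  by_cases h : ∀ a, p ∣ n a
  · rw [eq_smul_ediv p h, coeff_expand_smul]
    exact hz _
  · push Not at h
    obtain ⟨a, ha⟩ := h
    rw [coeff_expand_of_not_dvd p hpF.out.ne_zero _ ha, hf.2 n ⟨a, ha⟩, zero_pow hpF.out.ne_zero]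

end CharP

end Groth.Agent.Lib.helper10.PowSerFrob
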