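import Mathlib

/-!
`k₀(K₀^p)` is spanned over `K₀^p` by a finite `k₀^p`-generating family of `k₀`; consequence for
power series with coefficients in `k₀(K₀^p)`.
-/

set_option autoImplicit false
set_option linter.unusedVariables false
set_option linter.unusedSectionVars false

universe u

namespace Groth.Agent.Lib.helper10.PowSerSpan

open MvPowerSeries

variable (p : ℕ) [Fact p.Prime] {k₀ K₀ : Type u} [Field k₀] [Field K₀] [Algebra k₀ K₀] [CharP k₀ p]

/-- the subfield `K₀^p` -/
abbrev Fp (K₀ : Type u) [Field K₀] (p : ℕ) : Subfield K₀ :=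
  Subfield.closure (Set.range fun y : K₀ => y ^ p)

theorem algebraMap_mem_Fp (z : k₀) (hz : z ∈ Subfield.closure (Set.range fun x : k₀ => x ^ p)) :
    algebraMap k₀ K₀ z ∈ Fp K₀ p := by
  have h1 : algebraMap k₀ K₀ z ∈ (Subfield.closure (Set.range fun x : k₀ => x ^ p)).map
      (algebraMap k₀ K₀) := ⟨z, hz, rfl⟩
  rw [RingHom.map_field_closure] at h1
  refine Subfield.closure_mono ?_ h1
  rintro _ ⟨_, ⟨x, rfl⟩, rfl⟩
  exact ⟨algebraMap k₀ K₀ x, (map_pow _ _ _).symm⟩

theorem pow_mem_Fp (x : K₀) : x ^ p ∈ Fp K₀ p := Subfield.subset_closure ⟨x, rfl⟩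

variable {p}

theorem exists_coeffs {m : ℕ} (b : Fin m → k₀)
    (hb : Submodule.span (Subfield.closure (Set.range fun x : k₀ => x ^ p)) (Set.range b) = ⊤)
    (x : K₀)
    (hx : x ∈ Subfield.closure (Set.range (algebraMap k₀ K₀) ∪ Set.range fun y : K₀ => y ^ p)) :
    ∃ c : Fin m → K₀, (∀ i, c i ∈ Fp K₀ p) ∧ x = ∑ i, c i * algebraMap k₀ K₀ (b i) := by
  classical
  have hp0 : 0 < p := (Fact.out : p.Prime).pos
  set S : Submodule (Fp K₀ p) K₀ :=
    Submodule.span (Fp K₀ p) (Set.range fun i => algebraMap k₀ K₀ (b i)) with hS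
  -- L1
  have L1 : ∀ y : k₀, algebraMap k₀ K₀ y ∈ S := by
    intro y
    have hy : y ∈ Submodule.span (Subfield.closure (Set.range fun x : k₀ => x ^ p)) (Set.range b) :=
      hb ▸ Submodule.mem_top
    induction hy using Submodule.span_induction with
    | mem y hy =>
      obtain ⟨i, rfl⟩ := hy
      exact Submodule.subset_span ⟨i, rfl⟩
    | zero => rw [map_zero]; exact S.zero_mem
    | add y z _ _ hy hz => rw [map_add]; exact S.add_mem hy hz
    | smul d y _ hy =>
      have : algebraMap k₀ K₀ (d • y) =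
          (⟨algebraMap k₀ K₀ (d : k₀), algebraMap_mem_Fp p (d : k₀) d.2⟩ : Fp K₀ p) • algebraMap k₀ K₀ y := by
        rw [Subfield.smul_def, smul_eq_mul, map_mul]
        rfl
      rw [this]
      exact S.smul_mem _ hy
  have L2 : ∀ y z : K₀, y ∈ S → z ∈ S → y * z ∈ S := by
    intro y z hy hz
    induction hy using Submodule.span_induction with
    | mem y hy =>
      obtain ⟨i, rfl⟩ := hy
      induction hz using Submodule.span_induction with
      | mem z hz =>
        obtain ⟨j, rfl⟩ := hz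
        simp only
        rw [← map_mul]
        exact L1 _
      | zero => rw [mul_zero]; exact S.zero_mem
      | add z w _ _ hz hw => rw [mul_add]; exact S.add_mem hz hw
      | smul d z _ hz => rw [mul_smul_comm]; exact S.smul_mem _ hz
    | zero => rw [zero_mul]; exact S.zero_mem
    | add y w _ _ hy hw => rw [add_mul]; exact S.add_mem hy hw
    | smul d y _ hy => rw [smul_mul_assoc]; exact S.smul_mem _ hy
  have L3 : (1 : K₀) ∈ S := by
    have := L1 1
    rwa [map_one] at this
  have L4 : ∀ c : K₀, c ∈ Fp K₀ p → c ∈ S := by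
    intro c hc
    have : c = (⟨c, hc⟩ : Fp K₀ p) • (1 : K₀) := by
      rw [Subfield.smul_def, smul_eq_mul, mul_one]
    rw [this]
    exact S.smul_mem _ L3
  have Lpow : ∀ (y : K₀) (n : ℕ), y ∈ S → y ^ n ∈ S := by
    intro y n hy
    induction n with
    | zero => rw [pow_zero]; exact L3
    | succ n ih => rw [pow_succ]; exact L2 _ _ ih hy
  have L5 : ∀ y : K₀, y ∈ S → y⁻¹ ∈ S := by
    intro y hy
    by_cases hy0 : y = 0
    · rw [hy0, inv_zero]; exact S.zero_mem
    have h1 : y⁻¹ = (y ^ p)⁻¹ * y ^ (p - 1) := by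
      have : y ^ p = y ^ (p - 1) * y := by
        rw [← pow_succ, Nat.sub_add_cancel hp0]
      rw [this]
      field_simp
    rw [h1]
    exact L2 _ _ (L4 _ ((Fp K₀ p).inv_mem (pow_mem_Fp p y))) (Lpow y _ hy)
  have hxS : x ∈ S := by
    induction hx using Subfield.closure_induction with
    | mem y hy =>
      rcases hy with ⟨z, rfl⟩ | ⟨z, rfl⟩
      · exact L1 z
      · exact L4 _ (pow_mem_Fp p z)
    | one => exact L3
    | add y z _ _ hy hz => exact S.add_mem hy hz
    | neg y _ hy => exact S.neg_mem hy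
    | inv y _ hy => exact L5 y hy
    | mul y z _ _ hy hz => exact L2 y z hy hz
  obtain ⟨c, hc⟩ := (Submodule.mem_span_range_iff_exists_fun (Fp K₀ p)).1 hxS
  refine ⟨fun i => (c i : K₀), fun i => (c i).2, ?_⟩
  rw [← hc]
  rfl

end Groth.Agent.Lib.helper10.PowSerSpan
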