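import Mathlib

/-!
# Jacobian minors at a smooth prime of a presented algebra
-/

set_option autoImplicit false

namespace Groth.Agent.Lib.helper10.JacSmooth

open IsLocalRing TensorProduct

universe u

/-- Linear algebra over a local ring: if `F j = ∑ i, J j i • v i` and the `F j` span the finite
module `M`, one can pick rows and columns with unit minor such that the chosen `F`'s span. -/
theorem exists_rows_cols {Λ : Type u} [CommRing Λ] [IsLocalRing Λ] {M : Type u} [AddCommGroup M]
    [Module Λ M] [Module.Finite Λ M] {m n : ℕ} (F : Fin m → M)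
    (hF : Submodule.span Λ (Set.range F) = ⊤) (v : Fin n → M) (J : Fin m → Fin n → Λ)
    (hJ : ∀ j, F j = ∑ i, J j i • v i) :
    ∃ (c : ℕ) (rows : Fin c ↪ Fin m) (cols : Fin c ↪ Fin n),
      IsUnit (Matrix.det (Matrix.of fun j k => J (rows j) (cols k))) ∧
      Submodule.span Λ (Set.range (F ∘ rows)) = ⊤ := by
  classical
  let k := ResidueField Λ
  have h0 := (map_tensorProduct_mk_eq_top (N := Submodule.span Λ (Set.range F))).mpr hF
  rw [← Submodule.span_image, ← Set.range_comp, eq_top_iff, ← SetLike.coe_subset_coe,
    Submodule.top_coe] at h0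
  have h1 : Submodule.span k (Set.range (TensorProduct.mk Λ k M 1 ∘ F)) = ⊤ := by
    rw [eq_top_iff]
    exact Set.Subset.trans h0 (Submodule.span_subset_span _ _ _)
  obtain ⟨κ, a, ha, hsp, hli⟩ := exists_linearIndependent' k (TensorProduct.mk Λ k M 1 ∘ F)
  rw [h1] at hsp
  haveI : Finite κ := Finite.of_injective a ha
  haveI : Fintype κ := Fintype.ofFinite κ
  let e : Fin (Fintype.card κ) ≃ κ := (Fintype.equivFin κ).symm
  let rows : Fin (Fintype.card κ) ↪ Fin m := ⟨a ∘ e, ha.comp e.injective⟩
  let b : Module.Basis κ k (k ⊗[Λ] M) := Module.Basis.mk hli (by rw [hsp])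
  have hspan : Submodule.span Λ (Set.range (F ∘ rows)) = ⊤ := by
    have h2 := IsLocalRing.span_eq_top_of_tmul_eq_basis (F ∘ a) b
      (fun i => by simp [b, Module.Basis.mk_apply])
    have h3 : Set.range (F ∘ rows) = Set.range (F ∘ a) := by
      show Set.range (F ∘ (a ∘ e)) = _
      rw [← Function.comp_assoc, Set.range_comp, e.range_eq_univ, Set.image_univ]
    rw [h3]; exact h2
  let N : Matrix (Fin (Fintype.card κ)) (Fin n) k :=
    Matrix.of fun j i => residue Λ (J (rows j) i)
  have hx : ∀ j, (TensorProduct.mk Λ k M 1 ∘ F) (rows j) =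
      ∑ i, N j i • ((1 : k) ⊗ₜ[Λ] v i) := by
    intro j
    simp only [Function.comp_apply, TensorProduct.mk_apply, hJ, TensorProduct.tmul_sum]
    refine Finset.sum_congr rfl fun i _ => ?_
    rw [TensorProduct.tmul_smul, TensorProduct.smul_tmul', TensorProduct.smul_tmul',
      smul_eq_mul, mul_one, Algebra.smul_def, mul_one]
    rfl
  have hliR : LinearIndependent k ((TensorProduct.mk Λ k M 1 ∘ F) ∘ rows) :=
    hli.comp e e.injective
  have hrow : LinearIndependent k N.row := by
    rw [Fintype.linearIndependent_iff]
    intro g hg j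
    have hg' : ∀ i, ∑ j, g j * N j i = 0 := fun i => by
      have := congrFun hg i
      simpa [Matrix.row, Finset.sum_apply] using this
    have key : ∑ j, g j • (((TensorProduct.mk Λ k M 1 ∘ F) ∘ rows) j) = 0 := by
      simp only [Function.comp_apply] at hx ⊢
      simp_rw [hx, Finset.smul_sum, smul_smul]
      rw [Finset.sum_comm]
      simp_rw [← Finset.sum_smul, hg', zero_smul, Finset.sum_const_zero]
    exact Fintype.linearIndependent_iff.1 hliR g key j
  have hrank : N.rank = Fintype.card κ := by simpa using hrow.rank_matrix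
  have hcolspan : Submodule.span k (Set.range N.col) = ⊤ := by
    apply Submodule.eq_top_of_finrank_eq
    rw [← Matrix.rank_eq_finrank_span_cols, hrank]
    simp
  obtain ⟨κ', a', ha', hsp', hli'⟩ := exists_linearIndependent' k N.col
  rw [hcolspan] at hsp'
  haveI : Finite κ' := Finite.of_injective a' ha'
  haveI : Fintype κ' := Fintype.ofFinite κ'
  have hcard : Fintype.card κ' = Fintype.card κ := by
    have := Module.finrank_eq_card_basis (Module.Basis.mk hli' (by rw [hsp']))
    simpa using this.symm
  let e' : Fin (Fintype.card κ) ≃ κ' := (finCongr hcard.symm).trans (Fintype.equivFin κ').symm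
  let cols : Fin (Fintype.card κ) ↪ Fin n := ⟨a' ∘ e', ha'.comp e'.injective⟩
  refine ⟨Fintype.card κ, rows, cols, ?_, hspan⟩
  have hcolsLI : LinearIndependent k (N.col ∘ cols) := hli'.comp e' e'.injective
  let A : Matrix (Fin (Fintype.card κ)) (Fin (Fintype.card κ)) k :=
    Matrix.of fun j l => N j (cols l)
  have hA : IsUnit A := Matrix.linearIndependent_cols_iff_isUnit.1 hcolsLI
  have hdet : IsUnit A.det := (Matrix.isUnit_iff_isUnit_det A).1 hA
  have hAd : A.det = residue Λ (Matrix.det (Matrix.of fun j l => J (rows j) (cols l))) := by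
    rw [RingHom.map_det]
    rfl
  rw [hAd] at hdet
  exact (IsLocalRing.residue_ne_zero_iff_isUnit _).1 hdet.ne_zero

open MvPolynomial in
theorem derivation_eq_sum_pderiv {R : Type*} [CommRing R] {σ : Type*} [Fintype σ] {N : Type*}
    [AddCommGroup N] [Module R N] [Module (MvPolynomial σ R) N]
    [IsScalarTower R (MvPolynomial σ R) N]
    (D' : Derivation R (MvPolynomial σ R) N) (p : MvPolynomial σ R) :
    D' p = ∑ i, pderiv i p • D' (X i) := by
  classical
  induction p using MvPolynomial.induction_on with
  | C a => simp [MvPolynomial.derivation_C]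
  | add p q hp hq => simp only [map_add, add_smul, Finset.sum_add_distrib, hp, hq]
  | mul_X p j hp =>
    have h1 : ∑ i, (pderiv i p * X j) • D' (X i) = (X j : MvPolynomial σ R) • D' p := by
      rw [hp, Finset.smul_sum]
      refine Finset.sum_congr rfl fun i _ => ?_
      rw [smul_smul, mul_comm]
    have h2 : ∑ i, (p * pderiv i (X j : MvPolynomial σ R)) • D' (X i) = p • D' (X j) := by
      rw [Finset.sum_eq_single j]
      · rw [pderiv_X_self, mul_one]
      · intro i _ hij
        rw [pderiv_X_of_ne (Ne.symm hij), mul_zero, zero_smul]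
      · simp
    rw [Derivation.leibniz, ← h1, ← h2, ← Finset.sum_add_distrib]
    refine Finset.sum_congr rfl fun i _ => ?_
    rw [Derivation.leibniz, ← add_smul, smul_eq_mul, smul_eq_mul]
    congr 1
    ring

section Main

open MvPolynomial

variable {R A : Type u} [CommRing R] [CommRing A] [Algebra R A] {n m : ℕ}

theorem main (f : Fin m → MvPolynomial (Fin n) R) (φ : MvPolynomial (Fin n) R →ₐ[R] A)
    (hφ : Function.Surjective φ)
    (hker : RingHom.ker φ.toRingHom = Ideal.span (Set.range f)) (q : Ideal A) [q.IsPrime]
    [Algebra.IsSmoothAt R q] :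
    ∃ (c : ℕ) (rows : Fin c ↪ Fin m) (cols : Fin c ↪ Fin n),
      φ (Matrix.det (Matrix.of fun j k : Fin c => pderiv (cols k) (f (rows j)))) ∉ q ∧
      ∀ ℓ : Fin m, ∃ s : MvPolynomial (Fin n) R, φ s ∉ q ∧
        s * f ℓ ∈ Ideal.span (Set.range (f ∘ rows)) ⊔ Ideal.span (Set.range f) ^ 2 := by
  classical
  let Q : Ideal (MvPolynomial (Fin n) R) := q.comap φ.toRingHom
  haveI : Q.IsPrime := Ideal.comap_isPrime _ _
  let g : Localization.AtPrime Q →+* Localization.AtPrime q :=
    Localization.localRingHom Q q φ.toRingHom rfl
  letI : Algebra (Localization.AtPrime Q) (Localization.AtPrime q) := g.toAlgebra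
  have hg : ∀ x : MvPolynomial (Fin n) R,
      g (algebraMap _ (Localization.AtPrime Q) x) = algebraMap A (Localization.AtPrime q) (φ x) :=
    fun x => Localization.localRingHom_to_map _ _ _ rfl x
  haveI : IsScalarTower R (Localization.AtPrime Q) (Localization.AtPrime q) :=
    IsScalarTower.of_algebraMap_eq (fun r => by
      show algebraMap R (Localization.AtPrime q) r = g (algebraMap R (Localization.AtPrime Q) r)
      rw [IsScalarTower.algebraMap_apply R (MvPolynomial (Fin n) R) (Localization.AtPrime Q), hg,
        IsScalarTower.algebraMap_apply R A (Localization.AtPrime q), AlgHom.commutes])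
  have hT : Submonoid.map φ.toRingHom Q.primeCompl = q.primeCompl := by
    ext y
    constructor
    · rintro ⟨x, hx, rfl⟩
      exact hx
    · intro hy
      obtain ⟨x, rfl⟩ := hφ y
      exact ⟨x, hy, rfl⟩
  have hsurj : Function.Surjective (algebraMap (Localization.AtPrime Q) (Localization.AtPrime q)) := by
    haveI : IsLocalization (Submonoid.map φ.toRingHom Q.primeCompl) (Localization.AtPrime q) := by
      rw [hT]; infer_instance
    exact IsLocalization.map_surjective_of_surjective Q.primeCompl (Localization.AtPrime Q)
      (Localization.AtPrime q) (g := φ.toRingHom) hφ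
  have hK : RingHom.ker (algebraMap (Localization.AtPrime Q) (Localization.AtPrime q)) =
      (Ideal.span (Set.range f)).map (algebraMap _ (Localization.AtPrime Q)) := by
    rw [← hker]
    exact IsLocalization.ker_map (Localization.AtPrime q) φ.toRingHom hT
  haveI : Algebra.FormallySmooth (MvPolynomial (Fin n) R) (Localization.AtPrime Q) :=
    Algebra.FormallySmooth.of_isLocalization Q.primeCompl
  haveI : Algebra.FormallySmooth R (Localization.AtPrime Q) :=
    Algebra.FormallySmooth.comp R (MvPolynomial (Fin n) R) (Localization.AtPrime Q)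
  obtain ⟨l, hl⟩ := (Algebra.FormallySmooth.iff_split_injection (R := R)
    (P := Localization.AtPrime Q) (A := Localization.AtPrime q) hsurj).1 inferInstance
  -- the generators of the kernel
  have hfK : ∀ j, algebraMap _ (Localization.AtPrime Q) (f j) ∈
      RingHom.ker (algebraMap (Localization.AtPrime Q) (Localization.AtPrime q)) := by
    intro j
    rw [hK]
    exact Ideal.mem_map_of_mem _ (Ideal.subset_span ⟨j, rfl⟩)
  let F : Fin m → (RingHom.ker (algebraMap (Localization.AtPrime Q)
      (Localization.AtPrime q))).Cotangent :=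
    fun j => Ideal.toCotangent _ ⟨algebraMap _ (Localization.AtPrime Q) (f j), hfK j⟩
  have key : ∀ x ∈ Ideal.span (Set.range fun j => algebraMap _ (Localization.AtPrime Q) (f j)),
      ∃ hx : x ∈ RingHom.ker (algebraMap (Localization.AtPrime Q)
        (Localization.AtPrime q)), Ideal.toCotangent _ ⟨x, hx⟩ ∈
          Submodule.span (Localization.AtPrime Q) (Set.range F) := by
    intro x hx'
    induction hx' using Submodule.span_induction with
    | mem x hx =>
      obtain ⟨j, rfl⟩ := hx
      exact ⟨hfK j, Submodule.subset_span ⟨j, rfl⟩⟩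
    | zero => exact ⟨Ideal.zero_mem _, by
        have : (⟨0, Ideal.zero_mem _⟩ : RingHom.ker (algebraMap (Localization.AtPrime Q)
          (Localization.AtPrime q))) = 0 := rfl
        rw [this, map_zero]; exact Submodule.zero_mem _⟩
    | add x y _ _ hx hy =>
      have hx1 := hx.fst
      have hx2 := hx.snd
      have hy1 := hy.fst
      have hy2 := hy.snd
      refine ⟨Ideal.add_mem _ hx1 hy1, ?_⟩
      have : (⟨x + y, Ideal.add_mem _ hx1 hy1⟩ : RingHom.ker (algebraMap (Localization.AtPrime Q)
          (Localization.AtPrime q))) = ⟨x, hx1⟩ + ⟨y, hy1⟩ := rfl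
      rw [this, map_add]
      exact Submodule.add_mem _ hx2 hy2
    | smul a x _ hx =>
      have hx1 := hx.fst
      have hx2 := hx.snd
      refine ⟨Ideal.mul_mem_left _ a hx1, ?_⟩
      have : (⟨a • x, Ideal.mul_mem_left _ a hx1⟩ : RingHom.ker (algebraMap
          (Localization.AtPrime Q) (Localization.AtPrime q))) = a • ⟨x, hx1⟩ := rfl
      rw [this, map_smul]
      exact Submodule.smul_mem _ a hx2
  have hF : Submodule.span (Localization.AtPrime Q) (Set.range F) = ⊤ := by
    rw [eq_top_iff]
    rintro y -
    obtain ⟨⟨x, hx⟩, rfl⟩ := Ideal.toCotangent_surjective _ y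
    have hx' : x ∈ Ideal.span (Set.range fun j => algebraMap _ (Localization.AtPrime Q) (f j)) := by
      have := hx
      rw [hK, Ideal.map_span, ← Set.range_comp] at this
      exact this
    exact (key x hx').snd
  haveI : Module.Finite (Localization.AtPrime Q) (RingHom.ker (algebraMap (Localization.AtPrime Q)
      (Localization.AtPrime q))).Cotangent :=
    Module.finite_def.2 (hF ▸ Submodule.fg_span (Set.finite_range F))
  let v : Fin n → (RingHom.ker (algebraMap (Localization.AtPrime Q)
      (Localization.AtPrime q))).Cotangent := fun i =>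
    l ((1 : Localization.AtPrime q) ⊗ₜ[Localization.AtPrime Q]
      KaehlerDifferential.D R (Localization.AtPrime Q)
        (algebraMap (MvPolynomial (Fin n) R) (Localization.AtPrime Q) (X i)))
  let J : Fin m → Fin n → Localization.AtPrime Q := fun j i =>
    algebraMap (MvPolynomial (Fin n) R) (Localization.AtPrime Q) (pderiv i (f j))
  have hD : ∀ p : MvPolynomial (Fin n) R,
      KaehlerDifferential.D R (Localization.AtPrime Q) (algebraMap _ (Localization.AtPrime Q) p) =
        ∑ i, algebraMap _ (Localization.AtPrime Q) (pderiv i p) •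
          KaehlerDifferential.D R (Localization.AtPrime Q)
            (algebraMap (MvPolynomial (Fin n) R) (Localization.AtPrime Q) (X i)) := by
    intro p
    have := derivation_eq_sum_pderiv
      ((KaehlerDifferential.D R (Localization.AtPrime Q)).compAlgebraMap (MvPolynomial (Fin n) R)) p
    simp only [Derivation.compAlgebraMap_apply] at this
    rw [this]
    refine Finset.sum_congr rfl fun i _ => ?_
    exact (IsScalarTower.algebraMap_smul (Localization.AtPrime Q) ((pderiv i) p)
      (KaehlerDifferential.D R (Localization.AtPrime Q)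
        (algebraMap (MvPolynomial (Fin n) R) (Localization.AtPrime Q) (X i)))).symm
  have hJ : ∀ j, F j = ∑ i, J j i • v i := by
    intro j
    have h1 : F j = l (KaehlerDifferential.kerCotangentToTensor R (Localization.AtPrime Q)
        (Localization.AtPrime q) (F j)) := by
      have := LinearMap.congr_fun hl (F j)
      simpa using this.symm
    rw [h1, KaehlerDifferential.kerCotangentToTensor_toCotangent, hD, TensorProduct.tmul_sum,
      map_sum]
    refine Finset.sum_congr rfl fun i _ => ?_
    exact (congrArg l (TensorProduct.tmul_smul (J j i) (1 : Localization.AtPrime q) _)).trans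
      (l.map_smul _ _)
  obtain ⟨c, rows, cols, hdet, hspan⟩ := exists_rows_cols F hF v J hJ
  refine ⟨c, rows, cols, ?_, ?_⟩
  · have h1 : Matrix.det (Matrix.of fun j k => J (rows j) (cols k)) =
        algebraMap (MvPolynomial (Fin n) R) (Localization.AtPrime Q)
          (Matrix.det (Matrix.of fun j k : Fin c => pderiv (cols k) (f (rows j)))) := by
      rw [RingHom.map_det]
      rfl
    rw [h1, IsLocalization.AtPrime.isUnit_to_map_iff (Localization.AtPrime Q) Q] at hdet
    exact hdet
  · intro ℓ
    have hmem : F ℓ ∈ Submodule.span (Localization.AtPrime Q) (Set.range (F ∘ rows)) := by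
      rw [hspan]; trivial
    obtain ⟨α, hα⟩ := (Submodule.mem_span_range_iff_exists_fun _).1 hmem
    obtain ⟨b, hb⟩ := IsLocalization.exist_integer_multiples_of_finite Q.primeCompl α
    choose p hp using hb
    -- the element z
    have hz : algebraMap _ (Localization.AtPrime Q) (f ℓ) -
        ∑ j, α j * algebraMap _ (Localization.AtPrime Q) (f (rows j)) ∈
        RingHom.ker (algebraMap (Localization.AtPrime Q) (Localization.AtPrime q)) :=
      Ideal.sub_mem _ (hfK ℓ) (Ideal.sum_mem _ fun j _ => Ideal.mul_mem_left _ _ (hfK _))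
    have hz0 : Ideal.toCotangent _ ⟨_, hz⟩ = 0 := by
      have : (⟨_, hz⟩ : RingHom.ker (algebraMap (Localization.AtPrime Q)
          (Localization.AtPrime q))) = ⟨_, hfK ℓ⟩ - ∑ j, α j • ⟨_, hfK (rows j)⟩ := by
        apply Subtype.ext
        simp
      rw [this, map_sub, map_sum]
      simp only [map_smul]
      rw [sub_eq_zero]
      exact hα.symm
    replace hz0 : algebraMap _ (Localization.AtPrime Q) (f ℓ) -
        ∑ j, α j * algebraMap _ (Localization.AtPrime Q) (f (rows j)) ∈
        RingHom.ker (algebraMap (Localization.AtPrime Q) (Localization.AtPrime q)) ^ 2 :=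
      (Ideal.toCotangent_eq_zero _ _).1 hz0
    rw [hK, ← Ideal.map_pow] at hz0
    have hy : algebraMap _ (Localization.AtPrime Q)
        ((b : MvPolynomial (Fin n) R) * f ℓ - ∑ j, p j * f (rows j)) ∈
        Ideal.map (algebraMap _ (Localization.AtPrime Q)) (Ideal.span (Set.range f) ^ 2) := by
      have : algebraMap _ (Localization.AtPrime Q)
          ((b : MvPolynomial (Fin n) R) * f ℓ - ∑ j, p j * f (rows j)) =
          algebraMap _ (Localization.AtPrime Q) (b : MvPolynomial (Fin n) R) *
            (algebraMap _ (Localization.AtPrime Q) (f ℓ) -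
              ∑ j, α j * algebraMap _ (Localization.AtPrime Q) (f (rows j))) := by
        rw [map_sub, map_mul, map_sum, mul_sub, Finset.mul_sum]
        congr 1
        refine Finset.sum_congr rfl fun j _ => ?_
        rw [map_mul, hp j, Algebra.smul_def, mul_assoc]
      rw [this]
      exact Ideal.mul_mem_left _ _ hz0
    obtain ⟨s', hs', hs'y⟩ := (IsLocalization.algebraMap_mem_map_algebraMap_iff Q.primeCompl
      (Localization.AtPrime Q) _ _).1 hy
    refine ⟨s' * b, ?_, ?_⟩
    · have : s' * (b : MvPolynomial (Fin n) R) ∈ Q.primeCompl := mul_mem hs' b.2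
      exact this
    · have : s' * (b : MvPolynomial (Fin n) R) * f ℓ =
          ∑ j, (s' * p j) * f (rows j) +
            s' * ((b : MvPolynomial (Fin n) R) * f ℓ - ∑ j, p j * f (rows j)) := by
        rw [mul_sub, Finset.mul_sum]
        simp only [mul_assoc]
        ring
      rw [this]
      refine Submodule.add_mem_sup (Ideal.sum_mem _ fun j _ => Ideal.mul_mem_left _ _ ?_) hs'y
      exact Ideal.subset_span ⟨j, rfl⟩

end Main

end Groth.Agent.Lib.helper10.JacSmooth
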