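import Groth.Agent.S2032
import Groth.Agent.S2108

/-!
# The singular ideal is the radical of the ideal of standard elements
-/

set_option autoImplicit false

namespace Groth.Agent.Lib.helper10.SingIdeal

open MvPolynomial Smoothing

universe u

theorem exists_perm_extend {n c : ℕ} (hc : c ≤ n) (e : Fin c ↪ Fin n) :
    ∃ σ : Equiv.Perm (Fin n), ∀ k : Fin c, σ (Fin.castLE hc k) = e k := by
  classical
  let f : Fin n → Fin n := fun i => if h : (i : ℕ) < c then e ⟨i, h⟩ else i
  have hmaps : Set.MapsTo f {i : Fin n | (i : ℕ) < c} (Finset.univ : Finset (Fin n)) :=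
    fun _ _ => by simp
  have hinj : Set.InjOn f {i : Fin n | (i : ℕ) < c} := by
    intro i hi j hj hij
    simp only [Set.mem_ofPred_eq] at hi hj
    simp only [f, dif_pos hi, dif_pos hj] at hij
    have := e.injective hij
    exact Fin.ext (by simpa using congrArg Fin.val this)
  obtain ⟨g, hg⟩ := hmaps.exists_equiv_extend_of_card_eq (by simp) hinj
  refine ⟨g.trans (Equiv.subtypeUnivEquiv (by simp)), fun k => ?_⟩
  have hk : (Fin.castLE hc k) ∈ {i : Fin n | (i : ℕ) < c} := by simp
  have := hg _ hk
  simp only [Equiv.trans_apply, Equiv.subtypeUnivEquiv_apply, this, f]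
  rw [dif_pos (by simp)]
  congr 1

section

variable {R A : Type u} [CommRing R] [CommRing A] [Algebra R A]

theorem rename_symm_rename {n : ℕ} (σ : Equiv.Perm (Fin n)) (x : MvPolynomial (Fin n) R) :
    rename σ.symm (rename σ x) = x := by
  rw [rename_rename]
  simp

theorem rename_rename_symm {n : ℕ} (σ : Equiv.Perm (Fin n)) (x : MvPolynomial (Fin n) R) :
    rename σ (rename σ.symm x) = x := by
  rw [rename_rename]
  simp

/-- The marked presentation obtained by permuting variables and relations. -/
noncomputable def permPres {n m c : ℕ} (hcn : c ≤ n) (hcm : c ≤ m)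
    (f : Fin m → MvPolynomial (Fin n) R) (φ : MvPolynomial (Fin n) R →ₐ[R] A)
    (hφ : Function.Surjective φ) (hker : RingHom.ker φ.toRingHom = Ideal.span (Set.range f))
    (σ : Equiv.Perm (Fin n)) (τ : Equiv.Perm (Fin m)) : MarkedPresentation R A where
  n := n
  m := m
  c := c
  hcn := hcn
  hcm := hcm
  rel := fun j => rename σ.symm (f (τ j))
  hom := φ.comp (rename σ)
  surj := by
    intro y
    obtain ⟨x, rfl⟩ := hφ y
    exact ⟨rename σ.symm x, by simp⟩
  ker_eq := by
    ext x
    have h1 : x ∈ RingHom.ker (φ.comp (rename σ)).toRingHom ↔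
        rename σ x ∈ Ideal.span (Set.range f) := by
      rw [← hker, RingHom.mem_ker, RingHom.mem_ker]
      rfl
    rw [h1]
    constructor
    · intro h
      have := Ideal.mem_map_of_mem (rename σ.symm : MvPolynomial (Fin n) R →ₐ[R] _).toRingHom h
      rw [Ideal.map_span] at this
      have e : (rename σ.symm : MvPolynomial (Fin n) R →ₐ[R] _).toRingHom (rename σ x) = x :=
        rename_symm_rename σ x
      rw [e] at this
      refine Ideal.span_mono ?_ this
      rintro _ ⟨_, ⟨j, rfl⟩, rfl⟩
      exact ⟨τ.symm j, by simp⟩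
    · intro h
      have := Ideal.mem_map_of_mem (rename σ : MvPolynomial (Fin n) R →ₐ[R] _).toRingHom h
      rw [Ideal.map_span] at this
      refine Ideal.span_mono ?_ this
      rintro _ ⟨_, ⟨j, rfl⟩, rfl⟩
      exact ⟨τ j, (rename_rename_symm σ _).symm⟩

theorem exists_isElementaryStandard_of_isSmoothAt [Algebra.FinitePresentation R A]
    (q : Ideal A) [q.IsPrime] [Algebra.IsSmoothAt R q] :
    ∃ a : A, a ∉ q ∧ IsElementaryStandard R A a := by
  classical
  obtain ⟨n, φ, hφ, hfg⟩ := Algebra.FinitePresentation.out (R := R) (A := A)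
  obtain ⟨S, hS⟩ := hfg
  let f : Fin S.card → MvPolynomial (Fin n) R := fun j => (S.equivFin.symm j : MvPolynomial (Fin n) R)
  have hrange : Set.range f = (S : Set (MvPolynomial (Fin n) R)) := by
    ext x
    constructor
    · rintro ⟨j, rfl⟩
      exact (S.equivFin.symm j).2
    · intro hx
      exact ⟨S.equivFin ⟨x, hx⟩, by simp [f]⟩
  have hker : RingHom.ker φ.toRingHom = Ideal.span (Set.range f) := by
    rw [hrange, hS]
  obtain ⟨a, haq, c, rows, cols, a', haa', hkill⟩ := Groth.Agent.S2108.result f φ hφ hker q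
  have hcn : c ≤ n := by simpa using Fintype.card_le_of_embedding cols
  have hcm : c ≤ S.card := by simpa using Fintype.card_le_of_embedding rows
  obtain ⟨σ, hσ⟩ := exists_perm_extend hcn cols
  obtain ⟨τ, hτ⟩ := exists_perm_extend hcm rows
  refine ⟨a, haq, permPres hcn hcm f φ hφ hker σ τ, ⟨a', ?_⟩, ?_⟩
  · rw [haa']
    congr 1
    show φ (Smoothing.jacobianMinor f rows cols) =
      φ (rename σ (Smoothing.jacobianMinor (fun j => rename σ.symm (f (τ j)))
        (Fin.castLE hcm) (Fin.castLE hcn)))
    congr 1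
    have : Smoothing.jacobianMinor (fun j => rename σ.symm (f (τ j)))
        (Fin.castLE hcm) (Fin.castLE hcn) =
        rename σ.symm (Smoothing.jacobianMinor f rows cols) := by
      unfold Smoothing.jacobianMinor
      rw [AlgHom.map_det]
      congr 1
      ext j k
      simp only [Matrix.of_apply, AlgHom.mapMatrix_apply, Matrix.map_apply, hτ]
      have hk : Fin.castLE hcn k = σ.symm (cols k) := by
        rw [← hσ k, Equiv.symm_apply_apply]
      rw [hk, pderiv_rename σ.symm.injective]
    rw [this, rename_rename_symm]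
  · show ∀ a'' : MvPolynomial (Fin n) R, (φ.comp (rename σ)) a'' = a →
        ∀ j : Fin S.card, c ≤ (j : ℕ) → a'' * rename σ.symm (f (τ j)) ∈
          Ideal.span ((fun j => rename σ.symm (f (τ j))) '' {j' : Fin S.card | (j' : ℕ) < c}) ⊔
            Ideal.span (Set.range fun j => rename σ.symm (f (τ j))) ^ 2
    intro a'' ha'' j hj
    have h1 := hkill (rename σ a'') ha'' (τ j)
    have h2 := Ideal.mem_map_of_mem (rename σ.symm : MvPolynomial (Fin n) R →ₐ[R] _).toRingHom h1
    rw [Ideal.map_sup, Ideal.map_pow, Ideal.map_span, Ideal.map_span] at h2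
    have e : (rename σ.symm : MvPolynomial (Fin n) R →ₐ[R] _).toRingHom
        (rename σ a'' * f (τ j)) = a'' * rename σ.symm (f (τ j)) := by
      show rename σ.symm (rename σ a'' * f (τ j)) = _
      rw [map_mul, rename_symm_rename]
    rw [e] at h2
    have hle : ∀ {I₁ I₂ J₁ J₂ : Ideal (MvPolynomial (Fin n) R)}, I₁ ≤ I₂ → J₁ ≤ J₂ →
        I₁ ⊔ J₁ ^ 2 ≤ I₂ ⊔ J₂ ^ 2 := fun h h' => sup_le_sup h (Ideal.pow_right_mono h' 2)
    refine hle (Ideal.span_mono ?_) (Ideal.span_mono ?_) h2
    · rintro _ ⟨_, ⟨k, rfl⟩, rfl⟩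
      refine ⟨Fin.castLE hcm k, by simp, ?_⟩
      show rename σ.symm (f (τ (Fin.castLE hcm k))) = rename σ.symm (f (rows k))
      rw [hτ]
    · rintro _ ⟨_, ⟨i, rfl⟩, rfl⟩
      exact ⟨τ.symm i, by simp⟩

theorem isStrictlyStandard_of_isElementaryStandard {a : A} (ha : IsElementaryStandard R A a) :
    IsStrictlyStandard R A a := by
  obtain ⟨P, ⟨a', ha'⟩, hk⟩ := ha
  refine ⟨P, ?_, hk⟩
  rw [ha']
  exact Ideal.mul_mem_left _ _ (Ideal.subset_span ⟨Fin.castLE P.hcn, rfl⟩)

theorem mem_singularIdeal_of_isStrictlyStandard [Algebra.FinitePresentation R A] {a : A}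
    (ha : IsStrictlyStandard R A a) : a ∈ singularIdeal R A := by
  classical
  rw [singularIdeal, PrimeSpectrum.mem_vanishingIdeal]
  intro q hq
  by_contra haq
  obtain ⟨P, hmem, hkill⟩ := ha
  -- some minor is not in q
  have hex : ∃ cols : Fin P.c → Fin P.n,
      P.hom (jacobianMinor P.rel (Fin.castLE P.hcm) cols) ∉ q.asIdeal := by
    by_contra hcon
    push Not at hcon
    apply haq
    refine (Ideal.span_le.2 ?_) hmem
    rintro _ ⟨cols, rfl⟩
    exact hcon cols
  obtain ⟨cols, hcols⟩ := hex
  have hinj : Function.Injective cols := by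
    intro k₁ k₂ h12
    by_contra hne
    apply hcols
    have : jacobianMinor P.rel (Fin.castLE P.hcm) cols = 0 := by
      unfold jacobianMinor
      apply Matrix.det_zero_of_column_eq hne
      intro j
      simp [h12]
    rw [this, map_zero]
    exact Ideal.zero_mem _
  obtain ⟨a₀, ha₀⟩ := P.surj a
  have hb : a * P.hom (jacobianMinor P.rel (Fin.castLE P.hcm) cols) ∉ q.asIdeal := fun h =>
    (q.2.mem_or_mem h).elim haq hcols
  have hJI : ∀ x ∈ Ideal.span (Set.range fun j : Fin P.c => P.rel (Fin.castLE P.hcm j)),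
      x ∈ Ideal.span (Set.range P.rel) := by
    intro x hx
    refine (Ideal.span_mono ?_) hx
    rintro _ ⟨j, rfl⟩
    exact ⟨_, rfl⟩
  have hv : ∀ x ∈ Ideal.span (Set.range fun j : Fin P.c => P.rel (Fin.castLE P.hcm j)),
      P.hom x = 0 := by
    intro x hx
    have := hJI x hx
    rw [← P.ker_eq] at this
    exact RingHom.mem_ker.mp this
  have hsm : Algebra.IsStandardSmooth R
      (Localization.Away (a * P.hom (jacobianMinor P.rel (Fin.castLE P.hcm) cols))) := by
    refine Groth.Agent.S2032.core
      (S := Localization.Away (a * P.hom (jacobianMinor P.rel (Fin.castLE P.hcm) cols)))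
      (fun j : Fin P.c => P.rel (Fin.castLE P.hcm j)) P.hom hv P.surj
      (a * P.hom (jacobianMinor P.rel (Fin.castLE P.hcm) cols)) a cols hinj rfl
      (Ideal.span (Set.range P.rel)) P.ker_eq (Submodule.fg_span (Set.finite_range P.rel))
      (a₀ * jacobianMinor P.rel (Fin.castLE P.hcm) cols) (by rw [map_mul, ha₀]) ?_
    intro y hy
    refine Submodule.span_induction (p := fun y _ =>
      (a₀ * jacobianMinor P.rel (Fin.castLE P.hcm) cols) * y ∈
      Ideal.span (Set.range fun j : Fin P.c => P.rel (Fin.castLE P.hcm j)) ⊔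
        Ideal.span (Set.range P.rel) ^ 2) ?_ ?_ ?_ ?_ hy
    · rintro _ ⟨j, rfl⟩
      by_cases hj : (j : ℕ) < P.c
      · refine Ideal.mem_sup_left (Ideal.mul_mem_left _ _ (Ideal.subset_span ⟨⟨j, hj⟩, ?_⟩))
        congr 1
      · have := hkill a₀ ha₀ j (not_lt.mp hj)
        have hle : Ideal.span (P.rel '' {j' : Fin P.m | (j' : ℕ) < P.c}) ⊔
            Ideal.span (Set.range P.rel) ^ 2 ≤
            Ideal.span (Set.range fun j : Fin P.c => P.rel (Fin.castLE P.hcm j)) ⊔
              Ideal.span (Set.range P.rel) ^ 2 := by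
          refine sup_le_sup_right (Ideal.span_mono ?_) _
          rintro _ ⟨j', hj', rfl⟩
          exact ⟨⟨j', hj'⟩, by congr 1⟩
        have h3 := hle this
        have e : a₀ * jacobianMinor P.rel (Fin.castLE P.hcm) cols * P.rel j =
            jacobianMinor P.rel (Fin.castLE P.hcm) cols * (a₀ * P.rel j) := by ring
        rw [e]
        exact Ideal.mul_mem_left _ _ h3
    · rw [mul_zero]; exact Submodule.zero_mem _
    · intro x y _ _ hx hy
      rw [mul_add]; exact Submodule.add_mem _ hx hy
    · intro r x _ hx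
      rw [smul_eq_mul, mul_left_comm]
      exact Ideal.mul_mem_left _ _ hx
  have hsm' : Algebra.Smooth R
      (Localization.Away (a * P.hom (jacobianMinor P.rel (Fin.castLE P.hcm) cols))) :=
    inferInstance
  have hsub := Algebra.basicOpen_subset_smoothLocus_iff_smooth.2 hsm'
  exact hq (hsub hb)

theorem main [Algebra.FinitePresentation R A] :
    singularIdeal R A = (Ideal.span {a : A | IsStrictlyStandard R A a}).radical ∧
      singularIdeal R A = (Ideal.span {a : A | IsElementaryStandard R A a}).radical := by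
  have h1 : (Ideal.span {a : A | IsElementaryStandard R A a}).radical ≤
      (Ideal.span {a : A | IsStrictlyStandard R A a}).radical :=
    Ideal.radical_mono (Ideal.span_mono fun a ha => isStrictlyStandard_of_isElementaryStandard ha)
  have hrad : (singularIdeal R A).IsRadical := PrimeSpectrum.isRadical_vanishingIdeal _
  have h2 : (Ideal.span {a : A | IsStrictlyStandard R A a}).radical ≤ singularIdeal R A := by
    rw [← hrad.radical]
    exact Ideal.radical_mono (Ideal.span_le.2 fun a ha => mem_singularIdeal_of_isStrictlyStandard ha)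
  have h3 : singularIdeal R A ≤ (Ideal.span {a : A | IsElementaryStandard R A a}).radical := by
    rw [Ideal.radical_eq_sInf]
    refine le_sInf ?_
    rintro q ⟨hqE, hqp⟩
    by_cases hq : (⟨q, hqp⟩ : PrimeSpectrum A) ∈ Algebra.smoothLocus R A
    · exfalso
      haveI := hqp
      haveI : Algebra.IsSmoothAt R q := hq
      obtain ⟨a, haq, ha⟩ := exists_isElementaryStandard_of_isSmoothAt (R := R) q
      exact haq (hqE (Ideal.subset_span ha))
    · intro x hx
      rw [singularIdeal, PrimeSpectrum.mem_vanishingIdeal] at hx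
      exact hx ⟨q, hqp⟩ hq
  exact ⟨le_antisymm (h3.trans h1) h2, le_antisymm h3 (h1.trans h2)⟩

end

end Groth.Agent.Lib.helper10.SingIdeal
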