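import Mathlib
import Groth.Agent.S0299
import Groth.Agent.S0300
import Groth.Agent.S0303
import Groth.Agent.S0305

/-!
# Injective modules over Noetherian rings are direct sums of indecomposable injectives
-/

namespace Groth.Agent.Lib.helper10.InjDecomp

universe u

variable (R : Type u) [CommRing R] [IsNoetherianRing R]
variable (I : Type u) [AddCommGroup I] [Module R I]

/-- Inside an injective module, over every nonzero submodule `C` there is an indecomposable
injective submodule `E` meeting trivially everything that `C` meets trivially. -/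
theorem exists_indecomposable (hI : Module.Injective R I) (C : Submodule R I) (hC : C ≠ ⊥) :
    ∃ E : Submodule R I, E ≠ ⊥ ∧ InjHull.IsIndecomposable R E ∧ Module.Injective R E ∧
      ∀ W : Submodule R I, Disjoint C W → Disjoint E W := by
  classical
  haveI := hI
  haveI : Nontrivial C := Submodule.nontrivial_iff_ne_bot.2 hC
  obtain ⟨p, hp⟩ := associatedPrimes.nonempty R C
  obtain ⟨hprime, y', hy'⟩ := isAssociatedPrime_iff.1 hp
  haveI := hprime
  set y : I := (y' : I) with hydef
  have hmem : ∀ r : R, r ∈ p ↔ r • y = 0 := by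
    intro r
    rw [hy', Submodule.mem_colon_singleton, Submodule.mem_bot, ← Submodule.coe_eq_zero,
      Submodule.coe_smul]
  have hy0 : y ≠ 0 := by
    intro h
    apply hprime.ne_top
    rw [Ideal.eq_top_iff_one, hmem, h, smul_zero]
  let i : (R ⧸ p) →ₗ[R] I := Submodule.liftQ p (LinearMap.toSpanSingleton R I y) (fun r hr => by
    rw [LinearMap.mem_ker, LinearMap.toSpanSingleton_apply]; exact (hmem r).1 hr)
  have himk : ∀ r : R, i (Ideal.Quotient.mk p r) = r • y := by
    intro r
    show i (Submodule.Quotient.mk r) = r • y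
    rw [Submodule.liftQ_apply, LinearMap.toSpanSingleton_apply]
  have hiinj : Function.Injective i := by
    rw [← LinearMap.ker_eq_bot, LinearMap.ker_eq_bot']
    intro a ha
    obtain ⟨r, rfl⟩ := Ideal.Quotient.mk_surjective a
    rw [himk] at ha
    exact Ideal.Quotient.eq_zero_iff_mem.2 ((hmem r).2 ha)
  obtain ⟨E', f, hf, hfi⟩ := Groth.Agent.S0299.exists_injectiveHull_in R (R ⧸ p) I i hiinj
  have hindec := (Groth.Agent.S0305.result R p E' f hf).1
  refine ⟨E', ?_, hindec, hf.isInjective, ?_⟩
  · haveI := hindec.1
    exact Submodule.nontrivial_iff_ne_bot.1 inferInstance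
  · intro W hCW
    rw [Submodule.disjoint_def] at hCW ⊢
    intro z hzE hzW
    by_contra hz0
    -- the submodule of `E'` generated by `z`
    let N : Submodule R E' := Submodule.span R {⟨z, hzE⟩}
    have hN : N ≠ ⊥ := by
      intro h
      have : (⟨z, hzE⟩ : E') ∈ N := Submodule.subset_span rfl
      rw [h, Submodule.mem_bot] at this
      exact hz0 (congrArg Subtype.val this)
    have hess := hf.essential N hN
    obtain ⟨w, hw, hw0⟩ := Submodule.exists_mem_ne_zero_of_ne_bot hess
    obtain ⟨hwN, ⟨a, ha⟩⟩ := hw
    obtain ⟨c, hc⟩ := Submodule.mem_span_singleton.1 hwN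
    obtain ⟨r, rfl⟩ := Ideal.Quotient.mk_surjective a
    have h1 : (w : I) = r • y := by rw [← ha, hfi, himk]
    have h2 : (w : I) = c • z := by rw [← hc]; rfl
    have h3 : (w : I) ∈ C := by rw [h1]; exact C.smul_mem r y'.2
    have h4 : (w : I) ∈ W := by rw [h2]; exact W.smul_mem c hzW
    exact hw0 (Subtype.ext (hCW _ h3 h4))

open Classical in
theorem main (hI : Module.Injective R I) :
    ∃ (ι : Type u) (E : ι → Submodule R I), DirectSum.IsInternal E ∧
      ∀ i, InjHull.IsIndecomposable R ↥(E i) ∧ Module.Injective R ↥(E i) := by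
  classical
  haveI := hI
  have zorn := zorn_subset
    (S := {s : Set (Submodule R I) | sSupIndep s ∧
      ∀ E ∈ s, InjHull.IsIndecomposable R ↥E ∧ Module.Injective R ↥E})
    fun c hc1 hc2 =>
      ⟨⋃₀ c,
        ⟨iSupIndep_sUnion_of_directed hc2.directedOn fun s hs => (hc1 hs).1,
          fun a ⟨s, sc, as⟩ => (hc1 sc).2 a as⟩,
        fun _ => Set.subset_sUnion_of_mem⟩
  simp_rw [maximal_subset_iff] at zorn
  obtain ⟨s, ⟨s_ind, s_prop⟩, s_max⟩ := zorn
  -- the family
  let E : s → Submodule R I := fun i => i.1
  have hEind : iSupIndep E := (sSupIndep_iff s).1 s_ind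
  have hinjE : ∀ i : s, Module.Injective R ↥(E i) := fun i => (s_prop i.1 i.2).2
  have hD : Module.Injective R (DirectSum s fun i => ↥(E i)) :=
    Groth.Agent.S0300.result R (fun i : s => ↥(E i)) hinjE
  let φ : (DirectSum s fun i => ↥(E i)) →ₗ[R] I := DirectSum.coeLinearMap E
  have hφ : Function.Injective φ := hEind.dfinsupp_lsum_injective
  have hrange : LinearMap.range φ = sSup s := by
    rw [sSup_eq_iSup']
    exact (Submodule.iSup_eq_range_dfinsupp_lsum E).symm
  obtain ⟨r, hr⟩ := Module.Injective.extension_property R _ _ _ φ hφ LinearMap.id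
  have hcompl := Groth.Agent.S0303.isCompl_range_ker_of_leftInverse φ r hr
  have htop : sSup s = ⊤ := by
    by_contra hne
    have hC : LinearMap.ker r ≠ ⊥ := by
      intro h
      rw [h] at hcompl
      apply hne
      rw [← hrange]
      exact eq_top_of_isCompl_bot hcompl
    obtain ⟨E₀, hE0, hindec, hinj0, hdisj⟩ := exists_indecomposable R I hI _ hC
    have hd : Disjoint E₀ (sSup s) := by
      rw [← hrange]
      exact hdisj _ hcompl.disjoint.symm
    have hnot : E₀ ∉ s := by
      intro hmem
      apply hE0
      have : E₀ ≤ sSup s := le_sSup hmem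
      exact le_bot_iff.1 (hd le_rfl this)
    have key : s ∪ {E₀} ∈ {s : Set (Submodule R I) | sSupIndep s ∧
        ∀ E ∈ s, InjHull.IsIndecomposable R ↥E ∧ Module.Injective R ↥E} := by
      refine ⟨fun x hx => ?_, fun x hx => ?_⟩
      · rw [Set.mem_union, Set.mem_singleton_iff] at hx
        obtain rfl | xa := eq_or_ne x E₀
        · simp only [Set.mem_singleton, Set.insert_sdiff_of_mem, Set.union_singleton]
          exact hd.mono_right (sSup_le_sSup Set.diff_subset)
        · have h : (s ∪ {E₀}) \ {x} = s \ {x} ∪ {E₀} := by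
            simp only [Set.union_singleton]
            rw [Set.insert_sdiff_of_notMem]
            rw [Set.mem_singleton_iff]
            exact Ne.symm xa
          rw [h, sSup_union, sSup_singleton]
          apply (s_ind (hx.resolve_right xa)).disjoint_sup_right_of_disjoint_sup_left
            (hd.mono_right _).symm
          rw [← sSup_insert, Set.insert_sdiff_singleton, Set.insert_eq_of_mem (hx.resolve_right xa)]
      · rw [Set.mem_union, Set.mem_singleton_iff] at hx
        obtain hx | rfl := hx
        · exact s_prop x hx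
        · exact ⟨hindec, hinj0⟩
    have := s_max key Set.subset_union_left
    apply hnot
    rw [this]
    exact Set.mem_union_right _ (Set.mem_singleton _)
  have htop' : iSup E = ⊤ := by rw [← htop, sSup_eq_iSup']
  refine ⟨s, E, ?_, fun i => s_prop i.1 i.2⟩
  convert DirectSum.isInternal_submodule_of_iSupIndep_of_iSup_eq_top hEind htop'

end Groth.Agent.Lib.helper10.InjDecomp
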