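import Mathlib

/-!
# Prime avoidance for cosets (Davis)
-/

set_option autoImplicit false

namespace Groth.Agent.Lib.helper10.VascA

/-- **Coset prime avoidance**: if an ideal `J` is contained in none of finitely many primes, then
every coset `x₀ + J` contains an element lying in none of them. -/
theorem exists_add_notMem {R : Type*} [CommRing R] (x₀ : R) (J : Ideal R) :
    ∀ (s : Finset (Ideal R)), (∀ q ∈ s, q.IsPrime) → (∀ q ∈ s, ¬ J ≤ q) →
      ∃ j ∈ J, ∀ q ∈ s, x₀ + j ∉ q := by
  classical
  intro s
  induction s using Finset.strongInduction with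
  | H s ih =>
    intro hp hJ
    rcases s.eq_empty_or_nonempty with rfl | hne
    · exact ⟨0, J.zero_mem, by simp⟩
    · obtain ⟨p, hpmin⟩ := s.exists_minimal hne
      have hps : p ∈ s := hpmin.1
      haveI := hp p hps
      obtain ⟨j', hj'J, hj'⟩ := ih (s.erase p) (Finset.erase_ssubset hps)
        (fun q hq => hp q (Finset.mem_of_mem_erase hq))
        (fun q hq => hJ q (Finset.mem_of_mem_erase hq))
      by_cases hmem : x₀ + j' ∈ p
      · -- need to correct
        have hnle : ¬ (J * ∏ q ∈ s.erase p, q) ≤ p := by
          intro hle
          rcases (Ideal.IsPrime.mul_le inferInstance).mp hle with h1 | h1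
          · exact hJ p hps h1
          · obtain ⟨q, hq, hqp⟩ := (Ideal.IsPrime.prod_le inferInstance).mp h1
            have hqs : q ∈ s := Finset.mem_of_mem_erase hq
            have : p ≤ q := hpmin.2 hqs hqp
            exact (Finset.ne_of_mem_erase hq) (le_antisymm hqp this)
        obtain ⟨j'', hj''mem, hj''p⟩ : ∃ j'' ∈ J * ∏ q ∈ s.erase p, q, j'' ∉ p := by
          by_contra hcon
          push Not at hcon
          exact hnle (fun x hx => hcon x hx)
        have hj''J : j'' ∈ J := Ideal.mul_le_left hj''mem
        have hj''q : ∀ q ∈ s.erase p, j'' ∈ q := by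
          intro q hq
          have h1 : j'' ∈ ∏ q ∈ s.erase p, q := Ideal.mul_le_right hj''mem
          exact Ideal.prod_le_inf.trans (Finset.inf_le hq) h1
        refine ⟨j' + j'', J.add_mem hj'J hj''J, fun q hq => ?_⟩
        by_cases hqp : q = p
        · subst hqp
          intro h
          apply hj''p
          have : j'' = (x₀ + (j' + j'')) - (x₀ + j') := by ring
          rw [this]
          exact Ideal.sub_mem _ h hmem
        · have hq' : q ∈ s.erase p := Finset.mem_erase.mpr ⟨hqp, hq⟩
          intro h
          apply hj' q hq'
          have : x₀ + j' = (x₀ + (j' + j'')) - j'' := by ring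
          rw [this]
          exact Ideal.sub_mem _ h (hj''q q hq')
      · refine ⟨j', hj'J, fun q hq => ?_⟩
        by_cases hqp : q = p
        · subst hqp; exact hmem
        · exact hj' q (Finset.mem_erase.mpr ⟨hqp, hq⟩)

end Groth.Agent.Lib.helper10.VascA
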