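import Mathlib
import Groth.Agent.Lib.helper11.MinimalPres
import Groth.Agent.Lib.helper11.LocalizedPD
import Groth.Agent.Lib.helper10.VascA

/-!
# Ideals of finite projective dimension in a Noetherian local ring contain nonzerodivisors
-/

set_option autoImplicit false

namespace Groth.Agent.Lib.helper10.VascB

open CategoryTheory IsLocalRing

universe u

section Witness

variable {R : Type u} [CommRing R]

/-- at a prime which is the annihilator of `y`, the image of `y` is a nonzero element killed by
the maximal ideal of the localization -/
theorem witness (q : Ideal R) [q.IsPrime] (y : R) (hy : ∀ r, r ∈ q ↔ r * y = 0) :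
    algebraMap R (Localization.AtPrime q) y ≠ 0 ∧
    ∀ t ∈ maximalIdeal (Localization.AtPrime q), algebraMap R (Localization.AtPrime q) y * t = 0 := by
  constructor
  · intro h0
    rw [IsLocalization.map_eq_zero_iff q.primeCompl] at h0
    obtain ⟨s, hs⟩ := h0
    exact s.2 ((hy s.1).mpr hs)
  · intro t ht
    obtain ⟨a, s, rfl⟩ := IsLocalization.exists_mk'_eq q.primeCompl t
    rw [IsLocalization.AtPrime.mk'_mem_maximal_iff (Localization.AtPrime q) q] at ht
    have h1 : a * y = 0 := (hy a).mp ht
    rw [← IsLocalization.mk'_one (M := q.primeCompl) (Localization.AtPrime q) y,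
      ← IsLocalization.mk'_mul, mul_comm y a, h1, IsLocalization.mk'_zero]

end Witness

variable {R : Type u} [CommRing R] [IsNoetherianRing R] [IsLocalRing R]

omit [IsLocalRing R] in
/-- freeness of the localization at a depth-zero prime -/
theorem free_localized (n : ℕ) (M : Type u) [AddCommGroup M] [Module R M] [Module.Finite R M]
    (h : HasProjectiveDimensionLT (ModuleCat.of R M) (n + 1))
    (q : Ideal R) [q.IsPrime] (y : R) (hy : ∀ r, r ∈ q ↔ r * y = 0) :
    Module.Free (Localization.AtPrime q) (LocalizedModule q.primeCompl M) := by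
  obtain ⟨h1, h2⟩ := witness q y hy
  have h3 : HasProjectiveDimensionLT
      (ModuleCat.of (Localization.AtPrime q) (LocalizedModule q.primeCompl M)) (n + 1) :=
    Groth.Agent.Lib.helper11.LocalizedPD.hasProjectiveDimensionLE_localizedModule
      q.primeCompl M n h
  exact Groth.Agent.Lib.helper11.MinimalPres.free_of_hasProjectiveDimensionLT_of_depth_zero
    (R := Localization.AtPrime q) _ h1 h2 (n + 1) (LocalizedModule q.primeCompl M) h3

/-- the rank of a module of finite projective dimension is the same at all depth-zero primes -/
theorem exists_rank (n : ℕ) : ∀ (M : Type u) [AddCommGroup M] [Module R M] [Module.Finite R M],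
    HasProjectiveDimensionLT (ModuleCat.of R M) (n + 1) →
    ∃ χ : ℕ, ∀ (q : Ideal R) [q.IsPrime] (y : R), (∀ r, r ∈ q ↔ r * y = 0) →
      Module.finrank (Localization.AtPrime q) (LocalizedModule q.primeCompl M) = χ := by
  induction n with
  | zero =>
    intro M _ _ _ h
    rw [zero_add, ← projective_iff_hasProjectiveDimensionLT_one,
      ← IsProjective.iff_projective] at h
    haveI : Module.Flat R M := Module.Flat.of_projective
    haveI : Module.Free R M := Module.free_of_flat_of_isLocalRing
    refine ⟨Module.finrank R M, fun q _ y hy => ?_⟩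
    exact Module.finrank_of_isLocalizedModule_of_free (Localization.AtPrime q) q.primeCompl
      (LocalizedModule.mkLinearMap q.primeCompl M)
  | succ n ih =>
    intro M _ _ _ h
    obtain ⟨m, f, hf⟩ := Module.Finite.exists_fin' R M
    let S := f.shortComplexKer
    have hS : S.ShortExact := LinearMap.shortExact_shortComplexKer hf
    have proj : Projective S.X₂ := ModuleCat.projective_of_categoryTheory_projective S.X₂
    have hK : HasProjectiveDimensionLT (ModuleCat.of R (LinearMap.ker f)) (n + 1) :=
      (hS.hasProjectiveDimensionLT_X₃_iff n proj).mp h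
    obtain ⟨χK, hχK⟩ := ih (LinearMap.ker f) hK
    refine ⟨m - χK, fun q _ y hy => ?_⟩
    haveI := free_localized (n + 1) M h q y hy
    haveI := free_localized n (LinearMap.ker f) hK q y hy
    have hK' := hχK q y hy
    -- the localized exact sequence
    let i := LocalizedModule.map q.primeCompl (LinearMap.ker f).subtype
    let g := LocalizedModule.map q.primeCompl f
    have hi : Function.Injective i :=
      LocalizedModule.map_injective _ _ (LinearMap.ker f).injective_subtype
    have hg : Function.Surjective g := LocalizedModule.map_surjective _ _ hf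
    have hex : Function.Exact i g := by
      intro z
      exact LocalizedModule.map_exact q.primeCompl (LinearMap.ker f).subtype f
        (LinearMap.exact_subtype_ker_map f) z
    obtain ⟨l, hl⟩ := Module.projective_lifting_property g LinearMap.id hg
    have hsplit := Function.Exact.splitSurjectiveEquiv
      (M := LocalizedModule q.primeCompl (LinearMap.ker f))
      (N := LocalizedModule q.primeCompl (Fin m → R))
      (P := LocalizedModule q.primeCompl M) (f := i) (g := g) hex hi
    let e := (hsplit ⟨l, hl⟩).1
    have h1 : Module.finrank (Localization.AtPrime q)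
        (LocalizedModule q.primeCompl (Fin m → R)) =
        χK + Module.finrank (Localization.AtPrime q) (LocalizedModule q.primeCompl M) := by
      have h0 := LinearEquiv.finrank_eq e
      rw [Module.finrank_prod, hK'] at h0
      exact h0
    have h2 : Module.finrank (Localization.AtPrime q) (LocalizedModule q.primeCompl (Fin m → R)) =
        m := by
      rw [Module.finrank_of_isLocalizedModule_of_free (Localization.AtPrime q) q.primeCompl
        (LocalizedModule.mkLinearMap q.primeCompl (Fin m → R))]
      simp
    omega

/-- **Key**: a nonzero ideal of finite projective dimension is contained in no associated prime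
of the ring. -/
theorem not_le_of_hasProjectiveDimensionLT (I : Ideal R) (hI : I ≠ ⊥) (n : ℕ)
    (hpd : HasProjectiveDimensionLT (ModuleCat.of R I) n)
    (q : Ideal R) [q.IsPrime] (y : R) (hy : ∀ r, r ∈ q ↔ r * y = 0) : ¬ I ≤ q := by
  have hpd' : HasProjectiveDimensionLT (ModuleCat.of R I) (n + 1) :=
    hasProjectiveDimensionLT_of_ge _ n (n + 1) (Nat.le_succ n)
  obtain ⟨χ, hχ⟩ := exists_rank n I hpd'
  -- the rank is positive
  have hpos : χ ≠ 0 := by
    intro h0
    obtain ⟨z, hzI, hz0⟩ := Submodule.exists_mem_ne_zero_of_ne_bot hI
    obtain ⟨P, hP, hle⟩ := exists_le_isAssociatedPrime_of_isNoetherianRing R z hz0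
    rw [isAssociatedPrime_iff] at hP
    obtain ⟨hPp, y', hy'⟩ := hP
    haveI := hPp
    have hy'' : ∀ r, r ∈ P ↔ r * y' = 0 := by
      intro r
      rw [hy', Submodule.mem_colon_singleton, Submodule.mem_bot, smul_eq_mul]
    haveI := free_localized n I hpd' P y' hy''
    have h1 := hχ P y' hy''
    rw [h0, Module.finrank_eq_zero_iff_of_free] at h1
    have h2 : LocalizedModule.mk (⟨z, hzI⟩ : I) (1 : P.primeCompl) = 0 := Subsingleton.elim _ _
    rw [← LocalizedModule.zero_mk 1, LocalizedModule.mk_eq] at h2
    obtain ⟨u, hu⟩ := h2
    simp only [one_smul, smul_zero] at hu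
    have h3 : (u : R) * z = 0 := by
      have := congrArg Subtype.val hu
      rw [Submonoid.smul_def, Submodule.coe_smul, smul_eq_mul, Submodule.coe_zero] at this
      exact this
    apply u.2
    apply hle
    rw [Submodule.mem_colon_singleton, Submodule.mem_bot, smul_eq_mul]
    exact h3
  intro hle
  haveI := free_localized n I hpd' q y hy
  have h1 := hχ q y hy
  obtain ⟨w1, w2⟩ := witness q y hy
  let b := Module.Free.chooseBasis (Localization.AtPrime q) (LocalizedModule q.primeCompl I)
  haveI : Nonempty (Module.Free.ChooseBasisIndex (Localization.AtPrime q)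
      (LocalizedModule q.primeCompl I)) := by
    by_contra hempty
    rw [not_nonempty_iff] at hempty
    apply hpos
    rw [← h1, Module.finrank_eq_card_chooseBasisIndex]
    exact Fintype.card_eq_zero
  obtain ⟨i0⟩ := ‹Nonempty _›
  -- `y` kills the localization of `I`
  have hkill : ∀ x : LocalizedModule q.primeCompl I,
      (algebraMap R (Localization.AtPrime q) y) • x = 0 := by
    intro x
    induction x using LocalizedModule.induction_on with
    | h z s =>
      rw [algebraMap_smul, LocalizedModule.smul'_mk]
      have : y • z = 0 := by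
        apply Subtype.ext
        rw [Submodule.coe_smul, smul_eq_mul, Submodule.coe_zero, mul_comm]
        exact (hy z.1).mp (hle z.2)
      rw [this, LocalizedModule.zero_mk]
  apply w1
  have h2 := congrArg (fun v => b.repr v i0) (hkill (b i0))
  simp only [map_smul, Module.Basis.repr_self, Finsupp.smul_apply, Finsupp.single_eq_same,
    smul_eq_mul, mul_one, map_zero, Finsupp.coe_zero, Pi.zero_apply] at h2
  exact h2

/-- a coset of `I ^ 2` contains a nonzerodivisor -/
theorem exists_add_mem_nonZeroDivisors (I : Ideal R) (hI : I ≠ ⊥) (n : ℕ)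
    (hpd : HasProjectiveDimensionLT (ModuleCat.of R I) n) (x₀ : R) :
    ∃ j ∈ I ^ 2, x₀ + j ∈ nonZeroDivisors R := by
  classical
  have hfin := associatedPrimes.finite R R
  obtain ⟨j, hj, hjq⟩ := Groth.Agent.Lib.helper10.VascA.exists_add_notMem x₀ (I ^ 2)
    hfin.toFinset
    (fun q hq => ((Set.Finite.mem_toFinset hfin).mp hq).isPrime)
    (fun q hq hle => by
      have hq' := (Set.Finite.mem_toFinset hfin).mp hq
      rw [AssociatedPrimes.mem_iff, isAssociatedPrime_iff] at hq'
      obtain ⟨hqp, y, hy⟩ := hq'
      haveI := hqp
      refine not_le_of_hasProjectiveDimensionLT I hI n hpd q y (fun r => ?_)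
        (hqp.le_of_pow_le hle)
      rw [hy, Submodule.mem_colon_singleton, Submodule.mem_bot, smul_eq_mul])
  refine ⟨j, hj, ?_⟩
  by_contra hcon
  have h1 : x₀ + j ∈ (nonZeroDivisors R : Set R)ᶜ := hcon
  rw [← biUnion_associatedPrimes_eq_compl_nonZeroDivisors] at h1
  simp only [Set.mem_iUnion] at h1
  obtain ⟨q, hq, hmem⟩ := h1
  exact hjq q ((Set.Finite.mem_toFinset hfin).mpr hq) hmem

end Groth.Agent.Lib.helper10.VascB
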