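import Mathlib
import Groth.Agent.Lib.helper11.ChangeOfRingsPD

/-!
# Passing to the quotient by a nonzerodivisor generating a free summand of the conormal module
-/

set_option autoImplicit false

namespace Groth.Agent.Lib.helper10.VascC

open CategoryTheory Pointwise

universe u

variable {R : Type u} [CommRing R] (I : Ideal R) (x : R)

/-- the surjection `I → I · R/(x)` -/
noncomputable def pi0 : I →ₗ[R] (I.map (Ideal.Quotient.mk (Ideal.span {x}))) where
  toFun z := ⟨Ideal.Quotient.mk _ z.1, Ideal.mem_map_of_mem _ z.2⟩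
  map_add' a b := Subtype.ext (by simp)
  map_smul' r a := Subtype.ext (by
    change Ideal.Quotient.mk (Ideal.span {x}) ((r • a : I) : R) =
      r • (Ideal.Quotient.mk (Ideal.span {x}) (a : R))
    rw [Submodule.coe_smul, smul_eq_mul, map_mul, Algebra.smul_def]
    rfl)

@[simp] theorem pi0_coe (z : I) : (pi0 I x z : R ⧸ Ideal.span {x}) = Ideal.Quotient.mk _ z.1 := rfl

theorem pi0_surjective : Function.Surjective (pi0 I x) := by
  rintro ⟨z', hz'⟩
  obtain ⟨z, hz, rfl⟩ := (Ideal.mem_map_iff_of_surjective _ Ideal.Quotient.mk_surjective).mp hz'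
  exact ⟨⟨z, hz⟩, rfl⟩

/-- descending a linear map killing `x` along `I → I · R/(x)` -/
theorem exists_descend (hxI : x ∈ I) {N : Type*} [AddCommGroup N] [Module R N]
    [Module (R ⧸ Ideal.span {x}) N] [IsScalarTower R (R ⧸ Ideal.span {x}) N]
    (f : I →ₗ[R] N) (hf : f ⟨x, hxI⟩ = 0) :
    ∃ f' : (I.map (Ideal.Quotient.mk (Ideal.span {x}))) →ₗ[R ⧸ Ideal.span {x}] N,
      ∀ z : I, f' (pi0 I x z) = f z := by
  have hker : LinearMap.ker (pi0 I x) ≤ LinearMap.ker f := by
    intro z hz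
    rw [LinearMap.mem_ker] at hz ⊢
    have h1 : Ideal.Quotient.mk (Ideal.span {x}) z.1 = 0 := congrArg Subtype.val hz
    rw [Ideal.Quotient.eq_zero_iff_mem, Ideal.mem_span_singleton'] at h1
    obtain ⟨r, hr⟩ := h1
    have h2 : z = r • (⟨x, hxI⟩ : I) := Subtype.ext (by rw [Submodule.coe_smul, smul_eq_mul, hr])
    rw [h2, map_smul, hf, smul_zero]
  let e := LinearMap.quotKerEquivOfSurjective (pi0 I x) (pi0_surjective I x)
  let g : (I.map (Ideal.Quotient.mk (Ideal.span {x}))) →ₗ[R] N :=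
    (Submodule.liftQ _ f hker) ∘ₗ e.symm.toLinearMap
  refine ⟨g.extendScalarsOfSurjective Ideal.Quotient.mk_surjective, fun z => ?_⟩
  rw [LinearMap.extendScalarsOfSurjective_apply]
  have h1 : e.symm (pi0 I x z) = Submodule.Quotient.mk z := by
    rw [LinearEquiv.symm_apply_eq]
    rfl
  change (Submodule.liftQ _ f hker) (e.symm (pi0 I x z)) = f z
  rw [h1, Submodule.liftQ_apply]

variable [IsNoetherianRing R]

/-- **The quotient step**: if `x ∈ I` is a nonzerodivisor and `λ : I → R/I` is linear with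
`λ x = 1`, then `I/(x)` has finite projective dimension over `R/(x)`. -/
theorem hasProjectiveDimensionLT_map_quotient (hxI : x ∈ I) (hx : IsSMulRegular R x)
    (lam : I →ₗ[R] R ⧸ I) (hlam : lam ⟨x, hxI⟩ = 1) (n : ℕ)
    (hpd : HasProjectiveDimensionLT (ModuleCat.of R I) (n + 1)) :
    HasProjectiveDimensionLT (ModuleCat.of (R ⧸ Ideal.span {x})
      (I.map (Ideal.Quotient.mk (Ideal.span {x})))) (n + 1) := by
  have hxreg : IsSMulRegular I x := by
    intro a b hab
    apply Subtype.ext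
    apply hx
    have := congrArg Subtype.val hab
    simpa using this
  haveI hQ : HasProjectiveDimensionLT (ModuleCat.of (R ⧸ Ideal.span {x}) (QuotSMulTop x I))
      (n + 1) :=
    Groth.Agent.Lib.helper11.ChangeOfRingsPD.hasProjectiveDimensionLT_quotSMulTop x hx n I hxreg hpd
  -- the class of `x`
  let cx : QuotSMulTop x I := Submodule.Quotient.mk ⟨x, hxI⟩
  -- `θ : R/I → I/xI`, `1 ↦ [x]`
  have hθ : (I : Submodule R R) ≤ LinearMap.ker (LinearMap.toSpanSingleton R (QuotSMulTop x I) cx) := by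
    intro a ha
    rw [LinearMap.mem_ker, LinearMap.toSpanSingleton_apply]
    change a • (Submodule.Quotient.mk (⟨x, hxI⟩ : I) : QuotSMulTop x I) = 0
    rw [← Submodule.Quotient.mk_smul, Submodule.Quotient.mk_eq_zero]
    have : a • (⟨x, hxI⟩ : I) = x • (⟨a, ha⟩ : I) :=
      Subtype.ext (by simp [mul_comm])
    rw [this]
    exact Submodule.smul_mem_pointwise_smul _ _ _ Submodule.mem_top
  let θ : (R ⧸ I) →ₗ[R] QuotSMulTop x I := Submodule.liftQ I _ hθ
  have hθ1 : θ 1 = cx := by
    change θ (Submodule.Quotient.mk 1) = cx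
    rw [Submodule.liftQ_apply, LinearMap.toSpanSingleton_apply, one_smul]
  -- `s₀ : I → I/xI`
  let s₀ : I →ₗ[R] QuotSMulTop x I := Submodule.mkQ _ - θ ∘ₗ lam
  have hs₀ : s₀ ⟨x, hxI⟩ = 0 := by
    change Submodule.Quotient.mk (⟨x, hxI⟩ : I) - θ (lam ⟨x, hxI⟩) = 0
    rw [hlam, hθ1, sub_self]
  obtain ⟨s, hs⟩ := exists_descend I x hxI s₀ hs₀
  -- `π : I/xI → I'`
  have hπ : x • (⊤ : Submodule R I) ≤ LinearMap.ker (pi0 I x) := by
    intro z hz
    obtain ⟨w, -, rfl⟩ := (Submodule.mem_smul_pointwise_iff_exists _ _ _).mp hz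
    rw [LinearMap.mem_ker]
    apply Subtype.ext
    change Ideal.Quotient.mk (Ideal.span {x}) ((x • w : I) : R) = 0
    rw [Submodule.coe_smul, smul_eq_mul, Ideal.Quotient.eq_zero_iff_mem]
    exact Ideal.mul_mem_right _ _ (Ideal.mem_span_singleton_self x)
  let π₁ : QuotSMulTop x I →ₗ[R] (I.map (Ideal.Quotient.mk (Ideal.span {x}))) :=
    Submodule.liftQ _ (pi0 I x) hπ
  let π : QuotSMulTop x I →ₗ[R ⧸ Ideal.span {x}] (I.map (Ideal.Quotient.mk (Ideal.span {x}))) :=
    π₁.extendScalarsOfSurjective Ideal.Quotient.mk_surjective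
  have hπθ : ∀ a : R ⧸ I, π₁ (θ a) = 0 := by
    intro a
    obtain ⟨a, rfl⟩ := Ideal.Quotient.mk_surjective a
    change π₁ (θ (Submodule.Quotient.mk a)) = 0
    rw [Submodule.liftQ_apply, LinearMap.toSpanSingleton_apply, map_smul]
    change a • π₁ (Submodule.Quotient.mk (⟨x, hxI⟩ : I)) = 0
    rw [Submodule.liftQ_apply]
    have : pi0 I x ⟨x, hxI⟩ = 0 := by
      apply Subtype.ext
      change Ideal.Quotient.mk (Ideal.span {x}) x = 0
      rw [Ideal.Quotient.eq_zero_iff_mem]
      exact Ideal.mem_span_singleton_self x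
    rw [this, smul_zero]
  have hcomp : ∀ z', π (s z') = z' := by
    intro z'
    obtain ⟨z, rfl⟩ := pi0_surjective I x z'
    rw [hs]
    change π₁ (Submodule.Quotient.mk z - θ (lam z)) = _
    rw [map_sub, hπθ, sub_zero, Submodule.liftQ_apply]
  have hret : Retract (ModuleCat.of (R ⧸ Ideal.span {x}) (I.map (Ideal.Quotient.mk (Ideal.span {x}))))
      (ModuleCat.of (R ⧸ Ideal.span {x}) (QuotSMulTop x I)) :=
    { i := ModuleCat.ofHom s
      r := ModuleCat.ofHom π
      retract := by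
        ext z'
        exact congrArg Subtype.val (hcomp z') }
  exact hret.hasProjectiveDimensionLT (n + 1)

end Groth.Agent.Lib.helper10.VascC
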