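import Mathlib
import Groth.Agent.Lib.helper10.VascB
import Groth.Agent.Lib.helper10.VascC

/-!
# Vasconcelos: free summands of the conormal module of an ideal of finite projective dimension
are generated by regular sequences
-/

set_option autoImplicit false

namespace Groth.Agent.Lib.helper10.VascD

open CategoryTheory IsLocalRing RingTheory.Sequence

universe u

/-- a linear map `I → R/I` kills `I²` -/
theorem lam_eq_zero_of_mem_sq {R : Type u} [CommRing R] (I : Ideal R) (lam : I →ₗ[R] R ⧸ I)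
    (j : R) (hj : j ∈ I ^ 2) (hjI : j ∈ I) : lam ⟨j, hjI⟩ = 0 := by
  have h1 : I ^ 2 ≤ (LinearMap.ker lam).map I.subtype := by
    rw [sq, Ideal.mul_le]
    intro a ha b hb
    refine ⟨a • ⟨b, hb⟩, ?_, ?_⟩
    · rw [SetLike.mem_coe, LinearMap.mem_ker, map_smul, Algebra.smul_def,
        Ideal.Quotient.algebraMap_eq, Ideal.Quotient.eq_zero_iff_mem.mpr ha, zero_mul]
    · simp
  obtain ⟨k, hk, hkj⟩ := h1 hj
  have : (⟨j, hjI⟩ : I) = k := Subtype.ext hkj.symm
  rw [this]
  exact hk

/-- the additive equivalence between the two presentations of `A/(x)` -/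
noncomputable def quotEquiv {A : Type u} [CommRing A] (x : A) :
    QuotSMulTop x A ≃ₗ[A] (A ⧸ Ideal.span {x}) :=
  Submodule.quotEquivOfEq _ _ (by
    rw [← Submodule.ideal_span_singleton_smul, smul_eq_mul, Ideal.mul_top])

theorem isRegular_cons_iff_quot {A : Type u} [CommRing A] (x : A) (rs : List A) :
    IsRegular A (x :: rs) ↔ IsSMulRegular A x ∧
      IsRegular (A ⧸ Ideal.span {x}) (rs.map (Ideal.Quotient.mk (Ideal.span {x}))) := by
  rw [isRegular_cons_iff]
  refine and_congr Iff.rfl ?_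
  refine (quotEquiv x).toAddEquiv.isRegular_congr ?_
  refine List.forall₂_map_right_iff.mpr <| List.forall₂_same.mpr fun r _ t => ?_
  change quotEquiv x (r • t) = _
  rw [map_smul]
  generalize quotEquiv x t = z
  obtain ⟨w, rfl⟩ := Ideal.Quotient.mk_surjective z
  rw [smul_eq_mul, ← map_mul]
  rfl

/-- **Vasconcelos' lemma**, elementary form. -/
theorem exists_regular (r : ℕ) : ∀ (R : Type u) [CommRing R] [IsNoetherianRing R] [IsLocalRing R]
    (I : Ideal R) (_ : I ≠ ⊤) (n : ℕ) (_ : HasProjectiveDimensionLT (ModuleCat.of R I) n)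
    (y : Fin r → R) (hy : ∀ i, y i ∈ I) (lam : Fin r → (I →ₗ[R] R ⧸ I))
    (_ : ∀ i j, lam i ⟨y j, hy j⟩ = if i = j then 1 else 0),
    ∃ x : Fin r → R, (∀ i, x i ∈ I) ∧ IsRegular R (List.ofFn x) ∧
      Ideal.span (Set.range x) ⊔ I ^ 2 = Ideal.span (Set.range y) ⊔ I ^ 2 := by
  induction r with
  | zero =>
    intro R _ _ _ I hI n hpd y hy lam hlam
    refine ⟨y, hy, ?_, rfl⟩
    rw [List.ofFn_zero]
    exact IsRegular.nil R R
  | succ r ih =>
    intro R _ _ _ I hI n hpd y hy lam hlam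
    haveI : Nontrivial (R ⧸ I) := Ideal.Quotient.nontrivial_iff.mpr hI
    have hIbot : I ≠ ⊥ := by
      rintro rfl
      have h1 := hlam 0 0
      rw [if_pos rfl] at h1
      have h2 : (⟨y 0, hy 0⟩ : (⊥ : Ideal R)) = 0 :=
        Subtype.ext ((Submodule.mem_bot R).mp (hy 0))
      rw [h2, map_zero] at h1
      exact zero_ne_one h1
    obtain ⟨j, hj, hnzd⟩ :=
      Groth.Agent.Lib.helper10.VascB.exists_add_mem_nonZeroDivisors I hIbot n hpd (y 0)
    have hjI : j ∈ I := Ideal.pow_le_self two_ne_zero hj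
    obtain ⟨x₀, hx₀⟩ : ∃ x₀, x₀ = y 0 + j := ⟨_, rfl⟩
    rw [← hx₀] at hnzd
    have hx₀I : x₀ ∈ I := hx₀ ▸ I.add_mem (hy 0) hjI
    have hlamx : ∀ i, lam i ⟨x₀, hx₀I⟩ = lam i ⟨y 0, hy 0⟩ := by
      intro i
      have : (⟨x₀, hx₀I⟩ : I) = ⟨y 0, hy 0⟩ + ⟨j, hjI⟩ := Subtype.ext hx₀
      rw [this, map_add, lam_eq_zero_of_mem_sq I (lam i) j hj hjI, add_zero]
    have hreg : IsSMulRegular R x₀ := by
      intro a b hab
      exact (mul_cancel_left_mem_nonZeroDivisors hnzd).mp hab
    -- the quotient ring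
    have hx₀m : x₀ ∈ maximalIdeal R := le_maximalIdeal hI hx₀I
    haveI : Nontrivial (R ⧸ Ideal.span {x₀}) := by
      rw [Ideal.Quotient.nontrivial_iff, Ne, Ideal.span_singleton_eq_top]
      exact hx₀m
    haveI : IsLocalRing (R ⧸ Ideal.span {x₀}) :=
      IsLocalRing.of_surjective' (Ideal.Quotient.mk (Ideal.span {x₀})) Ideal.Quotient.mk_surjective
    have hker : RingHom.ker (Ideal.Quotient.mk (Ideal.span {x₀})) ≤ I := by
      rw [Ideal.mk_ker, Ideal.span_singleton_le_iff_mem]
      exact hx₀I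
    have hcm : ∀ K : Ideal R, Ideal.comap (Ideal.Quotient.mk (Ideal.span {x₀}))
        (Ideal.map (Ideal.Quotient.mk (Ideal.span {x₀})) K) = K ⊔ Ideal.span {x₀} := by
      intro K
      rw [Ideal.comap_map_of_surjective _ Ideal.Quotient.mk_surjective, ← RingHom.ker_eq_comap_bot,
        Ideal.mk_ker]
    have hI' : I.map (Ideal.Quotient.mk (Ideal.span {x₀})) ≠ ⊤ := by
      intro htop
      apply hI
      have h1 := hcm I
      rw [htop, Ideal.comap_top, sup_eq_left.mpr ((Ideal.span_singleton_le_iff_mem I).mpr hx₀I)] at h1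
      exact h1.symm
    have hpd1 : HasProjectiveDimensionLT (ModuleCat.of R I) (n + 1) :=
      hasProjectiveDimensionLT_of_ge _ n (n + 1) (Nat.le_succ n)
    have hpd' := Groth.Agent.Lib.helper10.VascC.hasProjectiveDimensionLT_map_quotient I x₀ hx₀I hreg
      (lam 0) (by rw [hlamx, hlam, if_pos rfl]) n hpd1
    -- the functionals on the quotient
    have hψ : (I : Submodule R R) ≤ LinearMap.ker (Algebra.linearMap R
        ((R ⧸ Ideal.span {x₀}) ⧸ I.map (Ideal.Quotient.mk (Ideal.span {x₀})))) := by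
      intro a ha
      rw [LinearMap.mem_ker, Algebra.linearMap_apply,
        IsScalarTower.algebraMap_apply R (R ⧸ Ideal.span {x₀}), Ideal.Quotient.algebraMap_eq,
        Ideal.Quotient.algebraMap_eq, Ideal.Quotient.eq_zero_iff_mem]
      exact Ideal.mem_map_of_mem _ ha
    let ψ : (R ⧸ I) →ₗ[R] ((R ⧸ Ideal.span {x₀}) ⧸ I.map (Ideal.Quotient.mk (Ideal.span {x₀}))) :=
      Submodule.liftQ I _ hψ
    have hψ1 : ψ 1 = 1 := by
      change ψ (Submodule.Quotient.mk 1) = 1
      rw [Submodule.liftQ_apply, Algebra.linearMap_apply, map_one]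
    have hdesc : ∀ i : Fin r, ∃ f' : (I.map (Ideal.Quotient.mk (Ideal.span {x₀}))) →ₗ[R ⧸ Ideal.span {x₀}]
        ((R ⧸ Ideal.span {x₀}) ⧸ I.map (Ideal.Quotient.mk (Ideal.span {x₀}))),
        ∀ z : I, f' (Groth.Agent.Lib.helper10.VascC.pi0 I x₀ z) = ψ (lam i.succ z) := by
      intro i
      refine Groth.Agent.Lib.helper10.VascC.exists_descend I x₀ hx₀I (ψ ∘ₗ lam i.succ) ?_
      rw [LinearMap.comp_apply, hlamx, hlam, if_neg (Fin.succ_ne_zero i), map_zero]
    choose lam' hlam' using hdesc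
    let y' : Fin r → R ⧸ Ideal.span {x₀} := fun i => Ideal.Quotient.mk _ (y i.succ)
    have hy' : ∀ i, y' i ∈ I.map (Ideal.Quotient.mk (Ideal.span {x₀})) :=
      fun i => Ideal.mem_map_of_mem _ (hy i.succ)
    have hlam'' : ∀ i j, lam' i ⟨y' j, hy' j⟩ = if i = j then 1 else 0 := by
      intro i j
      have h1 : (⟨y' j, hy' j⟩ : I.map (Ideal.Quotient.mk (Ideal.span {x₀}))) =
          Groth.Agent.Lib.helper10.VascC.pi0 I x₀ ⟨y j.succ, hy j.succ⟩ := rfl
      rw [h1, hlam', hlam]
      by_cases hij : i = j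
      · rw [if_pos hij, if_pos (by rw [hij]), hψ1]
      · rw [if_neg hij, if_neg (fun h => hij (Fin.succ_injective _ h)), map_zero]
    obtain ⟨x', hx', hreg', hspan'⟩ := ih (R ⧸ Ideal.span {x₀})
      (I.map (Ideal.Quotient.mk (Ideal.span {x₀}))) hI' (n + 1) hpd' y' hy' lam' hlam''
    have hlift : ∀ i, ∃ z ∈ I, Ideal.Quotient.mk (Ideal.span {x₀}) z = x' i := fun i =>
      (Ideal.mem_map_iff_of_surjective _ Ideal.Quotient.mk_surjective).mp (hx' i)
    choose z hzI hz using hlift
    refine ⟨Fin.cons x₀ z, ?_, ?_, ?_⟩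
    · intro i
      refine Fin.cases ?_ (fun i => ?_) i
      · simpa using hx₀I
      · simpa using hzI i
    · rw [List.ofFn_cons, isRegular_cons_iff_quot]
      refine ⟨hreg, ?_⟩
      rw [List.map_ofFn]
      have : (Ideal.Quotient.mk (Ideal.span {x₀})) ∘ z = x' := funext hz
      rw [this]
      exact hreg'
    · -- the span computation
      have hx'z : x' = (Ideal.Quotient.mk (Ideal.span {x₀})) ∘ z := (funext hz).symm
      have hy'y : y' = (Ideal.Quotient.mk (Ideal.span {x₀})) ∘ (fun i => y i.succ) := rfl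
      rw [hx'z, hy'y, Set.range_comp, Set.range_comp, ← Ideal.map_span, ← Ideal.map_span,
        ← Ideal.map_pow, ← Ideal.map_sup, ← Ideal.map_sup] at hspan'
      have key := congrArg (Ideal.comap (Ideal.Quotient.mk (Ideal.span {x₀}))) hspan'
      rw [hcm, hcm] at key
      have hE : Ideal.span {x₀} ⊔ I ^ 2 = Ideal.span {y 0} ⊔ I ^ 2 := by
        apply le_antisymm
        · refine sup_le ?_ le_sup_right
          rw [Ideal.span_singleton_le_iff_mem, hx₀]
          exact Ideal.add_mem _ (Ideal.mem_sup_left (Ideal.mem_span_singleton_self _))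
            (Ideal.mem_sup_right hj)
        · refine sup_le ?_ le_sup_right
          rw [Ideal.span_singleton_le_iff_mem]
          have : y 0 = x₀ - j := by rw [hx₀]; ring
          rw [this]
          exact Ideal.sub_mem _ (Ideal.mem_sup_left (Ideal.mem_span_singleton_self _))
            (Ideal.mem_sup_right hj)
      have hy0 : y = Fin.cons (y 0) (fun i => y i.succ) := (Fin.cons_self_tail y).symm
      rw [Fin.range_cons, Ideal.span_insert]
      conv_rhs => rw [hy0, Fin.range_cons, Ideal.span_insert]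
      generalize Ideal.span (Set.range z) = Z at key ⊢
      generalize Ideal.span (Set.range fun i : Fin r => y i.succ) = Y at key ⊢
      generalize Ideal.span {x₀} = A at key hE ⊢
      generalize Ideal.span {y 0} = B at hE ⊢
      generalize I ^ 2 = C at key hE ⊢
      have e1 : A ⊔ Z ⊔ C = (Z ⊔ C) ⊔ A := by ac_rfl
      have e2 : Y ⊔ C ⊔ A = Y ⊔ (A ⊔ C) := by ac_rfl
      have e3 : B ⊔ Y ⊔ C = Y ⊔ (B ⊔ C) := by ac_rfl
      rw [e1, key, e2, hE, e3]

end Groth.Agent.Lib.helper10.VascD
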