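import Mathlib

/-!
# The conormal module of an extended ideal in a localization
-/

set_option autoImplicit false

namespace Groth.Agent.Lib.helper10.VascE

universe u

variable {R : Type u} [CommRing R] (M : Submonoid R) (S : Type u) [CommRing S] [Algebra R S]
  [IsLocalization M S] (I : Ideal R)

/-- the extension of `I` to the localization -/
abbrev IS : Ideal S := I.map (algebraMap R S)

/-- the localization map on cotangent modules. -/
noncomputable def cotMap : I.Cotangent →ₗ[R] (IS S I).Cotangent :=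
  Ideal.mapCotangent I (IS S I) (Algebra.ofId R S) Ideal.le_comap_map

theorem cotMap_toCotangent (a : I) :
    cotMap S I (I.toCotangent a) = (IS S I).toCotangent
      ⟨algebraMap R S a, Ideal.mem_map_of_mem _ a.2⟩ :=
  Ideal.mapCotangent_toCotangent _ _ _ _ a

include M in
theorem cotMap_surj (y : (IS S I).Cotangent) :
    ∃ (x : I.Cotangent) (m : M), (m : R) • y = cotMap S I x := by
  obtain ⟨z, rfl⟩ := Ideal.toCotangent_surjective _ y
  obtain ⟨⟨a, m⟩, ha⟩ := (IsLocalization.mem_map_algebraMap_iff M S).1 z.2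
  refine ⟨I.toCotangent a, m, ?_⟩
  rw [cotMap_toCotangent, ← algebraMap_smul S (m : R), ← map_smul]
  congr 1
  apply Subtype.ext
  change algebraMap R S m * z.1 = _
  rw [mul_comm]
  exact ha

include M in
theorem cotMap_eq_zero (x : I.Cotangent) (hx : cotMap S I x = 0) : ∃ m : M, (m : R) • x = 0 := by
  obtain ⟨a, rfl⟩ := Ideal.toCotangent_surjective _ x
  rw [cotMap_toCotangent, Ideal.toCotangent_eq_zero] at hx
  change algebraMap R S a.1 ∈ (IS S I) ^ 2 at hx
  rw [← Ideal.map_pow, IsLocalization.mem_map_algebraMap_iff M S] at hx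
  obtain ⟨⟨b, m⟩, hb⟩ := hx
  rw [← map_mul, IsLocalization.eq_iff_exists M] at hb
  obtain ⟨k, hk⟩ := hb
  refine ⟨k * m, ?_⟩
  rw [← map_smul, Ideal.toCotangent_eq_zero]
  change ((k * m : M) : R) * a.1 ∈ I ^ 2
  have : ((k * m : M) : R) * a.1 = k * b.1 := by
    rw [← hk, Submonoid.coe_mul]; ring
  rw [this]
  exact Ideal.mul_mem_left _ _ b.2

/-- `R ⧸ I`-module structure on the cotangent module of the localization. -/
@[reducible] noncomputable def modQ : Module (R ⧸ I) (IS S I).Cotangent :=
  Module.compHom _ (algebraMap (R ⧸ I) (S ⧸ IS S I))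

attribute [local instance] modQ

theorem mk_smul (a : R) (m : (IS S I).Cotangent) : (Ideal.Quotient.mk I a) • m = a • m := by
  change (algebraMap (R ⧸ I) (S ⧸ IS S I) (Ideal.Quotient.mk I a)) • m = _
  have h1 : algebraMap (R ⧸ I) (S ⧸ IS S I) (Ideal.Quotient.mk I a) =
      algebraMap S (S ⧸ IS S I) (algebraMap R S a) := rfl
  rw [h1, algebraMap_smul, algebraMap_smul]

instance towerQ : IsScalarTower (R ⧸ I) (S ⧸ IS S I) (IS S I).Cotangent :=
  ⟨fun s x m => by
    change (s • x) • m = (algebraMap (R ⧸ I) (S ⧸ IS S I) s) • (x • m)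
    rw [Algebra.smul_def, mul_smul]⟩

/-- the localization map on cotangent modules, `R ⧸ I`-linear. -/
noncomputable def cotMapQ : I.Cotangent →ₗ[R ⧸ I] (IS S I).Cotangent where
  toFun := cotMap S I
  map_add' := map_add _
  map_smul' := fun s x => by
    obtain ⟨a, rfl⟩ := Ideal.Quotient.mk_surjective s
    rw [RingHom.id_apply, mk_smul, ← map_smul]
    congr 1

theorem cotMapQ_apply (x : I.Cotangent) : cotMapQ S I x = cotMap S I x := rfl

theorem mk_smul' (a : R) (m : I.Cotangent) : (Ideal.Quotient.mk I a) • m = a • m :=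
  algebraMap_smul (R ⧸ I) a m

theorem isLocalizedModule_cotMapQ :
    IsLocalizedModule (Algebra.algebraMapSubmonoid (R ⧸ I) M) (cotMapQ S I) where
  map_units := by
    rintro ⟨_, m, hm, rfl⟩
    rw [Module.End.isUnit_iff]
    have hu : IsUnit (algebraMap R S m) := IsLocalization.map_units S (⟨m, hm⟩ : M)
    have key : ∀ z : (IS S I).Cotangent,
        (algebraMap (R ⧸ I) (Module.End (R ⧸ I) (IS S I).Cotangent)
          (algebraMap R (R ⧸ I) m)) z = (algebraMap R S m) • z := by
      intro z
      rw [Module.algebraMap_end_apply, Ideal.Quotient.algebraMap_eq, mk_smul, algebraMap_smul]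
    constructor
    · intro m₁ m₂ h
      rw [key, key] at h
      exact hu.smul_left_cancel.1 h
    · intro z
      obtain ⟨u, hu'⟩ := hu
      refine ⟨(↑u⁻¹ : S) • z, ?_⟩
      rw [key, ← hu', smul_smul, Units.mul_inv, one_smul]
  surj := by
    intro y
    obtain ⟨x, m, h⟩ := cotMap_surj M S I y
    refine ⟨⟨x, ⟨_, m, m.2, rfl⟩⟩, ?_⟩
    change (algebraMap R (R ⧸ I) m) • y = cotMapQ S I x
    rw [Ideal.Quotient.algebraMap_eq, mk_smul, h]
    rfl
  exists_of_eq := by
    intro x₁ x₂ h
    have h0 : cotMap S I (x₁ - x₂) = 0 := by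
      rw [map_sub, sub_eq_zero]
      exact h
    obtain ⟨m, hm⟩ := cotMap_eq_zero M S I _ h0
    refine ⟨⟨_, m, m.2, rfl⟩, ?_⟩
    change (algebraMap R (R ⧸ I) m) • x₁ = (algebraMap R (R ⧸ I) m) • x₂
    rw [Ideal.Quotient.algebraMap_eq, mk_smul', mk_smul', ← sub_eq_zero, ← smul_sub]
    exact hm

include M in
/-- projectivity of the conormal module passes to localizations -/
theorem projective_cotangent [Module.Projective (R ⧸ I) I.Cotangent] :
    Module.Projective (S ⧸ IS S I) (IS S I).Cotangent := by
  haveI := isLocalizedModule_cotMapQ M S I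
  exact Module.projective_of_isLocalizedModule (Algebra.algebraMapSubmonoid (R ⧸ I) M)
    (cotMapQ S I)

include M in
/-- finiteness of the conormal module passes to localizations -/
theorem finite_cotangent [Module.Finite (R ⧸ I) I.Cotangent] :
    Module.Finite (S ⧸ IS S I) (IS S I).Cotangent := by
  haveI := isLocalizedModule_cotMapQ M S I
  exact Module.Finite.of_isLocalizedModule (Algebra.algebraMapSubmonoid (R ⧸ I) M)
    (cotMapQ S I)

end Groth.Agent.Lib.helper10.VascE
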