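import Mathlib.RingTheory.Localization.Integral
import Mathlib.RingTheory.Localization.AtPrime.Basic
import Mathlib.RingTheory.Localization.FractionRing
import Mathlib.RingTheory.IntegralClosure.IntegrallyClosed
import Mathlib.RingTheory.Ideal.MinimalPrime.Basic
import Mathlib.RingTheory.Nilpotent.Lemmas
import Mathlib.RingTheory.Polynomial.ScaleRoots

set_option maxHeartbeats 400000
set_option autoImplicit false
universe u

namespace Groth.Agent.Lib.helper10.NormalTotal

open Polynomial

variable {R : Type u} [CommRing R]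

section psi
variable (P : Ideal R) [P.IsPrime] [IsDomain (Localization.AtPrime P)]

local notation "RP" => Localization.AtPrime P
local notation "K" => FractionRing (Localization.AtPrime P)
local notation "Q" => FractionRing R

/-- image of R in K -/
noncomputable def img : R →+* K := (algebraMap RP K).comp (algebraMap R RP)

omit [IsDomain (Localization.AtPrime P)] in
lemma img_eq_zero_iff (r : R) : img P r = 0 ↔ ∃ t : R, t ∉ P ∧ t * r = 0 := by
  rw [img, RingHom.comp_apply, map_eq_zero_iff _ (IsFractionRing.injective RP K),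
    IsLocalization.map_eq_zero_iff P.primeCompl]
  constructor
  · rintro ⟨⟨t, ht⟩, h⟩; exact ⟨t, ht, h⟩
  · rintro ⟨t, ht, h⟩; exact ⟨⟨t, ht⟩, h⟩

omit [IsDomain (Localization.AtPrime P)] in
lemma img_ne_zero_of_mem_nonZeroDivisors {b : R} (hb : b ∈ nonZeroDivisors R) : img P b ≠ 0 := by
  intro h
  obtain ⟨t, ht, h⟩ := (img_eq_zero_iff P b).mp h
  have : t = 0 := (mul_right_mem_nonZeroDivisors_eq_zero_iff hb).mp h
  exact ht (this ▸ P.zero_mem)

omit [IsDomain (Localization.AtPrime P)] in
lemma img_ne_zero_of_notMem {s : R} (hs : s ∉ P) : img P s ≠ 0 := by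
  intro h
  obtain ⟨t, ht, h⟩ := (img_eq_zero_iff P s).mp h
  rcases (Ideal.IsPrime.mem_or_mem ‹P.IsPrime› (h ▸ P.zero_mem : t * s ∈ P)) with h1 | h1
  · exact ht h1
  · exact hs h1

noncomputable def psi : Q →+* K :=
  IsLocalization.lift (M := nonZeroDivisors R) (g := img P)
    (fun y => isUnit_iff_ne_zero.mpr (img_ne_zero_of_mem_nonZeroDivisors P y.2))

@[simp] lemma psi_algebraMap (r : R) : psi P (algebraMap R Q r) = img P r :=
  IsLocalization.lift_eq _ r

lemma psi_comp : (psi P).comp (algebraMap R Q) = img P :=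
  IsLocalization.lift_comp _

lemma psi_mk' (a : R) (d : nonZeroDivisors R) :
    psi P (IsLocalization.mk' Q a d) * img P d = img P a := by
  rw [← psi_algebraMap, ← map_mul, IsLocalization.mk'_spec, psi_algebraMap]

lemma psi_mk'_eq_zero (a : R) (d : nonZeroDivisors R) (h : psi P (IsLocalization.mk' Q a d) = 0) :
    ∃ t : R, t ∉ P ∧ t * a = 0 := by
  have := psi_mk' P a d
  rw [h, zero_mul] at this
  exact (img_eq_zero_iff P a).mp this.symm

lemma exists_smul_eq_zero_of_psi_eq_zero (v : Q) (h : psi P v = 0) :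
    ∃ t : R, t ∉ P ∧ algebraMap R Q t * v = 0 := by
  obtain ⟨a, d, rfl⟩ := IsLocalization.exists_mk'_eq (nonZeroDivisors R) v
  obtain ⟨t, ht, h0⟩ := psi_mk'_eq_zero P a d h
  refine ⟨t, ht, ?_⟩
  rw [← IsLocalization.mk'_one (M := nonZeroDivisors R) Q t, ← IsLocalization.mk'_mul, h0,
    IsLocalization.mk'_zero]

end psi


section forward

local notation "Q" => FractionRing R

/-- conductor of `x` -/
def conductor (x : Q) : Ideal R where
  carrier := {r | algebraMap R Q r * x ∈ (algebraMap R Q).range}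
  add_mem' := by
    rintro a b ⟨a', ha⟩ ⟨b', hb⟩
    exact ⟨a' + b', by rw [map_add, ha, hb, map_add, add_mul]⟩
  zero_mem' := ⟨0, by simp⟩
  smul_mem' := by
    rintro c a ⟨a', ha⟩
    exact ⟨c * a', by rw [map_mul, ha, smul_eq_mul, map_mul, mul_assoc]⟩

theorem forward
    (h : ∀ (p : Ideal R) [p.IsPrime], IsDomain (Localization.AtPrime p) ∧
      IsIntegrallyClosed (Localization.AtPrime p)) :
    IsIntegrallyClosedIn R (FractionRing R) := by
  rw [isIntegrallyClosedIn_iff]
  refine ⟨IsLocalization.injective _ le_rfl, ?_⟩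
  intro x hx
  by_contra hne
  have hI : conductor x ≠ ⊤ := by
    intro h
    have h1 : (1 : R) ∈ conductor x := h ▸ Submodule.mem_top
    obtain ⟨y, hy⟩ := h1
    exact hne ⟨y, by rw [hy, map_one, one_mul]⟩
  obtain ⟨P, hP, hIP⟩ := Ideal.exists_le_maximal _ hI
  have := hP.isPrime
  obtain ⟨hdom, hic⟩ := h P
  have hint : IsIntegral (Localization.AtPrime P) (psi P x) :=
    IsIntegral.map_of_comp_eq (algebraMap R (Localization.AtPrime P)) (psi P)
      (by rw [psi_comp]; rfl) hx
  obtain ⟨z, hz⟩ := (isIntegrallyClosed_iff (FractionRing (Localization.AtPrime P))).mp hic hint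
  obtain ⟨c, s, rfl⟩ := IsLocalization.exists_mk'_eq P.primeCompl z
  have h0 : psi P (algebraMap R Q s * x - algebraMap R Q c) = 0 := by
    rw [map_sub, map_mul, psi_algebraMap, psi_algebraMap, ← hz, img, RingHom.comp_apply,
      RingHom.comp_apply, ← map_mul, mul_comm, IsLocalization.mk'_spec, sub_self]
  obtain ⟨t, ht, h1⟩ := exists_smul_eq_zero_of_psi_eq_zero P _ h0
  have hts : t * s ∈ conductor x := by
    refine ⟨t * c, ?_⟩
    rw [mul_sub, sub_eq_zero] at h1
    rw [map_mul, map_mul, mul_assoc, h1]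
  rcases hP.isPrime.mem_or_mem (hIP hts) with h2 | h2
  · exact ht h2
  · exact s.2 h2

end forward


section backward
variable [IsReduced R]

local notation "Q" => FractionRing R

lemma eq_zero_of_forall_mem_minimalPrimes (z : R) (h : ∀ q ∈ minimalPrimes R, z ∈ q) : z = 0 := by
  have h1 : z ∈ sInf (minimalPrimes R) := by
    rw [Submodule.mem_sInf]; exact h
  rw [minimalPrimes, Ideal.sInf_minimalPrimes] at h1
  have h2 : z ∈ nilradical R := h1
  rw [nilradical_eq_zero] at h2
  exact h2

theorem exists_idem (hfin : (minimalPrimes R).Finite) (hic : IsIntegrallyClosedIn R (FractionRing R))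
    (p : Ideal R) (hp : p ∈ minimalPrimes R) :
    ∃ e : R, 1 - e ∈ p ∧ ∀ z ∈ p, e * z = 0 := by
  classical
  have hpp : p.IsPrime := hp.1.1
  let T : Finset (Ideal R) := hfin.toFinset.erase p
  have hT : ∀ q ∈ T, q ∈ minimalPrimes R ∧ q ≠ p := by
    intro q hq
    rw [Finset.mem_erase, Set.Finite.mem_toFinset] at hq
    exact ⟨hq.2, hq.1⟩
  have hT' : ∀ q ∈ minimalPrimes R, q ≠ p → q ∈ T := by
    intro q hq hne
    rw [Finset.mem_erase, Set.Finite.mem_toFinset]
    exact ⟨hne, hq⟩
  -- (i)
  obtain ⟨a, haT, hap⟩ : ∃ a, (∀ q ∈ T, a ∈ q) ∧ a ∉ p := by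
    by_contra hcon
    push Not at hcon
    have hle : T.inf id ≤ p := by
      intro a ha
      rw [Submodule.mem_finsetInf] at ha
      exact hcon a ha
    obtain ⟨q, hqT, hqp⟩ := (Ideal.IsPrime.inf_le' hpp).mp hle
    obtain ⟨hqmin, hqne⟩ := hT q hqT
    exact hqne (le_antisymm hqp (hp.2 hqmin.1 hqp))
  -- (ii)
  obtain ⟨b, hbp, hbT⟩ : ∃ b ∈ p, ∀ q ∈ T, b ∉ q := by
    by_contra hcon
    push Not at hcon
    have hsub : (p : Set R) ⊆ ⋃ q ∈ (↑T : Set (Ideal R)), (id q : Ideal R) := by
      intro b hb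
      obtain ⟨q, hqT, hbq⟩ := hcon b hb
      exact Set.mem_biUnion (Finset.mem_coe.mpr hqT) hbq
    obtain ⟨q, hqT, hpq⟩ := (Ideal.subset_union_prime (f := id) p p
      (fun q hq _ _ => (hT q hq).1.1.1)).mp hsub
    obtain ⟨hqmin, hqne⟩ := hT q hqT
    exact hqne (le_antisymm (hqmin.2 hp.1 hpq) hpq)
  -- (iii)
  have hab : a * b = 0 := by
    apply eq_zero_of_forall_mem_minimalPrimes
    intro q hq
    by_cases hqp : q = p
    · rw [hqp]; exact p.mul_mem_left _ hbp
    · exact q.mul_mem_right _ (haT q (hT' q hq hqp))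
  -- (iv)
  have hc : a + b ∈ nonZeroDivisors R := by
    rw [mem_nonZeroDivisors_iff_right]
    intro z hz
    apply eq_zero_of_forall_mem_minimalPrimes
    intro q hq
    have hqprime : q.IsPrime := hq.1.1
    have hnot : a + b ∉ q := by
      by_cases hqp : q = p
      · rw [hqp]
        intro h
        exact hap ((Submodule.add_mem_iff_left p hbp).mp h)
      · intro h
        exact hbT q (hT' q hq hqp) ((Submodule.add_mem_iff_right q (haT q (hT' q hq hqp))).mp h)
    rcases hqprime.mem_or_mem (hz ▸ q.zero_mem : z * (a + b) ∈ q) with h | h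
    · exact h
    · exact absurd h hnot
  -- (v)
  let e' : Q := IsLocalization.mk' Q a (⟨a + b, hc⟩ : nonZeroDivisors R)
  have hidem : e' * e' = e' := by
    have h1 : e' * algebraMap R Q (a + b) = algebraMap R Q a := IsLocalization.mk'_spec _ _ _
    have hcu : IsUnit (algebraMap R Q (a + b)) :=
      IsLocalization.map_units Q (⟨a + b, hc⟩ : nonZeroDivisors R)
    apply hcu.mul_left_injective
    apply hcu.mul_left_injective
    change e' * e' * algebraMap R Q (a + b) * algebraMap R Q (a + b) =
      e' * algebraMap R Q (a + b) * algebraMap R Q (a + b)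
    have h2 : e' * e' * algebraMap R Q (a + b) * algebraMap R Q (a + b) =
        (e' * algebraMap R Q (a + b)) * (e' * algebraMap R Q (a + b)) := by ring
    rw [h2, h1, ← map_mul, ← map_mul, mul_add, hab, add_zero]
  have hint : IsIntegral R e' := by
    refine ⟨X ^ 2 - X, monic_X_pow_sub (lt_of_le_of_lt degree_X_le (by norm_num)), ?_⟩
    simp [pow_two, hidem]
  obtain ⟨e, he⟩ := (isIntegrallyClosedIn_iff.mp hic).2 hint
  have hinj : Function.Injective (algebraMap R Q) := (isIntegrallyClosedIn_iff.mp hic).1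
  -- (vi)
  have hec : e * (a + b) = a := by
    apply hinj
    rw [map_mul, he]
    exact IsLocalization.mk'_spec _ _ _
  have heb : e * b = 0 := by
    have : e * b * (a + b) = 0 := by
      have : e * b * (a + b) = e * (a + b) * b := by ring
      rw [this, hec, hab]
    exact (mul_right_mem_nonZeroDivisors_eq_zero_iff hc).mp this
  have hea : (1 - e) * a = 0 := by
    have : (1 - e) * a * (a + b) = 0 := by
      have : (1 - e) * a * (a + b) = ((a + b) - e * (a + b)) * a := by ring
      rw [this, hec]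
      have : (a + b - a) * a = a * b := by ring
      rw [this, hab]
    exact (mul_right_mem_nonZeroDivisors_eq_zero_iff hc).mp this
  refine ⟨e, ?_, ?_⟩
  · rcases hpp.mem_or_mem (hea ▸ p.zero_mem : (1 - e) * a ∈ p) with h | h
    · exact h
    · exact absurd h hap
  · intro z hz
    apply eq_zero_of_forall_mem_minimalPrimes
    intro q hq
    by_cases hqp : q = p
    · rw [hqp]; exact p.mul_mem_left _ hz
    · have hqprime : q.IsPrime := hq.1.1
      have heq : e ∈ q := by
        rcases hqprime.mem_or_mem (heb ▸ q.zero_mem : e * b ∈ q) with h | h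
        · exact h
        · exact absurd h (hbT q (hT' q hq hqp))
      exact q.mul_mem_right _ heq

end backward


section backward2
variable (P : Ideal R) [hP : P.IsPrime] (p : Ideal R) (hpP : p ≤ P) (hpp : p.IsPrime)
  (e : R) (he1 : 1 - e ∈ p) (he2 : ∀ z ∈ p, e * z = 0)

local notation "RP" => Localization.AtPrime P
local notation "K" => FractionRing (Localization.AtPrime P)
local notation "Q" => FractionRing R

include hpP he1 in
omit hP in
lemma e_notMem (hP1 : P ≠ ⊤) : e ∉ P := by
  intro h
  apply hP1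
  rw [Ideal.eq_top_iff_one]
  have : (1 : R) = (1 - e) + e := by ring
  rw [this]
  exact P.add_mem (hpP he1) h

include hpP hpp he1 he2 in
lemma exists_mul_eq_zero_iff (r : R) : (∃ t : R, t ∉ P ∧ t * r = 0) ↔ r ∈ p := by
  constructor
  · rintro ⟨t, ht, h⟩
    rcases hpp.mem_or_mem (h ▸ p.zero_mem : t * r ∈ p) with h1 | h1
    · exact absurd (hpP h1) ht
    · exact h1
  · intro hr
    exact ⟨e, e_notMem P p hpP e he1 hP.ne_top, he2 r hr⟩

include hpP hpp he1 he2 in
theorem isDomain_loc : IsDomain RP := by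
  have hne : e ∉ P := e_notMem P p hpP e he1 hP.ne_top
  have : NoZeroDivisors RP := ⟨by
    intro x y hxy
    obtain ⟨x₀, s, rfl⟩ := IsLocalization.exists_mk'_eq P.primeCompl x
    obtain ⟨y₀, t, rfl⟩ := IsLocalization.exists_mk'_eq P.primeCompl y
    rw [← IsLocalization.mk'_mul, IsLocalization.mk'_eq_zero_iff] at hxy
    obtain ⟨u, hu⟩ := hxy
    have hmem : x₀ * y₀ ∈ p :=
      (exists_mul_eq_zero_iff P p hpP hpp e he1 he2 _).mp ⟨u, u.2, hu⟩
    rcases hpp.mem_or_mem hmem with h | h
    · left
      rw [IsLocalization.mk'_eq_zero_iff]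
      exact ⟨⟨e, hne⟩, he2 _ h⟩
    · right
      rw [IsLocalization.mk'_eq_zero_iff]
      exact ⟨⟨e, hne⟩, he2 _ h⟩⟩
  exact NoZeroDivisors.to_isDomain _

variable [IsDomain (Localization.AtPrime P)]

include hpP hpp he1 he2 in
omit [IsDomain (Localization.AtPrime P)] in
lemma img_eq_zero_iff' (r : R) : img P r = 0 ↔ r ∈ p := by
  rw [img_eq_zero_iff]
  exact exists_mul_eq_zero_iff P p hpP hpp e he1 he2 r

include hpP hpp he1 he2 in
omit [IsDomain (Localization.AtPrime P)] in
lemma img_e : img P e = 1 := by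
  have h : img P (1 - e) = 0 := (img_eq_zero_iff' P p hpP hpp e he1 he2 _).mpr he1
  rw [map_sub, map_one, sub_eq_zero] at h
  exact h.symm

include he1 he2 in
lemma e_idem : e * e = e := by
  have := he2 _ he1
  linear_combination -this

include hpp he1 he2 in
lemma modified_mem_nonZeroDivisors (δ : R) (hδ : δ ∉ p) : δ * e + (1 - e) ∈ nonZeroDivisors R := by
  have hid := e_idem p e he1 he2
  rw [mem_nonZeroDivisors_iff_right]
  intro z hz
  have h1 : (z * e) * δ = 0 := by
    have : (z * e) * δ = e * (z * (δ * e + (1 - e))) := by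
      linear_combination (-(z * δ) + z) * hid
    rw [this, hz, mul_zero]
  have h2 : z * e ∈ p := by
    rcases hpp.mem_or_mem (h1 ▸ p.zero_mem : (z * e) * δ ∈ p) with h | h
    · exact h
    · exact absurd h hδ
  have h3 : z * e = 0 := by
    have := he2 _ h2
    linear_combination this - z * hid
  have h4 : z * (1 - e) = 0 := by
    have : z * (1 - e) = (1 - e) * (z * (δ * e + (1 - e))) := by
      linear_combination (z * δ - z) * hid
    rw [this, hz, mul_zero]
  linear_combination h3 + h4

include hpP hpp he1 he2 in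
theorem psi_surjective (y : K) : ∃ x : Q, psi P x = y := by
  obtain ⟨n, d, rfl⟩ := IsLocalization.exists_mk'_eq (nonZeroDivisors RP) y
  obtain ⟨α, s, rfl⟩ := IsLocalization.exists_mk'_eq P.primeCompl n
  obtain ⟨β, t, hd⟩ := IsLocalization.exists_mk'_eq P.primeCompl (d : RP)
  have hne : e ∉ P := e_notMem P p hpP e he1 hP.ne_top
  have hβ : β ∉ p := by
    intro h
    have : (d : RP) = 0 := by
      rw [← hd, IsLocalization.mk'_eq_zero_iff]
      exact ⟨⟨e, hne⟩, he2 _ h⟩
    exact nonZeroDivisors.ne_zero d.2 this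
  have hs : (s : R) ∉ p := fun h => s.2 (hpP h)
  have hδ : β * s ∉ p := fun h => (hpp.mem_or_mem h).elim hβ hs
  have hδ' := modified_mem_nonZeroDivisors p hpp e he1 he2 (β * s) hδ
  refine ⟨IsLocalization.mk' Q (α * t) ⟨_, hδ'⟩, ?_⟩
  have k1 := psi_mk' P (α * t) ⟨_, hδ'⟩
  have k2 : img P (β * s * e + (1 - e)) = img P (β * s) := by
    rw [map_add, map_mul, img_e P p hpP hpp e he1 he2, mul_one,
      (img_eq_zero_iff' P p hpP hpp e he1 he2 _).mpr he1, add_zero]
  have k3 : IsLocalization.mk' K (IsLocalization.mk' RP α s) d * algebraMap RP K d =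
      algebraMap RP K (IsLocalization.mk' RP α s) := IsLocalization.mk'_spec _ _ _
  have k4 : algebraMap RP K d * img P t = img P β := by
    rw [img, RingHom.comp_apply, RingHom.comp_apply, ← map_mul, ← hd, IsLocalization.mk'_spec]
  have k5 : algebraMap RP K (IsLocalization.mk' RP α s) * img P s = img P α := by
    rw [img, RingHom.comp_apply, RingHom.comp_apply, ← map_mul, IsLocalization.mk'_spec]
  have hδ0 : img P (β * s) ≠ 0 := fun h => hδ ((img_eq_zero_iff' P p hpP hpp e he1 he2 _).mp h)
  apply mul_right_cancel₀ hδ0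
  simp only at k1
  rw [← k2, k1, k2, map_mul, map_mul, ← k4, ← k5]
  linear_combination (-(img P s * img P t)) * k3

include hpP hpp he1 he2 in
theorem isIntegrallyClosed_loc (hic : IsIntegrallyClosedIn R Q) : IsIntegrallyClosed RP := by
  have hnt : Nontrivial R :=
    ⟨⟨0, 1, fun h => hP.ne_top (Ideal.eq_top_of_isUnit_mem _ P.zero_mem (h ▸ isUnit_one))⟩⟩
  have hne : e ∉ P := e_notMem P p hpP e he1 hP.ne_top
  rw [isIntegrallyClosed_iff K]
  intro y hy
  obtain ⟨x, rfl⟩ := psi_surjective P p hpP hpp e he1 he2 y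
  obtain ⟨s, hs⟩ :=
    IsIntegral.exists_multiple_integral_of_isLocalization P.primeCompl (psi P x) hy
  have halg : algebraMap R K = img P := IsScalarTower.algebraMap_eq R RP K
  have hsw : s • psi P x = psi P (algebraMap R Q s * x) := by
    rw [map_mul, psi_algebraMap, Submonoid.smul_def, Algebra.smul_def, halg]
  rw [hsw] at hs
  obtain ⟨g, hg, hg0⟩ := hs
  have hv : psi P (eval₂ (algebraMap R Q) (algebraMap R Q s * x) g) = 0 := by
    rw [Polynomial.hom_eval₂, psi_comp, ← halg]
    exact hg0
  -- e kills v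
  have hev : algebraMap R Q e * eval₂ (algebraMap R Q) (algebraMap R Q s * x) g = 0 := by
    generalize eval₂ (algebraMap R Q) (algebraMap R Q s * x) g = v at hv
    obtain ⟨γ, δ, rfl⟩ := IsLocalization.exists_mk'_eq (nonZeroDivisors R) v
    obtain ⟨t, ht, h0⟩ := psi_mk'_eq_zero P γ δ hv
    have hγ : γ ∈ p := (exists_mul_eq_zero_iff P p hpP hpp e he1 he2 γ).mp ⟨t, ht, h0⟩
    rw [← IsLocalization.mk'_one (M := nonZeroDivisors R) Q e, ← IsLocalization.mk'_mul,
      he2 γ hγ, IsLocalization.mk'_zero]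
  have hint : IsIntegral R (algebraMap R Q e * (algebraMap R Q s * x)) := by
    refine ⟨(g * X).scaleRoots e, (monic_scaleRoots_iff e).mpr (hg.mul monic_X), ?_⟩
    rw [scaleRoots_eval₂_mul, natDegree_mul_X hg.ne_zero, eval₂_mul, eval₂_X, pow_succ]
    linear_combination
      (algebraMap R Q e ^ g.natDegree * (algebraMap R Q s * x)) * hev
  obtain ⟨r, hr⟩ := (isIntegrallyClosedIn_iff.mp hic).2 hint
  refine ⟨IsLocalization.mk' RP r s, ?_⟩
  have hs0 : img P s ≠ 0 := img_ne_zero_of_notMem P s.2
  apply mul_right_cancel₀ hs0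
  have k5 : algebraMap RP K (IsLocalization.mk' RP r s) * img P s = img P r := by
    rw [img, RingHom.comp_apply, RingHom.comp_apply, ← map_mul, IsLocalization.mk'_spec]
  rw [k5]
  have := congrArg (psi P) hr
  rw [psi_algebraMap, map_mul, map_mul, psi_algebraMap, psi_algebraMap,
    img_e P p hpP hpp e he1 he2, one_mul] at this
  rw [this, mul_comm]

end backward2


theorem backward [IsReduced R] (hfin : (minimalPrimes R).Finite)
    (hic : IsIntegrallyClosedIn R (FractionRing R)) (P : Ideal R) [P.IsPrime] :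
    IsDomain (Localization.AtPrime P) ∧ IsIntegrallyClosed (Localization.AtPrime P) := by
  obtain ⟨p, hp, hpP⟩ := Ideal.exists_minimalPrimes_le (bot_le : (⊥ : Ideal R) ≤ P)
  obtain ⟨e, he1, he2⟩ := exists_idem hfin hic p hp
  have hdom := isDomain_loc P p hpP hp.1.1 e he1 he2
  exact ⟨hdom, isIntegrallyClosed_loc P p hpP hp.1.1 e he1 he2 hic⟩

theorem main [IsReduced R] (hfin : (minimalPrimes R).Finite) :
    (∀ (p : Ideal R) [p.IsPrime], IsDomain (Localization.AtPrime p) ∧
      IsIntegrallyClosed (Localization.AtPrime p)) ↔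
      IsIntegrallyClosedIn R (FractionRing R) :=
  ⟨forward, fun hic P _ => backward hfin hic P⟩

end Groth.Agent.Lib.helper10.NormalTotal
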