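import Mathlib

set_option autoImplicit false
set_option maxHeartbeats 800000

namespace Groth.Agent.Lib.helper10.ASBasis

section Index

variable (p : ℕ) [Fact p.Prime] (n : ℕ) (hpn : ¬ p ∣ n) (a : ℤ)

/-- the residue `-(a+i)/n` mod `p` -/
noncomputable def xx (i : ℕ) : ZMod p := -((a + i : ℤ) : ZMod p) * ((n : ZMod p))⁻¹

/-- the index `m` with `p ∣ a + i + n m`, `0 ≤ m < p` -/
noncomputable def mm (i : ℕ) : ℕ := (xx p n a i).val

include hpn in
theorem n_ne : (n : ZMod p) ≠ 0 := by
  rw [Ne, ZMod.natCast_eq_zero_iff]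
  exact hpn

theorem mm_lt (i : ℕ) : mm p n a i < p := ZMod.val_lt _

include hpn in
theorem dvd_mm (i : ℕ) : (p : ℤ) ∣ a + i + n * mm p n a i := by
  rw [← ZMod.intCast_zmod_eq_zero_iff_dvd]
  push_cast
  rw [mm, ZMod.natCast_zmod_val, xx]
  have := n_ne p n hpn
  push_cast
  field_simp
  ring

include hpn in
theorem xx_add (i : ℕ) : xx p n a (i + n) = xx p n a i - 1 := by
  have := n_ne p n hpn
  simp only [xx]
  push_cast
  field_simp
  ring

include hpn in
theorem mm_add_of_ne (i : ℕ) (h : mm p n a i ≠ 0) : mm p n a (i + n) = mm p n a i - 1 := by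
  haveI : Fact (1 < p) := ⟨(Fact.out : p.Prime).one_lt⟩
  rw [mm, xx_add p n hpn, ZMod.val_sub, ZMod.val_one]
  · rfl
  · rw [ZMod.val_one]
    exact Nat.one_le_iff_ne_zero.mpr h

include hpn in
theorem mm_add_of_eq (i : ℕ) (h : mm p n a i = 0) : mm p n a (i + n) = p - 1 := by
  haveI : Fact (1 < p) := ⟨(Fact.out : p.Prime).one_lt⟩
  have h0 : xx p n a i = 0 := (ZMod.val_eq_zero _).mp h
  rw [mm, xx_add p n hpn, h0, zero_sub, ZMod.neg_val, if_neg one_ne_zero, ZMod.val_one]

/-- the exponent `l` with `p l = a + i + n m` -/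
noncomputable def ll (i : ℕ) : ℤ := (a + i + n * mm p n a i) / p

include hpn in
theorem p_mul_ll (i : ℕ) : (p : ℤ) * ll p n a i = a + i + n * mm p n a i :=
  Int.mul_ediv_cancel' (dvd_mm p n hpn a i)

include hpn in
theorem ll_add_of_ne (i : ℕ) (h : mm p n a i ≠ 0) : ll p n a (i + n) = ll p n a i := by
  have h1 := p_mul_ll p n hpn a (i + n)
  have h2 := p_mul_ll p n hpn a i
  rw [mm_add_of_ne p n hpn a i h] at h1
  have hp0 : (p : ℤ) ≠ 0 := by
    have := (Fact.out : p.Prime).pos
    exact_mod_cast this.ne'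
  apply mul_left_cancel₀ hp0
  rw [h1, h2]
  have : 1 ≤ mm p n a i := Nat.one_le_iff_ne_zero.mpr h
  push_cast [this]
  ring

include hpn in
theorem mm_eq_iff (i : ℕ) : mm p n a i = p - 1 ↔ (p : ℤ) ∣ a + i - n := by
  haveI : Fact (1 < p) := ⟨(Fact.out : p.Prime).one_lt⟩
  have hn := n_ne p n hpn
  have h1 : mm p n a i = p - 1 ↔ xx p n a i = -1 := by
    constructor
    · intro h
      apply ZMod.val_injective
      rw [ZMod.neg_val, if_neg one_ne_zero, ZMod.val_one]
      exact h
    · intro h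
      rw [mm, h, ZMod.neg_val, if_neg one_ne_zero, ZMod.val_one]
  rw [h1, ← ZMod.intCast_zmod_eq_zero_iff_dvd, xx]
  push_cast
  constructor
  · intro h
    have h2 : -((a : ZMod p) + i) = -1 * n := by
      rw [← h]
      field_simp
    linear_combination -h2
  · intro h
    have h2 : -((a : ZMod p) + i) = -1 * n := by linear_combination -h
    rw [h2]
    field_simp

end Index

end Groth.Agent.Lib.helper10.ASBasis
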