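import Mathlib

set_option autoImplicit false
set_option maxHeartbeats 800000

open PowerSeries

namespace Groth.Agent.Lib.helper10.ASUnit

universe u

section Basic

variable {k : Type u} [Field k] (p : ℕ) [Fact p.Prime] [CharP k p] (n : ℕ) (hn : 0 < n)
  (hpn : ¬ p ∣ n) (u : PowerSeries k) (hu1 : PowerSeries.constantCoeff u = 1)
  (hun : u ^ n * (1 + PowerSeries.X ^ n) = 1)

include hpn in
theorem n_ne_zero : (n : k) ≠ 0 := by
  intro h
  exact hpn ((CharP.cast_eq_zero_iff k p n).mp h)

include hpn hu1 hun in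
/-- `u = 1 + X^n r` with `r(0) = -1/n`. -/
theorem exists_r : ∃ r : PowerSeries k, u = 1 + X ^ n * r ∧ constantCoeff r = -(n : k)⁻¹ := by
  set S : PowerSeries k := ∑ i ∈ Finset.range n, u ^ i with hS
  have hSc : constantCoeff S = (n : k) := by
    rw [hS, map_sum]
    simp [hu1]
  have hSne : constantCoeff S ≠ 0 := by rw [hSc]; exact n_ne_zero p n hpn
  have h1 : S * (u - 1) = u ^ n - 1 := geom_sum_mul u n
  have h2 : u ^ n - 1 = - (u ^ n * X ^ n) := by
    have : u ^ n - 1 = u ^ n - u ^ n * (1 + X ^ n) := by rw [hun]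
    rw [this]; ring
  refine ⟨-(u ^ n) * S⁻¹, ?_, ?_⟩
  · have h3 : u - 1 = S⁻¹ * (S * (u - 1)) := by
      rw [← mul_assoc, PowerSeries.inv_mul_cancel S hSne, one_mul]
    have h4 : u - 1 = X ^ n * (-(u ^ n) * S⁻¹) := by
      rw [h3, h1, h2]; ring
    linear_combination h4
  · rw [map_mul, map_neg, map_pow, hu1, one_pow, PowerSeries.constantCoeff_inv, hSc]
    ring

include hpn hu1 hun in
theorem npow_sub_one (j : ℕ) :
    ∃ g : PowerSeries k, u ^ j - 1 = X ^ n * g ∧ constantCoeff g = -(j : k) / (n : k) := by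
  obtain ⟨r, hr, hrc⟩ := exists_r p n hpn u hu1 hun
  refine ⟨(∑ i ∈ Finset.range j, u ^ i) * r, ?_, ?_⟩
  · have h1 : (∑ i ∈ Finset.range j, u ^ i) * (u - 1) = u ^ j - 1 := geom_sum_mul u j
    have h2 : u - 1 = X ^ n * r := by linear_combination hr
    rw [← h1, h2]; ring
  · rw [map_mul, map_sum, hrc]
    simp only [map_pow, hu1, one_pow, Finset.sum_const, Finset.card_range, nsmul_eq_mul, mul_one]
    field_simp

include hpn hu1 hun in
theorem zpow_sub_one (hu : IsUnit u) (e : ℤ) :
    ∃ g : PowerSeries k, ((hu.unit ^ e : (PowerSeries k)ˣ) : PowerSeries k) - 1 = X ^ n * g ∧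
      constantCoeff g = -(e : k) / (n : k) := by
  rcases e with j | j
  · obtain ⟨g, hg, hgc⟩ := npow_sub_one p n hpn u hu1 hun j
    refine ⟨g, ?_, ?_⟩
    · rw [Int.ofNat_eq_natCast, zpow_natCast, Units.val_pow_eq_pow_val, IsUnit.unit_spec]
      exact hg
    · rw [hgc]; simp
  · obtain ⟨g, hg, hgc⟩ := npow_sub_one p n hpn u hu1 hun (j + 1)
    set w : PowerSeries k := ((hu.unit ^ (Int.negSucc j) : (PowerSeries k)ˣ) : PowerSeries k) with hw
    have hmul : u ^ (j + 1) * w = 1 := by
      rw [hw, zpow_negSucc]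
      calc u ^ (j + 1) * ((hu.unit ^ (j + 1))⁻¹ : (PowerSeries k)ˣ)
          = ((hu.unit ^ (j + 1) : (PowerSeries k)ˣ) : PowerSeries k) *
              ((hu.unit ^ (j + 1))⁻¹ : (PowerSeries k)ˣ) := by
            rw [Units.val_pow_eq_pow_val, hu.unit_spec]
        _ = 1 := Units.mul_inv _
    have hwc : constantCoeff w = 1 := by
      have := congrArg constantCoeff hmul
      rw [map_mul, map_pow, hu1, one_pow, one_mul, map_one] at this
      exact this
    refine ⟨-w * g, ?_, ?_⟩
    · have : w - 1 = -w * (u ^ (j + 1) - 1) := by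
        linear_combination hmul
      rw [this, hg]; ring
    · rw [map_mul, map_neg, hwc, hgc]
      simp only [Int.cast_negSucc]
      push_cast
      ring

end Basic

section Subst

variable {k : Type u} [Field k] (p : ℕ) [Fact p.Prime] [CharP k p] (n : ℕ)
  (hpn : ¬ p ∣ n) (u : PowerSeries k) (hu1 : PowerSeries.constantCoeff u = 1)
  (hun : u ^ n * (1 + PowerSeries.X ^ n) = 1)

theorem hasSubst_X_mul : HasSubst (X * u) :=
  HasSubst.of_constantCoeff_zero' (by simp)

include hpn hu1 hun in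
/-- `h(tu) ≡ h(t)` modulo `t^(n+1)`. -/
theorem X_pow_dvd_subst_sub (h : PowerSeries k) :
    X ^ (n + 1) ∣ PowerSeries.subst (X * u) h - h := by
  obtain ⟨r, hr, -⟩ := exists_r p n hpn u hu1 hun
  have ha := hasSubst_X_mul u
  have hdiff : X * u - X = X ^ (n + 1) * r := by rw [hr]; ring
  -- polynomials
  have hpoly : ∀ P : Polynomial k,
      X ^ (n + 1) ∣ PowerSeries.subst (X * u) (P : PowerSeries k) - (P : PowerSeries k) := by
    intro P
    have h1 : (P : PowerSeries k) = Polynomial.aeval (X : PowerSeries k) P := by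
      have h2 := subst_coe (HasSubst.X' (R := k)) P
      rw [← h2]
      exact (X_subst _).symm
    rw [subst_coe ha, h1, Polynomial.aeval_def, Polynomial.aeval_def,
      Polynomial.eval₂_eq_eval_map, Polynomial.eval₂_eq_eval_map]
    exact dvd_trans ⟨r, hdiff⟩ (Polynomial.sub_dvd_eval_sub _ _ _)
  have hsplit := eq_X_pow_mul_shift_add_trunc (n + 1) h
  set h' : PowerSeries k := PowerSeries.mk fun i => coeff (i + (n + 1)) h with hh'
  have h3 : PowerSeries.subst (X * u) h - h =
      (PowerSeries.subst (X * u) ((trunc (n + 1) h : Polynomial k) : PowerSeries k) -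
        ((trunc (n + 1) h : Polynomial k) : PowerSeries k)) +
      X ^ (n + 1) * (u ^ (n + 1) * PowerSeries.subst (X * u) h' - h') := by
    conv_lhs => rw [hsplit]
    rw [subst_add ha, subst_mul ha, subst_pow ha, subst_X ha]
    ring
  rw [h3]
  exact dvd_add (hpoly _) (dvd_mul_right _ _)

end Subst

section Indep

variable {k : Type u} [Field k] (p : ℕ) [Fact p.Prime] [CharP k p] (n : ℕ) (hn : 0 < n)
  (hpn : ¬ p ∣ n) (u : PowerSeries k) (hu1 : PowerSeries.constantCoeff u = 1)
  (hun : u ^ n * (1 + PowerSeries.X ^ n) = 1) (hu : IsUnit u) (a : ℤ)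

include hpn hu1 hun in
/-- the twisted coboundary operator has image in `(X^n)` -/
theorem X_pow_dvd_twist (h : PowerSeries k) :
    X ^ n ∣ ((hu.unit ^ a : (PowerSeries k)ˣ) : PowerSeries k) * PowerSeries.subst (X * u) h - h := by
  obtain ⟨g, hg, -⟩ := zpow_sub_one p n hpn u hu1 hun hu a
  obtain ⟨w, hw⟩ := X_pow_dvd_subst_sub p n hpn u hu1 hun h
  have : ((hu.unit ^ a : (PowerSeries k)ˣ) : PowerSeries k) * PowerSeries.subst (X * u) h - h =
      X ^ n * (g * PowerSeries.subst (X * u) h + X * w) := by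
    have e1 : ((hu.unit ^ a : (PowerSeries k)ˣ) : PowerSeries k) = 1 + X ^ n * g := by
      linear_combination hg
    have e2 : PowerSeries.subst (X * u) h - h = X ^ n * (X * w) := by
      rw [hw]; ring
    rw [e1]
    linear_combination e2
  rw [this]
  exact dvd_mul_right _ _

include hn hpn hu1 hun in
theorem coef_eq_zero (c : ℕ → PowerSeries k)
    (hc : ∀ m : ℕ, 1 ≤ m → m ≤ n →
      PowerSeries.X ^ m * c m = ((hu.unit ^ (a - m) : (PowerSeries k)ˣ) : PowerSeries k) - 1)
    (coef : ℕ → k) (h : PowerSeries k)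
    (hh : ((hu.unit ^ a : (PowerSeries k)ˣ) : PowerSeries k) * PowerSeries.subst (PowerSeries.X * u) h - h =
      ∑ m ∈ (Finset.Icc 1 n).filter (fun m : ℕ => ¬ (p : ℤ) ∣ a - (m : ℤ)), coef m • c m) :
    ∀ m ∈ (Finset.Icc 1 n).filter (fun m : ℕ => ¬ (p : ℤ) ∣ a - (m : ℤ)), coef m = 0 := by
  have hnk := n_ne_zero p n hpn (k := k)
  have key : ∀ m ∈ (Finset.Icc 1 n).filter (fun m : ℕ => ¬ (p : ℤ) ∣ a - (m : ℤ)),
      ∃ g : PowerSeries k, c m = X ^ (n - m) * g ∧ constantCoeff g ≠ 0 := by
    intro m hm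
    rw [Finset.mem_filter, Finset.mem_Icc] at hm
    obtain ⟨⟨hm1, hmn⟩, hpm⟩ := hm
    obtain ⟨g, hg, hgc⟩ := zpow_sub_one p n hpn u hu1 hun hu (a - m)
    refine ⟨g, ?_, ?_⟩
    · have h1 : X ^ m * c m = X ^ m * (X ^ (n - m) * g) := by
        rw [hc m hm1 hmn, hg, ← mul_assoc, ← pow_add, Nat.add_sub_cancel' hmn]
      exact mul_left_cancel₀ (pow_ne_zero _ X_ne_zero) h1
    · rw [hgc]
      have : ((a - m : ℤ) : k) ≠ 0 := by
        intro h0
        exact hpm ((CharP.intCast_eq_zero_iff k p _).mp h0)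
      exact div_ne_zero (neg_ne_zero.mpr this) hnk
  choose! g hg using key
  have hdvd : X ^ n ∣ ∑ m ∈ (Finset.Icc 1 n).filter (fun m : ℕ => ¬ (p : ℤ) ∣ a - (m : ℤ)),
      coef m • c m := by
    rw [← hh]
    exact X_pow_dvd_twist p n hpn u hu1 hun hu a h
  rw [X_pow_dvd_iff] at hdvd
  have main : ∀ e, e < n → ∀ m ∈ (Finset.Icc 1 n).filter (fun m : ℕ => ¬ (p : ℤ) ∣ a - (m : ℤ)),
      n - m = e → coef m = 0 := by
    intro e
    induction e using Nat.strong_induction_on with
    | _ e ih =>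
      intro he m hm hme
      have h0 := hdvd e he
      rw [map_sum] at h0
      have hsingle : ∑ m' ∈ (Finset.Icc 1 n).filter (fun m : ℕ => ¬ (p : ℤ) ∣ a - (m : ℤ)),
          coeff e (coef m' • c m') = coef m * constantCoeff (g m) := by
        rw [Finset.sum_eq_single m]
        · rw [(hg m hm).1, coeff_smul, coeff_X_pow_mul', if_pos (le_of_eq hme), hme,
            Nat.sub_self, coeff_zero_eq_constantCoeff_apply, smul_eq_mul]
        · intro m' hm' hne
          rw [(hg m' hm').1, coeff_smul, coeff_X_pow_mul']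
          have hm'' := hm'
          rw [Finset.mem_filter, Finset.mem_Icc] at hm''
          have hm0 := hm
          rw [Finset.mem_filter, Finset.mem_Icc] at hm0
          by_cases hle : n - m' ≤ e
          · rcases lt_or_eq_of_le hle with hlt | heq
            · rw [ih (n - m') hlt (lt_trans hlt he) m' hm' rfl, zero_smul]
            · exfalso
              apply hne
              omega
          · rw [if_neg hle, smul_zero]
        · intro hnot
          exact absurd hm hnot
      rw [hsingle] at h0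
      rcases mul_eq_zero.mp h0 with h1 | h1
      · exact h1
      · exact absurd h1 (hg m hm).2
  intro m hm
  have hm0 := hm
  rw [Finset.mem_filter, Finset.mem_Icc] at hm0
  exact main (n - m) (by omega) m hm rfl

end Indep

end Groth.Agent.Lib.helper10.ASUnit
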