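import Mathlib
import Groth.Agent.Lib.helper10.ASUnit

set_option autoImplicit false
set_option maxHeartbeats 800000

open PowerSeries

namespace Groth.Agent.Lib.helper10.ASUnit

universe u

section Roots

variable {k : Type u} [Field k] (n : ℕ) (hnk : (n : k) ≠ 0)

include hnk in
/-- if `v^n (1 + s) = 1` and `v(0) = 1` then `s ∣ v - 1` -/
theorem dvd_sub_one_of_pow (v s : PowerSeries k) (hv1 : constantCoeff v = 1)
    (hvn : v ^ n * (1 + s) = 1) : s ∣ v - 1 := by
  set S : PowerSeries k := ∑ i ∈ Finset.range n, v ^ i with hS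
  have hSc : constantCoeff S = (n : k) := by
    rw [hS, map_sum]
    simp [hv1]
  have hSne : constantCoeff S ≠ 0 := by rw [hSc]; exact hnk
  have h1 : S * (v - 1) = v ^ n - 1 := geom_sum_mul v n
  have h2 : v ^ n - 1 = - (v ^ n * s) := by
    have : v ^ n - 1 = v ^ n - v ^ n * (1 + s) := by rw [hvn]
    rw [this]; ring
  have h3 : v - 1 = S⁻¹ * (S * (v - 1)) := by
    rw [← mul_assoc, PowerSeries.inv_mul_cancel S hSne, one_mul]
  refine ⟨-(v ^ n) * S⁻¹, ?_⟩
  rw [h3, h1, h2]; ring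

include hnk in
/-- uniqueness of `n`-th roots with constant coefficient one -/
theorem eq_of_pow_eq (α β : PowerSeries k) (hα : constantCoeff α = 1) (hβ : constantCoeff β = 1)
    (h : α ^ n = β ^ n) : α = β := by
  have h1 : (∑ i ∈ Finset.range n, α ^ i * β ^ (n - 1 - i)) * (α - β) = α ^ n - β ^ n :=
    (Commute.all α β).geom_sum₂_mul n
  rw [h, sub_self] at h1
  have hc : constantCoeff (∑ i ∈ Finset.range n, α ^ i * β ^ (n - 1 - i)) = (n : k) := by
    rw [map_sum]
    simp [hα, hβ]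
  have hne : (∑ i ∈ Finset.range n, α ^ i * β ^ (n - 1 - i)) ≠ 0 := by
    intro h0
    rw [h0, map_zero] at hc
    exact hnk hc.symm
  rcases mul_eq_zero.mp h1 with h2 | h2
  · exact absurd h2 hne
  · exact sub_eq_zero.mp h2

end Roots

section Units

variable {k : Type u} [Field k]

/-- units congruent to one modulo `d` are stable under integer powers -/
theorem dvd_zpow_sub_one (v d : PowerSeries k) (hv : IsUnit v) (hd : d ∣ v - 1) (e : ℤ) :
    d ∣ ((hv.unit ^ e : (PowerSeries k)ˣ) : PowerSeries k) - 1 := by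
  have hnat : ∀ j : ℕ, d ∣ v ^ j - 1 := by
    intro j
    have h1 : (∑ i ∈ Finset.range j, v ^ i) * (v - 1) = v ^ j - 1 := geom_sum_mul v j
    rw [← h1]
    exact dvd_mul_of_dvd_right hd _
  rcases e with j | j
  · rw [Int.ofNat_eq_natCast, zpow_natCast, Units.val_pow_eq_pow_val, IsUnit.unit_spec]
    exact hnat j
  · set w : PowerSeries k := ((hv.unit ^ (Int.negSucc j) : (PowerSeries k)ˣ) : PowerSeries k) with hw
    have hmul : v ^ (j + 1) * w = 1 := by
      rw [hw, zpow_negSucc]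
      calc v ^ (j + 1) * ((hv.unit ^ (j + 1))⁻¹ : (PowerSeries k)ˣ)
          = ((hv.unit ^ (j + 1) : (PowerSeries k)ˣ) : PowerSeries k) *
              ((hv.unit ^ (j + 1))⁻¹ : (PowerSeries k)ˣ) := by
            rw [Units.val_pow_eq_pow_val, hv.unit_spec]
        _ = 1 := Units.mul_inv _
    have : w - 1 = -w * (v ^ (j + 1) - 1) := by
      linear_combination hmul
    rw [this]
    exact dvd_mul_of_dvd_right (hnat _) _

end Units

section Inv

variable {k : Type u} [Field k] (p : ℕ) [Fact p.Prime] [CharP k p] (n : ℕ) (hn : 0 < n)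
  (hpn : ¬ p ∣ n) (u : PowerSeries k) (hu1 : PowerSeries.constantCoeff u = 1)
  (hun : u ^ n * (1 + PowerSeries.X ^ n) = 1)

theorem constantCoeff_subst_of_one (b : PowerSeries k) (hb : constantCoeff b = 0)
    (f : PowerSeries k) (hf : constantCoeff f = 1) : constantCoeff (subst b f) = 1 := by
  have hb' : HasSubst b := HasSubst.of_constantCoeff_zero' hb
  have h1 : f = 1 + (f - 1) := by ring
  have h2 : subst b (1 : PowerSeries k) = 1 := by
    rw [← coe_substAlgHom hb', map_one]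
  rw [h1, subst_add hb', h2, map_add, map_one]
  have h3 : constantCoeff (subst b (f - 1)) = 0 :=
    constantCoeff_subst_eq_zero hb (f - 1) (by rw [map_sub, hf, map_one, sub_self])
  rw [h3, add_zero]

include hn hun hu1 in
theorem exists_v [IsAlgClosed k] : ∃ v : PowerSeries k, constantCoeff v = 1 ∧
    v ^ n * (1 - X ^ (n * (p - 1))) = 1 := by
  obtain ⟨ζ, hζ⟩ := IsAlgClosed.exists_pow_nat_eq (-1 : k) hn
  have hp1 : p - 1 ≠ 0 := by
    have := (Fact.out : p.Prime).two_le
    omega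
  have hb0 : constantCoeff (C ζ * X ^ (p - 1) : PowerSeries k) = 0 := by
    rw [map_mul, map_pow, constantCoeff_X, zero_pow hp1, mul_zero]
  have hb : HasSubst (C ζ * X ^ (p - 1) : PowerSeries k) := HasSubst.of_constantCoeff_zero' hb0
  refine ⟨subst (C ζ * X ^ (p - 1)) u, constantCoeff_subst_of_one _ hb0 u hu1, ?_⟩
  have h1 := congrArg (substAlgHom hb) hun
  rw [map_mul, map_pow, map_add, map_pow, map_one, substAlgHom_X, coe_substAlgHom, mul_pow, ← map_pow,
    hζ, ← pow_mul, mul_comm (p - 1) n] at h1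
  have h2 : (1 : PowerSeries k) + C (-1) * X ^ (n * (p - 1)) = 1 - X ^ (n * (p - 1)) := by
    rw [map_neg, map_one]; ring
  rw [h2] at h1
  exact h1

include hpn hu1 hun in
/-- the key computation: `u^(pn) (1 - X^N) = 1 - (X u)^N`, `N = n (p-1)`. -/
theorem key_identity :
    (u ^ p) ^ n * (1 - X ^ (n * (p - 1))) = 1 - (X * u) ^ (n * (p - 1)) := by
  haveI : CharP (PowerSeries k) p :=
    charP_of_injective_algebraMap (algebraMap k (PowerSeries k)).injective p
  have hp : p - 1 + 1 = p := by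
    have := (Fact.out : p.Prime).two_le
    omega
  set T : PowerSeries k := X ^ n with hT
  set w : PowerSeries k := u ^ n with hw
  have hwT : w * (1 + T) = 1 := hun
  have e1 : (u ^ p) ^ n = w ^ p := by rw [hw, ← pow_mul, ← pow_mul, mul_comm]
  have e2 : X ^ (n * (p - 1)) = T ^ (p - 1) := by rw [hT, ← pow_mul]
  have e3 : (X * u) ^ (n * (p - 1)) = (T * w) ^ (p - 1) := by
    rw [hT, hw, ← mul_pow, ← pow_mul]
  rw [e1, e2, e3]
  have h1 : w ^ p * (1 + T) ^ p = 1 := by rw [← mul_pow, hwT, one_pow]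
  have h2 : (1 + T) ^ p = 1 + T ^ p := by rw [add_pow_char, one_pow]
  have h3 : (T * w) ^ (p - 1) * (1 + T) ^ p = T ^ (p - 1) * (1 + T) := by
    have h5 : (1 + T) ^ p = (1 + T) ^ (p - 1) * (1 + T) := by rw [← pow_succ, hp]
    rw [h5, ← mul_assoc, ← mul_pow, mul_assoc T w, hwT, mul_one]
  have h4 : (1 - (T * w) ^ (p - 1)) * (1 + T) ^ p = 1 - T ^ (p - 1) := by
    rw [sub_mul, one_mul, h3, h2]
    have : T ^ p = T ^ (p - 1) * T := by rw [← pow_succ, hp]
    rw [this]; ring
  calc w ^ p * (1 - T ^ (p - 1)) = w ^ p * ((1 - (T * w) ^ (p - 1)) * (1 + T) ^ p) := by rw [h4]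
    _ = (w ^ p * (1 + T) ^ p) * (1 - (T * w) ^ (p - 1)) := by ring
    _ = 1 - (T * w) ^ (p - 1) := by rw [h1, one_mul]

include hpn hu1 hun in
/-- `y = X^p v` is invariant: `u^p · v(Xu) = v`. -/
theorem invariant_v (v : PowerSeries k) (hv1 : constantCoeff v = 1)
    (hvn : v ^ n * (1 - X ^ (n * (p - 1))) = 1) :
    u ^ p * subst (X * u) v = v := by
  have ha := hasSubst_X_mul u
  have ha0 : constantCoeff (X * u) = 0 := by simp
  have h1 := congrArg (substAlgHom ha) hvn
  rw [map_mul, map_pow, map_sub, map_pow, map_one, substAlgHom_X, coe_substAlgHom] at h1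
  have h2 : (u ^ p * subst (X * u) v) ^ n * (1 - X ^ (n * (p - 1))) = 1 := by
    calc (u ^ p * subst (X * u) v) ^ n * (1 - X ^ (n * (p - 1)))
        = subst (X * u) v ^ n * ((u ^ p) ^ n * (1 - X ^ (n * (p - 1)))) := by ring
      _ = 1 := by rw [key_identity p n hpn u hu1 hun]; exact h1
  apply eq_of_pow_eq n (n_ne_zero p n hpn)
  · rw [map_mul, map_pow, hu1, one_pow, one_mul]
    exact constantCoeff_subst_of_one _ ha0 v hv1
  · exact hv1
  · calc (u ^ p * subst (X * u) v) ^ n
        = (u ^ p * subst (X * u) v) ^ n * (v ^ n * (1 - X ^ (n * (p - 1)))) := by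
          rw [hvn, mul_one]
      _ = v ^ n * ((u ^ p * subst (X * u) v) ^ n * (1 - X ^ (n * (p - 1)))) := by ring
      _ = v ^ n := by rw [h2, mul_one]

end Inv

section Main

variable {k : Type u} [Field k] [IsAlgClosed k] (p : ℕ) [Fact p.Prime] [CharP k p] (n : ℕ)
  (hn : 0 < n) (hpn : ¬ p ∣ n) (u : PowerSeries k) (hu1 : PowerSeries.constantCoeff u = 1)
  (hun : u ^ n * (1 + PowerSeries.X ^ n) = 1) (hu : IsUnit u) (a : ℤ) (m : ℕ)

include hn hpn hu1 hun in
theorem exists_twisted_coboundary (hm1 : 1 ≤ m) (hmn : m ≤ n) (hdvd : (p : ℤ) ∣ a - m)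
    (c : PowerSeries k)
    (hc : PowerSeries.X ^ m * c = ((hu.unit ^ (a - m) : (PowerSeries k)ˣ) : PowerSeries k) - 1) :
    ∃ h : PowerSeries k,
      ((hu.unit ^ a : (PowerSeries k)ˣ) : PowerSeries k) * PowerSeries.subst (PowerSeries.X * u) h - h
        = c := by
  obtain ⟨j, hj⟩ := hdvd
  obtain ⟨v, hv1, hvn⟩ := exists_v p n hn u hu1 hun
  have hnk := n_ne_zero p n hpn (k := k)
  have hv : IsUnit v := by
    rw [isUnit_iff_constantCoeff, hv1]; exact isUnit_one
  have hp2 := (Fact.out : p.Prime).two_le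
  -- `X^N ∣ v - 1`
  have hd1 : X ^ (n * (p - 1)) ∣ v - 1 := by
    have h1 : v ^ n * (1 + -(X ^ (n * (p - 1)))) = 1 := by rw [← sub_eq_add_neg]; exact hvn
    exact (neg_dvd).mp (dvd_sub_one_of_pow n hnk v _ hv1 h1)
  have hd2 : X ^ m ∣ 1 - ((hv.unit ^ j : (PowerSeries k)ˣ) : PowerSeries k) := by
    have h1 := dvd_zpow_sub_one v _ hv hd1 j
    have h2 : X ^ m ∣ (X : PowerSeries k) ^ (n * (p - 1)) := by
      apply pow_dvd_pow
      calc m ≤ n := hmn
        _ = n * 1 := (mul_one n).symm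
        _ ≤ n * (p - 1) := Nat.mul_le_mul_left n (by omega)
    have h3 := dvd_trans h2 h1
    rw [← neg_sub] at h3
    exact (dvd_neg).mp h3
  obtain ⟨h, hh⟩ := hd2
  refine ⟨h, ?_⟩
  have ha := hasSubst_X_mul u
  set σ : PowerSeries k →ₐ[k] PowerSeries k := substAlgHom ha with hσ
  have hσs : ∀ f, subst (X * u) f = σ f := fun f => by rw [hσ, coe_substAlgHom]
  set U : (PowerSeries k)ˣ := hu.unit with hU
  set V : (PowerSeries k)ˣ := hv.unit with hV
  set σV : (PowerSeries k)ˣ := Units.map (σ : PowerSeries k →* PowerSeries k) V with hσV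
  have hUV : U ^ p * σV = V := by
    apply Units.ext
    rw [Units.val_mul, Units.val_pow_eq_pow_val, hσV, Units.coe_map]
    show u ^ p * σ v = v
    rw [← hσs]
    exact invariant_v p n hpn u hu1 hun v hv1 hvn
  have hUpow : U ^ (a - m) * σV ^ j = V ^ j := by
    rw [hj, zpow_mul, zpow_natCast, ← mul_zpow, hUV]
  have hσVj : σ ((V ^ j : (PowerSeries k)ˣ) : PowerSeries k) = ((σV ^ j : (PowerSeries k)ˣ) : PowerSeries k) := by
    rw [hσV, ← map_zpow, Units.coe_map]
    rfl
  have hUa : ((U ^ a : (PowerSeries k)ˣ) : PowerSeries k) =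
      ((U ^ (a - m) : (PowerSeries k)ˣ) : PowerSeries k) * u ^ m := by
    have : U ^ a = U ^ (a - m) * U ^ m := by
      rw [← zpow_natCast U m, ← zpow_add]; congr 1; ring
    rw [this, Units.val_mul, Units.val_pow_eq_pow_val]
    rfl
  have hXm : σ (X ^ m * h) = (X * u) ^ m * σ h := by
    rw [map_mul, map_pow, hσ, substAlgHom_X]
  apply mul_left_cancel₀ (pow_ne_zero m (X_ne_zero (R := k)))
  rw [hc, hσs]
  calc X ^ m * (((U ^ a : (PowerSeries k)ˣ) : PowerSeries k) * σ h - h)
      = ((U ^ (a - m) : (PowerSeries k)ˣ) : PowerSeries k) * ((X * u) ^ m * σ h) - X ^ m * h := by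
        rw [hUa]; ring
    _ = ((U ^ (a - m) : (PowerSeries k)ˣ) : PowerSeries k) *
          (1 - ((σV ^ j : (PowerSeries k)ˣ) : PowerSeries k)) -
          (1 - ((V ^ j : (PowerSeries k)ˣ) : PowerSeries k)) := by
        rw [← hXm, ← hh, map_sub, map_one, hσVj]
    _ = ((U ^ (a - m) : (PowerSeries k)ˣ) : PowerSeries k) - 1 := by
        rw [mul_sub, mul_one, ← Units.val_mul, hUpow]; ring

end Main

end Groth.Agent.Lib.helper10.ASUnit
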