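import Mathlib

set_option autoImplicit false
set_option maxHeartbeats 800000

open PowerSeries

namespace Groth.Agent.Lib.helper10.TriBasis

universe u

variable {k : Type u} [Field k]

/-- `L` preserves the `X`-adic filtration. -/
def Cont (L : PowerSeries k →ₗ[k] PowerSeries k) : Prop :=
  ∀ (j : ℕ) (h : PowerSeries k), X ^ j ∣ h → X ^ j ∣ L h

theorem Cont.comp {L L' : PowerSeries k →ₗ[k] PowerSeries k} (h : Cont L) (h' : Cont L') :
    Cont (L ∘ₗ L') := fun j x hx => h j _ (h' j x hx)

theorem Cont.sub {L L' : PowerSeries k →ₗ[k] PowerSeries k} (h : Cont L) (h' : Cont L') :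
    Cont (L - L') := fun j x hx => by
  rw [LinearMap.sub_apply]; exact dvd_sub (h j x hx) (h' j x hx)

theorem Cont.id : Cont (LinearMap.id : PowerSeries k →ₗ[k] PowerSeries k) := fun _ _ hx => hx

theorem Cont.one : Cont (1 : PowerSeries k →ₗ[k] PowerSeries k) := fun _ _ hx => hx

theorem Cont.pow {L : PowerSeries k →ₗ[k] PowerSeries k} (h : Cont L) (r : ℕ) : Cont (L ^ r) := by
  induction r with
  | zero => rw [pow_zero]; exact Cont.one
  | succ r ih =>
    rw [pow_succ]
    exact fun j x hx => ih j _ (h j x hx)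

theorem eq_of_forall_dvd {a b : PowerSeries k} (h : ∀ J : ℕ, X ^ J ∣ a - b) : a = b := by
  rw [← sub_eq_zero]
  ext j
  have := (X_pow_dvd_iff.mp (h (j + 1))) j (Nat.lt_succ_self j)
  simpa using this

section

variable (F : ℕ → PowerSeries k)

/-- the "infinite linear combination" `∑ c i • F i` -/
noncomputable def T : (ℕ → k) →ₗ[k] PowerSeries k where
  toFun c := PowerSeries.mk fun j => ∑ i ∈ Finset.range (j + 1), c i * coeff j (F i)
  map_add' c c' := by
    ext j
    simp only [coeff_mk, map_add, Pi.add_apply, add_mul, Finset.sum_add_distrib]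
  map_smul' r c := by
    ext j
    simp only [coeff_mk, Pi.smul_apply, smul_eq_mul, RingHom.id_apply, coeff_smul,
      Finset.mul_sum, mul_assoc]

theorem coeff_T (c : ℕ → k) (j : ℕ) :
    coeff j (T F c) = ∑ i ∈ Finset.range (j + 1), c i * coeff j (F i) := by
  simp [T]

variable (hF1 : ∀ i, X ^ i ∣ F i)

include hF1 in
theorem coeff_F_of_lt {i j : ℕ} (h : j < i) : coeff j (F i) = 0 :=
  (X_pow_dvd_iff.mp (hF1 i)) j h

include hF1 in
theorem T_trunc (c : ℕ → k) (J : ℕ) :
    X ^ J ∣ T F c - ∑ i ∈ Finset.range J, c i • F i := by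
  rw [X_pow_dvd_iff]
  intro j hj
  rw [map_sub, coeff_T, map_sum, sub_eq_zero]
  have hsub : Finset.range (j + 1) ⊆ Finset.range J := by
    intro x hx
    rw [Finset.mem_range] at hx ⊢
    omega
  rw [← Finset.sum_subset hsub]
  · refine Finset.sum_congr rfl fun i _ => ?_
    rw [coeff_smul, smul_eq_mul]
  · intro x _ hx
    rw [Finset.mem_range, not_lt] at hx
    rw [coeff_smul, coeff_F_of_lt F hF1 (by omega), smul_zero]

variable (hF2 : ∀ i, coeff i (F i) ≠ 0)

include hF2 in
theorem T_injective : Function.Injective (T F) := by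
  rw [← LinearMap.ker_eq_bot, LinearMap.ker_eq_bot']
  intro c hc
  funext j
  induction j using Nat.strong_induction_on with
  | _ j ih =>
    have h1 := coeff_T F c j
    rw [hc, map_zero, Finset.sum_range_succ] at h1
    have h2 : ∑ i ∈ Finset.range j, c i * coeff j (F i) = 0 := by
      refine Finset.sum_eq_zero fun i hi => ?_
      rw [Finset.mem_range] at hi
      have := ih i hi
      simp only [Pi.zero_apply] at this
      rw [this, zero_mul]
    rw [h2, zero_add] at h1
    rcases mul_eq_zero.mp h1.symm with h | h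
    · simpa using h
    · exact absurd h (hF2 j)

/-- coordinates with respect to the triangular family `F` -/
noncomputable def coord (h : PowerSeries k) : ℕ → k
  | j => (coeff j h - ∑ i : Fin j, coord h i.1 * coeff j (F i.1)) / coeff j (F j)
decreasing_by exact i.2

include hF2 in
theorem T_coord (h : PowerSeries k) : T F (coord F h) = h := by
  ext j
  rw [coeff_T, Finset.sum_range_succ]
  have h1 : coord F h j * coeff j (F j) =
      coeff j h - ∑ i : Fin j, coord F h i.1 * coeff j (F i.1) := by
    rw [coord]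
    field_simp [hF2 j]
  rw [h1, Finset.sum_range (fun i => coord F h i * coeff j (F i))]
  ring

include hF2 in
theorem T_surjective : Function.Surjective (T F) := fun h => ⟨coord F h, T_coord F hF2 h⟩

/-- `T` as a linear equivalence -/
noncomputable def Teq : (ℕ → k) ≃ₗ[k] PowerSeries k :=
  LinearEquiv.ofBijective (T F) ⟨T_injective F hF2, T_surjective F hF2⟩

theorem Teq_apply (c : ℕ → k) : Teq F hF2 c = T F c := rfl

/-- the coefficient-level weighted shift -/
def sh (d : ℕ) (lam : ℕ → k) (c : ℕ → k) : ℕ → k :=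
  fun j => if d ≤ j then lam (j - d) * c (j - d) else 0

include hF1 in
theorem shift (L : PowerSeries k →ₗ[k] PowerSeries k) (hL : Cont L) (d : ℕ) (lam : ℕ → k)
    (hLF : ∀ i, L (F i) = lam i • F (i + d)) (c : ℕ → k) :
    L (T F c) = T F (sh d lam c) := by
  ext j
  -- left side
  have hl : coeff j (L (T F c)) = coeff j (L (∑ i ∈ Finset.range (j + 1), c i • F i)) := by
    have h1 := hL (j + 1) _ (T_trunc F hF1 c (j + 1))
    rw [map_sub] at h1
    have := (X_pow_dvd_iff.mp h1) j (Nat.lt_succ_self j)
    rw [map_sub, sub_eq_zero] at this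
    exact this
  rw [hl, map_sum, map_sum, coeff_T]
  simp only [map_smul, hLF]
  simp only [smul_eq_mul]
  by_cases hd : d ≤ j
  · obtain ⟨e, rfl⟩ := Nat.exists_eq_add_of_le hd
    have hA : ∑ x ∈ Finset.range (d + e + 1), c x * (lam x * coeff (d + e) (F (x + d))) =
        ∑ x ∈ Finset.range (e + 1), c x * (lam x * coeff (d + e) (F (x + d))) := by
      have hsub : Finset.range (e + 1) ⊆ Finset.range (d + e + 1) := by
        intro x hx
        rw [Finset.mem_range] at hx ⊢
        omega
      rw [← Finset.sum_subset hsub]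
      intro x _ hx
      rw [Finset.mem_range, not_lt] at hx
      rw [coeff_F_of_lt F hF1 (by omega), mul_zero, mul_zero]
    have hB : ∑ i ∈ Finset.range (d + e + 1), sh d lam c i * coeff (d + e) (F i) =
        ∑ x ∈ Finset.range (e + 1), c x * (lam x * coeff (d + e) (F (x + d))) := by
      have hr : Finset.range (d + e + 1) = Finset.range (d + (e + 1)) := by rw [add_assoc]
      rw [hr, Finset.sum_range_add]
      have hz : ∑ x ∈ Finset.range d, sh d lam c x * coeff (d + e) (F x) = 0 := by
        refine Finset.sum_eq_zero fun x hx => ?_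
        rw [Finset.mem_range] at hx
        simp [sh, not_le.mpr hx]
      rw [hz, zero_add]
      refine Finset.sum_congr rfl fun x _ => ?_
      simp only [sh, le_add_iff_nonneg_right, zero_le, if_true, Nat.add_sub_cancel_left]
      rw [add_comm x d]
      ring
    rw [hA, hB]
  · rw [not_le] at hd
    rw [Finset.sum_eq_zero, Finset.sum_eq_zero]
    · intro x hx
      rw [Finset.mem_range] at hx
      simp [sh, not_le.mpr (show x < d by omega)]
    · intro x _
      rw [coeff_F_of_lt F hF1 (by omega), mul_zero, mul_zero]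

end

section Dim

variable (F : ℕ → PowerSeries k) (hF1 : ∀ i, X ^ i ∣ F i) (hF2 : ∀ i, coeff i (F i) ≠ 0)
  (δ N : PowerSeries k →ₗ[k] PowerSeries k) (hδ : Cont δ) (hN : Cont N)
  (n d' : ℕ) (μ ν : ℕ → k)
  (hδF : ∀ i, δ (F i) = μ i • F (i + n)) (hNF : ∀ i, N (F i) = ν i • F (i + d'))
  (bad : ℕ → Prop) [DecidablePred bad]
  (hν : ∀ i, ν i ≠ 0 ↔ bad i) (hμ : ∀ i, μ i = 0 ↔ bad (i + n))

include hF1 hF2 hN hNF hν in
theorem mem_ker_iff (c : ℕ → k) : N (T F c) = 0 ↔ ∀ i, bad i → c i = 0 := by
  rw [shift F hF1 N hN d' ν hNF c]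
  constructor
  · intro h i hi
    have h0 : sh d' ν c = 0 := T_injective F hF2 (by rw [h, map_zero])
    have h1 := congrFun h0 (i + d')
    simp only [sh, le_add_iff_nonneg_left, zero_le, if_true, Nat.add_sub_cancel, Pi.zero_apply] at h1
    rcases mul_eq_zero.mp h1 with h2 | h2
    · exact absurd h2 ((hν i).mpr hi)
    · exact h2
  · intro h
    have h0 : sh d' ν c = 0 := by
      funext j
      simp only [sh, Pi.zero_apply]
      split_ifs with hj
      · by_cases hb : bad (j - d')
        · rw [h _ hb, mul_zero]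
        · have : ν (j - d') = 0 := by
            by_contra hne
            exact hb ((hν _).mp hne)
          rw [this, zero_mul]
      · rfl
    rw [h0, map_zero]

/-- the index set of the quotient -/
def Sset : Finset ℕ := (Finset.range n).filter (fun j => ¬ bad j)

/-- the coordinate map on `ker N` -/
noncomputable def Phi : LinearMap.ker N →ₗ[k] (↥(Sset n bad) → k) where
  toFun h := fun s => (Teq F hF2).symm h.1 s.1
  map_add' h h' := by
    funext s
    simp
  map_smul' r h := by
    funext s
    simp

include hF1 hN hNF hν in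
theorem Phi_surjective : Function.Surjective (Phi F hF2 N n bad) := by
  intro y
  let c : ℕ → k := fun j => if h : j ∈ Sset n bad then y ⟨j, h⟩ else 0
  have hc : N (T F c) = 0 := by
    rw [mem_ker_iff F hF1 hF2 N hN d' ν hNF bad hν]
    intro i hi
    have : i ∉ Sset n bad := by
      simp only [Sset, Finset.mem_filter, not_and, not_not]
      exact fun _ => hi
    simp only [c, dif_neg this]
  refine ⟨⟨T F c, hc⟩, ?_⟩
  funext s
  have h1 : (Teq F hF2).symm (T F c) = c := by
    rw [← Teq_apply F hF2, LinearEquiv.symm_apply_apply]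
  simp only [Phi, LinearMap.coe_mk, AddHom.coe_mk, h1]
  simp only [c, dif_pos s.2]

include hF1 hδ hN hδF hNF hν hμ in
theorem ker_Phi :
    LinearMap.ker (Phi F hF2 N n bad) = (LinearMap.range δ).comap (LinearMap.ker N).subtype := by
  ext h
  rw [LinearMap.mem_ker, Submodule.mem_comap, LinearMap.mem_range]
  set c := (Teq F hF2).symm h.1 with hcdef
  have hTc : T F c = h.1 := by
    rw [← Teq_apply F hF2, hcdef, LinearEquiv.apply_symm_apply]
  have hbad : ∀ i, bad i → c i = 0 := by
    rw [← mem_ker_iff F hF1 hF2 N hN d' ν hNF bad hν, hTc]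
    exact h.2
  constructor
  · intro hΦ
    have hS : ∀ j, j < n → c j = 0 := by
      intro j hj
      by_cases hb : bad j
      · exact hbad j hb
      · have hjS : j ∈ Sset n bad := by
          simp only [Sset, Finset.mem_filter, Finset.mem_range]
          exact ⟨hj, hb⟩
        have := congrFun hΦ ⟨j, hjS⟩
        simpa [Phi] using this
    refine ⟨T F (fun i => c (i + n) / μ i), ?_⟩
    rw [shift F hF1 δ hδ n μ hδF, Submodule.subtype_apply, ← hTc]
    congr 1
    funext j
    simp only [sh]
    split_ifs with hj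
    · obtain ⟨e, rfl⟩ := Nat.exists_eq_add_of_le hj
      simp only [Nat.add_sub_cancel_left]
      by_cases hm : μ e = 0
      · rw [hm, zero_mul, add_comm n e, hbad _ ((hμ e).mp hm)]
      · rw [add_comm e n]
        field_simp
    · exact (hS j (not_le.mp hj)).symm
  · rintro ⟨x, hx⟩
    obtain ⟨c', rfl⟩ := T_surjective F hF2 x
    rw [shift F hF1 δ hδ n μ hδF, Submodule.subtype_apply] at hx
    have hc : c = sh n μ c' := by
      rw [hcdef, ← hx, ← Teq_apply F hF2, LinearEquiv.symm_apply_apply]
    funext s
    have hs : s.1 < n := by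
      have := s.2
      simp only [Sset, Finset.mem_filter, Finset.mem_range] at this
      exact this.1
    simp only [Phi, LinearMap.coe_mk, AddHom.coe_mk, Pi.zero_apply]
    rw [← hcdef, hc]
    simp [sh, not_le.mpr hs]

include hF1 hF2 hδ hN hδF hNF hν hμ in
/-- the quotient `ker N / im δ` has the expected coordinates -/
theorem exists_equiv :
    Nonempty (((LinearMap.ker N) ⧸ (LinearMap.range δ).comap (LinearMap.ker N).subtype)
      ≃ₗ[k] (↥(Sset n bad) → k)) := by
  rw [← ker_Phi F hF1 hF2 δ N hδ hN n d' μ ν hδF hNF bad hν hμ]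
  exact ⟨LinearMap.quotKerEquivOfSurjective _
    (Phi_surjective F hF1 hF2 N hN n d' ν hNF bad hν)⟩

end Dim

end Groth.Agent.Lib.helper10.TriBasis
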