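import Mathlib
import Groth.Agent.Lib.helper10.ASInv
import Groth.Agent.Lib.helper10.TriBasis

set_option autoImplicit false
set_option maxHeartbeats 800000

namespace Groth.Agent.Lib.helper10.ASBasis

universe u

section Series

open PowerSeries
open Groth.Agent.Lib.helper10.ASUnit

variable {k : Type u} [Field k] (n : ℕ)

/-- `Q m = ∏_{r<m} (1 - r Xⁿ)` -/
noncomputable def Q (m : ℕ) : PowerSeries k :=
  ∏ r ∈ Finset.range m, (1 - (r : PowerSeries k) * X ^ n)

/-- `R m = ∏_{r<m} (1 + Xⁿ - r Xⁿ)` -/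
noncomputable def R (m : ℕ) : PowerSeries k :=
  ∏ r ∈ Finset.range m, (1 + X ^ n - (r : PowerSeries k) * X ^ n)

theorem R_succ (m : ℕ) :
    R (k := k) n (m + 1) = Q n (m + 1) + ((m + 1 : ℕ) : PowerSeries k) * X ^ n * Q n m := by
  have h1 : R (k := k) n (m + 1) = (1 + X ^ n) * Q n m := by
    rw [R, Finset.prod_range_succ', Q, mul_comm]
    congr 1
    · simp
    · refine Finset.prod_congr rfl fun r _ => ?_
      push_cast
      ring
  have h2 : Q (k := k) n (m + 1) = Q n m * (1 - (m : PowerSeries k) * X ^ n) := by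
    rw [Q, Finset.prod_range_succ, ← Q]
  rw [h1, h2]
  push_cast
  ring

theorem Q_zero : Q (k := k) n 0 = 1 := by simp [Q]

theorem R_zero : R (k := k) n 0 = 1 := by simp [R]

theorem constantCoeff_Q (hn : 0 < n) (m : ℕ) : constantCoeff (Q (k := k) n m) = 1 := by
  rw [Q, map_prod]
  refine Finset.prod_eq_one fun r _ => ?_
  simp [hn.ne']

end Series

end Groth.Agent.Lib.helper10.ASBasis
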