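import Mathlib
import Groth.Agent.Lib.helper10.ASInv
import Groth.Agent.Lib.helper10.TriBasis
import Groth.Agent.Lib.helper10.ASB1
import Groth.Agent.Lib.helper10.ASB2

set_option autoImplicit false
set_option maxHeartbeats 800000

namespace Groth.Agent.Lib.helper10.ASBasis

universe u

section Main

open PowerSeries
open Groth.Agent.Lib.helper10.ASUnit

variable {k : Type u} [Field k] (p : ℕ) [Fact p.Prime] [CharP k p] (n : ℕ) (hn : 0 < n)
  (hpn : ¬ p ∣ n) (u : PowerSeries k) (hu1 : constantCoeff u = 1)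
  (hun : u ^ n * (1 + X ^ n) = 1) (hu : IsUnit u) (a : ℤ)
  (v : PowerSeries k) (hv1 : constantCoeff v = 1)
  (hvn : v ^ n * (1 - X ^ (n * (p - 1))) = 1) (hv : IsUnit v)

/-- the triangular family -/
noncomputable def FF (i : ℕ) : PowerSeries k :=
  X ^ i * ((hv.unit ^ (ll p n a i) : (PowerSeries k)ˣ) : PowerSeries k) * Q n (mm p n a i)

theorem X_pow_dvd_FF (i : ℕ) : X ^ i ∣ FF p n a v hv i := by
  rw [FF, mul_assoc]
  exact dvd_mul_right _ _

include hn in
theorem coeff_FF_ne (i : ℕ) : coeff i (FF p n a v hv i) ≠ 0 := by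
  rw [FF, mul_assoc]
  have h := coeff_X_pow_mul
    (((hv.unit ^ (ll p n a i) : (PowerSeries k)ˣ) : PowerSeries k) * Q n (mm p n a i)) i 0
  rw [zero_add] at h
  rw [h, coeff_zero_eq_constantCoeff_apply, map_mul, constantCoeff_Q n hn, mul_one]
  have hunit : IsUnit ((hv.unit ^ (ll p n a i) : (PowerSeries k)ˣ) : PowerSeries k) :=
    Units.isUnit _
  exact (isUnit_iff_constantCoeff.mp hunit).ne_zero

variable (σ : PowerSeries k →ₗ[k] PowerSeries k)
  (hσ : ∀ h : PowerSeries k, σ h =
    ((hu.unit ^ a : (PowerSeries k)ˣ) : PowerSeries k) * PowerSeries.subst (X * u) h)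

include hσ in
theorem cont_sigma : TriBasis.Cont σ := by
  intro j h hj
  obtain ⟨w, rfl⟩ := hj
  have ha := hasSubst_X_mul u
  rw [hσ, ← coe_substAlgHom ha, map_mul, map_pow, substAlgHom_X]
  rw [mul_pow]
  exact ⟨((hu.unit ^ a : (PowerSeries k)ˣ) : PowerSeries k) * u ^ j * (substAlgHom ha) w, by ring⟩

include hpn hu1 hun hv1 hvn hσ in
/-- the key computation of `σ` on the family -/
theorem sigma_aux (i : ℕ) :
    σ (FF p n a v hv i) =
      X ^ i * ((hv.unit ^ (ll p n a i) : (PowerSeries k)ˣ) : PowerSeries k) * R n (mm p n a i) := by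
  have ha := hasSubst_X_mul u
  set l := ll p n a i with hl
  set m := mm p n a i with hm
  have hpl : (p : ℤ) * l = a + i + n * m := p_mul_ll p n hpn a i
  -- the transformed unit
  set τ := substAlgHom (R := k) ha with hτ
  set Vτ : (PowerSeries k)ˣ := Units.map (τ : PowerSeries k →* PowerSeries k) hv.unit with hVτ
  have hinv : hu.unit ^ p * Vτ = hv.unit := by
    apply Units.ext
    rw [Units.val_mul, Units.val_pow_eq_pow_val, hVτ, Units.coe_map, IsUnit.unit_spec,
      IsUnit.unit_spec]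
    have := invariant_v p n hpn u hu1 hun v hv1 hvn
    rw [← coe_substAlgHom ha] at this
    exact this
  -- W = (u^n)⁻¹ = 1 + X^n
  have hW : (((hu.unit ^ n)⁻¹ : (PowerSeries k)ˣ) : PowerSeries k) = 1 + X ^ n := by
    apply Units.inv_eq_of_mul_eq_one_right
    rw [Units.val_pow_eq_pow_val, IsUnit.unit_spec]
    exact hun
  -- units identity
  have hunits : hu.unit ^ a * hu.unit ^ (i : ℤ) * Vτ ^ l = hv.unit ^ l * ((hu.unit ^ n)⁻¹) ^ m := by
    rw [← hinv, mul_zpow, ← zpow_natCast (hu.unit) p, ← zpow_mul, hpl, ← zpow_add,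
      ← zpow_natCast (hu.unit) n, ← zpow_neg, ← zpow_natCast _ m, ← zpow_mul]
    have : hu.unit ^ (a + i + n * m : ℤ) * Vτ ^ l * hu.unit ^ (-(n : ℤ) * m)
        = hu.unit ^ (a + i : ℤ) * Vτ ^ l := by
      rw [mul_right_comm, ← zpow_add]
      congr 2
      ring
    rw [this]
  rw [hσ, FF, ← coe_substAlgHom ha, ← hτ, map_mul, map_mul, map_pow]
  have hτX : τ X = X * u := by rw [hτ, substAlgHom_X]
  have hτV : τ ((hv.unit ^ l : (PowerSeries k)ˣ) : PowerSeries k) = ((Vτ ^ l : (PowerSeries k)ˣ) : PowerSeries k) := by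
    rw [hVτ, ← map_zpow, Units.coe_map]
    rfl
  have hτQ : (1 + X ^ n) ^ m * τ (Q n m) = R n m := by
    rw [Q, R, map_prod, ← Finset.card_range m, ← Finset.prod_const, Finset.card_range,
      ← Finset.prod_mul_distrib]
    refine Finset.prod_congr rfl fun r _ => ?_
    rw [map_sub, map_one, map_mul, map_natCast, map_pow, hτX, mul_pow]
    have : (1 + X ^ n) * (X ^ n * u ^ n) = X ^ n := by
      calc (1 + X ^ n) * (X ^ n * u ^ n) = X ^ n * (u ^ n * (1 + X ^ n)) := by ring
        _ = X ^ n := by rw [hun, mul_one]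
    linear_combination (r : PowerSeries k) * (-1 : PowerSeries k) * this
  rw [hτX, hτV, mul_pow]
  have h3 : ((hu.unit ^ a : (PowerSeries k)ˣ) : PowerSeries k) * u ^ i *
      ((Vτ ^ l : (PowerSeries k)ˣ) : PowerSeries k) =
      ((hv.unit ^ l : (PowerSeries k)ˣ) : PowerSeries k) * (1 + X ^ n) ^ m := by
    have := congrArg (fun w : (PowerSeries k)ˣ => (w : PowerSeries k)) hunits
    simp only [Units.val_mul, Units.val_pow_eq_pow_val, zpow_natCast, hW, IsUnit.unit_spec] at this
    exact this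
  rw [← hτQ]
  linear_combination (X ^ i * τ (Q n m)) * h3

include hpn hu1 hun hv1 hvn hσ in
theorem delta_FF (i : ℕ) :
    (σ - 1) (FF p n a v hv i) = (mm p n a i : k) • FF p n a v hv (i + n) := by
  rw [LinearMap.sub_apply, Module.End.one_apply,
    sigma_aux p n hpn u hu1 hun hu a v hv1 hvn hv σ hσ i]
  rcases Nat.eq_zero_or_pos (mm p n a i) with h0 | hpos
  · rw [h0, R_zero, FF, h0, Q_zero, Nat.cast_zero, zero_smul, sub_self]
  · obtain ⟨m', hm'⟩ : ∃ m', mm p n a i = m' + 1 := ⟨mm p n a i - 1, by omega⟩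
    have hne : mm p n a i ≠ 0 := by omega
    have h1 := mm_add_of_ne p n hpn a i hne
    have h2 := ll_add_of_ne p n hpn a i hne
    rw [FF, FF, h1, h2, hm', R_succ, Nat.add_sub_cancel]
    rw [Algebra.smul_def]
    have : (algebraMap k (PowerSeries k)) ((m' + 1 : ℕ) : k) = ((m' + 1 : ℕ) : PowerSeries k) := by
      rw [map_natCast]
    rw [this, pow_add]
    ring

omit [CharP k p] in
include hpn in
theorem mm_add_mul (i r : ℕ) (hr : r ≤ mm p n a i) : mm p n a (i + r * n) = mm p n a i - r := by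
  induction r with
  | zero => simp
  | succ r ih =>
    have h1 := ih (by omega)
    have hne : mm p n a (i + r * n) ≠ 0 := by omega
    have h2 := mm_add_of_ne p n hpn a (i + r * n) hne
    rw [Nat.succ_mul, ← add_assoc, h2, h1]
    omega

include hpn hu1 hun hv1 hvn hσ in
theorem delta_pow_FF (i r : ℕ) :
    ((σ - 1) ^ r) (FF p n a v hv i) =
      ((mm p n a i).descFactorial r : k) • FF p n a v hv (i + r * n) := by
  induction r with
  | zero => simp
  | succ r ih =>
    rw [pow_succ', Module.End.mul_apply, ih, map_smul,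
      delta_FF p n hpn u hu1 hun hu a v hv1 hvn hv σ hσ, smul_smul]
    have hidx : i + r * n + n = i + (r + 1) * n := by ring
    rw [hidx]
    congr 1
    by_cases hr : r ≤ mm p n a i
    · rw [mm_add_mul p n hpn a i r hr, Nat.descFactorial_succ]
      push_cast
      ring
    · rw [not_le] at hr
      rw [(Nat.descFactorial_eq_zero_iff_lt).mpr hr,
        (Nat.descFactorial_eq_zero_iff_lt).mpr (Nat.lt_succ_of_lt hr)]
      simp

include hpn in
theorem mu_eq_iff (i : ℕ) : (mm p n a i : k) = 0 ↔ mm p n a (i + n) = p - 1 := by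
  have hlt := mm_lt p n a i
  have hp2 := (Fact.out : p.Prime).two_le
  rw [CharP.cast_eq_zero_iff k p]
  constructor
  · intro h
    have h0 : mm p n a i = 0 := Nat.eq_zero_of_dvd_of_lt h hlt
    exact mm_add_of_eq p n hpn a i h0
  · intro h
    by_contra hne
    have h0 : mm p n a i ≠ 0 := fun h0 => hne (by rw [h0]; exact dvd_zero p)
    have := mm_add_of_ne p n hpn a i h0
    omega

theorem nu_ne_iff (i : ℕ) :
    ((mm p n a i).descFactorial (p - 1) : k) ≠ 0 ↔ mm p n a i = p - 1 := by
  have hlt := mm_lt p n a i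
  have hp2 := (Fact.out : p.Prime).two_le
  constructor
  · intro h
    by_contra hne
    have : mm p n a i < p - 1 := by omega
    rw [(Nat.descFactorial_eq_zero_iff_lt).mpr this] at h
    simp at h
  · intro h
    rw [h, Nat.descFactorial_self, Ne, CharP.cast_eq_zero_iff k p,
      (Fact.out : p.Prime).dvd_factorial]
    omega

theorem geom_eq_pow {E : Type*} [Ring E] [Algebra k E] (x : E) :
    ∑ j ∈ Finset.range p, x ^ j = (x - 1) ^ (p - 1) := by
  have hp : p - 1 + 1 = p := by
    have := (Fact.out : p.Prime).pos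
    omega
  have key : (∑ j ∈ Finset.range p, (Polynomial.X : Polynomial k) ^ j) =
      (Polynomial.X - 1) ^ (p - 1) := by
    have h1 : (∑ j ∈ Finset.range p, (Polynomial.X : Polynomial k) ^ j) * (Polynomial.X - 1) =
        Polynomial.X ^ p - 1 := geom_sum_mul Polynomial.X p
    have h2 : ((Polynomial.X : Polynomial k) - 1) ^ p = Polynomial.X ^ p - 1 := by
      rw [sub_pow_char, one_pow]
    have h3 : ((Polynomial.X : Polynomial k) - 1) ≠ 0 := by
      have := Polynomial.X_sub_C_ne_zero (1 : k)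
      simpa using this
    apply mul_right_cancel₀ h3
    rw [h1, ← h2, ← pow_succ, hp]
  have := congrArg (Polynomial.aeval x) key
  simpa using this

include hpn hu1 hun hv1 hvn hσ in
theorem norm_FF (i : ℕ) :
    (∑ j ∈ Finset.range p, σ ^ j) (FF p n a v hv i) =
      ((mm p n a i).descFactorial (p - 1) : k) • FF p n a v hv (i + (p - 1) * n) := by
  rw [geom_eq_pow (k := k) p σ]
  exact delta_pow_FF p n hpn u hu1 hun hu a v hv1 hvn hv σ hσ i (p - 1)

include hσ in
theorem cont_norm : TriBasis.Cont (∑ j ∈ Finset.range p, σ ^ j) := by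
  intro j h hj
  rw [LinearMap.sum_apply]
  refine Finset.dvd_sum fun r _ => ?_
  exact (cont_sigma u hu a σ hσ).pow r j h hj

include hn hpn hu1 hun hv1 hvn hv hσ in
/-- the main structure theorem -/
theorem exists_equiv_AS :
    Nonempty (((LinearMap.ker (∑ j ∈ Finset.range p, σ ^ j)) ⧸
        (LinearMap.range (σ - 1)).comap (LinearMap.ker (∑ j ∈ Finset.range p, σ ^ j)).subtype)
      ≃ₗ[k] (↥(TriBasis.Sset n (fun i => mm p n a i = p - 1)) → k)) := by
  refine TriBasis.exists_equiv (FF p n a v hv) (X_pow_dvd_FF p n a v hv)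
    (coeff_FF_ne p n hn a v hv) (σ - 1) (∑ j ∈ Finset.range p, σ ^ j)
    ((cont_sigma u hu a σ hσ).sub TriBasis.Cont.one) (cont_norm p u hu a σ hσ) n ((p - 1) * n)
    (fun i => (mm p n a i : k)) (fun i => ((mm p n a i).descFactorial (p - 1) : k))
    (delta_FF p n hpn u hu1 hun hu a v hv1 hvn hv σ hσ)
    (norm_FF p n hpn u hu1 hun hu a v hv1 hvn hv σ hσ)
    (fun i => mm p n a i = p - 1) (nu_ne_iff p n a) (mu_eq_iff p n hpn a)

end Main

section Count

variable (p : ℕ) [Fact p.Prime] (n : ℕ) (hpn : ¬ p ∣ n) (a : ℤ)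

theorem card_mult (p : ℕ) (hp : 0 < p) (n : ℕ) (a : ℤ) :
    (((Finset.range n).filter (fun j : ℕ => (p : ℤ) ∣ a + j - n)).card : ℤ) =
      (a - 1) / (p : ℤ) - (a - 1 - n) / (p : ℤ) := by
  have hr : (0 : ℤ) < (p : ℤ) := by exact_mod_cast hp
  have h1 : ((Finset.range n).filter (fun j : ℕ => (p : ℤ) ∣ a + j - n)).card =
      ((Finset.Ioc (a - 1 - n) (a - 1)).filter (fun x : ℤ => (p : ℤ) ∣ x)).card := by
    refine Finset.card_bij (fun j _ => a + j - n) ?_ ?_ ?_
    · intro j hj
      simp only [Finset.mem_filter, Finset.mem_range, Finset.mem_Ioc] at hj ⊢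
      refine ⟨⟨by omega, by omega⟩, hj.2⟩
    · intro j _ j' _ h
      have : (j : ℤ) = j' := by linarith
      exact_mod_cast this
    · intro x hx
      simp only [Finset.mem_filter, Finset.mem_Ioc] at hx
      refine ⟨(x - a + n).toNat, ?_, ?_⟩
      · simp only [Finset.mem_filter, Finset.mem_range]
        have h0 : 0 ≤ x - a + n := by omega
        have h2 : ((x - a + n).toNat : ℤ) = x - a + n := Int.toNat_of_nonneg h0
        refine ⟨by omega, ?_⟩
        rw [h2]
        have : a + (x - a + n) - n = x := by ring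
        rw [this]
        exact hx.2
      · have h0 : 0 ≤ x - a + n := by omega
        have h2 : ((x - a + n).toNat : ℤ) = x - a + n := Int.toNat_of_nonneg h0
        rw [h2]; ring
  rw [h1, Int.Ioc_filter_dvd_card _ _ hr]
  have e1 : ⌊((a - 1 : ℤ) : ℚ) / ((p : ℤ) : ℚ)⌋ = (a - 1) / (p : ℤ) := by
    rw [Int.cast_natCast]
    exact Rat.floor_intCast_div_natCast _ _
  have e2 : ⌊((a - 1 - n : ℤ) : ℚ) / ((p : ℤ) : ℚ)⌋ = (a - 1 - n) / (p : ℤ) := by
    rw [Int.cast_natCast]
    exact Rat.floor_intCast_div_natCast _ _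
  rw [e1, e2]
  apply max_eq_left
  have : (a - 1 - n) / (p : ℤ) ≤ (a - 1) / (p : ℤ) :=
    Int.ediv_le_ediv hr (by linarith [(Nat.cast_nonneg n : (0 : ℤ) ≤ n)])
  linarith

include hpn in
theorem card_Sset :
    ((TriBasis.Sset n (fun i => mm p n a i = p - 1)).card : ℤ) =
      n - (a - 1) / (p : ℤ) + (a - 1 - n) / (p : ℤ) := by
  have hp := (Fact.out : p.Prime).pos
  have h1 := Finset.card_filter_add_card_filter_not (s := Finset.range n)
    (fun i => mm p n a i = p - 1)
  rw [Finset.card_range] at h1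
  have h2 : (Finset.range n).filter (fun i => mm p n a i = p - 1) =
      (Finset.range n).filter (fun j : ℕ => (p : ℤ) ∣ a + j - n) := by
    refine Finset.filter_congr fun j _ => ?_
    exact mm_eq_iff p n hpn a j
  have h3 := card_mult p hp n a
  rw [← h2] at h3
  have h4 : ((TriBasis.Sset n (fun i => mm p n a i = p - 1)).card : ℤ) =
      n - (((Finset.range n).filter (fun i => mm p n a i = p - 1)).card : ℤ) := by
    rw [TriBasis.Sset]
    have : ((((Finset.range n).filter (fun i => mm p n a i = p - 1)).card +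
      ((Finset.range n).filter (fun i => ¬ mm p n a i = p - 1)).card : ℕ) : ℤ) = n := by
      rw [h1]
    push_cast at this
    linarith
  rw [h4, h3]
  ring

end Count

end Groth.Agent.Lib.helper10.ASBasis
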