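import Mathlib
import Groth.Agent.Lib.helper10.TriBasis

set_option autoImplicit false
set_option maxHeartbeats 800000

open PowerSeries

namespace Groth.Agent.Lib.helper10.TriBasis

universe u

variable {k : Type u} [Field k] (F : ℕ → PowerSeries k) (hF1 : ∀ i, X ^ i ∣ F i)
  (hF2 : ∀ i, coeff i (F i) ≠ 0)

include hF1 hF2 in
/-- finite triangular independence modulo `X^J` -/
theorem eq_zero_of_dvd_sum (J : ℕ) (e : ℕ → k)
    (h : X ^ J ∣ ∑ i ∈ Finset.range J, e i • F i) : ∀ i < J, e i = 0 := by
  intro i
  induction i using Nat.strong_induction_on with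
  | _ i ih =>
    intro hi
    have h1 := (X_pow_dvd_iff.mp h) i hi
    rw [map_sum] at h1
    have h2 : ∑ x ∈ Finset.range J, coeff i (e x • F x) = e i * coeff i (F i) := by
      rw [Finset.sum_eq_single i]
      · rw [coeff_smul, smul_eq_mul]
      · intro x hx hxi
        rw [Finset.mem_range] at hx
        rw [coeff_smul, smul_eq_mul]
        rcases lt_or_gt_of_ne hxi with hlt | hgt
        · rw [ih x hlt hx, zero_mul]
        · rw [coeff_F_of_lt F hF1 hgt, mul_zero]
      · intro hni
        exact absurd (Finset.mem_range.mpr hi) hni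
    rw [h2] at h1
    rcases mul_eq_zero.mp h1 with h3 | h3
    · exact h3
    · exact absurd h3 (hF2 i)

include hF1 in
/-- the coordinates below `J` are determined modulo `X^J` -/
theorem coord_eq_of_dvd (J : ℕ) (b : ℕ → k) (h : PowerSeries k)
    (hh : X ^ J ∣ h - ∑ i ∈ Finset.range J, b i • F i) :
    ∀ j < J, (Teq F hF2).symm h j = b j := by
  set c := (Teq F hF2).symm h with hc
  have hTc : T F c = h := by
    rw [← Teq_apply F hF2, hc, LinearEquiv.apply_symm_apply]
  have h1 := T_trunc F hF1 c J
  rw [hTc] at h1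
  have h2 : X ^ J ∣ ∑ i ∈ Finset.range J, (b i - c i) • F i := by
    have : ∑ i ∈ Finset.range J, (b i - c i) • F i =
        (h - ∑ i ∈ Finset.range J, c i • F i) - (h - ∑ i ∈ Finset.range J, b i • F i) := by
      simp only [sub_smul, Finset.sum_sub_distrib]
      ring
    rw [this]
    exact dvd_sub h1 hh
  intro j hj
  have := eq_zero_of_dvd_sum F hF1 hF2 J (fun i => b i - c i) h2 j hj
  exact (sub_eq_zero.mp this).symm

end Groth.Agent.Lib.helper10.TriBasis
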