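import Mathlib
import Groth.Agent.Lib.helper10.ASBasis
import Groth.Agent.Lib.helper10.TriBasis2

set_option autoImplicit false
set_option maxHeartbeats 800000

namespace Groth.Agent.Lib.helper10.ASBasis

universe u

section Deriv

open PowerSeries
open Groth.Agent.Lib.helper10.ASUnit

variable {k : Type u} [Field k] (p : ℕ) [Fact p.Prime] [CharP k p] (n : ℕ) (hn : 0 < n)
  (hpn : ¬ p ∣ n) (a : ℤ)
  (v : PowerSeries k) (hv1 : constantCoeff v = 1)
  (hvn : v ^ n * (1 - X ^ (n * (p - 1))) = 1) (hv : IsUnit v)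

include hpn hv1 hvn in
theorem X_pow_dvd_v_sub_one : X ^ n ∣ v - 1 := by
  have hnk : (n : k) ≠ 0 := n_ne_zero p n hpn
  have h1 : v ^ n * (1 + -(X : PowerSeries k) ^ (n * (p - 1))) = 1 := by
    rw [← sub_eq_add_neg]; exact hvn
  have h2 := dvd_sub_one_of_pow n hnk v (-(X : PowerSeries k) ^ (n * (p - 1))) hv1 h1
  rw [neg_dvd] at h2
  refine dvd_trans (pow_dvd_pow X ?_) h2
  have := (Fact.out : p.Prime).two_le
  calc n = n * 1 := (mul_one n).symm
    _ ≤ n * (p - 1) := Nat.mul_le_mul_left n (by omega)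

include hpn hv1 hvn in
theorem X_pow_dvd_zpow_sub_one (l : ℤ) :
    X ^ n ∣ ((hv.unit ^ l : (PowerSeries k)ˣ) : PowerSeries k) - 1 :=
  dvd_zpow_sub_one v (X ^ n) hv (X_pow_dvd_v_sub_one p n hpn v hv1 hvn) l

omit [Fact p.Prime] [CharP k p] in
theorem X_pow_dvd_Q_sub_one (m : ℕ) : X ^ n ∣ Q (k := k) n m - 1 := by
  induction m with
  | zero => simp [Q_zero]
  | succ m ih =>
    have h2 : Q (k := k) n (m + 1) = Q n m * (1 - (m : PowerSeries k) * X ^ n) := by
      rw [Q, Finset.prod_range_succ, ← Q]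
    have : Q (k := k) n (m + 1) - 1 = (Q n m - 1) - X ^ n * ((m : PowerSeries k) * Q n m) := by
      rw [h2]; ring
    rw [this]
    exact dvd_sub ih (dvd_mul_right _ _)

omit [Fact p.Prime] [CharP k p] in
theorem deriv_dvd (w : PowerSeries k) (hw : X ^ n ∣ w - 1) :
    X ^ (n - 1) ∣ derivative k w := by
  obtain ⟨w₁, hw₁⟩ := hw
  have h1 : w = 1 + X ^ n * w₁ := by linear_combination hw₁
  rw [h1, map_add, Derivation.leibniz, Derivation.leibniz_pow]
  have h0 : derivative k (1 : PowerSeries k) = 0 := Derivation.map_one_eq_zero _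
  rw [h0, zero_add, derivative_X]
  refine dvd_add ?_ ?_
  · rw [smul_eq_mul]
    exact dvd_mul_of_dvd_left (pow_dvd_pow X (Nat.sub_le n 1)) _
  · simp only [smul_eq_mul, nsmul_eq_mul, mul_one]
    exact dvd_mul_of_dvd_right (dvd_mul_left _ _) _

omit [Fact p.Prime] [CharP k p] in
/-- derivative lowers the `X`-adic order by at most one -/
theorem deriv_cont (J : ℕ) (h : PowerSeries k) (hh : X ^ (J + 1) ∣ h) :
    X ^ J ∣ derivative k h := by
  obtain ⟨w, rfl⟩ := hh
  rw [Derivation.leibniz, Derivation.leibniz_pow, derivative_X]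
  refine dvd_add ?_ ?_
  · rw [smul_eq_mul]
    exact dvd_mul_of_dvd_left (pow_dvd_pow X (Nat.le_succ J)) _
  · simp only [smul_eq_mul, nsmul_eq_mul, mul_one, Nat.add_sub_cancel]
    exact dvd_mul_of_dvd_right (dvd_mul_left _ _) _

include hn hpn hv1 hvn in
theorem deriv_FF (i : ℕ) (hi : 1 ≤ i) :
    X ^ n ∣ derivative k (FF p n a v hv i) - (i : k) •
      (X ^ (i - 1) * ((hv.unit ^ (ll p n a i) : (PowerSeries k)ˣ) : PowerSeries k) *
        Q n (mm p n a i)) := by
  set A := ((hv.unit ^ (ll p n a i) : (PowerSeries k)ˣ) : PowerSeries k) with hA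
  set B := Q (k := k) n (mm p n a i) with hB
  have hw : X ^ n ∣ A * B - 1 := by
    have : A * B - 1 = (A - 1) * B + (B - 1) := by ring
    rw [this]
    exact dvd_add (dvd_mul_of_dvd_left (X_pow_dvd_zpow_sub_one p n hpn v hv1 hvn hv _) _)
      (X_pow_dvd_Q_sub_one (k := k) n (mm p n a i))
  have hd := deriv_dvd n (A * B) hw
  obtain ⟨z, hz⟩ := hd
  have h1 : FF p n a v hv i = X ^ i * (A * B) := by rw [FF, mul_assoc]
  rw [h1, Derivation.leibniz, Derivation.leibniz_pow, derivative_X, hz]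
  have h2 : (X : PowerSeries k) ^ i • ((X : PowerSeries k) ^ (n - 1) * z) +
      (A * B) • i • (X : PowerSeries k) ^ (i - 1) • (1 : PowerSeries k) -
      (i : k) • ((X : PowerSeries k) ^ (i - 1) * A * B) =
      (X : PowerSeries k) ^ n * ((X : PowerSeries k) ^ (i - 1) * z) := by
    have e1 : (X : PowerSeries k) ^ i = X ^ (i - 1) * X := by
      rw [← pow_succ, Nat.sub_add_cancel hi]
    have e2 : (X : PowerSeries k) ^ n = X * X ^ (n - 1) := by
      rw [← pow_succ', Nat.sub_add_cancel hn]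
    simp only [smul_eq_mul, nsmul_eq_mul, mul_one]
    rw [Algebra.smul_def, map_natCast, e1, e2]
    ring
  rw [h2]
  exact dvd_mul_right _ _

end Deriv

section Shift

variable (p : ℕ) [Fact p.Prime] (n : ℕ) (hpn : ¬ p ∣ n) (a : ℤ)

include hpn in
theorem xx_shift (i : ℕ) (hi : 1 ≤ i) : xx p n (a + n + 1) (i - 1) = xx p n a i - 1 := by
  have := n_ne p n hpn
  simp only [xx]
  push_cast [hi]
  field_simp
  ring

include hpn in
theorem mm_shift (i : ℕ) (hi : 1 ≤ i) (h : mm p n a i ≠ 0) :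
    mm p n (a + n + 1) (i - 1) = mm p n a i - 1 := by
  haveI : Fact (1 < p) := ⟨(Fact.out : p.Prime).one_lt⟩
  rw [mm, xx_shift p n hpn a i hi, ZMod.val_sub, ZMod.val_one]
  · rfl
  · rw [ZMod.val_one]
    exact Nat.one_le_iff_ne_zero.mpr h

include hpn in
theorem ll_shift (i : ℕ) (hi : 1 ≤ i) (h : mm p n a i ≠ 0) :
    ll p n (a + n + 1) (i - 1) = ll p n a i := by
  have h1 := p_mul_ll p n hpn (a + n + 1) (i - 1)
  have h2 := p_mul_ll p n hpn a i
  rw [mm_shift p n hpn a i hi h] at h1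
  have hp0 : (p : ℤ) ≠ 0 := by
    have := (Fact.out : p.Prime).pos
    exact_mod_cast this.ne'
  apply mul_left_cancel₀ hp0
  rw [h1, h2]
  have : 1 ≤ mm p n a i := Nat.one_le_iff_ne_zero.mpr h
  push_cast [this, hi]
  ring

theorem mm_zero_zero : mm p n 0 0 = 0 := by
  simp [mm, xx]

theorem ll_zero_zero : ll p n 0 0 = 0 := by
  simp [ll, mm_zero_zero]

include hpn in
theorem dvd_of_mm_zero (i : ℕ) (h : mm p n 0 i = 0) : p ∣ i := by
  have := dvd_mm p n hpn 0 i
  rw [h] at this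
  simp only [zero_add, Nat.cast_zero, mul_zero, add_zero] at this
  exact_mod_cast this

end Shift

section Deriv2

open PowerSeries
open Groth.Agent.Lib.helper10.ASUnit

variable {k : Type u} [Field k] (p : ℕ) [Fact p.Prime] [CharP k p] (n : ℕ) (hn : 0 < n)
  (hpn : ¬ p ∣ n)
  (v : PowerSeries k) (hv1 : constantCoeff v = 1)
  (hvn : v ^ n * (1 - X ^ (n * (p - 1))) = 1) (hv : IsUnit v)

omit [CharP k p] in
theorem FF_zero : FF p n 0 v hv 0 = 1 := by
  rw [FF, mm_zero_zero, ll_zero_zero, Q_zero]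
  simp

include hn hpn hv1 hvn in
/-- `D F⁰_i ≡ i F¹_(i-1)` modulo `X^n` -/
theorem deriv_FF_shift (i : ℕ) (hi : 1 ≤ i) :
    X ^ n ∣ derivative k (FF p n 0 v hv i) - (i : k) • FF p n (0 + n + 1) v hv (i - 1) := by
  have h1 := deriv_FF p n hn hpn 0 v hv1 hvn hv i hi
  by_cases hm : mm p n 0 i = 0
  · have hpi : (i : k) = 0 := (CharP.cast_eq_zero_iff k p i).mpr (dvd_of_mm_zero p n hpn i hm)
    rw [hpi, zero_smul] at h1 ⊢
    exact h1
  · have h2 := mm_shift p n hpn 0 i hi hm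
    have h3 := ll_shift p n hpn 0 i hi hm
    obtain ⟨m', hm'⟩ : ∃ m', mm p n 0 i = m' + 1 := ⟨mm p n 0 i - 1, by omega⟩
    have h4 : FF p n (0 + n + 1) v hv (i - 1) =
        X ^ (i - 1) * ((hv.unit ^ (ll p n 0 i) : (PowerSeries k)ˣ) : PowerSeries k) * Q n m' := by
      rw [FF, h2, h3, hm', Nat.add_sub_cancel]
    have h5 : Q (k := k) n (m' + 1) = Q n m' * (1 - (m' : PowerSeries k) * X ^ n) := by
      rw [Q, Finset.prod_range_succ, ← Q]
    rw [hm', h5] at h1
    rw [h4]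
    have h6 : derivative k (FF p n 0 v hv i) - (i : k) •
        (X ^ (i - 1) * ((hv.unit ^ (ll p n 0 i) : (PowerSeries k)ˣ) : PowerSeries k) * Q n m') =
        (derivative k (FF p n 0 v hv i) - (i : k) •
        (X ^ (i - 1) * ((hv.unit ^ (ll p n 0 i) : (PowerSeries k)ˣ) : PowerSeries k) *
          (Q n m' * (1 - (m' : PowerSeries k) * X ^ n)))) -
        X ^ n * ((i : k) • (X ^ (i - 1) *
          ((hv.unit ^ (ll p n 0 i) : (PowerSeries k)ˣ) : PowerSeries k) * Q n m' * (m' : PowerSeries k))) := by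
      simp only [Algebra.smul_def]
      ring
    rw [h6]
    exact dvd_sub h1 (dvd_mul_right _ _)

include hn hpn hv1 hvn in
/-- coordinates of the derivative below `n` -/
theorem coord_deriv (y : PowerSeries k) :
    ∀ j < n, (TriBasis.Teq (FF p n (0 + n + 1) v hv) (coeff_FF_ne p n hn (0 + n + 1) v hv)).symm
        (derivative k y) j =
      ((j + 1 : ℕ) : k) *
        (TriBasis.Teq (FF p n 0 v hv) (coeff_FF_ne p n hn 0 v hv)).symm y (j + 1) := by
  set c := (TriBasis.Teq (FF p n 0 v hv) (coeff_FF_ne p n hn 0 v hv)).symm y with hc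
  have hTc : TriBasis.T (FF p n 0 v hv) c = y := by
    rw [← TriBasis.Teq_apply (FF p n 0 v hv) (coeff_FF_ne p n hn 0 v hv), hc,
      LinearEquiv.apply_symm_apply]
  apply TriBasis.coord_eq_of_dvd (FF p n (0 + n + 1) v hv) (X_pow_dvd_FF p n (0 + n + 1) v hv)
    (coeff_FF_ne p n hn (0 + n + 1) v hv) n (fun j => ((j + 1 : ℕ) : k) * c (j + 1))
  -- truncation
  have h1 := TriBasis.T_trunc (FF p n 0 v hv) (X_pow_dvd_FF p n 0 v hv) c (n + 1)
  rw [hTc] at h1
  have h2 := deriv_cont n _ h1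
  rw [map_sub, map_sum, Finset.sum_range_succ'] at h2
  have h0 : derivative k (c 0 • FF p n 0 v hv 0) = 0 := by
    rw [FF_zero, Derivation.map_smul, Derivation.map_one_eq_zero, smul_zero]
  rw [h0, add_zero] at h2
  have h3 : X ^ n ∣ ∑ j ∈ Finset.range n, derivative k (c (j + 1) • FF p n 0 v hv (j + 1)) -
      ∑ j ∈ Finset.range n, (((j + 1 : ℕ) : k) * c (j + 1)) • FF p n (0 + n + 1) v hv j := by
    rw [← Finset.sum_sub_distrib]
    refine Finset.dvd_sum fun j _ => ?_
    have h4 := deriv_FF_shift p n hn hpn v hv1 hvn hv (j + 1) (Nat.le_add_left 1 j)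
    rw [Nat.add_sub_cancel] at h4
    rw [Derivation.map_smul, mul_comm, mul_smul, ← smul_sub]
    rw [Algebra.smul_def]
    exact dvd_mul_of_dvd_right h4 _
  have := dvd_add h2 h3
  rw [sub_add_sub_cancel] at this
  exact this

end Deriv2

end Groth.Agent.Lib.helper10.ASBasis
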