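import Mathlib
import Groth.Agent.Lib.helper10.ASBasis2

set_option autoImplicit false
set_option maxHeartbeats 1600000

namespace Groth.Agent.Lib.helper10.ASBasis

universe u

theorem arith1 (p n : ℕ) (hp : p.Prime) (hpn : ¬ p ∣ n) :
    ((n : ℤ) - (n : ℤ) / (p : ℤ) + (-(n : ℤ)) / (p : ℤ)) =
      ((n + 1) * (p - 1) : ℤ) / p - 1 - (n - 1 : ℤ) / p := by
  have hp0 : (0 : ℤ) < p := by exact_mod_cast hp.pos
  set q : ℤ := (n : ℤ) / p with hq
  set r : ℤ := (n : ℤ) % p with hr
  have h1 : r + p * q = n := Int.emod_add_mul_ediv n p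
  have h2 : 0 ≤ r := Int.emod_nonneg _ hp0.ne'
  have h3 : r < p := Int.emod_lt_of_pos _ hp0
  have h4 : r ≠ 0 := by
    intro h
    apply hpn
    have : (p : ℤ) ∣ n := Int.dvd_of_emod_eq_zero h
    exact_mod_cast this
  have e1 : (-(n : ℤ)) / (p : ℤ) = -q - 1 := by
    have := (Int.ediv_emod_unique (a := -(n : ℤ)) (r := p - r) (q := -q - 1) hp0).mpr
      ⟨by linarith, by linarith, by omega⟩
    exact this.1
  have e2 : ((n + 1) * (p - 1) : ℤ) / p = n - q := by
    have := (Int.ediv_emod_unique (a := ((n + 1) * (p - 1) : ℤ)) (r := p - 1 - r) (q := n - q) hp0).mpr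
      ⟨by nlinarith, by omega, by omega⟩
    exact this.1
  have e3 : (n - 1 : ℤ) / p = q := by
    have := (Int.ediv_emod_unique (a := (n - 1 : ℤ)) (r := r - 1) (q := q) hp0).mpr
      ⟨by linarith, by omega, by omega⟩
    exact this.1
  rw [e1, e2, e3]
  ring

theorem card_S' (p : ℕ) [Fact p.Prime] (n : ℕ) (hpn : ¬ p ∣ n) :
    ((((Finset.range n).filter (fun j => ¬ mm p n (0 + n + 1) j = p - 1 ∧
      ¬ mm p n 0 (j + 1) = p - 1)).card : ℕ) : ℤ) =
      (n : ℤ) - (n : ℤ) / (p : ℤ) + (-(n : ℤ)) / (p : ℤ) := by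
  classical
  have hp := (Fact.out : p.Prime).pos
  set PA : ℕ → Prop := fun j => (p : ℤ) ∣ ((n : ℤ) + 1) + j - n with hPA
  set PB : ℕ → Prop := fun j => (p : ℤ) ∣ (1 : ℤ) + j - n with hPB
  have hA : ∀ j, mm p n (0 + n + 1) j = p - 1 ↔ PA j := by
    intro j
    rw [mm_eq_iff p n hpn (0 + n + 1) j, hPA]
    simp only [zero_add]
  have hB : ∀ j, mm p n 0 (j + 1) = p - 1 ↔ PB j := by
    intro j
    rw [mm_eq_iff p n hpn 0 (j + 1), hPB]
    have : (0 : ℤ) + ((j + 1 : ℕ) : ℤ) - n = 1 + j - n := by push_cast; ring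
    rw [this]
  have h1 : (Finset.range n).filter (fun j => ¬ mm p n (0 + n + 1) j = p - 1 ∧
      ¬ mm p n 0 (j + 1) = p - 1) = (Finset.range n).filter (fun j => ¬ (PA j ∨ PB j)) := by
    refine Finset.filter_congr fun j _ => ?_
    rw [hA, hB, not_or]
  have h2 := Finset.card_filter_add_card_filter_not (s := Finset.range n) (fun j => PA j ∨ PB j)
  rw [Finset.card_range] at h2
  have h3 : ((Finset.range n).filter (fun j => PA j ∨ PB j)).card =
      ((Finset.range n).filter PA).card + ((Finset.range n).filter PB).card := by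
    rw [Finset.filter_or, Finset.card_union_of_disjoint]
    rw [Finset.disjoint_filter]
    intro j _ h1 h2
    apply hpn
    have : (p : ℤ) ∣ n := by
      have := dvd_sub h1 h2
      have e : ((n : ℤ) + 1 + j - n) - (1 + j - n) = n := by ring
      rwa [e] at this
    exact_mod_cast this
  have h4 := card_mult p hp n ((n : ℤ) + 1)
  have h5 := card_mult p hp n (1 : ℤ)
  rw [h1]
  have h6 : (((Finset.range n).filter (fun j => ¬ (PA j ∨ PB j))).card : ℤ) =
      n - (((Finset.range n).filter PA).card : ℤ) - (((Finset.range n).filter PB).card : ℤ) := by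
    have : ((((Finset.range n).filter (fun j => PA j ∨ PB j)).card +
      ((Finset.range n).filter (fun j => ¬ (PA j ∨ PB j))).card : ℕ) : ℤ) = n := by
      rw [h2]
    rw [h3] at this
    push_cast at this
    linarith
  rw [h6, h4, h5]
  simp only [add_sub_cancel_right, sub_self, Int.zero_ediv, sub_zero, zero_sub]
  ring

section Main862

open PowerSeries
open Groth.Agent.Lib.helper10.ASUnit

variable {k : Type u} [Field k] (p : ℕ) [Fact p.Prime] [CharP k p] (n : ℕ) (hn : 0 < n)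
  (hpn : ¬ p ∣ n) (u : PowerSeries k) (hu1 : constantCoeff u = 1)
  (hun : u ^ n * (1 + X ^ n) = 1) (hu : IsUnit u)
  (v : PowerSeries k) (hv1 : constantCoeff v = 1)
  (hvn : v ^ n * (1 - X ^ (n * (p - 1))) = 1) (hv : IsUnit v)
  (σ₀ σ₁ : PowerSeries k →ₗ[k] PowerSeries k)
  (hσ₀ : ∀ h : PowerSeries k, σ₀ h =
    ((hu.unit ^ (0 : ℤ) : (PowerSeries k)ˣ) : PowerSeries k) * PowerSeries.subst (X * u) h)
  (hσ₁ : ∀ h : PowerSeries k, σ₁ h =
    ((hu.unit ^ ((0 : ℤ) + n + 1) : (PowerSeries k)ˣ) : PowerSeries k) *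
      PowerSeries.subst (X * u) h)
  (hcomm : ∀ h : PowerSeries k, derivative k (σ₀ h) = σ₁ (derivative k h))

/-- the index set of the image -/
noncomputable def S' : Finset ℕ :=
  (Finset.range n).filter (fun j => ¬ mm p n (0 + n + 1) j = p - 1 ∧ ¬ mm p n 0 (j + 1) = p - 1)

include hcomm in
theorem norm_comm (h : PowerSeries k) :
    derivative k ((∑ j ∈ Finset.range p, σ₀ ^ j) h) =
      (∑ j ∈ Finset.range p, σ₁ ^ j) (derivative k h) := by
  have hpow : ∀ (j : ℕ) (h : PowerSeries k),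
      derivative k ((σ₀ ^ j) h) = (σ₁ ^ j) (derivative k h) := by
    intro j
    induction j with
    | zero => intro h; simp
    | succ j ih =>
      intro h
      rw [pow_succ', Module.End.mul_apply, hcomm, ih, pow_succ', Module.End.mul_apply]
  rw [LinearMap.sum_apply, LinearMap.sum_apply, map_sum]
  exact Finset.sum_congr rfl fun j _ => hpow j h

include hn hpn hu1 hun hv1 hvn hv hσ₀ hσ₁ hcomm in
theorem exists_gmap :
    ∃ gm : LinearMap.ker (∑ j ∈ Finset.range p, σ₀ ^ j) →ₗ[k] (↥(S' p n) → k),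
      Function.Surjective gm ∧
      ∀ y : LinearMap.ker (∑ j ∈ Finset.range p, σ₀ ^ j),
        gm y = 0 ↔ derivative k y.1 ∈ LinearMap.range (σ₁ - 1) := by
  classical
  have hp := (Fact.out : p.Prime)
  -- abbreviations
  set F0 := FF p n 0 v hv with hF0
  set F1 := FF p n (0 + n + 1) v hv with hF1
  have hF0a := X_pow_dvd_FF p n 0 v hv
  have hF0b := coeff_FF_ne p n hn 0 v hv
  have hF1a := X_pow_dvd_FF p n (0 + n + 1) v hv
  have hF1b := coeff_FF_ne p n hn (0 + n + 1) v hv
  set N0 := ∑ j ∈ Finset.range p, σ₀ ^ j with hN0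
  set N1 := ∑ j ∈ Finset.range p, σ₁ ^ j with hN1
  have hcN0 := cont_norm p u hu 0 σ₀ hσ₀
  have hcN1 := cont_norm p u hu (0 + n + 1) σ₁ hσ₁
  have hN0F := norm_FF p n hpn u hu1 hun hu 0 v hv1 hvn hv σ₀ hσ₀
  have hN1F := norm_FF p n hpn u hu1 hun hu (0 + n + 1) v hv1 hvn hv σ₁ hσ₁
  have hδ1F := delta_FF p n hpn u hu1 hun hu (0 + n + 1) v hv1 hvn hv σ₁ hσ₁
  have hcδ1 : TriBasis.Cont (σ₁ - 1) :=
    (cont_sigma u hu (0 + n + 1) σ₁ hσ₁).sub TriBasis.Cont.one
  -- membership in the kernel of the norm, level 0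
  have hker0 : ∀ c : ℕ → k, N0 (TriBasis.T F0 c) = 0 ↔ ∀ i, mm p n 0 i = p - 1 → c i = 0 :=
    fun c => TriBasis.mem_ker_iff F0 hF0a hF0b N0 hcN0 ((p - 1) * n)
      (fun i => ((mm p n 0 i).descFactorial (p - 1) : k)) hN0F
      (fun i => mm p n 0 i = p - 1) (nu_ne_iff p n 0) c
  -- nonvanishing of `j+1`
  have hne : ∀ j, ¬ mm p n (0 + n + 1) j = p - 1 → ((j + 1 : ℕ) : k) ≠ 0 := by
    intro j hj h0
    apply hj
    rw [mm_eq_iff p n hpn (0 + n + 1) j]
    have h1 : p ∣ j + 1 := (CharP.cast_eq_zero_iff k p (j + 1)).mp h0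
    have : ((0 : ℤ) + n + 1 + j - n) = ((j + 1 : ℕ) : ℤ) := by push_cast; ring
    rw [this]
    exact_mod_cast h1
  -- the map
  let gm : LinearMap.ker N0 →ₗ[k] (↥(S' p n) → k) :=
    { toFun := fun y s => ((s.1 + 1 : ℕ) : k) * (TriBasis.Teq F0 hF0b).symm y.1 (s.1 + 1)
      map_add' := by
        intro y y'
        funext s
        simp only [Submodule.coe_add, map_add, Pi.add_apply, mul_add]
      map_smul' := by
        intro r y
        funext s
        simp only [Submodule.coe_smul, map_smul, Pi.smul_apply, smul_eq_mul, RingHom.id_apply]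
        ring }
  have hgm : ∀ (y : LinearMap.ker N0) (s : ↥(S' p n)),
      gm y s = ((s.1 + 1 : ℕ) : k) * (TriBasis.Teq F0 hF0b).symm y.1 (s.1 + 1) := fun _ _ => rfl
  refine ⟨gm, ?_, ?_⟩
  · -- surjectivity
    intro z
    let c : ℕ → k := fun i =>
      if h : 1 ≤ i ∧ i - 1 ∈ S' p n then z ⟨i - 1, h.2⟩ / (i : k) else 0
    have hc : N0 (TriBasis.T F0 c) = 0 := by
      rw [hker0]
      intro i hi
      have : ¬ (1 ≤ i ∧ i - 1 ∈ S' p n) := by
        rintro ⟨h1, h2⟩
        simp only [S', Finset.mem_filter] at h2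
        apply h2.2.2
        rw [Nat.sub_add_cancel h1]
        exact hi
      simp only [c, dif_neg this]
    refine ⟨⟨TriBasis.T F0 c, hc⟩, ?_⟩
    funext s
    rw [hgm]
    have h1 : (TriBasis.Teq F0 hF0b).symm (TriBasis.T F0 c) = c := by
      rw [← TriBasis.Teq_apply F0 hF0b, LinearEquiv.symm_apply_apply]
    simp only [h1]
    have hs : 1 ≤ s.1 + 1 ∧ s.1 + 1 - 1 ∈ S' p n := ⟨Nat.le_add_left 1 _, by
      rw [Nat.add_sub_cancel]; exact s.2⟩
    simp only [c, dif_pos hs]
    have hs2 := s.2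
    simp only [S', Finset.mem_filter] at hs2
    have hne' := hne s.1 hs2.2.1
    have : (⟨s.1 + 1 - 1, hs.2⟩ : ↥(S' p n)) = s := Subtype.ext (Nat.add_sub_cancel (n := s.1) (m := 1))
    rw [this]
    field_simp
  · -- kernel
    intro y
    set c := (TriBasis.Teq F0 hF0b).symm y.1 with hcdef
    have hTc : TriBasis.T F0 c = y.1 := by
      rw [← TriBasis.Teq_apply F0 hF0b, hcdef, LinearEquiv.apply_symm_apply]
    have hcbad : ∀ i, mm p n 0 i = p - 1 → c i = 0 := by
      rw [← hker0, hTc]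
      exact y.2
    have hDy : N1 (derivative k y.1) = 0 := by
      rw [hN1, ← norm_comm p σ₀ σ₁ hcomm]
      have : N0 y.1 = 0 := y.2
      rw [← hN0, this, map_zero]
    have hcoord : ∀ j < n, (TriBasis.Teq F1 hF1b).symm (derivative k y.1) j =
        ((j + 1 : ℕ) : k) * c (j + 1) := coord_deriv p n hn hpn v hv1 hvn hv y.1
    -- membership in range via Phi
    have hkerPhi := TriBasis.ker_Phi F1 hF1a hF1b (σ₁ - 1) N1 hcδ1 hcN1 n ((p - 1) * n)
      (fun i => (mm p n (0 + n + 1) i : k))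
      (fun i => ((mm p n (0 + n + 1) i).descFactorial (p - 1) : k)) hδ1F hN1F
      (fun i => mm p n (0 + n + 1) i = p - 1) (nu_ne_iff p n (0 + n + 1))
      (mu_eq_iff p n hpn (0 + n + 1))
    have hmem : derivative k y.1 ∈ LinearMap.range (σ₁ - 1) ↔
        (⟨derivative k y.1, hDy⟩ : LinearMap.ker N1) ∈
          LinearMap.ker (TriBasis.Phi F1 hF1b N1 n (fun i => mm p n (0 + n + 1) i = p - 1)) := by
      rw [hkerPhi, Submodule.mem_comap]
      rfl
    rw [hmem, LinearMap.mem_ker]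
    constructor
    · intro h
      funext s
      have hs := s.2
      simp only [TriBasis.Sset, Finset.mem_filter, Finset.mem_range] at hs
      change (TriBasis.Teq F1 hF1b).symm (derivative k y.1) s.1 = 0
      rw [hcoord s.1 hs.1]
      by_cases hb : mm p n 0 (s.1 + 1) = p - 1
      · rw [hcbad _ hb, mul_zero]
      · have hsS : s.1 ∈ S' p n := by
          simp only [S', Finset.mem_filter, Finset.mem_range]
          exact ⟨hs.1, hs.2, hb⟩
        have := congrFun h ⟨s.1, hsS⟩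
        rw [hgm] at this
        exact this
    · intro h
      funext s
      have hs := s.2
      simp only [S', Finset.mem_filter, Finset.mem_range] at hs
      have hsS : s.1 ∈ TriBasis.Sset n (fun i => mm p n (0 + n + 1) i = p - 1) := by
        simp only [TriBasis.Sset, Finset.mem_filter, Finset.mem_range]
        exact ⟨hs.1, hs.2.1⟩
      have := congrFun h ⟨s.1, hsS⟩
      change (TriBasis.Teq F1 hF1b).symm (derivative k y.1) s.1 = 0 at this
      rw [hcoord s.1 hs.1] at this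
      rw [hgm]
      exact this

end Main862

end Groth.Agent.Lib.helper10.ASBasis
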