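import Mathlib
import Groth.Prelude.Def_CAlgX

/-!
# Lifting lemmas for adic formal smoothness (`CAlgX.IsAdicFormallySmooth`)
-/

set_option autoImplicit false
set_option linter.unusedVariables false
set_option linter.style.haveILetI false
set_option linter.unusedSectionVars false

namespace Groth.Agent.Lib.helper10.AdicLift

open CAlgX

universe u

variable {A B : Type u} [CommRing A] [CommRing B] [Algebra A B] {J : Ideal B}

/-- lifting along a surjection with square-zero kernel -/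
theorem lift_of_sqZero (h : IsAdicFormallySmooth A B J) {E E' : Type u} [CommRing E] [CommRing E']
    [Algebra A E] [Algebra A E'] (π : E →ₐ[A] E') (hπ : Function.Surjective π)
    (hker : (RingHom.ker (π : E →+* E')) ^ 2 = ⊥) (ψ : B →ₐ[A] E') (k : ℕ)
    (hψ : ∀ x ∈ J ^ k, ψ x = 0) : ∃ χ : B →ₐ[A] E, π.comp χ = ψ := by
  let e : (E ⧸ RingHom.ker (π : E →+* E')) ≃ₐ[A] E' := Ideal.quotientKerAlgEquivOfSurjective hπ
  obtain ⟨χ, hχ⟩ := h E (RingHom.ker (π : E →+* E')) hker (e.symm.toAlgHom.comp ψ)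
    ⟨k, fun x hx => by simp [hψ x hx]⟩
  refine ⟨χ, ?_⟩
  ext b
  have h1 := AlgHom.congr_fun hχ b
  simp only [AlgHom.comp_apply, Ideal.Quotient.mkₐ_eq_mk] at h1
  have h2 : e (Ideal.Quotient.mk _ (χ b)) = π (χ b) := rfl
  rw [AlgHom.comp_apply, ← h2, h1]
  exact e.apply_symm_apply (ψ b)

/-- lifting along a surjection with nilpotent kernel -/
theorem lift_of_nilpotent (h : IsAdicFormallySmooth A B J) (m : ℕ) :
    ∀ {E E' : Type u} [CommRing E] [CommRing E']
    [Algebra A E] [Algebra A E'] (π : E →ₐ[A] E') (hπ : Function.Surjective π)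
    (hker : (RingHom.ker (π : E →+* E')) ^ m = ⊥) (ψ : B →ₐ[A] E') (k : ℕ)
    (hψ : ∀ x ∈ J ^ k, ψ x = 0), ∃ χ : B →ₐ[A] E, π.comp χ = ψ := by
  induction m using Nat.strong_induction_on with
  | _ m ih =>
    intro E E' _ _ _ _ π hπ hker ψ k hψ
    by_cases hm : m ≤ 2
    · refine lift_of_sqZero h π hπ ?_ ψ k hψ
      rw [eq_bot_iff, ← hker]
      exact Ideal.pow_le_pow_right hm
    · push Not at hm
      set K : Ideal E := RingHom.ker (π : E →+* E') with hK
      have hle : K ^ (m - 1) ≤ K := Ideal.pow_le_self (by omega)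
      let π₁ : (E ⧸ K ^ (m - 1)) →ₐ[A] E' :=
        Ideal.Quotient.liftₐ (K ^ (m - 1)) π (fun a ha => hle ha)
      have hπ₁ : ∀ x : E, π₁ (Ideal.Quotient.mk _ x) = π x := fun x => rfl
      have hπ₁s : Function.Surjective π₁ := fun y => by
        obtain ⟨x, rfl⟩ := hπ y
        exact ⟨Ideal.Quotient.mk _ x, hπ₁ x⟩
      have hker₁ : RingHom.ker (π₁ : (E ⧸ K ^ (m - 1)) →+* E') =
          K.map (Ideal.Quotient.mk (K ^ (m - 1))) := by
        apply le_antisymm
        · intro x hx
          obtain ⟨y, rfl⟩ := Ideal.Quotient.mk_surjective x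
          rw [RingHom.mem_ker] at hx
          change π₁ (Ideal.Quotient.mk _ y) = 0 at hx
          rw [hπ₁] at hx
          exact Ideal.mem_map_of_mem _ hx
        · rw [Ideal.map_le_iff_le_comap]
          intro y hy
          rw [Ideal.mem_comap, RingHom.mem_ker]
          change π₁ (Ideal.Quotient.mk _ y) = 0
          rw [hπ₁]
          exact hy
      have hker₁' : (RingHom.ker (π₁ : (E ⧸ K ^ (m - 1)) →+* E')) ^ (m - 1) = ⊥ := by
        rw [hker₁, ← Ideal.map_pow, Ideal.map_quotient_self]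
      obtain ⟨χ₁, hχ₁⟩ := ih (m - 1) (by omega) π₁ hπ₁s hker₁' ψ k hψ
      -- χ₁ kills a power of J
      have hχ₁k : ∀ x ∈ J ^ (k * (m - 1)), χ₁ x = 0 := by
        intro x hx
        have h1 : (J ^ k).map (χ₁ : B →+* (E ⧸ K ^ (m - 1))) ≤
            RingHom.ker (π₁ : (E ⧸ K ^ (m - 1)) →+* E') := by
          rw [Ideal.map_le_iff_le_comap]
          intro y hy
          rw [Ideal.mem_comap, RingHom.mem_ker]
          have := AlgHom.congr_fun hχ₁ y
          rw [AlgHom.comp_apply] at this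
          change π₁ (χ₁ y) = 0
          rw [this]
          exact hψ y hy
        have h2 : (χ₁ : B →+* (E ⧸ K ^ (m - 1))) x ∈
            ((J ^ k).map (χ₁ : B →+* (E ⧸ K ^ (m - 1)))) ^ (m - 1) := by
          rw [← Ideal.map_pow, ← pow_mul]
          exact Ideal.mem_map_of_mem _ hx
        have h3 := Ideal.pow_right_mono h1 (m - 1) h2
        rw [hker₁'] at h3
        exact h3
      have hmk : Function.Surjective (Ideal.Quotient.mkₐ A (K ^ (m - 1))) :=
        Ideal.Quotient.mk_surjective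
      have hkermk : (RingHom.ker ((Ideal.Quotient.mkₐ A (K ^ (m - 1)) : E →ₐ[A] _) :
          E →+* (E ⧸ K ^ (m - 1)))) ^ 2 = ⊥ := by
        have : RingHom.ker ((Ideal.Quotient.mkₐ A (K ^ (m - 1)) : E →ₐ[A] _) :
          E →+* (E ⧸ K ^ (m - 1))) = K ^ (m - 1) := Ideal.mk_ker
        rw [this, ← pow_mul, eq_bot_iff, ← hker]
        exact Ideal.pow_le_pow_right (by omega)
      obtain ⟨χ, hχ⟩ := lift_of_sqZero h (Ideal.Quotient.mkₐ A (K ^ (m - 1))) hmk hkermk χ₁ _ hχ₁k
      refine ⟨χ, ?_⟩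
      ext b
      have h1 := AlgHom.congr_fun hχ b
      have h2 := AlgHom.congr_fun hχ₁ b
      rw [AlgHom.comp_apply] at h1 h2 ⊢
      rw [← h2, ← h1]
      rfl

end Groth.Agent.Lib.helper10.AdicLift
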