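import Mathlib

/-!
# Descent of multilinear maps along surjections
-/

set_option autoImplicit false
set_option linter.unusedVariables false
set_option linter.style.haveILetI false

namespace Groth.Agent.Lib.helper10.MultiDescent

universe u v w w'

variable {R : Type u} [CommRing R] {ι : Type u} [Finite ι]
  {M : Type v} [AddCommGroup M] [Module R M] {M' : Type w} [AddCommGroup M'] [Module R M']
  {N : Type w'} [AddCommGroup N] [Module R N]

/-- a multilinear map vanishing on tuples with an entry in `ker π` depends only on the
image of the tuple under `π` -/
lemma eq_of_map_eq (π : M →ₗ[R] M') (f : MultilinearMap R (fun _ : ι => M) N)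
    (hf : ∀ (v : ι → M) (i : ι), π (v i) = 0 → f v = 0)
    (v w : ι → M) (h : ∀ i, π (v i) = π (w i)) : f v = f w := by
  classical
  haveI := Fintype.ofFinite ι
  have key : ∀ s : Finset ι, f (s.piecewise w v) = f v := by
    intro s
    induction s using Finset.induction_on with
    | empty => simp
    | insert a s ha ih =>
      rw [Finset.piecewise_insert, ← ih]
      set u := s.piecewise w v with hu
      have hua : u a = v a := by simp [hu, ha]
      have h1 : f (Function.update u a (w a)) - f (Function.update u a (u a)) =
          f (Function.update u a (w a - u a)) := (f.map_update_sub u a (w a) (u a)).symm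
      rw [Function.update_eq_self] at h1
      have h2 : f (Function.update u a (w a - u a)) = 0 := by
        apply hf _ a
        simp [hua, h]
      rw [h2, sub_eq_zero] at h1
      exact h1
  have := key Finset.univ
  simpa using this.symm

/-- descent of a multilinear map along a surjection -/
theorem exists_descent (π : M →ₗ[R] M') (hπ : Function.Surjective π)
    (f : MultilinearMap R (fun _ : ι => M) N)
    (hf : ∀ (v : ι → M) (i : ι), π (v i) = 0 → f v = 0) :
    ∃ g : MultilinearMap R (fun _ : ι => M') N, ∀ v : ι → M, g (fun i => π (v i)) = f v := by
  classical
  let s : M' → M := Function.surjInv hπ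
  have hs : ∀ y, π (s y) = y := Function.surjInv_eq hπ
  have hfun : ∀ v : ι → M, f (fun i => s (π (v i))) = f v := by
    intro v
    exact eq_of_map_eq π f hf _ _ (fun i => hs _)
  refine ⟨{ toFun := fun w => f (fun i => s (w i))
            map_update_add' := ?_
            map_update_smul' := ?_ }, hfun⟩
  · intro _ w i x y
    have e1 : f (fun j => s (Function.update w i (x + y) j)) =
        f (Function.update (fun j => s (w j)) i (s x + s y)) := by
      apply eq_of_map_eq π f hf
      intro j
      by_cases hj : j = i
      · subst hj; simp [hs]
      · simp [Function.update_of_ne hj]
    have e2 : f (fun j => s (Function.update w i x j)) =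
        f (Function.update (fun j => s (w j)) i (s x)) := by
      congr 1; funext j
      by_cases hj : j = i
      · subst hj; simp
      · simp [Function.update_of_ne hj]
    have e3 : f (fun j => s (Function.update w i y j)) =
        f (Function.update (fun j => s (w j)) i (s y)) := by
      congr 1; funext j
      by_cases hj : j = i
      · subst hj; simp
      · simp [Function.update_of_ne hj]
    show f (fun j => s (Function.update w i (x + y) j)) =
      f (fun j => s (Function.update w i x j)) + f (fun j => s (Function.update w i y j))
    rw [e1, e2, e3, f.map_update_add]
  · intro _ w i c x
    have e1 : f (fun j => s (Function.update w i (c • x) j)) =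
        f (Function.update (fun j => s (w j)) i (c • s x)) := by
      apply eq_of_map_eq π f hf
      intro j
      by_cases hj : j = i
      · subst hj; simp [hs]
      · simp [Function.update_of_ne hj]
    have e2 : f (fun j => s (Function.update w i x j)) =
        f (Function.update (fun j => s (w j)) i (s x)) := by
      congr 1; funext j
      by_cases hj : j = i
      · subst hj; simp
      · simp [Function.update_of_ne hj]
    show f (fun j => s (Function.update w i (c • x) j)) =
      c • f (fun j => s (Function.update w i x j))
    rw [e1, e2, f.map_update_smul]

end Groth.Agent.Lib.helper10.MultiDescent
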