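import Mathlib

/-!
# Basic API for `SymmetricPower`: universal property, functoriality, evaluation into
commutative algebras.
-/

set_option autoImplicit false
set_option linter.unusedVariables false
set_option linter.style.haveILetI false

namespace Groth.Agent.Lib.helper10.SymPow

open TensorProduct SymmetricPower

universe u v w w'

variable {R ι : Type u} [CommRing R] {M : Type v} [AddCommGroup M] [Module R M]
  {N : Type w} [AddCommGroup N] [Module R N]

/-- additive version of the lift -/
noncomputable def liftAddHom (f : MultilinearMap R (fun _ : ι => M) N)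
    (hf : ∀ (e : Equiv.Perm ι) (v : ι → M), f (fun i => v (e i)) = f v) : Sym[R] ι M →+ N :=
  AddCon.lift _ (PiTensorProduct.lift f).toAddMonoidHom (AddCon.addConGen_le.2 (by
    rintro _ _ ⟨e, v⟩
    rw [AddCon.ker_rel]
    simp only [LinearMap.toAddMonoidHom_coe]
    rw [PiTensorProduct.lift.tprod, PiTensorProduct.lift.tprod, hf]))

lemma liftAddHom_mk (f : MultilinearMap R (fun _ : ι => M) N)
    (hf : ∀ (e : Equiv.Perm ι) (v : ι → M), f (fun i => v (e i)) = f v) (y : ⨂[R] _ : ι, M) :
    liftAddHom f hf (SymmetricPower.mk R ι M y) = PiTensorProduct.lift f y := rfl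

lemma mk_surjective : Function.Surjective (SymmetricPower.mk R ι M) :=
  AddCon.mk'_surjective

/-- universal property of the symmetric power -/
noncomputable def lift (f : MultilinearMap R (fun _ : ι => M) N)
    (hf : ∀ (e : Equiv.Perm ι) (v : ι → M), f (fun i => v (e i)) = f v) : Sym[R] ι M →ₗ[R] N where
  __ := liftAddHom f hf
  map_smul' r x := by
    obtain ⟨y, rfl⟩ := mk_surjective x
    change liftAddHom f hf (r • SymmetricPower.mk R ι M y) = r • liftAddHom f hf (SymmetricPower.mk R ι M y)
    rw [← map_smul, liftAddHom_mk, liftAddHom_mk, map_smul]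

@[simp] lemma lift_tprod (f : MultilinearMap R (fun _ : ι => M) N)
    (hf : ∀ (e : Equiv.Perm ι) (v : ι → M), f (fun i => v (e i)) = f v) (v : ι → M) :
    lift f hf (SymmetricPower.tprod R v) = f v := by
  change liftAddHom f hf (SymmetricPower.mk R ι M (PiTensorProduct.tprod R v)) = f v
  rw [liftAddHom_mk, PiTensorProduct.lift.tprod]

lemma hom_ext {f g : Sym[R] ι M →ₗ[R] N}
    (h : ∀ v : ι → M, f (SymmetricPower.tprod R v) = g (SymmetricPower.tprod R v)) : f = g := by
  apply LinearMap.ext_on (SymmetricPower.span_tprod_eq_top R ι M)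
  rintro _ ⟨v, rfl⟩
  exact h v

lemma induction_on {C : Sym[R] ι M → Prop} (x : Sym[R] ι M) (zero : C 0)
    (smul_tprod : ∀ (r : R) (v : ι → M), C (r • SymmetricPower.tprod R v))
    (add : ∀ x y, C x → C y → C (x + y)) : C x := by
  have hx : x ∈ Submodule.span R (Set.range (SymmetricPower.tprod R (ι := ι) (M := M))) := by
    rw [SymmetricPower.span_tprod_eq_top]; trivial
  suffices h : ∀ r : R, C (r • x) by simpa using h 1
  induction hx using Submodule.span_induction with
  | mem x hx => obtain ⟨v, rfl⟩ := hx; exact fun r => smul_tprod r v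
  | zero => intro r; simpa using zero
  | add x y _ _ hx hy => intro r; rw [smul_add]; exact add _ _ (hx r) (hy r)
  | smul s x _ hx => intro r; rw [smul_smul]; exact hx _

/-- functoriality -/
noncomputable def map {M' : Type w} [AddCommGroup M'] [Module R M'] (g : M →ₗ[R] M') :
    Sym[R] ι M →ₗ[R] Sym[R] ι M' :=
  lift ((SymmetricPower.tprod R).compLinearMap (fun _ => g)) (by
    intro e v
    simp only [MultilinearMap.compLinearMap_apply]
    exact SymmetricPower.tprod_equiv e (fun i => g (v i)))

@[simp] lemma map_tprod {M' : Type w} [AddCommGroup M'] [Module R M'] (g : M →ₗ[R] M')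
    (v : ι → M) : map g (SymmetricPower.tprod R v) = SymmetricPower.tprod R (fun i => g (v i)) := by
  rw [map, lift_tprod]; rfl

lemma map_id : map (LinearMap.id : M →ₗ[R] M) = (LinearMap.id : Sym[R] ι M →ₗ[R] Sym[R] ι M) :=
  hom_ext (fun v => by simp)

lemma map_comp {M' : Type w} [AddCommGroup M'] [Module R M'] {M'' : Type w'} [AddCommGroup M'']
    [Module R M''] (g : M →ₗ[R] M') (h : M' →ₗ[R] M'') :
    (map (h ∘ₗ g) : Sym[R] ι M →ₗ[R] Sym[R] ι M'') = map h ∘ₗ map g :=
  hom_ext (fun v => by simp)

lemma map_injective_of_leftInverse {M' : Type w} [AddCommGroup M'] [Module R M']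
    (g : M →ₗ[R] M') (h : M' →ₗ[R] M) (hgh : h ∘ₗ g = LinearMap.id) :
    Function.Injective (map g : Sym[R] ι M →ₗ[R] Sym[R] ι M') := by
  have : (map h ∘ₗ map g : Sym[R] ι M →ₗ[R] Sym[R] ι M) = LinearMap.id := by
    rw [← map_comp, hgh, map_id]
  exact Function.LeftInverse.injective (g := map h) (fun x => by
    have := LinearMap.congr_fun this x; simpa using this)

lemma map_surjective {M' : Type w} [AddCommGroup M'] [Module R M']
    (g : M →ₗ[R] M') (hg : Function.Surjective g) :
    Function.Surjective (map g : Sym[R] ι M →ₗ[R] Sym[R] ι M') := by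
  intro x
  induction x using induction_on with
  | zero => exact ⟨0, map_zero _⟩
  | smul_tprod r v =>
    choose w hw using fun i => hg (v i)
    exact ⟨r • SymmetricPower.tprod R w, by simp [hw]⟩
  | add x y hx hy =>
    obtain ⟨a, rfl⟩ := hx; obtain ⟨b, rfl⟩ := hy
    exact ⟨a + b, map_add _ _ _⟩

section evalProd

variable [Fintype ι] {A : Type w} [CommRing A] [Algebra R A]

/-- evaluation of a symmetric tensor through a linear map into a commutative algebra:
`⨂ₛ v ↦ ∏ ℓ (v i)` -/
noncomputable def evalProd (ℓ : M →ₗ[R] A) : Sym[R] ι M →ₗ[R] A :=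
  lift ((MultilinearMap.mkPiAlgebra R ι A).compLinearMap (fun _ => ℓ)) (by
    intro e v
    simp only [MultilinearMap.compLinearMap_apply, MultilinearMap.mkPiAlgebra_apply]
    exact Equiv.prod_comp e (fun i => ℓ (v i)))

@[simp] lemma evalProd_tprod (ℓ : M →ₗ[R] A) (v : ι → M) :
    evalProd ℓ (SymmetricPower.tprod R v) = ∏ i, ℓ (v i) := by
  rw [evalProd, lift_tprod]; simp

lemma evalProd_map {M' : Type w'} [AddCommGroup M'] [Module R M'] (g : M →ₗ[R] M')
    (ℓ : M' →ₗ[R] A) : (evalProd ℓ ∘ₗ map g : Sym[R] ι M →ₗ[R] A) = evalProd (ℓ ∘ₗ g) :=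
  hom_ext (fun v => by simp)

end evalProd

section span

variable [Finite ι]

/-- tensors of elements of a spanning set span the symmetric power -/
lemma tprod_mem_span_of_span_eq_top (S : Set M) (hS : Submodule.span R S = ⊤) (v : ι → M) :
    SymmetricPower.tprod R v ∈ Submodule.span R
      {x : Sym[R] ι M | ∃ w : ι → M, (∀ i, w i ∈ S) ∧ x = SymmetricPower.tprod R w} := by
  classical
  haveI := Fintype.ofFinite ι
  set T : Set (Sym[R] ι M) :=
    {x : Sym[R] ι M | ∃ w : ι → M, (∀ i, w i ∈ S) ∧ x = SymmetricPower.tprod R w} with hT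
  have key : ∀ (s : Finset ι) (v : ι → M), (∀ i, i ∉ s → v i ∈ S) →
      SymmetricPower.tprod R v ∈ Submodule.span R T := by
    intro s
    induction s using Finset.induction_on with
    | empty =>
      intro v hv
      exact Submodule.subset_span ⟨v, fun i => hv i (by simp), rfl⟩
    | insert a s ha ih =>
      intro v hv
      have hva : v a ∈ Submodule.span R S := by rw [hS]; trivial
      have : ∀ m : M, m ∈ Submodule.span R S →
          SymmetricPower.tprod R (Function.update v a m) ∈ Submodule.span R T := by
        intro m hm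
        induction hm using Submodule.span_induction with
        | mem m hm =>
          apply ih
          intro i hi
          by_cases hia : i = a
          · subst hia; simpa using hm
          · rw [Function.update_of_ne hia]
            exact hv i (by simp [hia, hi])
        | zero =>
          rw [(SymmetricPower.tprod R).map_update_zero]; exact zero_mem _
        | add x y _ _ hx hy =>
          rw [(SymmetricPower.tprod R).map_update_add]; exact add_mem hx hy
        | smul r x _ hx =>
          rw [(SymmetricPower.tprod R).map_update_smul]; exact Submodule.smul_mem _ _ hx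
      have h2 := this (v a) hva
      rwa [Function.update_eq_self] at h2
  exact key Finset.univ v (fun i hi => absurd (Finset.mem_univ i) hi)

lemma hom_ext_of_span {f g : Sym[R] ι M →ₗ[R] N} (S : Set M) (hS : Submodule.span R S = ⊤)
    (h : ∀ v : ι → M, (∀ i, v i ∈ S) →
      f (SymmetricPower.tprod R v) = g (SymmetricPower.tprod R v)) : f = g := by
  apply hom_ext
  intro v
  have hv := tprod_mem_span_of_span_eq_top S hS v
  have : ∀ x ∈ Submodule.span R
      {x : Sym[R] ι M | ∃ w : ι → M, (∀ i, w i ∈ S) ∧ x = SymmetricPower.tprod R w}, f x = g x := by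
    intro x hx
    induction hx using Submodule.span_induction with
    | mem x hx => obtain ⟨w, hw, rfl⟩ := hx; exact h w hw
    | zero => simp
    | add x y _ _ hx hy => rw [map_add, map_add, hx, hy]
    | smul r x _ hx => rw [map_smul, map_smul, hx]
  exact this _ hv

end span

end Groth.Agent.Lib.helper10.SymPow
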