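import Mathlib
import Groth.Agent.Lib.helper10.SymPowBasic

/-!
# Symmetric powers of free modules and homogeneous polynomials
-/

set_option autoImplicit false
set_option linter.unusedVariables false
set_option linter.style.haveILetI false

namespace Groth.Agent.Lib.helper10.SymPow

open TensorProduct SymmetricPower MvPolynomial

universe u v w w'

section typ

variable {ι : Type u} [Fintype ι] {κ : Type w}

/-- the multi-index ("type") of a map `σ : ι → κ`: `k ↦ #σ⁻¹(k)` -/
noncomputable def typ (σ : ι → κ) : κ →₀ ℕ := ∑ i, Finsupp.single (σ i) 1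

lemma typ_apply (σ : ι → κ) (k : κ) :
    typ σ k = Nat.card {i // σ i = k} := by
  classical
  rw [Nat.card_eq_fintype_card, typ, Finsupp.finsetSum_apply]
  simp only [Finsupp.single_apply]
  rw [Finset.sum_boole, Fintype.card_subtype]
  simp

lemma typ_degree (σ : ι → κ) : (typ σ).degree = Fintype.card ι := by
  classical
  rw [typ, map_sum]
  simp

lemma prod_X_eq (R : Type*) [CommSemiring R] (σ : ι → κ) :
    ∏ i, (X (σ i) : MvPolynomial κ R) = monomial (typ σ) 1 := by
  rw [typ, MvPolynomial.monomial_sum_one]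
  rfl

lemma exists_perm_of_typ_eq (σ τ : ι → κ) (h : typ σ = typ τ) :
    ∃ e : Equiv.Perm ι, ∀ i, τ (e i) = σ i := by
  classical
  have hc : ∀ k, Fintype.card {i // σ i = k} = Fintype.card {i // τ i = k} := by
    intro k; rw [← Nat.card_eq_fintype_card, ← Nat.card_eq_fintype_card, ← typ_apply, ← typ_apply, h]
  refine ⟨Equiv.ofFiberEquiv (f := σ) (g := τ) (fun k => Fintype.equivOfCardEq (hc k)), ?_⟩
  intro i
  exact Equiv.ofFiberEquiv_map _ i

lemma exists_typ_eq_fin (n : ℕ) (d : κ →₀ ℕ) (hd : d.degree = n) :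
    ∃ σ : Fin n → κ, typ σ = d := by
  classical
  induction n generalizing d with
  | zero =>
    refine ⟨Fin.elim0, ?_⟩
    rw [Finsupp.degree_eq_zero_iff] at hd
    simp [typ, hd]
  | succ n ih =>
    have hne : d ≠ 0 := by
      rintro rfl; simp at hd
    obtain ⟨k, hk⟩ := Finsupp.ne_iff.mp hne
    simp only [Finsupp.coe_zero, Pi.zero_apply] at hk
    have hd' : d = (d - Finsupp.single k 1) + Finsupp.single k 1 := by
      ext j
      by_cases hj : j = k
      · subst hj; simp; omega
      · simp [Ne.symm hj]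
    have hdeg : (d - Finsupp.single k 1).degree = n := by
      have h1 := congrArg Finsupp.degree hd'
      rw [map_add, hd] at h1
      simp at h1
      omega
    obtain ⟨σ, hσ⟩ := ih _ hdeg
    refine ⟨Fin.cons k σ, ?_⟩
    rw [typ, Fin.sum_univ_succ]
    simp only [Fin.cons_zero, Fin.cons_succ]
    rw [hd', add_comm]
    congr 1

lemma exists_typ_eq (d : κ →₀ ℕ) (hd : d.degree = Fintype.card ι) :
    ∃ σ : ι → κ, typ σ = d := by
  classical
  obtain ⟨σ, hσ⟩ := exists_typ_eq_fin (Fintype.card ι) d hd
  refine ⟨σ ∘ (Fintype.equivFin ι), ?_⟩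
  rw [← hσ, typ, typ]
  exact Equiv.sum_comp (Fintype.equivFin ι) (fun j => Finsupp.single (σ j) 1)

end typ

section free

variable {R ι : Type u} [CommRing R] [Fintype ι] {κ : Type w}

/-- the linear form `c ↦ ∑ c_k X_k` -/
noncomputable def linX (R : Type u) [CommRing R] (κ : Type w) :
    (κ →₀ R) →ₗ[R] MvPolynomial κ R :=
  Finsupp.linearCombination R (fun k => (X k : MvPolynomial κ R))

@[simp] lemma linX_single (k : κ) (r : R) : linX R κ (Finsupp.single k r) = C r * X k := by
  simp [linX, MvPolynomial.smul_eq_C_mul]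

/-- `Sym^ι (κ →₀ R) → R[X_κ]` -/
noncomputable def toPoly (R ι : Type u) [CommRing R] [Fintype ι] (κ : Type w) :
    Sym[R] ι (κ →₀ R) →ₗ[R] MvPolynomial κ R :=
  evalProd (linX R κ)

lemma toPoly_tprod (v : ι → (κ →₀ R)) :
    toPoly R ι κ (SymmetricPower.tprod R v) = ∏ i, linX R κ (v i) := by
  simp [toPoly]

lemma toPoly_tprod_single (σ : ι → κ) :
    toPoly R ι κ (SymmetricPower.tprod R (fun i => Finsupp.single (σ i) (1 : R))) =
      monomial (typ σ) 1 := by
  rw [toPoly_tprod, ← prod_X_eq]
  simp

/-- a chosen map of a given type -/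
noncomputable def chooseMap (ι : Type u) [Fintype ι] {κ : Type w} (d : κ →₀ ℕ)
    (hd : d.degree = Fintype.card ι) : ι → κ :=
  (exists_typ_eq (ι := ι) d hd).choose

lemma typ_chooseMap (d : κ →₀ ℕ) (hd : d.degree = Fintype.card ι) :
    typ (chooseMap ι d hd) = d :=
  (exists_typ_eq (ι := ι) d hd).choose_spec

open Classical in
/-- the inverse map on monomials -/
noncomputable def ofPoly (R ι : Type u) [CommRing R] [Fintype ι] (κ : Type w) :
    MvPolynomial κ R →ₗ[R] Sym[R] ι (κ →₀ R) :=
  (MvPolynomial.basisMonomials κ R).constr R (fun d =>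
    if hd : d.degree = Fintype.card ι then
      SymmetricPower.tprod R (fun i => Finsupp.single (chooseMap ι d hd i) (1 : R))
    else 0)

lemma ofPoly_monomial (d : κ →₀ ℕ) (hd : d.degree = Fintype.card ι) (r : R) :
    ofPoly R ι κ (monomial d r) =
      r • SymmetricPower.tprod R (fun i => Finsupp.single (chooseMap ι d hd i) (1 : R)) := by
  have : (monomial d r : MvPolynomial κ R) = r • MvPolynomial.basisMonomials κ R d := by
    rw [MvPolynomial.coe_basisMonomials, MvPolynomial.smul_monomial]; simp
  rw [this, map_smul, ofPoly, Module.Basis.constr_basis, dif_pos hd]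

lemma ofPoly_monomial_of_ne (d : κ →₀ ℕ) (hd : d.degree ≠ Fintype.card ι) (r : R) :
    ofPoly R ι κ (monomial d r) = 0 := by
  have : (monomial d r : MvPolynomial κ R) = r • MvPolynomial.basisMonomials κ R d := by
    rw [MvPolynomial.coe_basisMonomials, MvPolynomial.smul_monomial]; simp
  rw [this, map_smul, ofPoly, Module.Basis.constr_basis, dif_neg hd, smul_zero]

lemma ofPoly_monomial_typ (σ : ι → κ) :
    ofPoly R ι κ (monomial (typ σ) 1) =
      SymmetricPower.tprod R (fun i => Finsupp.single (σ i) (1 : R)) := by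
  rw [ofPoly_monomial _ (typ_degree σ), one_smul]
  obtain ⟨e, he⟩ := exists_perm_of_typ_eq σ (chooseMap ι (typ σ) (typ_degree σ))
    (typ_chooseMap _ _).symm
  rw [← SymmetricPower.tprod_equiv e]
  congr 1
  funext i
  rw [he]

/-- `ofPoly ∘ toPoly = id` -/
theorem ofPoly_toPoly (x : Sym[R] ι (κ →₀ R)) : ofPoly R ι κ (toPoly R ι κ x) = x := by
  classical
  suffices h : (ofPoly R ι κ ∘ₗ toPoly R ι κ) = LinearMap.id from LinearMap.congr_fun h x
  refine hom_ext (R := R) (ι := ι) (M := κ →₀ R) (N := Sym[R] ι (κ →₀ R))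
    (f := ofPoly R ι κ ∘ₗ toPoly R ι κ) (g := LinearMap.id) (fun v => ?_)
  have key : ((ofPoly R ι κ ∘ₗ toPoly R ι κ).compMultilinearMap (SymmetricPower.tprod R)) =
      (SymmetricPower.tprod R (ι := ι) (M := κ →₀ R)) := by
    apply Module.Basis.ext_multilinear (fun _ : ι => (Finsupp.basisSingleOne (R := R) (ι := κ)))
    intro σ
    simp only [LinearMap.compMultilinearMap_apply, LinearMap.comp_apply,
      Finsupp.coe_basisSingleOne]
    rw [toPoly_tprod_single, ofPoly_monomial_typ]
  exact congrFun (congrArg DFunLike.coe key) v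

theorem toPoly_injective : Function.Injective (toPoly R ι κ) :=
  Function.LeftInverse.injective ofPoly_toPoly

/-- `toPoly ∘ ofPoly = id` on homogeneous polynomials of degree `card ι` -/
theorem toPoly_ofPoly (P : MvPolynomial κ R) (hP : P.IsHomogeneous (Fintype.card ι)) :
    toPoly R ι κ (ofPoly R ι κ P) = P := by
  classical
  rw [P.as_sum, map_sum, map_sum]
  apply Finset.sum_congr rfl
  intro d hd
  have hdeg : d.degree = Fintype.card ι := by
    have := hP (MvPolynomial.mem_support_iff.mp hd)
    rw [Finsupp.degree_eq_weight_one]; exact this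
  rw [ofPoly_monomial d hdeg, map_smul]
  have := toPoly_tprod_single (R := R) (chooseMap ι d hdeg)
  rw [typ_chooseMap] at this
  rw [this, MvPolynomial.smul_monomial]; simp

lemma toPoly_isHomogeneous (x : Sym[R] ι (κ →₀ R)) :
    (toPoly R ι κ x).IsHomogeneous (Fintype.card ι) := by
  induction x using induction_on with
  | zero => rw [map_zero]; exact MvPolynomial.isHomogeneous_zero _ _ _
  | smul_tprod r v =>
    rw [map_smul, toPoly_tprod, MvPolynomial.smul_eq_C_mul]
    have h1 : ∀ i ∈ (Finset.univ : Finset ι), (linX R κ (v i)).IsHomogeneous 1 := by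
      intro i _
      rw [linX, Finsupp.linearCombination_apply, Finsupp.sum]
      apply MvPolynomial.IsHomogeneous.sum
      intro k _
      rw [MvPolynomial.smul_eq_C_mul]
      have := (MvPolynomial.isHomogeneous_C κ ((v i) k)).mul (MvPolynomial.isHomogeneous_X R k)
      simpa using this
    have h2 := MvPolynomial.IsHomogeneous.prod Finset.univ (fun i => linX R κ (v i)) (fun _ => 1) h1
    have h3 := (MvPolynomial.isHomogeneous_C κ r).mul h2
    simpa using h3
  | add x y hx hy => rw [map_add]; exact hx.add hy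

end free

section family

variable {R ι : Type u} [CommRing R] [Fintype ι] {κ : Type w} {M : Type v} [AddCommGroup M]
  [Module R M]

/-- the "monomial map" `X^d ↦ ⨂ₛ m^d` attached to a family `m : κ → M` -/
noncomputable def monoMap (ι : Type u) [Fintype ι] (m : κ → M) :
    MvPolynomial κ R →ₗ[R] Sym[R] ι M :=
  map (Finsupp.linearCombination R m) ∘ₗ ofPoly R ι κ

lemma tprod_linearCombination (m : κ → M) (c : ι → (κ →₀ R)) :
    SymmetricPower.tprod R (fun i => Finsupp.linearCombination R m (c i)) =
      monoMap ι m (∏ i, linX R κ (c i)) := by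
  rw [monoMap, LinearMap.comp_apply, ← toPoly_tprod, ofPoly_toPoly, map_tprod]

lemma monoMap_monomial_typ (m : κ → M) (σ : ι → κ) :
    monoMap ι m (monomial (typ σ) (1 : R)) = SymmetricPower.tprod R (fun i => m (σ i)) := by
  rw [monoMap, LinearMap.comp_apply, ofPoly_monomial_typ, map_tprod]
  simp

lemma monoMap_monomial (m : κ → M) (d : κ →₀ ℕ) (hd : d.degree = Fintype.card ι) (r : R) :
    monoMap ι m (monomial d r) =
      r • SymmetricPower.tprod R (fun i => m (chooseMap ι d hd i)) := by
  have : (monomial d r : MvPolynomial κ R) = r • monomial d 1 := by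
    rw [MvPolynomial.smul_monomial]; simp
  rw [this, map_smul]
  conv_lhs => rw [← typ_chooseMap d hd]
  rw [monoMap_monomial_typ]

lemma evalProd_monoMap {A : Type w'} [CommRing A] [Algebra R A] (ℓ : M →ₗ[R] A) (m : κ → M)
    (P : MvPolynomial κ R) (hP : P.IsHomogeneous (Fintype.card ι)) :
    evalProd ℓ (monoMap ι m P) = MvPolynomial.aeval (fun k => ℓ (m k)) P := by
  classical
  rw [P.as_sum, map_sum, map_sum, map_sum]
  apply Finset.sum_congr rfl
  intro d hd
  have hdeg : d.degree = Fintype.card ι := by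
    have := hP (MvPolynomial.mem_support_iff.mp hd)
    rw [Finsupp.degree_eq_weight_one]; exact this
  rw [monoMap_monomial m d hdeg, map_smul, evalProd_tprod]
  have h1 : (monomial d (coeff d P) : MvPolynomial κ R) = coeff d P • monomial d 1 := by
    rw [MvPolynomial.smul_monomial]; simp
  rw [h1, map_smul]
  congr 1
  conv_rhs => rw [← typ_chooseMap d hdeg, ← prod_X_eq]
  rw [map_prod]
  simp

/-- if the family spans, every symmetric tensor is a homogeneous polynomial in the family -/
lemma exists_monoMap_eq (m : κ → M) (hm : Submodule.span R (Set.range m) = ⊤) (x : Sym[R] ι M) :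
    ∃ P : MvPolynomial κ R, P.IsHomogeneous (Fintype.card ι) ∧ monoMap ι m P = x := by
  have hsurj : Function.Surjective (Finsupp.linearCombination R m) := by
    rw [← LinearMap.range_eq_top, Finsupp.range_linearCombination, hm]
  obtain ⟨y, rfl⟩ := map_surjective (ι := ι) _ hsurj x
  exact ⟨toPoly R ι κ y, toPoly_isHomogeneous y, by
    rw [monoMap, LinearMap.comp_apply, ofPoly_toPoly]⟩

end family

section basis

variable {R ι : Type u} [CommRing R] [Fintype ι] {κ : Type w} {M : Type v} [AddCommGroup M]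
  [Module R M]

/-- for a basis `b` of `M`, the injective map `Sym^ι M → R[X_κ]`, `⨂ₛ v ↦ ∏ (∑ b*_k(v_i) X_k)` -/
noncomputable def toPolyB (ι : Type u) [Fintype ι] (b : Module.Basis κ R M) :
    Sym[R] ι M →ₗ[R] MvPolynomial κ R :=
  toPoly R ι κ ∘ₗ map (b.repr : M →ₗ[R] (κ →₀ R))

lemma toPolyB_injective (b : Module.Basis κ R M) : Function.Injective (toPolyB ι b) := by
  have h1 : Function.Injective (map (ι := ι) (b.repr : M →ₗ[R] (κ →₀ R))) :=
    map_injective_of_leftInverse _ (b.repr.symm : (κ →₀ R) →ₗ[R] M) (by ext x; simp)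
  exact toPoly_injective.comp h1

lemma toPolyB_tprod (b : Module.Basis κ R M) (v : ι → M) :
    toPolyB ι b (SymmetricPower.tprod R v) = ∏ i, linX R κ (b.repr (v i)) := by
  simp [toPolyB, toPoly_tprod]

lemma toPolyB_monoMap (b : Module.Basis κ R M) (P : MvPolynomial κ R)
    (hP : P.IsHomogeneous (Fintype.card ι)) : toPolyB ι b (monoMap ι b P) = P := by
  have h := evalProd_monoMap (ι := ι) (linX R κ ∘ₗ (b.repr : M →ₗ[R] (κ →₀ R))) b P hP
  have h2 : toPolyB ι b = evalProd (linX R κ ∘ₗ (b.repr : M →ₗ[R] (κ →₀ R))) := by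
    rw [toPolyB, toPoly, evalProd_map]
  rw [h2, h]
  have : (fun k => (linX R κ ∘ₗ (b.repr : M →ₗ[R] (κ →₀ R))) (b k)) =
      (fun k => (X k : MvPolynomial κ R)) := by
    funext k; simp
  rw [this, MvPolynomial.aeval_X_left]; rfl

end basis

end Groth.Agent.Lib.helper10.SymPow
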