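import Mathlib
import Groth.Prelude.Def_PP16
import Groth.Agent.Lib.helper10.SymPowPoly
import Groth.Agent.Lib.helper10.MultiDescent

/-!
# The canonical map `Sym^n (J/J²) → J^n/J^(n+1)`
-/

set_option autoImplicit false
set_option linter.unusedVariables false
set_option linter.style.haveILetI false

namespace Groth.Agent.Lib.helper10.SymPowGr

open TensorProduct SymmetricPower MvPolynomial PP16 Pointwise
open Groth.Agent.Lib.helper10.SymPow

universe u

variable {R : Type u} [CommRing R] (J : Ideal R) (ι : Type u) [Fintype ι]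

lemma prod_mem_pow_card (v : ι → ↥J) : ∏ i, (v i : R) ∈ J ^ (Fintype.card ι) := by
  simpa using prod_mem_pow J Finset.univ (fun i => (v i : R)) (fun i _ => (v i).2)

lemma prod_mem_pow_succ (v : ι → ↥J) (i : ι) (hi : (v i : R) ∈ J ^ 2) :
    ∏ j, (v j : R) ∈ J ^ (Fintype.card ι + 1) := by
  classical
  rw [← Finset.mul_prod_erase Finset.univ (fun j => (v j : R)) (Finset.mem_univ i)]
  have h1 := prod_mem_pow J (Finset.univ.erase i) (fun j => (v j : R)) (fun j _ => (v j).2)
  have hc : (Finset.univ.erase i).card = Fintype.card ι - 1 := by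
    rw [Finset.card_erase_of_mem (Finset.mem_univ i), Finset.card_univ]
  have hpos : 0 < Fintype.card ι := Fintype.card_pos_iff.mpr ⟨i⟩
  have h2 := Ideal.mul_mem_mul hi h1
  rw [← pow_add, hc] at h2
  have : 2 + (Fintype.card ι - 1) = Fintype.card ι + 1 := by omega
  rwa [this] at h2

/-- the product map `J^ι → J^n/J^(n+1)` -/
noncomputable def prodJ : MultilinearMap R (fun _ : ι => ↥J) (grJ R J (Fintype.card ι)) :=
  (Submodule.mkQ _).compMultilinearMap
    (((MultilinearMap.mkPiAlgebra R ι R).compLinearMap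
      (fun _ => (Submodule.subtype J))).codRestrict (J ^ (Fintype.card ι)) (fun v => by
        simpa using prod_mem_pow_card J ι v))

lemma prodJ_apply (v : ι → ↥J) : prodJ J ι v = zetaJ R J v := by
  simp only [prodJ, LinearMap.compMultilinearMap_apply, zetaJ, Submodule.mkQ_apply]
  rfl

lemma prodJ_eq_zero (v : ι → ↥J) (i : ι) (hi : J.toCotangent (v i) = 0) : prodJ J ι v = 0 := by
  rw [prodJ_apply, zetaJ, Submodule.Quotient.mk_eq_zero]
  rw [Ideal.toCotangent_eq_zero] at hi
  exact prod_mem_pow_succ J ι v i hi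

lemma prodJ_perm (e : Equiv.Perm ι) (v : ι → ↥J) : prodJ J ι (fun i => v (e i)) = prodJ J ι v := by
  rw [prodJ_apply, prodJ_apply, zetaJ, zetaJ]
  congr 1
  apply Subtype.ext
  exact Equiv.prod_comp e (fun i => (v i : R))

/-- the descended multilinear map on the cotangent space -/
noncomputable def prodCot : MultilinearMap R (fun _ : ι => J.Cotangent) (grJ R J (Fintype.card ι)) :=
  (MultiDescent.exists_descent J.toCotangent (Ideal.toCotangent_surjective J) (prodJ J ι)
    (prodJ_eq_zero J ι)).choose

lemma prodCot_apply (v : ι → ↥J) : prodCot J ι (fun i => J.toCotangent (v i)) = prodJ J ι v :=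
  (MultiDescent.exists_descent J.toCotangent (Ideal.toCotangent_surjective J) (prodJ J ι)
    (prodJ_eq_zero J ι)).choose_spec v

lemma prodCot_perm (e : Equiv.Perm ι) (w : ι → J.Cotangent) :
    prodCot J ι (fun i => w (e i)) = prodCot J ι w := by
  choose v hv using fun i => Ideal.toCotangent_surjective J (w i)
  have h1 : w = fun i => J.toCotangent (v i) := funext fun i => (hv i).symm
  rw [h1]
  rw [prodCot_apply J ι (fun i => v (e i)), prodCot_apply J ι v, prodJ_perm]

/-- the canonical map `Sym^ι (J/J²) → J^n/J^(n+1)` -/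
noncomputable def symToGr : Sym[R] ι J.Cotangent →ₗ[R] grJ R J (Fintype.card ι) :=
  lift (prodCot J ι) (prodCot_perm J ι)

lemma symToGr_tprod (v : ι → ↥J) :
    symToGr J ι (SymmetricPower.tprod R (fun i => J.toCotangent (v i))) = zetaJ R J v := by
  rw [symToGr, lift_tprod, prodCot_apply, prodJ_apply]

lemma symToGr_surjective : Function.Surjective (symToGr J ι) := by
  classical
  rintro ⟨⟨y, hy⟩⟩
  change ∃ a, symToGr J ι a = Submodule.Quotient.mk ⟨y, hy⟩
  have key : ∀ y ∈ J ^ (Fintype.card ι), ∀ hy : y ∈ J ^ (Fintype.card ι),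
      ∃ a, symToGr J ι a = (Submodule.Quotient.mk ⟨y, hy⟩ : grJ R J (Fintype.card ι)) := by
    intro y hy0
    have hy1 : y ∈ Submodule.span R ((J : Set R) ^ (Fintype.card ι)) := by
      rw [← Submodule.pow_eq_span_pow_set]; exact hy0
    induction hy1 using Submodule.span_induction with
    | mem y hy2 =>
      intro hy
      rw [Set.mem_pow] at hy2
      obtain ⟨f, hf⟩ := hy2
      rw [List.prod_ofFn] at hf
      let e := Fintype.equivFin ι
      refine ⟨SymmetricPower.tprod R (fun i => J.toCotangent (⟨(f (e i)).1, (f (e i)).2⟩ : ↥J)), ?_⟩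
      rw [symToGr_tprod, zetaJ]
      congr 1
      apply Subtype.ext
      simp only
      rw [← hf]
      exact Equiv.prod_comp e (fun j => ((f j : R)))
    | zero =>
      intro hy
      exact ⟨0, by rw [map_zero]; symm; rw [Submodule.Quotient.mk_eq_zero]; exact zero_mem _⟩
    | add x y hx hy ihx ihy =>
      intro hxy
      have hx' : x ∈ J ^ (Fintype.card ι) := by
        rw [Submodule.pow_eq_span_pow_set]; exact hx
      have hy' : y ∈ J ^ (Fintype.card ι) := by
        rw [Submodule.pow_eq_span_pow_set]; exact hy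
      obtain ⟨a, ha⟩ := ihx hx' hx'
      obtain ⟨b, hb⟩ := ihy hy' hy'
      exact ⟨a + b, by rw [map_add, ha, hb]; rfl⟩
    | smul r x hx ihx =>
      intro hrx
      have hx' : x ∈ J ^ (Fintype.card ι) := by
        rw [Submodule.pow_eq_span_pow_set]; exact hx
      obtain ⟨a, ha⟩ := ihx hx' hx'
      exact ⟨r • a, by rw [map_smul, ha]; rfl⟩
  exact key y hy hy

end Groth.Agent.Lib.helper10.SymPowGr
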