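import Mathlib
import Groth.Prelude.Def_PP16
import Groth.Agent.Lib.helper10.SymPowGr

/-!
# Differential smoothness: the canonical `B`-linear map `Sym^n_B Ω_{B/A} → I^n/I^(n+1)`
and a normal form of `PP16.IsDiffSmooth`.
-/

set_option autoImplicit false
set_option linter.unusedVariables false
set_option linter.style.haveILetI false
set_option linter.unusedSectionVars false

namespace Groth.Agent.Lib.helper10.DiffSm

open TensorProduct SymmetricPower PP16 Pointwise
open Groth.Agent.Lib.helper10.SymPow Groth.Agent.Lib.helper10.SymPowGr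

universe u

variable (A B : Type u) [CommRing A] [CommRing B] [Algebra A B]

/-- multiplication `B ⊗ B → B` -/
noncomputable abbrev mu : B ⊗[A] B →ₐ[A] B := Algebra.TensorProduct.lmul' A

lemma mem_ideal_iff (x : B ⊗[A] B) : x ∈ KaehlerDifferential.ideal A B ↔ mu A B x = 0 := by
  rw [KaehlerDifferential.ideal, RingHom.mem_ker]

lemma sub_mu_mem (x : B ⊗[A] B) : x - mu A B x ⊗ₜ[A] (1 : B) ∈ KaehlerDifferential.ideal A B := by
  rw [mem_ideal_iff, map_sub]
  simp

lemma mul_sub_mem (n : ℕ) (x y : B ⊗[A] B) (hy : y ∈ KaehlerDifferential.ideal A B ^ n) :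
    x * y - (mu A B x ⊗ₜ[A] (1 : B)) * y ∈ KaehlerDifferential.ideal A B ^ (n + 1) := by
  rw [← sub_mul, pow_succ']
  exact Ideal.mul_mem_mul (sub_mu_mem A B x) hy

section canonical

variable (ι : Type u) [Fintype ι]

/-- the `B`-multilinear product map `I^ι → I^n/I^(n+1)` -/
noncomputable def prodI : MultilinearMap B (fun _ : ι => ↥(KaehlerDifferential.ideal A B))
    (grI A B (Fintype.card ι)) :=
  (Submodule.mkQ _).compMultilinearMap
    (((MultilinearMap.mkPiAlgebra B ι (B ⊗[A] B)).compLinearMap
      (fun _ => ((KaehlerDifferential.ideal A B).subtype.restrictScalars B))).codRestrict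
        ((KaehlerDifferential.ideal A B ^ (Fintype.card ι)).restrictScalars B) (fun v => by
        simpa using prod_mem_pow_card (KaehlerDifferential.ideal A B) ι v))

/-- the class of an element of `I^n` in `I^n/I^(n+1)` -/
noncomputable def cl (n : ℕ) (y : B ⊗[A] B) (hy : y ∈ KaehlerDifferential.ideal A B ^ n) :
    grI A B n :=
  Submodule.Quotient.mk ⟨y, hy⟩

lemma cl_eq_zero_iff (n : ℕ) (y : B ⊗[A] B) (hy : y ∈ KaehlerDifferential.ideal A B ^ n) :
    cl A B n y hy = 0 ↔ y ∈ KaehlerDifferential.ideal A B ^ (n + 1) := by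
  rw [cl, Submodule.Quotient.mk_eq_zero]
  rfl

lemma cl_add (n : ℕ) (y z : B ⊗[A] B) (hy : y ∈ KaehlerDifferential.ideal A B ^ n)
    (hz : z ∈ KaehlerDifferential.ideal A B ^ n) :
    cl A B n (y + z) (Ideal.add_mem _ hy hz) = cl A B n y hy + cl A B n z hz := rfl

lemma cl_smul (n : ℕ) (b : B) (y : B ⊗[A] B) (hy : y ∈ KaehlerDifferential.ideal A B ^ n) :
    cl A B n ((b ⊗ₜ[A] (1 : B)) * y) (Ideal.mul_mem_left _ _ hy) = b • cl A B n y hy := by
  rw [cl, cl, ← Submodule.Quotient.mk_smul]
  congr 1
  apply Subtype.ext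
  change _ = b • y
  rw [Algebra.smul_def, Algebra.TensorProduct.algebraMap_apply]
  rfl

lemma cl_mul (n : ℕ) (x y : B ⊗[A] B) (hy : y ∈ KaehlerDifferential.ideal A B ^ n) :
    cl A B n (x * y) (Ideal.mul_mem_left _ _ hy) = mu A B x • cl A B n y hy := by
  rw [← cl_smul, cl, cl, ← sub_eq_zero, ← Submodule.Quotient.mk_sub, Submodule.Quotient.mk_eq_zero]
  exact mul_sub_mem A B n x y hy

lemma cl_congr (n : ℕ) {y z : B ⊗[A] B} (h : y = z) (hy : y ∈ KaehlerDifferential.ideal A B ^ n) :
    cl A B n y hy = cl A B n z (h ▸ hy) := by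
  subst h; rfl

lemma prodI_apply (v : ι → ↥(KaehlerDifferential.ideal A B)) :
    prodI A B ι v = cl A B (Fintype.card ι) (∏ i, (v i : B ⊗[A] B))
      (prod_mem_pow_card (KaehlerDifferential.ideal A B) ι v) := by
  simp only [prodI, LinearMap.compMultilinearMap_apply, cl, Submodule.mkQ_apply]
  rfl

/-- `B`-linear projection `I → Ω` -/
noncomputable def piI : ↥(KaehlerDifferential.ideal A B) →ₗ[B] Ω[B⁄A] :=
  (KaehlerDifferential.fromIdeal A B).restrictScalars B

lemma piI_apply (x : ↥(KaehlerDifferential.ideal A B)) :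
    piI A B x = (KaehlerDifferential.ideal A B).toCotangent x := rfl

lemma piI_surjective : Function.Surjective (piI A B) :=
  Ideal.toCotangent_surjective _

lemma prodI_eq_zero (v : ι → ↥(KaehlerDifferential.ideal A B)) (i : ι)
    (hi : piI A B (v i) = 0) : prodI A B ι v = 0 := by
  rw [prodI_apply, cl_eq_zero_iff]
  have hi' : (KaehlerDifferential.ideal A B).toCotangent (v i) = 0 := hi
  rw [Ideal.toCotangent_eq_zero] at hi'
  exact prod_mem_pow_succ (KaehlerDifferential.ideal A B) ι v i hi'

lemma prodI_perm (e : Equiv.Perm ι) (v : ι → ↥(KaehlerDifferential.ideal A B)) :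
    prodI A B ι (fun i => v (e i)) = prodI A B ι v := by
  rw [prodI_apply, prodI_apply]
  exact cl_congr A B _ (Equiv.prod_comp e (fun i => (v i : B ⊗[A] B))) _

/-- the descended multilinear map on `Ω` -/
noncomputable def prodOmega : MultilinearMap B (fun _ : ι => Ω[B⁄A]) (grI A B (Fintype.card ι)) :=
  (MultiDescent.exists_descent (piI A B) (piI_surjective A B) (prodI A B ι)
    (prodI_eq_zero A B ι)).choose

lemma prodOmega_apply (v : ι → ↥(KaehlerDifferential.ideal A B)) :
    prodOmega A B ι (fun i => piI A B (v i)) = prodI A B ι v :=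
  (MultiDescent.exists_descent (piI A B) (piI_surjective A B) (prodI A B ι)
    (prodI_eq_zero A B ι)).choose_spec v

lemma prodOmega_perm (e : Equiv.Perm ι) (w : ι → Ω[B⁄A]) :
    prodOmega A B ι (fun i => w (e i)) = prodOmega A B ι w := by
  choose v hv using fun i => piI_surjective A B (w i)
  have h1 : w = fun i => piI A B (v i) := funext fun i => (hv i).symm
  rw [h1]
  rw [prodOmega_apply A B ι (fun i => v (e i)), prodOmega_apply A B ι v, prodI_perm]

/-- the canonical `B`-linear map `Sym^ι_B Ω → I^n/I^(n+1)` -/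
noncomputable def symToGrI : Sym[B] ι Ω[B⁄A] →ₗ[B] grI A B (Fintype.card ι) :=
  lift (prodOmega A B ι) (prodOmega_perm A B ι)

lemma symToGrI_tprod (v : ι → ↥(KaehlerDifferential.ideal A B)) :
    symToGrI A B ι (SymmetricPower.tprod B (fun i => piI A B (v i))) =
      cl A B (Fintype.card ι) (∏ i, (v i : B ⊗[A] B))
        (prod_mem_pow_card (KaehlerDifferential.ideal A B) ι v) := by
  rw [symToGrI, lift_tprod, prodOmega_apply, prodI_apply]

lemma symToGrI_tprod_D (b : ι → B) :
    symToGrI A B ι (SymmetricPower.tprod B (fun i => KaehlerDifferential.D A B (b i))) =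
      zetaProd A B b := by
  have := symToGrI_tprod A B ι (fun i => ⟨(1 : B) ⊗ₜ[A] b i - b i ⊗ₜ[A] (1 : B),
    KaehlerDifferential.one_smul_sub_smul_one_mem_ideal A (b i)⟩)
  exact this

lemma symToGrI_surjective : Function.Surjective (symToGrI A B ι) := by
  classical
  rintro ⟨⟨y, hy⟩⟩
  change ∃ a, symToGrI A B ι a = cl A B _ y hy
  have key : ∀ y ∈ KaehlerDifferential.ideal A B ^ (Fintype.card ι),
      ∀ hy : y ∈ KaehlerDifferential.ideal A B ^ (Fintype.card ι),
      ∃ a, symToGrI A B ι a = cl A B _ y hy := by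
    intro y hy0
    have hy1 : y ∈ Submodule.span (B ⊗[A] B)
        ((KaehlerDifferential.ideal A B : Set (B ⊗[A] B)) ^ (Fintype.card ι)) := by
      rw [← Submodule.pow_eq_span_pow_set]; exact hy0
    induction hy1 using Submodule.span_induction with
    | mem y hy2 =>
      intro hy
      rw [Set.mem_pow] at hy2
      obtain ⟨f, hf⟩ := hy2
      rw [List.prod_ofFn] at hf
      let e := Fintype.equivFin ι
      refine ⟨SymmetricPower.tprod B (fun i => piI A B
        (⟨(f (e i)).1, (f (e i)).2⟩ : ↥(KaehlerDifferential.ideal A B))), ?_⟩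
      rw [symToGrI_tprod]
      apply cl_congr
      rw [← hf]
      exact Equiv.prod_comp e (fun j => ((f j : B ⊗[A] B)))
    | zero =>
      intro hy
      exact ⟨0, by rw [map_zero]; symm; rw [cl_eq_zero_iff]; exact zero_mem _⟩
    | add x y hx hy ihx ihy =>
      intro hxy
      have hx' : x ∈ KaehlerDifferential.ideal A B ^ (Fintype.card ι) := by
        rw [Submodule.pow_eq_span_pow_set]; exact hx
      have hy' : y ∈ KaehlerDifferential.ideal A B ^ (Fintype.card ι) := by
        rw [Submodule.pow_eq_span_pow_set]; exact hy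
      obtain ⟨a, ha⟩ := ihx hx' hx'
      obtain ⟨b, hb⟩ := ihy hy' hy'
      exact ⟨a + b, by rw [map_add, ha, hb]; rfl⟩
    | smul r x hx ihx =>
      intro hrx
      have hx' : x ∈ KaehlerDifferential.ideal A B ^ (Fintype.card ι) := by
        rw [Submodule.pow_eq_span_pow_set]; exact hx
      obtain ⟨a, ha⟩ := ihx hx' hx'
      exact ⟨mu A B r • a, by rw [map_smul, ha, ← cl_mul]; rfl⟩
  exact key y hy hy

/-- the canonical map is bijective in degree `0` -/
lemma symToGrI_injective_of_isEmpty [IsEmpty ι] : Function.Injective (symToGrI A B ι) := by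
  classical
  rw [injective_iff_map_eq_zero]
  intro x hx
  have hform : ∀ x : Sym[B] ι Ω[B⁄A], ∃ b : B,
      x = b • SymmetricPower.tprod B (fun i : ι => (isEmptyElim i : Ω[B⁄A])) := by
    intro x
    induction x using SymPow.induction_on with
    | zero => exact ⟨0, by simp⟩
    | smul_tprod r v =>
      refine ⟨r, ?_⟩
      congr 2
      funext i; exact isEmptyElim i
    | add x y hx hy =>
      obtain ⟨b₁, h₁⟩ := hx
      obtain ⟨b₂, h₂⟩ := hy
      exact ⟨b₁ + b₂, by rw [add_smul, ← h₁, ← h₂]⟩
  obtain ⟨b, rfl⟩ := hform x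
  have h1 : (fun i : ι => (isEmptyElim i : Ω[B⁄A])) =
      fun i => piI A B ((isEmptyElim i : ↥(KaehlerDifferential.ideal A B))) := by
    funext i; exact isEmptyElim i
  rw [map_smul, h1, symToGrI_tprod, ← cl_smul, cl_eq_zero_iff] at hx
  have hcard : Fintype.card ι = 0 := Fintype.card_eq_zero
  rw [hcard, zero_add, pow_one, mem_ideal_iff] at hx
  simp only [Finset.univ_eq_empty, Finset.prod_empty, mul_one] at hx
  have hb : b = 0 := by simpa using hx
  rw [hb, zero_smul]

end canonical

/-- normal form of differential smoothness -/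
theorem isDiffSmooth_iff :
    IsDiffSmooth A B ↔ Module.Projective B Ω[B⁄A] ∧
      ∀ (ι : Type u) [Fintype ι] [Nonempty ι], Function.Injective (symToGrI A B ι) := by
  constructor
  · rintro ⟨hproj, h⟩
    refine ⟨hproj, ?_⟩
    intro ι _ _
    obtain ⟨φ, hφ, hbij⟩ := h ι
    have : φ = symToGrI A B ι := by
      apply SymPow.hom_ext_of_span (Set.range (KaehlerDifferential.D A B))
        (KaehlerDifferential.span_range_derivation A B)
      intro v hv
      choose b hb using hv
      have hv' : v = fun i => KaehlerDifferential.D A B (b i) := funext fun i => (hb i).symm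
      rw [hv', hφ, symToGrI_tprod_D]
    rw [← this]; exact hbij.1
  · rintro ⟨hproj, h⟩
    refine ⟨hproj, ?_⟩
    intro ι _
    refine ⟨symToGrI A B ι, symToGrI_tprod_D A B ι, ?_, symToGrI_surjective A B ι⟩
    rcases isEmpty_or_nonempty ι with he | hne
    · exact symToGrI_injective_of_isEmpty A B ι
    · exact h ι

end Groth.Agent.Lib.helper10.DiffSm
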