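import Mathlib
import Groth.Prelude.Def_PP16
import Groth.Agent.Lib.helper10.DiffSm

/-!
# Formally smooth algebras are differentially smooth
-/

set_option autoImplicit false
set_option linter.unusedVariables false
set_option linter.style.haveILetI false
set_option linter.unusedSectionVars false

namespace Groth.Agent.Lib.helper10.DiffSmFS

open TensorProduct SymmetricPower PP16 Pointwise MvPolynomial
open Groth.Agent.Lib.helper10.SymPow Groth.Agent.Lib.helper10.SymPowGr
open Groth.Agent.Lib.helper10.DiffSm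

universe u

section prodlemma

/-- telescoping estimate -/
lemma prod_sub_prod_mem {T : Type*} [CommRing T] (𝔞 : Ideal T) {ι : Type*} (s : Finset ι)
    (u v : ι → T) (hv : ∀ i ∈ s, v i ∈ 𝔞) (huv : ∀ i ∈ s, u i - v i ∈ 𝔞 ^ 2) :
    ∏ i ∈ s, u i - ∏ i ∈ s, v i ∈ 𝔞 ^ (s.card + 1) := by
  classical
  induction s using Finset.induction_on with
  | empty => simp
  | insert a s ha ih =>
    have hvs : ∀ i ∈ s, v i ∈ 𝔞 := fun i hi => hv i (Finset.mem_insert_of_mem hi)
    have huvs : ∀ i ∈ s, u i - v i ∈ 𝔞 ^ 2 := fun i hi => huv i (Finset.mem_insert_of_mem hi)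
    have ih' := ih hvs huvs
    have hva : v a ∈ 𝔞 := hv a (Finset.mem_insert_self a s)
    have huva : u a - v a ∈ 𝔞 ^ 2 := huv a (Finset.mem_insert_self a s)
    have hua : u a ∈ 𝔞 := by
      have : u a = v a + (u a - v a) := by ring
      rw [this]
      exact 𝔞.add_mem hva (Ideal.pow_le_self (by norm_num) huva)
    have hV : ∏ i ∈ s, v i ∈ 𝔞 ^ s.card := by
      have := Ideal.prod_mem_prod (s := s) (I := fun _ => 𝔞) (x := v) (fun i hi => hvs i hi)
      rwa [Finset.prod_const] at this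
    rw [Finset.prod_insert ha, Finset.prod_insert ha, Finset.card_insert_of_notMem ha]
    have e : u a * ∏ i ∈ s, u i - v a * ∏ i ∈ s, v i =
        u a * (∏ i ∈ s, u i - ∏ i ∈ s, v i) + (u a - v a) * ∏ i ∈ s, v i := by ring
    rw [e]
    apply Ideal.add_mem
    · have := Ideal.mul_mem_mul hua ih'
      rwa [← pow_succ'] at this
    · have := Ideal.mul_mem_mul huva hV
      rw [← pow_add] at this
      have h2 : 2 + s.card = s.card + 1 + 1 := by omega
      rwa [h2] at this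

end prodlemma

variable (A B : Type u) [CommRing A] [CommRing B] [Algebra A B]

section splitting

variable [Module.Projective B Ω[B⁄A]]

/-- a splitting of `Ω` into a free module -/
noncomputable def inn : Ω[B⁄A] →ₗ[B] (Ω[B⁄A] →₀ B) :=
  (Module.projective_def'.mp (inferInstance : Module.Projective B Ω[B⁄A])).choose

lemma out_comp_inn : Finsupp.linearCombination B id ∘ₗ inn A B = LinearMap.id :=
  (Module.projective_def'.mp (inferInstance : Module.Projective B Ω[B⁄A])).choose_spec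

/-- the linear form `Ω → B[X_ω]` -/
noncomputable def ell : Ω[B⁄A] →ₗ[B] MvPolynomial Ω[B⁄A] B := linX B Ω[B⁄A] ∘ₗ inn A B

lemma linX_mem (c : Ω[B⁄A] →₀ B) : linX B Ω[B⁄A] c ∈ idealOfVars Ω[B⁄A] B := by
  rw [linX, Finsupp.linearCombination_apply, Finsupp.sum]
  apply Ideal.sum_mem
  intro k _
  rw [MvPolynomial.smul_eq_C_mul]
  exact Ideal.mul_mem_left _ _ (Ideal.subset_span ⟨k, rfl⟩)

lemma ell_mem (x : Ω[B⁄A]) : ell A B x ∈ idealOfVars Ω[B⁄A] B := linX_mem A B _

variable (ι : Type u) [Fintype ι]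

lemma evalProd_ell_eq : (evalProd (ell A B) : Sym[B] ι Ω[B⁄A] →ₗ[B] MvPolynomial Ω[B⁄A] B) =
    toPoly B ι Ω[B⁄A] ∘ₗ SymPow.map (inn A B) := by
  rw [toPoly, evalProd_map]
  rfl

lemma evalProd_ell_injective :
    Function.Injective (evalProd (ell A B) : Sym[B] ι Ω[B⁄A] →ₗ[B] MvPolynomial Ω[B⁄A] B) := by
  rw [evalProd_ell_eq]
  exact toPoly_injective.comp
    (map_injective_of_leftInverse (inn A B) (Finsupp.linearCombination B id) (out_comp_inn A B))

lemma evalProd_ell_isHomogeneous (x : Sym[B] ι Ω[B⁄A]) :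
    (evalProd (ell A B) x).IsHomogeneous (Fintype.card ι) := by
  rw [evalProd_ell_eq]
  exact toPoly_isHomogeneous _

lemma eq_zero_of_homogeneous_of_mem (n : ℕ) (p : MvPolynomial Ω[B⁄A] B) (hp : p.IsHomogeneous n)
    (hmem : p ∈ idealOfVars Ω[B⁄A] B ^ (n + 1)) : p = 0 := by
  rw [mem_pow_idealOfVars_iff] at hmem
  by_contra hne
  obtain ⟨d, hd⟩ := MvPolynomial.support_nonempty.mpr hne
  have h1 := hmem d hd
  have h2 : d.degree = n := by
    rw [Finsupp.degree_eq_weight_one]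
    exact hp (MvPolynomial.mem_support_iff.mp hd)
  omega

end splitting

section main

variable [Algebra.FormallySmooth A B]

/-- first-order Taylor map `b ↦ b + ℓ(db)` -/
noncomputable def rho1 : B →ₐ[A] (MvPolynomial Ω[B⁄A] B ⧸ idealOfVars Ω[B⁄A] B ^ 2) :=
  { toFun := fun b => Ideal.Quotient.mk _ (C b + ell A B (KaehlerDifferential.D A B b))
    map_one' := by simp
    map_zero' := by simp
    map_add' := fun b b' => by
      rw [← map_add]
      congr 1
      simp only [map_add]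
      ring
    map_mul' := fun b b' => by
      rw [← map_mul, Ideal.Quotient.eq]
      have e : C (b * b') + ell A B (KaehlerDifferential.D A B (b * b')) -
          (C b + ell A B (KaehlerDifferential.D A B b)) *
            (C b' + ell A B (KaehlerDifferential.D A B b')) =
          -(ell A B (KaehlerDifferential.D A B b) * ell A B (KaehlerDifferential.D A B b')) := by
        rw [Derivation.leibniz, map_add, map_smul, map_smul, MvPolynomial.smul_eq_C_mul,
          MvPolynomial.smul_eq_C_mul, C_mul]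
        ring
      rw [e, pow_two]
      exact Ideal.neg_mem_iff _ |>.mpr (Ideal.mul_mem_mul (ell_mem A B _) (ell_mem A B _))
    commutes' := fun a => by
      rw [← Ideal.Quotient.mk_algebraMap, MvPolynomial.algebraMap_apply, Derivation.map_algebraMap,
        map_zero, add_zero] }

lemma rho1_apply (b : B) :
    rho1 A B b = Ideal.Quotient.mk _ (C b + ell A B (KaehlerDifferential.D A B b)) := rfl

variable (n : ℕ) (hn : 1 ≤ n)

include hn in
lemma pow_le : idealOfVars Ω[B⁄A] B ^ (n + 1) ≤ idealOfVars Ω[B⁄A] B ^ 2 :=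
  Ideal.pow_le_pow_right (by omega)

/-- the transition map `S/𝔛^(n+1) → S/𝔛^2` -/
noncomputable def gmap : (MvPolynomial Ω[B⁄A] B ⧸ idealOfVars Ω[B⁄A] B ^ (n + 1)) →ₐ[A]
    (MvPolynomial Ω[B⁄A] B ⧸ idealOfVars Ω[B⁄A] B ^ 2) :=
  Ideal.Quotient.factorₐ A (pow_le A B n hn)

lemma gmap_mk (p : MvPolynomial Ω[B⁄A] B) :
    gmap A B n hn (Ideal.Quotient.mk _ p) = Ideal.Quotient.mk _ p := rfl

lemma gmap_surjective : Function.Surjective (gmap A B n hn) :=
  Ideal.Quotient.factor_surjective (pow_le A B n hn)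

lemma ker_gmap : RingHom.ker ((gmap A B n hn : (MvPolynomial Ω[B⁄A] B ⧸ idealOfVars Ω[B⁄A] B ^ (n + 1)) →ₐ[A]
      (MvPolynomial Ω[B⁄A] B ⧸ idealOfVars Ω[B⁄A] B ^ 2)) : (MvPolynomial Ω[B⁄A] B ⧸ idealOfVars Ω[B⁄A] B ^ (n + 1)) →+*
      (MvPolynomial Ω[B⁄A] B ⧸ idealOfVars Ω[B⁄A] B ^ 2)) =
    (idealOfVars Ω[B⁄A] B ^ 2).map (Ideal.Quotient.mk (idealOfVars Ω[B⁄A] B ^ (n + 1))) := by
  apply le_antisymm
  · intro x hx
    obtain ⟨p, rfl⟩ := Ideal.Quotient.mk_surjective x
    rw [RingHom.mem_ker] at hx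
    change gmap A B n hn (Ideal.Quotient.mk _ p) = 0 at hx
    rw [gmap_mk, Ideal.Quotient.eq_zero_iff_mem] at hx
    exact Ideal.mem_map_of_mem _ hx
  · rw [Ideal.map_le_iff_le_comap]
    intro p hp
    rw [Ideal.mem_comap, RingHom.mem_ker]
    change gmap A B n hn (Ideal.Quotient.mk _ p) = 0
    rw [gmap_mk, Ideal.Quotient.eq_zero_iff_mem]
    exact hp

lemma map_pow_eq_bot : ((idealOfVars Ω[B⁄A] B).map
    (Ideal.Quotient.mk (idealOfVars Ω[B⁄A] B ^ (n + 1)))) ^ (n + 1) = ⊥ := by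
  rw [← Ideal.map_pow, Ideal.map_quotient_self]

lemma isNilpotent_ker_gmap : IsNilpotent (RingHom.ker ((gmap A B n hn : (MvPolynomial Ω[B⁄A] B ⧸ idealOfVars Ω[B⁄A] B ^ (n + 1)) →ₐ[A]
      (MvPolynomial Ω[B⁄A] B ⧸ idealOfVars Ω[B⁄A] B ^ 2)) : (MvPolynomial Ω[B⁄A] B ⧸ idealOfVars Ω[B⁄A] B ^ (n + 1)) →+*
      (MvPolynomial Ω[B⁄A] B ⧸ idealOfVars Ω[B⁄A] B ^ 2))) := by
  refine ⟨n + 1, ?_⟩
  rw [ker_gmap, Ideal.zero_eq_bot, eq_bot_iff, ← map_pow_eq_bot A B n]
  apply Ideal.pow_right_mono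
  apply Ideal.map_mono
  exact Ideal.pow_le_self (by norm_num)

/-- the Taylor map of order `n` -/
noncomputable def rho : B →ₐ[A] (MvPolynomial Ω[B⁄A] B ⧸ idealOfVars Ω[B⁄A] B ^ (n + 1)) :=
  Algebra.FormallySmooth.liftOfSurjective (rho1 A B) (gmap A B n hn) (gmap_surjective A B n hn)
    (isNilpotent_ker_gmap A B n hn)

lemma gmap_rho (b : B) : gmap A B n hn (rho A B n hn b) = rho1 A B b :=
  Algebra.FormallySmooth.liftOfSurjective_apply _ _ _ _ b

/-- the map `B ⊗ B → S/𝔛^(n+1)`, `b ⊗ b' ↦ b ρ(b')` -/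
noncomputable def Theta :
    B ⊗[A] B →ₐ[A] (MvPolynomial Ω[B⁄A] B ⧸ idealOfVars Ω[B⁄A] B ^ (n + 1)) :=
  Algebra.TensorProduct.lift
    (IsScalarTower.toAlgHom A B (MvPolynomial Ω[B⁄A] B ⧸ idealOfVars Ω[B⁄A] B ^ (n + 1)))
    (rho A B n hn) (fun _ _ => Commute.all _ _)

lemma Theta_tmul (b b' : B) :
    Theta A B n hn (b ⊗ₜ[A] b') = Ideal.Quotient.mk _ (C b) * rho A B n hn b' := by
  rw [Theta, Algebra.TensorProduct.lift_tmul]
  rfl

lemma gmap_Theta (r : B ⊗[A] B) :
    gmap A B n hn (Theta A B n hn r) =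
      Ideal.Quotient.mk _ (C (mu A B r) +
        ell A B ((KaehlerDifferential.D A B).tensorProductTo r)) := by
  induction r using TensorProduct.induction_on with
  | zero => simp
  | tmul b b' =>
    rw [Theta_tmul, map_mul, gmap_rho, gmap_mk, rho1_apply, ← map_mul,
      Derivation.tensorProductTo_tmul, map_smul, MvPolynomial.smul_eq_C_mul]
    congr 1
    simp only [mu, Algebra.TensorProduct.lmul'_apply_tmul, C_mul]
    ring
  | add x y hx hy =>
    rw [map_add, map_add, hx, hy, ← map_add]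
    congr 1
    simp only [map_add]
    ring

lemma Theta_sub_mem (w : ↥(KaehlerDifferential.ideal A B)) :
    Theta A B n hn w - Ideal.Quotient.mk _ (ell A B (piI A B w)) ∈
      ((idealOfVars Ω[B⁄A] B).map
        (Ideal.Quotient.mk (idealOfVars Ω[B⁄A] B ^ (n + 1)))) ^ 2 := by
  rw [← Ideal.map_pow, ← ker_gmap A B n hn, RingHom.mem_ker]
  change gmap A B n hn (_ - _) = 0
  rw [map_sub, gmap_Theta, gmap_mk, KaehlerDifferential.D_tensorProductTo,
    (mem_ideal_iff A B w.1).mp w.2, C_0, zero_add]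
  exact sub_self _

lemma mk_ell_mem (x : Ω[B⁄A]) :
    Ideal.Quotient.mk (idealOfVars Ω[B⁄A] B ^ (n + 1)) (ell A B x) ∈
      (idealOfVars Ω[B⁄A] B).map (Ideal.Quotient.mk (idealOfVars Ω[B⁄A] B ^ (n + 1))) :=
  Ideal.mem_map_of_mem _ (ell_mem A B x)

lemma Theta_mem (w : B ⊗[A] B) (hw : w ∈ KaehlerDifferential.ideal A B) :
    Theta A B n hn w ∈ (idealOfVars Ω[B⁄A] B).map
      (Ideal.Quotient.mk (idealOfVars Ω[B⁄A] B ^ (n + 1))) := by
  have h1 := Theta_sub_mem A B n hn ⟨w, hw⟩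
  have h2 := mk_ell_mem A B n (piI A B ⟨w, hw⟩)
  have : Theta A B n hn w = Ideal.Quotient.mk _ (ell A B (piI A B ⟨w, hw⟩)) +
      (Theta A B n hn w - Ideal.Quotient.mk _ (ell A B (piI A B ⟨w, hw⟩))) := by ring
  rw [this]
  exact Ideal.add_mem _ h2 (Ideal.pow_le_self (by norm_num) h1)

lemma Theta_eq_zero (y : B ⊗[A] B) (hy : y ∈ KaehlerDifferential.ideal A B ^ (n + 1)) :
    Theta A B n hn y = 0 := by
  have h1 : (KaehlerDifferential.ideal A B).map (Theta A B n hn) ≤
      (idealOfVars Ω[B⁄A] B).map (Ideal.Quotient.mk (idealOfVars Ω[B⁄A] B ^ (n + 1))) := by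
    rw [Ideal.map_le_iff_le_comap]
    intro w hw
    exact Theta_mem A B n hn w hw
  have h2 : Theta A B n hn y ∈ ((KaehlerDifferential.ideal A B).map (Theta A B n hn)) ^ (n + 1) := by
    rw [← Ideal.map_pow]
    exact Ideal.mem_map_of_mem _ hy
  have h3 := Ideal.pow_right_mono h1 (n + 1) h2
  rw [map_pow_eq_bot] at h3
  exact h3

end main

section final

variable [Algebra.FormallySmooth A B] (ι : Type u) [Fintype ι] [Nonempty ι]

lemma card_pos' : 1 ≤ Fintype.card ι := Fintype.card_pos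

lemma exists_rep (x : Sym[B] ι Ω[B⁄A]) :
    ∃ (y : B ⊗[A] B) (hy : y ∈ KaehlerDifferential.ideal A B ^ (Fintype.card ι)),
      symToGrI A B ι x = cl A B _ y hy ∧
      Theta A B (Fintype.card ι) (card_pos' ι) y =
        Ideal.Quotient.mk _ (evalProd (ell A B) x) := by
  classical
  induction x using SymPow.induction_on with
  | zero => exact ⟨0, zero_mem _, by rw [map_zero]; symm; rw [cl_eq_zero_iff]; exact zero_mem _,
      by simp⟩
  | smul_tprod b v =>
    choose w hw using fun i => piI_surjective A B (v i)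
    have hv : v = fun i => piI A B (w i) := funext fun i => (hw i).symm
    refine ⟨(b ⊗ₜ[A] (1 : B)) * ∏ i, (w i : B ⊗[A] B),
      Ideal.mul_mem_left _ _ (prod_mem_pow_card _ ι w), ?_, ?_⟩
    · rw [map_smul, hv, symToGrI_tprod, cl_smul]
    · rw [map_mul, Theta_tmul, map_one, mul_one, map_prod, map_smul, evalProd_tprod,
        MvPolynomial.smul_eq_C_mul, map_mul, map_prod]
      congr 1
      have h1 := prod_sub_prod_mem
        ((idealOfVars Ω[B⁄A] B).map (Ideal.Quotient.mk (idealOfVars Ω[B⁄A] B ^ (Fintype.card ι + 1))))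
        Finset.univ (fun i => Theta A B (Fintype.card ι) (card_pos' ι) (w i))
        (fun i => Ideal.Quotient.mk _ (ell A B (v i)))
        (fun i _ => mk_ell_mem A B _ (v i))
        (fun i _ => by
          have := Theta_sub_mem A B (Fintype.card ι) (card_pos' ι) (w i)
          rwa [hw i] at this)
      rw [Finset.card_univ, map_pow_eq_bot, Ideal.mem_bot, sub_eq_zero] at h1
      exact h1
  | add x y hx hy =>
    obtain ⟨y₁, hy₁, h₁, h₁'⟩ := hx
    obtain ⟨y₂, hy₂, h₂, h₂'⟩ := hy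
    exact ⟨y₁ + y₂, Ideal.add_mem _ hy₁ hy₂, by rw [map_add, h₁, h₂, cl_add],
      by rw [map_add, h₁', h₂', map_add, map_add]⟩

theorem symToGrI_injective : Function.Injective (symToGrI A B ι) := by
  rw [injective_iff_map_eq_zero]
  intro x hx
  obtain ⟨y, hy, h1, h2⟩ := exists_rep A B ι x
  rw [hx] at h1
  have h3 := (cl_eq_zero_iff A B _ y hy).mp h1.symm
  rw [Theta_eq_zero A B _ _ y h3] at h2
  have h4 := Ideal.Quotient.eq_zero_iff_mem.mp h2.symm
  have h5 := eq_zero_of_homogeneous_of_mem A B _ _ (evalProd_ell_isHomogeneous A B ι x) h4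
  rw [← map_zero (evalProd (ell A B) : Sym[B] ι Ω[B⁄A] →ₗ[B] MvPolynomial Ω[B⁄A] B)] at h5
  exact evalProd_ell_injective A B ι h5

end final

/-- **formally smooth ⇒ differentially smooth** -/
theorem isDiffSmooth_of_formallySmooth [Algebra.FormallySmooth A B] : IsDiffSmooth A B := by
  rw [isDiffSmooth_iff]
  exact ⟨inferInstance, fun ι _ _ => symToGrI_injective A B ι⟩

end Groth.Agent.Lib.helper10.DiffSmFS
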