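import Mathlib
import Groth.Agent.Lib.helper10.SymPowPoly
import Groth.Agent.Lib.helper10.DiffSmFS

/-!
# Linear parts of polynomials and a congruence lemma for ring maps out of polynomial rings
-/

set_option autoImplicit false
set_option linter.unusedVariables false
set_option linter.style.haveILetI false
set_option linter.unusedSectionVars false

namespace Groth.Agent.Lib.helper10.PolyLin

open MvPolynomial
open Groth.Agent.Lib.helper10.SymPow

universe u v w

section lin

variable (κ : Type w) (R : Type u) [CommRing R]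

lemma single_one_injective : Function.Injective (fun k : κ => (Finsupp.single k 1 : κ →₀ ℕ)) := by
  intro a b h
  exact (Finsupp.single_left_injective (by norm_num : (1 : ℕ) ≠ 0)) h

/-- the linear part of a polynomial, as a finitely supported family of coefficients -/
noncomputable def lin : MvPolynomial κ R →ₗ[R] (κ →₀ R) where
  toFun t := Finsupp.comapDomain (fun k : κ => (Finsupp.single k 1 : κ →₀ ℕ))
    (AddMonoidAlgebra.coeff t) (single_one_injective κ).injOn
  map_add' x y := by
    ext k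
    simp only [Finsupp.comapDomain_apply, Finsupp.coe_add, Pi.add_apply]
    exact coeff_add (Finsupp.single k 1) x y
  map_smul' c x := by
    ext k
    simp only [Finsupp.comapDomain_apply, RingHom.id_apply, Finsupp.coe_smul, Pi.smul_apply]
    exact coeff_smul (Finsupp.single k 1) c x

variable {κ R}

lemma lin_apply (t : MvPolynomial κ R) (k : κ) : lin κ R t k = coeff (Finsupp.single k 1) t := rfl

lemma lin_C (c : R) : lin κ R (C c) = 0 := by
  classical
  ext k
  rw [lin_apply, coeff_C, if_neg]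
  · rfl
  · intro h
    have := congrArg (fun f => f k) h
    simp at this

lemma lin_X (k : κ) : lin κ R (X k) = Finsupp.single k 1 := by
  classical
  ext j
  rw [lin_apply, coeff_X', Finsupp.single_apply]
  by_cases h : k = j
  · subst h; simp
  · rw [if_neg h, if_neg]
    intro h'
    exact h (single_one_injective κ h')

lemma lin_linX (f : κ →₀ R) : lin κ R (linX R κ f) = f := by
  classical
  induction f using Finsupp.induction_linear with
  | zero => simp
  | add f g hf hg => rw [map_add, map_add, hf, hg]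
  | single k r =>
    rw [linX_single, ← MvPolynomial.smul_eq_C_mul, map_smul, lin_X]
    simp

lemma lin_eq_zero_of_mem_sq (t : MvPolynomial κ R) (ht : t ∈ idealOfVars κ R ^ 2) :
    lin κ R t = 0 := by
  ext k
  rw [lin_apply]
  exact (mem_pow_idealOfVars_iff' 2 t).mp ht _ (by simp)

lemma coeff_zero_linX (f : κ →₀ R) : coeff 0 (linX R κ f) = 0 := by
  classical
  induction f using Finsupp.induction_linear with
  | zero => simp
  | add f g hf hg => rw [map_add, coeff_add, hf, hg, add_zero]
  | single k r =>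
    rw [linX_single, coeff_C_mul, coeff_X', if_neg, mul_zero]
    intro h
    have := congrArg (fun f => f k) h
    simp at this

lemma linX_mem (f : κ →₀ R) : linX R κ f ∈ idealOfVars κ R := by
  rw [linX, Finsupp.linearCombination_apply, Finsupp.sum]
  apply Ideal.sum_mem
  intro k _
  rw [MvPolynomial.smul_eq_C_mul]
  exact Ideal.mul_mem_left _ _ (Ideal.subset_span ⟨k, rfl⟩)

lemma linX_isHomogeneous (f : κ →₀ R) : (linX R κ f).IsHomogeneous 1 := by
  rw [linX, Finsupp.linearCombination_apply, Finsupp.sum]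
  apply IsHomogeneous.sum
  intro k _
  rw [MvPolynomial.smul_eq_C_mul]
  exact isHomogeneous_C_mul_X _ _

/-- first order Taylor expansion at the origin -/
lemma sub_C_sub_linX_mem_sq (t : MvPolynomial κ R) :
    t - C (constantCoeff t) - linX R κ (lin κ R t) ∈ idealOfVars κ R ^ 2 := by
  classical
  rw [mem_pow_idealOfVars_iff']
  intro x hx
  rw [coeff_sub, coeff_sub]
  have hx' : x.degree = 0 ∨ x.degree = 1 := by omega
  rcases hx' with h0 | h1
  · rw [Finsupp.degree_eq_zero_iff] at h0
    subst h0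
    rw [coeff_zero_linX, coeff_zero_C, constantCoeff_eq]
    ring
  · obtain ⟨σ, hσ⟩ := exists_typ_eq_fin 1 x h1
    have hx1 : x = Finsupp.single (σ 0) 1 := by
      rw [← hσ, typ]; simp
    rw [hx1, ← lin_apply, ← lin_apply, ← lin_apply, lin_C, lin_linX]
    simp

lemma sub_C_mem (t : MvPolynomial κ R) : t - C (constantCoeff t) ∈ idealOfVars κ R := by
  rw [← pow_one (idealOfVars κ R), mem_pow_idealOfVars_iff']
  intro x hx
  have h0 : x = 0 := by
    rw [← Finsupp.degree_eq_zero_iff]; omega
  subst h0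
  rw [coeff_sub, coeff_zero_C, constantCoeff_eq, sub_self]

lemma constantCoeff_eq_zero_of_mem (t : MvPolynomial κ R) (ht : t ∈ idealOfVars κ R) :
    constantCoeff t = 0 := by
  rw [← pow_one (idealOfVars κ R), mem_pow_idealOfVars_iff'] at ht
  rw [constantCoeff_eq]
  exact ht 0 (by simp)

lemma mem_of_constantCoeff_eq_zero (t : MvPolynomial κ R) (ht : constantCoeff t = 0) :
    t ∈ idealOfVars κ R := by
  have := sub_C_mem t
  rwa [ht, C_0, sub_zero] at this

/-- for `t' ∈ 𝔛`, `t ≡ linX (lin t)` modulo `𝔛²` -/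
lemma sub_linX_mem_sq (t : MvPolynomial κ R) (ht : constantCoeff t = 0) :
    t - linX R κ (lin κ R t) ∈ idealOfVars κ R ^ 2 := by
  have := sub_C_sub_linX_mem_sq t
  rwa [ht, C_0, sub_zero] at this

lemma lin_mul_of_mem (t t' : MvPolynomial κ R) (ht' : t' ∈ idealOfVars κ R) :
    lin κ R (t * t') = constantCoeff t • lin κ R t' := by
  have h1 : t * t' = C (constantCoeff t) * t' + (t - C (constantCoeff t)) * t' := by ring
  have h2 : (t - C (constantCoeff t)) * t' ∈ idealOfVars κ R ^ 2 := by
    rw [pow_two]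
    exact Ideal.mul_mem_mul (sub_C_mem t) ht'
  rw [h1, map_add, lin_eq_zero_of_mem_sq _ h2, add_zero, ← MvPolynomial.smul_eq_C_mul, map_smul]

lemma eq_zero_of_homogeneous_of_mem (n : ℕ) (p : MvPolynomial κ R) (hp : p.IsHomogeneous n)
    (hmem : p ∈ idealOfVars κ R ^ (n + 1)) : p = 0 := by
  rw [mem_pow_idealOfVars_iff] at hmem
  by_contra hne
  obtain ⟨d, hd⟩ := MvPolynomial.support_nonempty.mpr hne
  have h1 := hmem d hd
  have h2 : d.degree = n := by
    rw [Finsupp.degree_eq_weight_one]
    exact hp (MvPolynomial.mem_support_iff.mp hd)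
  omega

/-- removing the lowest homogeneous component -/
lemma sub_homogeneousComponent_mem (d : ℕ) (t : MvPolynomial κ R) (ht : t ∈ idealOfVars κ R ^ d) :
    t - homogeneousComponent d t ∈ idealOfVars κ R ^ (d + 1) := by
  classical
  rw [mem_pow_idealOfVars_iff'] at ht ⊢
  intro x hx
  rw [coeff_sub, coeff_homogeneousComponent]
  by_cases h : x.degree = d
  · rw [if_pos h, sub_self]
  · rw [if_neg h, sub_zero]
    exact ht x (by omega)

lemma homogeneous_mem_pow (d : ℕ) (t : MvPolynomial κ R) (ht : t.IsHomogeneous d) :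
    t ∈ idealOfVars κ R ^ d := by
  rw [mem_pow_idealOfVars_iff]
  intro x hx
  have : x.degree = d := by
    rw [Finsupp.degree_eq_weight_one]
    exact ht (MvPolynomial.mem_support_iff.mp hx)
  omega

end lin

section cong

open Groth.Agent.Lib.helper10.DiffSmFS

variable {κ : Type w} {S : Type u} [CommRing S] {R' : Type v} [CommRing R']

/-- two ring maps out of a polynomial ring which agree modulo `𝔞` on constants and modulo `𝔞²`
on variables (which go into `𝔞`) agree modulo `𝔞^(d+1)` on homogeneous polynomials of degree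
`d`. -/
theorem cong_of_homogeneous (φ₁ φ₂ : MvPolynomial κ S →+* R') (𝔞 : Ideal R')
    (hC : ∀ s : S, φ₁ (C s) - φ₂ (C s) ∈ 𝔞) (hX₂ : ∀ k : κ, φ₂ (X k) ∈ 𝔞)
    (hX : ∀ k : κ, φ₁ (X k) - φ₂ (X k) ∈ 𝔞 ^ 2) (d : ℕ) (Q : MvPolynomial κ S)
    (hQ : Q.IsHomogeneous d) : φ₁ Q - φ₂ Q ∈ 𝔞 ^ (d + 1) := by
  classical
  rw [Q.as_sum, map_sum, map_sum, ← Finset.sum_sub_distrib]
  apply Ideal.sum_mem
  intro m hm
  have hdeg : m.degree = Fintype.card (Fin d) := by
    have := hQ (MvPolynomial.mem_support_iff.mp hm)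
    rw [Finsupp.degree_eq_weight_one, Fintype.card_fin]; exact this
  obtain ⟨σ, hσ⟩ := exists_typ_eq (ι := Fin d) m hdeg
  have h1 : (monomial m (coeff m Q) : MvPolynomial κ S) = C (coeff m Q) * ∏ i, X (σ i) := by
    rw [prod_X_eq, hσ, C_mul_monomial, mul_one]
  rw [h1, map_mul, map_mul, map_prod, map_prod]
  have hX₁ : ∀ k : κ, φ₁ (X k) ∈ 𝔞 := by
    intro k
    have : φ₁ (X k) = φ₂ (X k) + (φ₁ (X k) - φ₂ (X k)) := by ring
    rw [this]
    exact 𝔞.add_mem (hX₂ k) (Ideal.pow_le_self (by norm_num) (hX k))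
  have h2 : ∏ i, φ₁ (X (σ i)) - ∏ i, φ₂ (X (σ i)) ∈ 𝔞 ^ (d + 1) := by
    have := prod_sub_prod_mem 𝔞 (Finset.univ : Finset (Fin d)) (fun i => φ₁ (X (σ i)))
      (fun i => φ₂ (X (σ i))) (fun i _ => hX₂ _) (fun i _ => hX _)
    rwa [Finset.card_univ, Fintype.card_fin] at this
  have h3 : ∏ i, φ₁ (X (σ i)) ∈ 𝔞 ^ d := by
    have := Ideal.prod_mem_prod (s := (Finset.univ : Finset (Fin d))) (I := fun _ => 𝔞)
      (x := fun i => φ₁ (X (σ i))) (fun i _ => hX₁ _)
    rwa [Finset.prod_const, Finset.card_univ, Fintype.card_fin] at this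
  have e : φ₁ (C (coeff m Q)) * ∏ i, φ₁ (X (σ i)) - φ₂ (C (coeff m Q)) * ∏ i, φ₂ (X (σ i)) =
      (φ₁ (C (coeff m Q)) - φ₂ (C (coeff m Q))) * ∏ i, φ₁ (X (σ i)) +
        φ₂ (C (coeff m Q)) * (∏ i, φ₁ (X (σ i)) - ∏ i, φ₂ (X (σ i))) := by ring
  rw [e]
  apply Ideal.add_mem
  · have := Ideal.mul_mem_mul (hC (coeff m Q)) h3
    rwa [← pow_succ'] at this
  · exact Ideal.mul_mem_left _ _ h2

end cong

end Groth.Agent.Lib.helper10.PolyLin
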