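import Mathlib
import Groth.Agent.Lib.helper10.PolyLin

/-!
# The polynomial presentation `(B/J)[X_p : p ∈ J/J²] → B/J^(N+1)`
-/

set_option autoImplicit false
set_option linter.unusedVariables false
set_option linter.style.haveILetI false
set_option linter.unusedSectionVars false

namespace Groth.Agent.Lib.helper10.AdicRho

open MvPolynomial
open Groth.Agent.Lib.helper10.SymPow Groth.Agent.Lib.helper10.PolyLin

universe u

section quot

variable {T : Type*} [CommRing T] (I : Ideal T) (n : ℕ)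

lemma map_mk_pow_self : (I.map (Ideal.Quotient.mk (I ^ n))) ^ n = ⊥ := by
  rw [← Ideal.map_pow, Ideal.map_quotient_self]

lemma mk_mem_map_pow_iff (d : ℕ) (hd : d ≤ n) (t : T) :
    Ideal.Quotient.mk (I ^ n) t ∈ (I.map (Ideal.Quotient.mk (I ^ n))) ^ d ↔ t ∈ I ^ d := by
  rw [← Ideal.map_pow]
  exact Ideal.mem_quotient_iff_mem (Ideal.pow_le_pow_right hd)

lemma mem_pow_of_map_le {S : Type*} [CommRing S] (f : T →+* S) (K : Ideal S)
    (hle : ∀ x ∈ I, f x ∈ K) (d : ℕ) (y : T) (hy : y ∈ I ^ d) : f y ∈ K ^ d := by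
  have h1 : I.map f ≤ K := by
    rw [Ideal.map_le_iff_le_comap]
    exact hle
  have h2 : f y ∈ (I.map f) ^ d := by
    rw [← Ideal.map_pow]
    exact Ideal.mem_map_of_mem _ hy
  exact Ideal.pow_right_mono h1 d h2

end quot

section approx

variable {T R : Type*} [CommRing T] [CommRing R]

/-- a ring map which is surjective "to first order" with respect to a nilpotent ideal is
surjective -/
theorem surjective_of_approx (φ : T →+* R) (𝔞 : Ideal R) (M : ℕ) (h𝔞 : 𝔞 ^ M = ⊥)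
    (h1 : ∀ r : R, ∃ t, r - φ t ∈ 𝔞)
    (h2 : ∀ x ∈ 𝔞, ∃ t, φ t ∈ 𝔞 ∧ x - φ t ∈ 𝔞 ^ 2) : Function.Surjective φ := by
  have step : ∀ d : ℕ, ∀ r ∈ 𝔞 ^ d, ∃ t, r - φ t ∈ 𝔞 ^ (d + 1) := by
    intro d
    induction d with
    | zero =>
      intro r _
      obtain ⟨t, ht⟩ := h1 r
      exact ⟨t, by simpa using ht⟩
    | succ d ih =>
      intro r hr
      rw [pow_succ] at hr
      refine Submodule.mul_induction_on hr ?_ ?_
      · intro y hy x hx
        obtain ⟨ty, hty⟩ := ih y hy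
        obtain ⟨tx, htx, htx'⟩ := h2 x hx
        refine ⟨ty * tx, ?_⟩
        have hφy : φ ty ∈ 𝔞 ^ d := by
          have : φ ty = y - (y - φ ty) := by ring
          rw [this]
          exact (𝔞 ^ d).sub_mem hy (Ideal.pow_le_pow_right (Nat.le_succ d) hty)
        have e : y * x - φ (ty * tx) = (y - φ ty) * x + φ ty * (x - φ tx) := by
          rw [map_mul]; ring
        rw [e]
        apply Ideal.add_mem
        · have := Ideal.mul_mem_mul hty hx
          rwa [← pow_succ] at this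
        · have := Ideal.mul_mem_mul hφy htx'
          rw [← pow_add] at this
          exact this
      · intro a b ⟨ta, hta⟩ ⟨tb, htb⟩
        refine ⟨ta + tb, ?_⟩
        have e : a + b - φ (ta + tb) = (a - φ ta) + (b - φ tb) := by
          rw [map_add]; ring
        rw [e]
        exact Ideal.add_mem _ hta htb
  have all : ∀ d : ℕ, ∀ r : R, ∃ t, r - φ t ∈ 𝔞 ^ d := by
    intro d
    induction d with
    | zero => intro r; exact ⟨0, by simp⟩
    | succ d ih =>
      intro r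
      obtain ⟨t, ht⟩ := ih r
      obtain ⟨t', ht'⟩ := step d _ ht
      refine ⟨t + t', ?_⟩
      have e : r - φ (t + t') = r - φ t - φ t' := by rw [map_add]; ring
      rw [e]
      exact ht'
  intro r
  obtain ⟨t, ht⟩ := all M r
  rw [h𝔞, Ideal.mem_bot, sub_eq_zero] at ht
  exact ⟨t, ht.symm⟩

end approx

variable {A B : Type u} [CommRing A] [CommRing B] [Algebra A B] (J : Ideal B) (N : ℕ)

lemma pow_le_self' : J ^ (N + 1) ≤ J := Ideal.pow_le_self (Nat.succ_ne_zero N)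

variable (A) in
/-- the projection `B/J^(N+1) → B/J` -/
noncomputable def piC : (B ⧸ J ^ (N + 1)) →ₐ[A] (B ⧸ J) :=
  Ideal.Quotient.factorₐ A (pow_le_self' J N)

lemma piC_mk (b : B) : piC A J N (Ideal.Quotient.mk _ b) = Ideal.Quotient.mk _ b := rfl

lemma piC_surjective : Function.Surjective (piC A J N) :=
  Ideal.Quotient.factor_surjective (pow_le_self' J N)

/-- the image of `J` in `B/J^(N+1)` -/
noncomputable def jj : Ideal (B ⧸ J ^ (N + 1)) := J.map (Ideal.Quotient.mk (J ^ (N + 1)))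

lemma jj_pow : jj J N ^ (N + 1) = ⊥ := by
  rw [jj, ← Ideal.map_pow, Ideal.map_quotient_self]

lemma mk_mem_jj_pow_iff (d : ℕ) (hd : d ≤ N + 1) (b : B) :
    Ideal.Quotient.mk (J ^ (N + 1)) b ∈ jj J N ^ d ↔ b ∈ J ^ d := by
  rw [jj, ← Ideal.map_pow]
  exact Ideal.mem_quotient_iff_mem (Ideal.pow_le_pow_right hd)

lemma mk_mem_jj_iff (b : B) : Ideal.Quotient.mk (J ^ (N + 1)) b ∈ jj J N ↔ b ∈ J := by
  have := mk_mem_jj_pow_iff J N 1 (by omega) b
  rwa [pow_one, pow_one] at this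

lemma ker_piC : RingHom.ker ((piC A J N : (B ⧸ J ^ (N + 1)) →ₐ[A] (B ⧸ J)) :
    (B ⧸ J ^ (N + 1)) →+* (B ⧸ J)) = jj J N := by
  ext x
  obtain ⟨b, rfl⟩ := Ideal.Quotient.mk_surjective x
  rw [RingHom.mem_ker, mk_mem_jj_iff]
  change piC A J N (Ideal.Quotient.mk _ b) = 0 ↔ _
  rw [piC_mk, Ideal.Quotient.eq_zero_iff_mem]

lemma mem_jj_iff (r : B ⧸ J ^ (N + 1)) : r ∈ jj J N ↔ piC A J N r = 0 := by
  rw [← ker_piC (A := A), RingHom.mem_ker]
  rfl

lemma isNilpotent_ker_piC : IsNilpotent (RingHom.ker ((piC A J N : (B ⧸ J ^ (N + 1)) →ₐ[A] (B ⧸ J)) :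
    (B ⧸ J ^ (N + 1)) →+* (B ⧸ J))) := by
  rw [ker_piC]
  exact ⟨N + 1, jj_pow J N⟩

section sig

variable [Algebra.FormallySmooth A (B ⧸ J)]

variable (A) in
/-- a section of `B/J^(N+1) → B/J` -/
noncomputable def sig : (B ⧸ J) →ₐ[A] (B ⧸ J ^ (N + 1)) :=
  Algebra.FormallySmooth.liftOfSurjective (AlgHom.id A (B ⧸ J)) (piC A J N) (piC_surjective J N)
    (isNilpotent_ker_piC J N)

lemma piC_sig (c : B ⧸ J) : piC A J N (sig A J N c) = c :=
  Algebra.FormallySmooth.liftOfSurjective_apply _ _ _ _ c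

lemma sig_sub_mk_mem (b : B) :
    sig A J N (Ideal.Quotient.mk J b) - Ideal.Quotient.mk (J ^ (N + 1)) b ∈ jj J N := by
  rw [mem_jj_iff (A := A), map_sub, piC_sig, piC_mk, sub_self]

lemma sub_sig_piC_mem (r : B ⧸ J ^ (N + 1)) : r - sig A J N (piC A J N r) ∈ jj J N := by
  rw [mem_jj_iff (A := A), map_sub, piC_sig, sub_self]

/-- a set-theoretic section of `J → J/J²` -/
noncomputable def gl : J.Cotangent → ↥J := Function.surjInv J.toCotangent_surjective

lemma toCotangent_gl (p : J.Cotangent) : J.toCotangent (gl J p) = p :=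
  Function.surjInv_eq J.toCotangent_surjective p

variable (A) in
/-- the presentation `(B/J)[X_p] → B/J^(N+1)`, `X_p ↦ ` a lift of `p` -/
noncomputable def rho : MvPolynomial J.Cotangent (B ⧸ J) →ₐ[A] (B ⧸ J ^ (N + 1)) :=
  { MvPolynomial.eval₂Hom ((sig A J N : (B ⧸ J) →ₐ[A] (B ⧸ J ^ (N + 1))) : (B ⧸ J) →+* (B ⧸ J ^ (N + 1)))
      (fun p => Ideal.Quotient.mk (J ^ (N + 1)) (gl J p : B)) with
    commutes' := fun a => by
      simp only [RingHom.toMonoidHom_eq_coe, OneHom.toFun_eq_coe, MonoidHom.toOneHom_coe,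
        MonoidHom.coe_coe]
      rw [MvPolynomial.algebraMap_apply, MvPolynomial.coe_eval₂Hom, MvPolynomial.eval₂_C]
      exact (sig A J N).commutes a }

@[simp] lemma rho_C (c : B ⧸ J) : rho A J N (C c) = sig A J N c := by
  change MvPolynomial.eval₂Hom _ _ (C c) = _
  rw [MvPolynomial.coe_eval₂Hom, MvPolynomial.eval₂_C]
  rfl

@[simp] lemma rho_X (p : J.Cotangent) :
    rho A J N (X p) = Ideal.Quotient.mk (J ^ (N + 1)) (gl J p : B) := by
  change MvPolynomial.eval₂Hom _ _ (X p) = _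
  rw [MvPolynomial.coe_eval₂Hom, MvPolynomial.eval₂_X]

lemma piC_rho (t : MvPolynomial J.Cotangent (B ⧸ J)) :
    piC A J N (rho A J N t) = constantCoeff t := by
  have : ((piC A J N : (B ⧸ J ^ (N + 1)) →ₐ[A] (B ⧸ J)) : (B ⧸ J ^ (N + 1)) →+* (B ⧸ J)).comp
      ((rho A J N : MvPolynomial J.Cotangent (B ⧸ J) →ₐ[A] (B ⧸ J ^ (N + 1))) :
        MvPolynomial J.Cotangent (B ⧸ J) →+* (B ⧸ J ^ (N + 1))) = constantCoeff := by
    apply MvPolynomial.ringHom_ext
    · intro c
      simp only [RingHom.coe_comp, RingHom.coe_coe, Function.comp_apply, rho_C, piC_sig,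
        constantCoeff_C]
    · intro p
      simp only [RingHom.coe_comp, RingHom.coe_coe, Function.comp_apply, rho_X, piC_mk,
        constantCoeff_X]
      exact Ideal.Quotient.eq_zero_iff_mem.mpr (gl J p).2
  exact RingHom.congr_fun this t

lemma rho_mem_jj (t : MvPolynomial J.Cotangent (B ⧸ J)) (ht : t ∈ idealOfVars J.Cotangent (B ⧸ J)) :
    rho A J N t ∈ jj J N := by
  rw [mem_jj_iff (A := A), piC_rho, constantCoeff_eq_zero_of_mem t ht]

lemma map_idealOfVars_le : (idealOfVars J.Cotangent (B ⧸ J)).map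
    ((rho A J N : MvPolynomial J.Cotangent (B ⧸ J) →ₐ[A] (B ⧸ J ^ (N + 1))) :
        MvPolynomial J.Cotangent (B ⧸ J) →+* (B ⧸ J ^ (N + 1))) ≤ jj J N := by
  rw [Ideal.map_le_iff_le_comap]
  intro t ht
  exact rho_mem_jj J N t ht

lemma rho_mem_jj_pow (d : ℕ) (t : MvPolynomial J.Cotangent (B ⧸ J))
    (ht : t ∈ idealOfVars J.Cotangent (B ⧸ J) ^ d) : rho A J N t ∈ jj J N ^ d := by
  have h1 : ((rho A J N : MvPolynomial J.Cotangent (B ⧸ J) →ₐ[A] (B ⧸ J ^ (N + 1))) :
      MvPolynomial J.Cotangent (B ⧸ J) →+* (B ⧸ J ^ (N + 1))) t ∈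
      ((idealOfVars J.Cotangent (B ⧸ J)).map
        ((rho A J N : MvPolynomial J.Cotangent (B ⧸ J) →ₐ[A] (B ⧸ J ^ (N + 1))) :
        MvPolynomial J.Cotangent (B ⧸ J) →+* (B ⧸ J ^ (N + 1)))) ^ d := by
    rw [← Ideal.map_pow]
    exact Ideal.mem_map_of_mem _ ht
  exact Ideal.pow_right_mono (map_idealOfVars_le J N) d h1

lemma rho_eq_zero_of_mem (t : MvPolynomial J.Cotangent (B ⧸ J))
    (ht : t ∈ idealOfVars J.Cotangent (B ⧸ J) ^ (N + 1)) : rho A J N t = 0 := by
  have := rho_mem_jj_pow (A := A) J N (N + 1) t ht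
  rwa [jj_pow, Ideal.mem_bot] at this

lemma mk_sub_mk_mem_sq (x y : B) (h : x - y ∈ J ^ 2) :
    Ideal.Quotient.mk (J ^ (N + 1)) x - Ideal.Quotient.mk (J ^ (N + 1)) y ∈ jj J N ^ 2 := by
  rw [← map_sub, jj, ← Ideal.map_pow]
  exact Ideal.mem_map_of_mem _ h

/-- the value of `rho` on a linear form is determined modulo `jj²` by its class -/
lemma rho_linX_sub_mk_mem (f : J.Cotangent →₀ (B ⧸ J)) (x : ↥J)
    (hx : J.toCotangent x = Finsupp.linearCombination (B ⧸ J) (id : J.Cotangent → J.Cotangent) f) :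
    rho A J N (linX (B ⧸ J) J.Cotangent f) - Ideal.Quotient.mk (J ^ (N + 1)) (x : B) ∈
      jj J N ^ 2 := by
  classical
  have ex : ∀ f : J.Cotangent →₀ (B ⧸ J), ∃ x₀ : ↥J,
      J.toCotangent x₀ = Finsupp.linearCombination (B ⧸ J) (id : J.Cotangent → J.Cotangent) f ∧
      rho A J N (linX (B ⧸ J) J.Cotangent f) - Ideal.Quotient.mk (J ^ (N + 1)) (x₀ : B) ∈
        jj J N ^ 2 := by
    intro f
    induction f using Finsupp.induction_linear with
    | zero => exact ⟨0, by simp, by simp⟩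
    | add f g hf hg =>
      obtain ⟨x₁, h₁, h₁'⟩ := hf
      obtain ⟨x₂, h₂, h₂'⟩ := hg
      refine ⟨x₁ + x₂, by rw [map_add, map_add, h₁, h₂], ?_⟩
      have e : rho A J N (linX (B ⧸ J) J.Cotangent (f + g)) -
          Ideal.Quotient.mk (J ^ (N + 1)) ((x₁ + x₂ : ↥J) : B) =
          (rho A J N (linX (B ⧸ J) J.Cotangent f) - Ideal.Quotient.mk (J ^ (N + 1)) (x₁ : B)) +
          (rho A J N (linX (B ⧸ J) J.Cotangent g) - Ideal.Quotient.mk (J ^ (N + 1)) (x₂ : B)) := by
        simp only [map_add, Submodule.coe_add]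
        ring
      rw [e]
      exact Ideal.add_mem _ h₁' h₂'
    | single p c =>
      obtain ⟨b, rfl⟩ := Ideal.Quotient.mk_surjective c
      refine ⟨b • gl J p, ?_, ?_⟩
      · rw [map_smul, toCotangent_gl, Finsupp.linearCombination_single]
        rfl
      · rw [linX_single, map_mul, rho_C, rho_X]
        have e : sig A J N (Ideal.Quotient.mk J b) * Ideal.Quotient.mk (J ^ (N + 1)) (gl J p : B) -
            Ideal.Quotient.mk (J ^ (N + 1)) ((b • gl J p : ↥J) : B) =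
            (sig A J N (Ideal.Quotient.mk J b) - Ideal.Quotient.mk (J ^ (N + 1)) b) *
              Ideal.Quotient.mk (J ^ (N + 1)) (gl J p : B) := by
          simp only [Submodule.coe_smul, smul_eq_mul, map_mul]
          ring
        rw [e, pow_two]
        exact Ideal.mul_mem_mul (sig_sub_mk_mem J N b) ((mk_mem_jj_iff J N _).mpr (gl J p).2)
  obtain ⟨x₀, h₀, h₀'⟩ := ex f
  have h3 : ((x₀ : B) - (x : B)) ∈ J ^ 2 := by
    rw [← J.toCotangent_eq, h₀, hx]
  have h4 := mk_sub_mk_mem_sq J N _ _ h3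
  have e : rho A J N (linX (B ⧸ J) J.Cotangent f) - Ideal.Quotient.mk (J ^ (N + 1)) (x : B) =
      (rho A J N (linX (B ⧸ J) J.Cotangent f) - Ideal.Quotient.mk (J ^ (N + 1)) (x₀ : B)) +
      (Ideal.Quotient.mk (J ^ (N + 1)) (x₀ : B) - Ideal.Quotient.mk (J ^ (N + 1)) (x : B)) := by
    ring
  rw [e]
  exact Ideal.add_mem _ h₀' h4

/-- surjectivity criterion for maps into `B/J^(N+1)` through `rho` -/
theorem surjective_of_rho {T' : Type*} [CommRing T'] (φ : T' →+* MvPolynomial J.Cotangent (B ⧸ J))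
    (hC : ∀ c : B ⧸ J, ∃ t, φ t = C c)
    (hX : ∀ p : J.Cotangent, ∃ t, φ t ∈ idealOfVars J.Cotangent (B ⧸ J) ∧
      rho A J N (φ t) - Ideal.Quotient.mk (J ^ (N + 1)) (gl J p : B) ∈ jj J N ^ 2) :
    Function.Surjective (fun t => rho A J N (φ t)) := by
  have := surjective_of_approx
    (((rho A J N : MvPolynomial J.Cotangent (B ⧸ J) →ₐ[A] (B ⧸ J ^ (N + 1))) :
      MvPolynomial J.Cotangent (B ⧸ J) →+* (B ⧸ J ^ (N + 1))).comp φ) (jj J N) (N + 1) (jj_pow J N)
    ?_ ?_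
  · exact this
  · intro r
    obtain ⟨t, ht⟩ := hC (piC A J N r)
    refine ⟨t, ?_⟩
    simp only [RingHom.coe_comp, RingHom.coe_coe, Function.comp_apply]
    rw [ht, rho_C]
    exact sub_sig_piC_mem J N r
  · intro x hx
    obtain ⟨b, rfl⟩ := Ideal.Quotient.mk_surjective x
    rw [mk_mem_jj_iff] at hx
    obtain ⟨t, ht, ht'⟩ := hX (J.toCotangent ⟨b, hx⟩)
    refine ⟨t, ?_, ?_⟩
    · simp only [RingHom.coe_comp, RingHom.coe_coe, Function.comp_apply]
      exact rho_mem_jj J N _ ht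
    · simp only [RingHom.coe_comp, RingHom.coe_coe, Function.comp_apply]
      have h3 : (b - (gl J (J.toCotangent ⟨b, hx⟩) : B)) ∈ J ^ 2 := by
        have := (J.toCotangent_eq (x := ⟨b, hx⟩) (y := gl J (J.toCotangent ⟨b, hx⟩))).mp
          (toCotangent_gl J _).symm
        exact this
      have h4 := mk_sub_mk_mem_sq J N _ _ h3
      have e : Ideal.Quotient.mk (J ^ (N + 1)) b - rho A J N (φ t) =
          (Ideal.Quotient.mk (J ^ (N + 1)) b -
            Ideal.Quotient.mk (J ^ (N + 1)) (gl J (J.toCotangent ⟨b, hx⟩) : B)) -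
          (rho A J N (φ t) -
            Ideal.Quotient.mk (J ^ (N + 1)) (gl J (J.toCotangent ⟨b, hx⟩) : B)) := by ring
      rw [e]
      exact Ideal.sub_mem _ h4 ht'

theorem rho_surjective : Function.Surjective (rho A J N) := by
  have := surjective_of_rho (A := A) J N (RingHom.id _) (fun c => ⟨C c, rfl⟩)
    (fun p => ⟨X p, Ideal.subset_span ⟨p, rfl⟩, by simp⟩)
  exact this

end sig

end Groth.Agent.Lib.helper10.AdicRho
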