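import Mathlib

/-!
# Elementwise criteria for local freeness

(LF) a module which is, around every prime, "free up to powers of `g`" on a finite family
is finite projective.
(LB) conversely a finite projective module has, around every prime, such a family together
with coordinate functions valued in the localization.
-/

set_option autoImplicit false
set_option linter.unusedVariables false
set_option linter.style.haveILetI false

namespace Groth.Agent.Lib.helper10.LocFreeElem

universe u v

variable {C : Type u} [CommRing C] {M : Type v} [AddCommGroup M] [Module C M]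

lemma mk_eq_zero_iff' {S : Submonoid C} (m : M) (s : S) :
    LocalizedModule.mk m s = 0 ↔ ∃ u : S, u • m = 0 := by
  rw [← LocalizedModule.zero_mk (1 : S), LocalizedModule.mk_eq]
  constructor
  · rintro ⟨u, hu⟩
    exact ⟨u, by simpa using hu⟩
  · rintro ⟨u, hu⟩
    exact ⟨u, by simpa using hu⟩

/-- the elementwise local freeness datum -/
def IsLocBasis (g : C) {r : ℕ} (m : Fin r → M) : Prop :=
  (∀ x : M, ∃ (k : ℕ) (c : Fin r → C), g ^ k • x = ∑ i, c i • m i) ∧
    (∀ c : Fin r → C, ∑ i, c i • m i = 0 → ∀ i, ∃ k : ℕ, g ^ k * c i = 0)

lemma bijective_map_of_isLocBasis (g : C) {r : ℕ} (m : Fin r → M) (h : IsLocBasis g m) :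
    Function.Bijective (LocalizedModule.map (Submonoid.powers g)
      (Fintype.linearCombination C m)) := by
  classical
  obtain ⟨hgen, hind⟩ := h
  constructor
  · rw [injective_iff_map_eq_zero]
    intro x hx
    induction x using LocalizedModule.induction_on with
    | h c s =>
      rw [LocalizedModule.map_mk, mk_eq_zero_iff'] at hx
      obtain ⟨⟨_, n, rfl⟩, ht⟩ := hx
      rw [Submonoid.smul_def] at ht
      change g ^ n • (Fintype.linearCombination C m) c = 0 at ht
      rw [← map_smul, Fintype.linearCombination_apply] at ht
      have h2 := hind _ ht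
      choose k hk using h2
      rw [mk_eq_zero_iff']
      refine ⟨⟨g ^ (n + ∑ i, k i), ⟨_, rfl⟩⟩, ?_⟩
      rw [Submonoid.smul_def]
      change g ^ (n + ∑ i, k i) • c = 0
      funext i
      have h3 := hk i
      simp only [Pi.smul_apply, smul_eq_mul, Pi.zero_apply] at h3 ⊢
      have : g ^ (n + ∑ i, k i) = g ^ (∑ j ∈ Finset.univ.erase i, k j) * (g ^ k i * g ^ n) := by
        rw [← pow_add, ← pow_add]
        congr 1
        rw [← Finset.add_sum_erase Finset.univ k (Finset.mem_univ i)]
        ring
      rw [this, mul_assoc, mul_assoc, h3, mul_zero]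
  · intro y
    induction y using LocalizedModule.induction_on with
    | h x s =>
      obtain ⟨k, c, hc⟩ := hgen x
      refine ⟨LocalizedModule.mk c (⟨g ^ k, ⟨k, rfl⟩⟩ * s), ?_⟩
      rw [LocalizedModule.map_mk, LocalizedModule.mk_eq]
      refine ⟨1, ?_⟩
      simp only [one_smul, Fintype.linearCombination_apply, ← hc]
      rw [mul_comm, mul_smul]
      rfl

lemma free_of_isLocBasis (g : C) {r : ℕ} (m : Fin r → M) (h : IsLocBasis g m) :
    Module.Free (Localization.Away g) (LocalizedModule.Away g M) ∧
      Module.Finite (Localization.Away g) (LocalizedModule.Away g M) := by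
  have hb := bijective_map_of_isLocBasis g m h
  let e := LinearEquiv.ofBijective _ hb
  haveI : Module.Free (Localization.Away g) (LocalizedModule.Away g (Fin r → C)) :=
    Module.free_of_isLocalizedModule (Submonoid.powers g)
      (LocalizedModule.mkLinearMap (Submonoid.powers g) (Fin r → C))
  haveI : Module.Finite (Localization.Away g) (LocalizedModule.Away g (Fin r → C)) :=
    Module.Finite.of_isLocalizedModule (Submonoid.powers g)
      (LocalizedModule.mkLinearMap (Submonoid.powers g) (Fin r → C))
  exact ⟨Module.Free.of_equiv e, Module.Finite.equiv e⟩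

/-- (LF) -/
theorem finite_projective_of_elementwise
    (h : ∀ p : Ideal C, p.IsPrime → ∃ g : C, g ∉ p ∧ ∃ (r : ℕ) (m : Fin r → M), IsLocBasis g m) :
    Module.FinitePresentation C M ∧ Module.Projective C M := by
  classical
  let s : Set C := {g | ∃ (r : ℕ) (m : Fin r → M), IsLocBasis g m}
  have hs : Ideal.span s = ⊤ := by
    by_contra hne
    obtain ⟨𝔪, h𝔪, hle⟩ := Ideal.exists_le_maximal _ hne
    obtain ⟨g, hg, r, m, hm⟩ := h 𝔪 h𝔪.isPrime
    exact hg (hle (Ideal.subset_span ⟨r, m, hm⟩))
  have hfree : ∀ g : s, Module.Free (Localization.Away g.1) (LocalizedModule.Away g.1 M) ∧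
      Module.Finite (Localization.Away g.1) (LocalizedModule.Away g.1 M) := by
    rintro ⟨g, r, m, hm⟩
    exact free_of_isLocBasis g m hm
  haveI hfp : Module.FinitePresentation C M := by
    apply Module.FinitePresentation.of_localizationSpan s hs
    intro g
    haveI := (hfree g).1
    haveI := (hfree g).2
    exact Module.finitePresentation_of_projective _ _
  refine ⟨hfp, ?_⟩
  rw [← Module.freeLocus_eq_univ_iff, Set.eq_univ_iff_forall]
  intro p
  obtain ⟨g, hg, r, m, hm⟩ := h p.asIdeal p.isPrime
  have h1 : (PrimeSpectrum.basicOpen g : Set (PrimeSpectrum C)) ⊆ Module.freeLocus C M := by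
    rw [Module.basicOpen_subset_freeLocus_iff]
    haveI := (free_of_isLocBasis g m hm).1
    infer_instance
  exact h1 hg

lemma isLocBasis_of_bijective_map (g : C) {r : ℕ} (m : Fin r → M)
    (hb : Function.Bijective (LocalizedModule.map (Submonoid.powers g)
      (Fintype.linearCombination C m))) : IsLocBasis g m := by
  classical
  constructor
  · intro x
    obtain ⟨y, hy⟩ := hb.2 (LocalizedModule.mk x 1)
    induction y using LocalizedModule.induction_on with
    | h c s =>
      rw [LocalizedModule.map_mk, LocalizedModule.mk_eq] at hy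
      obtain ⟨⟨_, j, rfl⟩, hu⟩ := hy
      obtain ⟨_, k, rfl⟩ := s
      simp only [Submonoid.smul_def, one_smul] at hu
      refine ⟨j + k, g ^ j • c, ?_⟩
      have : ∑ i, (g ^ j • c) i • m i = g ^ j • (Fintype.linearCombination C m) c := by
        rw [← map_smul, Fintype.linearCombination_apply]
      rw [this, hu, pow_add, mul_smul]
  · intro c hc i
    have h0 : LocalizedModule.map (Submonoid.powers g) (Fintype.linearCombination C m)
        (LocalizedModule.mk c 1) = 0 := by
      rw [LocalizedModule.map_mk, Fintype.linearCombination_apply, hc, LocalizedModule.zero_mk]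
    have h1 : LocalizedModule.mk c (1 : Submonoid.powers g) = 0 := hb.1 (by rw [h0, map_zero])
    rw [mk_eq_zero_iff'] at h1
    obtain ⟨⟨_, j, rfl⟩, hu⟩ := h1
    rw [Submonoid.smul_def] at hu
    exact ⟨j, by simpa using congrFun hu i⟩

/-- (LB): a finite projective module has local bases with coordinate functions. -/
theorem exists_isLocBasis_of_projective [Module.Finite C M] [Module.Projective C M]
    (p : Ideal C) [p.IsPrime] :
    ∃ g : C, g ∉ p ∧ ∃ (r : ℕ) (m : Fin r → M), IsLocBasis g m ∧
      ∃ coord : M →ₗ[C] (Fin r → Localization.Away g),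
        ∀ j, coord (m j) = Pi.single j 1 := by
  classical
  haveI : Module.FinitePresentation C M := Module.finitePresentation_of_projective C M
  let Rp := Localization.AtPrime p
  let Mp := LocalizedModule p.primeCompl M
  haveI : Module.Finite Rp Mp :=
    Module.Finite.of_isLocalizedModule p.primeCompl (LocalizedModule.mkLinearMap p.primeCompl M)
  haveI : Module.Free Rp Mp := Module.free_of_flat_of_isLocalRing
  let r := Module.finrank Rp Mp
  let b : Module.Basis (Fin r) Rp Mp := Module.finBasis Rp Mp
  -- write basis vectors as fractions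
  have hfrac : ∀ i, ∃ (x : M) (s : p.primeCompl), b i = LocalizedModule.mk x s := by
    intro i
    induction h : b i using LocalizedModule.induction_on with
    | h x s => exact ⟨x, s, rfl⟩
  choose m s hms using hfrac
  let w : Fin r → Rpˣ := fun i => (IsLocalization.map_units Rp (s i)).unit
  let b' : Module.Basis (Fin r) Rp Mp := b.unitsSMul w
  have hb' : ∀ i, b' i = LocalizedModule.mk (m i) 1 := by
    intro i
    rw [Module.Basis.unitsSMul_apply, hms i]
    change algebraMap C Rp (s i) • LocalizedModule.mk (m i) (s i) = _
    rw [algebraMap_smul, LocalizedModule.smul'_mk, ← Submonoid.smul_def,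
      LocalizedModule.mk_cancel]
  let l : (Fin r → C) →ₗ[C] M := Fintype.linearCombination C m
  let fM : (Fin r → C) →ₗ[C] (Fin r → Rp) :=
    LinearMap.pi fun i => Algebra.linearMap C Rp ∘ₗ LinearMap.proj i
  let fN : M →ₗ[C] Mp := LocalizedModule.mkLinearMap p.primeCompl M
  have hmap : IsLocalizedModule.map p.primeCompl fM fN l =
      (b'.equivFun.symm.toLinearMap).restrictScalars C := by
    apply IsLocalizedModule.ext p.primeCompl fM (IsLocalizedModule.map_units fN)
    rw [IsLocalizedModule.map_comp]
    ext j
    simp only [LinearMap.coe_comp, LinearMap.coe_single, Function.comp_apply,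
      LinearMap.coe_restrictScalars, LinearEquiv.coe_coe]
    rw [Module.Basis.equivFun_symm_apply]
    simp only [l, fM, fN, Fintype.linearCombination_apply, LinearMap.pi_apply,
      LinearMap.coe_comp, Function.comp_apply, LinearMap.coe_proj, Function.eval,
      Algebra.linearMap_apply, LocalizedModule.mkLinearMap_apply, hb']
    rw [Finset.sum_eq_single j, Finset.sum_eq_single j]
    · simp [algebraMap_smul]
      rfl
    · intro i _ hij; simp [Pi.single_eq_of_ne hij]
    · intro h; exact absurd (Finset.mem_univ j) h
    · intro i _ hij; simp [Pi.single_eq_of_ne hij]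
    · intro h; exact absurd (Finset.mem_univ j) h
  have hbij : Function.Bijective (IsLocalizedModule.map p.primeCompl fM fN l) := by
    rw [hmap]
    exact b'.equivFun.symm.bijective
  obtain ⟨g, hg, hgb⟩ := Module.FinitePresentation.exists_notMem_bijective l p fM fN hbij
  refine ⟨g, hg, r, m, isLocBasis_of_bijective_map g m hgb, ?_⟩
  -- coordinates
  let Cg := Localization.Away g
  let bg : Module.Basis (Fin r) Cg (LocalizedModule.Away g (Fin r → C)) :=
    (Pi.basisFun C (Fin r)).ofIsLocalizedModule Cg (Submonoid.powers g)
      (LocalizedModule.mkLinearMap (Submonoid.powers g) (Fin r → C))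
  let B : Module.Basis (Fin r) Cg (LocalizedModule.Away g M) :=
    bg.map (LinearEquiv.ofBijective _ hgb)
  have hB : ∀ j, B j = LocalizedModule.mk (m j) 1 := by
    intro j
    have e1 : bg j = LocalizedModule.mk (Pi.single j 1) 1 := by
      simp only [bg, Module.Basis.ofIsLocalizedModule_apply, Pi.basisFun_apply,
        LocalizedModule.mkLinearMap_apply]
    change (LinearEquiv.ofBijective _ hgb) (bg j) = _
    rw [e1, LinearEquiv.ofBijective_apply, LocalizedModule.map_mk]
    congr 1
    simp [l, Fintype.linearCombination_apply]
  refine ⟨(B.equivFun.toLinearMap.restrictScalars C) ∘ₗ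
    LocalizedModule.mkLinearMap (Submonoid.powers g) M, ?_⟩
  intro j
  simp only [LinearMap.coe_comp, LinearMap.coe_restrictScalars, LinearEquiv.coe_coe,
    Function.comp_apply, LocalizedModule.mkLinearMap_apply]
  rw [← hB j]
  funext k
  rw [Module.Basis.equivFun_self]
  simp [Pi.single_apply, eq_comm]

end Groth.Agent.Lib.helper10.LocFreeElem
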