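import Mathlib
import Groth.Prelude.Def_PP16
import Groth.Agent.Lib.Helper26.QRegSpan

/-!
# Quasi-regular generation on a basic open, in elementwise form
-/

set_option autoImplicit false
set_option linter.unusedVariables false
set_option linter.style.haveILetI false

namespace Groth.Agent.Lib.helper10.QRLocal

open MvPolynomial

universe u

variable {R : Type u} [CommRing R]

/-- elementwise form of "`J` is generated on `D(g)` by the quasi-regular sequence `a`" -/
structure LocData (J : Ideal R) (g : R) {r : ℕ} (a : Fin r → R) : Prop where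
  mem : ∀ i, a i ∈ J
  gen : ∀ y ∈ J, ∃ (k : ℕ) (c : Fin r → R), g ^ k * y = ∑ i, c i * a i
  qr : ∀ (n : ℕ) (Q : MvPolynomial (Fin r) R), Q.IsHomogeneous n →
    MvPolynomial.eval a Q ∈ J ^ (n + 1) → ∀ d, ∃ k : ℕ, g ^ k * Q.coeff d ∈ J

section

variable (J : Ideal R) (g : R)

local notation "S" => Localization.Away g
local notation "φ" => algebraMap R (Localization.Away g)

lemma isUnit_map_pow (k : ℕ) : IsUnit (φ (g ^ k)) :=
  IsLocalization.map_units (Localization.Away g) (⟨g ^ k, ⟨k, rfl⟩⟩ : Submonoid.powers g)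

lemma exists_pow_mul_mem {I : Ideal R} {q : R} (h : φ q ∈ I.map φ) : ∃ k : ℕ, g ^ k * q ∈ I := by
  rw [IsLocalization.mem_map_algebraMap_iff (Submonoid.powers g)] at h
  obtain ⟨⟨j, ⟨_, k, rfl⟩⟩, hj⟩ := h
  simp only at hj
  rw [← map_mul, IsLocalization.eq_iff_exists (Submonoid.powers g)] at hj
  obtain ⟨⟨_, l, rfl⟩, hl⟩ := hj
  simp only at hl
  refine ⟨l + k, ?_⟩
  have : g ^ (l + k) * q = g ^ l * (q * g ^ k) := by ring
  rw [this, hl]
  exact I.mul_mem_left _ j.2

lemma eval_comp_map {r : ℕ} (a : Fin r → R) (Q : MvPolynomial (Fin r) R) :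
    MvPolynomial.eval (φ ∘ a) (MvPolynomial.map φ Q) = φ (MvPolynomial.eval a Q) := by
  rw [MvPolynomial.eval_map, ← MvPolynomial.eval₂_id, MvPolynomial.eval₂_comp_left,
    RingHom.comp_id]

theorem locData_of_qr {r : ℕ} (f : Fin r → S) (hf : CAlgX.IsQuasiRegular f)
    (hspan : Ideal.span (Set.range f) = J.map φ) : ∃ a : Fin r → R, LocData J g a := by
  classical
  have h1 : ∀ i, ∃ (a : R) (k : ℕ), a ∈ J ∧ f i * φ (g ^ k) = φ a := by
    intro i
    have hi : f i ∈ J.map φ := hspan ▸ Ideal.subset_span ⟨i, rfl⟩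
    rw [IsLocalization.mem_map_algebraMap_iff (Submonoid.powers g)] at hi
    obtain ⟨⟨j, ⟨_, k, rfl⟩⟩, hj⟩ := hi
    exact ⟨j.1, k, j.2, hj⟩
  choose a k ha hak using h1
  have hspan' : Ideal.span (Set.range (φ ∘ a)) = Ideal.span (Set.range f) := by
    apply le_antisymm
    · rw [Ideal.span_le]
      rintro _ ⟨i, rfl⟩
      simp only [Function.comp_apply, ← hak]
      exact Ideal.mul_mem_right _ _ (Ideal.subset_span ⟨i, rfl⟩)
    · rw [Ideal.span_le]
      rintro _ ⟨i, rfl⟩
      obtain ⟨u, hu⟩ := isUnit_map_pow g (k i)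
      have : f i = φ (a i) * ↑u⁻¹ := by
        rw [← hak, ← hu, mul_assoc, Units.mul_inv, mul_one]
      rw [SetLike.mem_coe, this]
      exact Ideal.mul_mem_right _ _ (Ideal.subset_span ⟨i, rfl⟩)
  have hf' : CAlgX.IsQuasiRegular (φ ∘ a) := Groth.Agent.Lib.Helper26.QRegSpan.main f _ hf hspan'
  have hJ : Ideal.span (Set.range (φ ∘ a)) = J.map φ := hspan'.trans hspan
  refine ⟨a, ha, ?_, ?_⟩
  · intro y hy
    have hy' : φ y ∈ Ideal.span (Set.range (φ ∘ a)) := hJ ▸ Ideal.mem_map_of_mem _ hy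
    obtain ⟨c', hc'⟩ := (Ideal.mem_span_range_iff_exists_fun).mp hy'
    obtain ⟨⟨_, N, rfl⟩, hb⟩ := IsLocalization.exist_integer_multiples (Submonoid.powers g)
      Finset.univ c'
    choose c hc using fun i => hb i (Finset.mem_univ i)
    simp only [Algebra.smul_def] at hc
    have h2 : φ (g ^ N * y) = φ (∑ i, c i * a i) := by
      rw [map_mul, ← hc', Finset.mul_sum, map_sum]
      apply Finset.sum_congr rfl
      intro i _
      rw [map_mul, hc i, Function.comp_apply, mul_assoc]
    rw [IsLocalization.eq_iff_exists (Submonoid.powers g)] at h2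
    obtain ⟨⟨_, l, rfl⟩, hl⟩ := h2
    simp only at hl
    refine ⟨l + N, fun i => g ^ l * c i, ?_⟩
    rw [pow_add, mul_assoc, hl, Finset.mul_sum]
    apply Finset.sum_congr rfl
    intro i _; ring
  · intro n Q hQ hev d
    have h3 : MvPolynomial.eval (φ ∘ a) (MvPolynomial.map φ Q) ∈
        Ideal.span (Set.range (φ ∘ a)) ^ (n + 1) := by
      rw [eval_comp_map, hJ, ← Ideal.map_pow]
      exact Ideal.mem_map_of_mem _ hev
    have h4 := hf' n (MvPolynomial.map φ Q) (hQ.map _) h3 d
    rw [MvPolynomial.coeff_map, hJ] at h4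
    exact exists_pow_mul_mem g h4

theorem qr_of_locData {r : ℕ} (a : Fin r → R) (h : LocData J g a) :
    CAlgX.IsQuasiRegular (φ ∘ a) ∧ Ideal.span (Set.range (φ ∘ a)) = J.map φ := by
  classical
  have hspan : Ideal.span (Set.range (φ ∘ a)) = J.map φ := by
    apply le_antisymm
    · rw [Ideal.span_le]
      rintro _ ⟨i, rfl⟩
      exact Ideal.mem_map_of_mem _ (h.mem i)
    · rw [Ideal.map, Ideal.span_le]
      rintro _ ⟨y, hy, rfl⟩
      obtain ⟨k, c, hc⟩ := h.gen y hy
      have h1 : φ (g ^ k) * φ y ∈ Ideal.span (Set.range (φ ∘ a)) := by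
        rw [← map_mul, hc, map_sum]
        apply Ideal.sum_mem
        intro i _
        rw [map_mul]
        exact Ideal.mul_mem_left _ _ (Ideal.subset_span ⟨i, rfl⟩)
      exact (Ideal.unit_mul_mem_iff_mem _ (isUnit_map_pow g k)).mp h1
  refine ⟨?_, hspan⟩
  intro n Q' hQ' hev d
  rw [hspan] at hev ⊢
  by_cases hd : d ∈ Q'.support
  swap
  · rw [MvPolynomial.notMem_support_iff.1 hd]; exact zero_mem _
  obtain ⟨⟨_, N, rfl⟩, hb⟩ := IsLocalization.exist_integer_multiples (Submonoid.powers g)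
    Q'.support (fun d => MvPolynomial.coeff d Q')
  simp only [Algebra.smul_def] at hb
  choose! q hq using hb
  let Q : MvPolynomial (Fin r) R := ∑ e ∈ Q'.support, MvPolynomial.monomial e (q e)
  have hQhom : Q.IsHomogeneous n := by
    apply MvPolynomial.IsHomogeneous.sum
    intro e he
    apply MvPolynomial.isHomogeneous_monomial
    have := hQ' (MvPolynomial.mem_support_iff.mp he)
    rw [Finsupp.degree_eq_weight_one]; exact this
  have hQmap : MvPolynomial.map φ Q = MvPolynomial.C (φ (g ^ N)) * Q' := by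
    ext e
    rw [MvPolynomial.coeff_map, MvPolynomial.coeff_C_mul]
    simp only [Q, MvPolynomial.coeff_sum, MvPolynomial.coeff_monomial]
    by_cases he : e ∈ Q'.support
    · rw [Finset.sum_eq_single e]
      · simp [hq e he]
      · intro b _ hbe; simp [hbe]
      · intro h'; exact absurd he h'
    · rw [MvPolynomial.notMem_support_iff.1 he, mul_zero]
      rw [Finset.sum_eq_zero, map_zero]
      intro b hb'
      have : b ≠ e := fun hbe => he (hbe ▸ hb')
      simp [this]
  have h1 : φ (MvPolynomial.eval a Q) ∈ (J ^ (n + 1)).map φ := by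
    rw [← eval_comp_map, hQmap, map_mul, MvPolynomial.eval_C, Ideal.map_pow]
    exact Ideal.mul_mem_left _ _ hev
  obtain ⟨M, hM⟩ := exists_pow_mul_mem g h1
  have h2 := h.qr n (MvPolynomial.C (g ^ M) * Q) (by
    have := (MvPolynomial.isHomogeneous_C (Fin r) (g ^ M)).mul hQhom
    simpa using this) (by rw [map_mul, MvPolynomial.eval_C]; exact hM) d
  obtain ⟨k, hk⟩ := h2
  rw [MvPolynomial.coeff_C_mul] at hk
  have h3 : φ (g ^ k * (g ^ M * MvPolynomial.coeff d Q)) ∈ J.map φ := Ideal.mem_map_of_mem _ hk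
  have h4 : MvPolynomial.coeff d Q = q d := by
    simp only [Q, MvPolynomial.coeff_sum, MvPolynomial.coeff_monomial]
    rw [Finset.sum_eq_single d]
    · simp
    · intro b _ hbd; simp [hbd]
    · intro h'; exact absurd hd h'
  rw [h4, map_mul, map_mul, hq d hd, ← mul_assoc, ← mul_assoc] at h3
  have hu : IsUnit (φ (g ^ k) * φ (g ^ M) * φ (g ^ N)) :=
    ((isUnit_map_pow g k).mul (isUnit_map_pow g M)).mul (isUnit_map_pow g N)
  exact (Ideal.unit_mul_mem_iff_mem _ hu).mp h3

end

end Groth.Agent.Lib.helper10.QRLocal
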