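import Mathlib
import Groth.Prelude.Def_PP16
import Groth.Agent.Lib.helper10.SymPowGr
import Groth.Agent.Lib.helper10.QRLocal
import Groth.Agent.Lib.helper10.LocFreeElem

/-!
# Locally quasi-regular ideals: finiteness, projectivity of the conormal module and
`Sym(J/J²) ≅ gr_J`.
-/

set_option autoImplicit false
set_option linter.unusedVariables false
set_option linter.style.haveILetI false

namespace Groth.Agent.Lib.helper10.QRSym

open TensorProduct SymmetricPower MvPolynomial PP16
open Groth.Agent.Lib.helper10.SymPow Groth.Agent.Lib.helper10.SymPowGr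
open Groth.Agent.Lib.helper10.QRLocal Groth.Agent.Lib.helper10.LocFreeElem

universe u

variable {R : Type u} [CommRing R] (J : Ideal R)

/-- `J` kills the cotangent space -/
lemma smul_cotangent_eq_zero {j : R} (hj : j ∈ J) (x : J.Cotangent) : j • x = 0 := by
  obtain ⟨y, rfl⟩ := Ideal.toCotangent_surjective J x
  rw [← map_smul, Ideal.toCotangent_eq_zero]
  simp only [Submodule.coe_smul, smul_eq_mul, pow_two]
  exact Ideal.mul_mem_mul hj y.2

variable (ι : Type u) [Fintype ι]

/-- `J` kills the symmetric powers of the cotangent space (nonempty index) -/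
lemma smul_sym_eq_zero [Nonempty ι] {j : R} (hj : j ∈ J) (x : Sym[R] ι J.Cotangent) :
    j • x = 0 := by
  classical
  induction x using SymPow.induction_on with
  | zero => simp
  | smul_tprod r v =>
    obtain ⟨i₀⟩ := ‹Nonempty ι›
    rw [smul_comm]
    have : j • SymmetricPower.tprod R v =
        SymmetricPower.tprod R (Function.update v i₀ (j • v i₀)) := by
      rw [(SymmetricPower.tprod R).map_update_smul, Function.update_eq_self]
    rw [this, smul_cotangent_eq_zero J hj, (SymmetricPower.tprod R).map_update_zero, smul_zero]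
  | add x y hx hy => rw [smul_add, hx, hy, add_zero]

section locdata

variable {J} {g : R} {r : ℕ} {a : Fin r → R} (h : LocData J g a)

/-- the classes of the `a i` in the cotangent space -/
noncomputable def cls (ha : ∀ i, a i ∈ J) : Fin r → J.Cotangent :=
  fun i => J.toCotangent ⟨a i, ha i⟩

include h in
lemma exists_finsupp_eq (x : J.Cotangent) :
    ∃ (k : ℕ) (c : Fin r →₀ R), g ^ k • x = Finsupp.linearCombination R (cls h.mem) c := by
  obtain ⟨y, rfl⟩ := Ideal.toCotangent_surjective J x
  obtain ⟨k, c, hc⟩ := h.gen y.1 y.2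
  refine ⟨k, Finsupp.equivFunOnFinite.symm c, ?_⟩
  rw [Finsupp.linearCombination_apply, Finsupp.sum_fintype _ _ (by simp)]
  simp only [Finsupp.equivFunOnFinite_symm_apply_apply, cls]
  rw [← map_smul]
  simp_rw [← map_smul]
  rw [← map_sum]
  congr 1
  apply Subtype.ext
  simp only [Submodule.coe_smul, smul_eq_mul, Submodule.coe_sum]
  exact hc

include h in
/-- Claim 1: up to a power of `g` every symmetric tensor is a polynomial in the classes -/
lemma exists_monoMap_eq (x : Sym[R] ι J.Cotangent) :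
    ∃ (N : ℕ) (Q : MvPolynomial (Fin r) R), Q.IsHomogeneous (Fintype.card ι) ∧
      g ^ N • x = monoMap ι (cls h.mem) Q := by
  classical
  induction x using SymPow.induction_on with
  | zero => exact ⟨0, 0, MvPolynomial.isHomogeneous_zero _ _ _, by simp⟩
  | smul_tprod s v =>
    choose k c hc using fun i => exists_finsupp_eq h (v i)
    refine ⟨∑ i, k i, MvPolynomial.C s * ∏ i, linX R (Fin r) (c i), ?_, ?_⟩
    · have h1 : ∀ i ∈ (Finset.univ : Finset ι), (linX R (Fin r) (c i)).IsHomogeneous 1 := by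
        intro i _
        rw [linX, Finsupp.linearCombination_apply, Finsupp.sum]
        apply MvPolynomial.IsHomogeneous.sum
        intro j _
        rw [MvPolynomial.smul_eq_C_mul]
        have := (MvPolynomial.isHomogeneous_C (Fin r) ((c i) j)).mul
          (MvPolynomial.isHomogeneous_X R j)
        simpa using this
      have h2 := MvPolynomial.IsHomogeneous.prod Finset.univ (fun i => linX R (Fin r) (c i))
        (fun _ => 1) h1
      have h3 := (MvPolynomial.isHomogeneous_C (Fin r) s).mul h2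
      simpa using h3
    · rw [← MvPolynomial.smul_eq_C_mul, map_smul, ← tprod_linearCombination, smul_comm]
      congr 1
      simp_rw [← hc]
      rw [(SymmetricPower.tprod R).map_smul_univ, Finset.prod_pow_eq_pow_sum]
  | add x y hx hy =>
    obtain ⟨N₁, Q₁, hQ₁, e₁⟩ := hx
    obtain ⟨N₂, Q₂, hQ₂, e₂⟩ := hy
    refine ⟨N₁ + N₂, MvPolynomial.C (g ^ N₂) * Q₁ + MvPolynomial.C (g ^ N₁) * Q₂, ?_, ?_⟩
    · apply MvPolynomial.IsHomogeneous.add
      · simpa using (MvPolynomial.isHomogeneous_C (Fin r) (g ^ N₂)).mul hQ₁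
      · simpa using (MvPolynomial.isHomogeneous_C (Fin r) (g ^ N₁)).mul hQ₂
    · rw [map_add, ← MvPolynomial.smul_eq_C_mul, ← MvPolynomial.smul_eq_C_mul, map_smul, map_smul,
        ← e₁, ← e₂, smul_add, smul_smul, smul_smul, ← pow_add, ← pow_add, add_comm N₂ N₁]


/-- the natural injection `J^n/J^(n+1) → R/J^(n+1)` -/
noncomputable def grToQuot (J : Ideal R) (n : ℕ) : grJ R J n →ₗ[R] R ⧸ J ^ (n + 1) :=
  Submodule.mapQ _ (J ^ (n + 1)) (J ^ n).subtype le_rfl

lemma grToQuot_mk (J : Ideal R) (n : ℕ) (y : R) (hy : y ∈ J ^ n) :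
    grToQuot J n (Submodule.Quotient.mk ⟨y, hy⟩) = Ideal.Quotient.mk (J ^ (n + 1)) y := rfl

lemma grToQuot_injective (J : Ideal R) (n : ℕ) : Function.Injective (grToQuot J n) := by
  rw [injective_iff_map_eq_zero]
  rintro ⟨⟨y, hy⟩⟩ h0
  change grToQuot J n (Submodule.Quotient.mk ⟨y, hy⟩) = 0 at h0
  rw [grToQuot_mk, Ideal.Quotient.eq_zero_iff_mem] at h0
  change (Submodule.Quotient.mk ⟨y, hy⟩ : grJ R J n) = 0
  rw [Submodule.Quotient.mk_eq_zero]
  exact h0

/-- Claim 2 -/
lemma grToQuot_symToGr_monoMap (ha : ∀ i, a i ∈ J) (Q : MvPolynomial (Fin r) R)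
    (hQ : Q.IsHomogeneous (Fintype.card ι)) :
    grToQuot J (Fintype.card ι) (symToGr J ι (monoMap ι (cls ha) Q)) =
      Ideal.Quotient.mk (J ^ (Fintype.card ι + 1)) (MvPolynomial.eval a Q) := by
  classical
  let L1 : MvPolynomial (Fin r) R →ₗ[R] R ⧸ J ^ (Fintype.card ι + 1) :=
    grToQuot J _ ∘ₗ symToGr J ι ∘ₗ monoMap ι (cls ha)
  let L2 : MvPolynomial (Fin r) R →ₗ[R] R ⧸ J ^ (Fintype.card ι + 1) :=
    (Ideal.Quotient.mkₐ R (J ^ (Fintype.card ι + 1))).toLinearMap ∘ₗ
      (MvPolynomial.aeval a).toLinearMap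
  have key : L1 Q = L2 Q := by
    rw [Q.as_sum, map_sum, map_sum]
    apply Finset.sum_congr rfl
    intro d hd
    have hdeg : d.degree = Fintype.card ι := by
      have := hQ (MvPolynomial.mem_support_iff.mp hd)
      rw [Finsupp.degree_eq_weight_one]; exact this
    have h1 : (monomial d (coeff d Q) : MvPolynomial (Fin r) R) = coeff d Q • monomial d 1 := by
      rw [MvPolynomial.smul_monomial]; simp
    rw [h1, map_smul, map_smul]
    congr 1
    simp only [L1, L2, LinearMap.comp_apply]
    have h2 : monoMap ι (cls ha) (monomial d (1 : R)) =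
        SymmetricPower.tprod R (fun i => J.toCotangent
          (⟨a (chooseMap ι d hdeg i), ha _⟩ : ↥J)) := by
      conv_lhs => rw [← typ_chooseMap d hdeg]
      rw [monoMap_monomial_typ]
      rfl
    rw [h2, symToGr_tprod, zetaJ, grToQuot_mk]
    have h3 : (monomial d (1 : R) : MvPolynomial (Fin r) R) =
        ∏ i, (X (chooseMap ι d hdeg i) : MvPolynomial (Fin r) R) := by
      rw [prod_X_eq, typ_chooseMap]
    rw [h3]
    simp [map_prod]
  exact key

/-- Claim 3 -/
lemma monoMap_eq_zero_of_coeff_mem [Nonempty ι] (m : Fin r → J.Cotangent)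
    (Q : MvPolynomial (Fin r) R) (hQ : Q.IsHomogeneous (Fintype.card ι))
    (hc : ∀ d, coeff d Q ∈ J) : monoMap ι m Q = 0 := by
  classical
  rw [Q.as_sum, map_sum]
  apply Finset.sum_eq_zero
  intro d hd
  have hdeg : d.degree = Fintype.card ι := by
    have := hQ (MvPolynomial.mem_support_iff.mp hd)
    rw [Finsupp.degree_eq_weight_one]; exact this
  rw [monoMap_monomial m d hdeg, smul_sym_eq_zero J ι (hc d)]

end locdata

section forward

variable {J}

/-- local data from local quasi-regularity -/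
lemma exists_locData (hq : IsLocallyQuasiRegular R J) (P : Ideal R) [P.IsPrime] (hP : J ≤ P) :
    ∃ g : R, g ∉ P ∧ ∃ (r : ℕ) (a : Fin r → R), LocData J g a := by
  obtain ⟨g, hg, r, f, hf, hspan⟩ := hq P hP
  obtain ⟨a, ha⟩ := locData_of_qr J g f hf hspan
  exact ⟨g, hg, r, a, ha⟩

theorem fg_of_isLocallyQuasiRegular (hq : IsLocallyQuasiRegular R J) : J.FG := by
  classical
  let t : Set R := {g | (J.map (algebraMap R (Localization.Away g))).FG}
  apply Ideal.fg_of_localizationSpan t ?_ (fun g => g.2)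
  by_contra hne
  obtain ⟨𝔪, h𝔪, hle⟩ := Ideal.exists_le_maximal _ hne
  haveI := h𝔪.isPrime
  by_cases hJ : J ≤ 𝔪
  · obtain ⟨g, hg, r, f, hf, hspan⟩ := hq 𝔪 hJ
    apply hg
    apply hle
    apply Ideal.subset_span
    change (J.map _).FG
    rw [← hspan]
    exact ⟨Finset.univ.image f, by simp⟩
  · obtain ⟨g, hgJ, hg𝔪⟩ := SetLike.not_le_iff_exists.mp hJ
    apply hg𝔪
    apply hle
    apply Ideal.subset_span
    change (J.map _).FG
    have : J.map (algebraMap R (Localization.Away g)) = ⊤ := by
      apply Ideal.eq_top_of_isUnit_mem _ (Ideal.mem_map_of_mem _ hgJ)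
      exact IsLocalization.Away.algebraMap_isUnit g
    rw [this]
    exact ⟨{1}, by simp⟩

lemma mk_smul_cot (s : R) (x : J.Cotangent) : (Ideal.Quotient.mk J s) • x = s • x :=
  algebraMap_smul (R ⧸ J) s x

theorem isLocBasis_of_locData {g : R} {r : ℕ} {a : Fin r → R} (h : LocData J g a) :
    IsLocBasis (Ideal.Quotient.mk J g) (cls h.mem) := by
  classical
  constructor
  · intro x
    obtain ⟨k, c, hc⟩ := exists_finsupp_eq h x
    refine ⟨k, fun i => Ideal.Quotient.mk J (c i), ?_⟩
    rw [← map_pow, mk_smul_cot, hc, Finsupp.linearCombination_apply,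
      Finsupp.sum_fintype _ _ (by simp)]
    simp_rw [mk_smul_cot]
  · intro cbar hsum i
    choose c hc using fun i => Ideal.Quotient.mk_surjective (I := J) (cbar i)
    simp_rw [← hc, mk_smul_cot] at hsum
    have h1 : ∑ i, c i * a i ∈ J ^ 2 := by
      have h2 : J.toCotangent (∑ i, c i • (⟨a i, h.mem i⟩ : ↥J)) = 0 := by
        rw [map_sum]
        simp_rw [map_smul]
        exact hsum
      rw [Ideal.toCotangent_eq_zero] at h2
      simpa using h2
    let Q : MvPolynomial (Fin r) R := ∑ i, C (c i) * X i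
    have hQ : Q.IsHomogeneous 1 :=
      MvPolynomial.IsHomogeneous.sum _ _ _ (fun i _ => MvPolynomial.isHomogeneous_C_mul_X _ _)
    have hev : MvPolynomial.eval a Q ∈ J ^ (1 + 1) := by
      simpa [Q, map_sum] using h1
    obtain ⟨k, hk⟩ := h.qr 1 Q hQ hev (Finsupp.single i 1)
    have hco : coeff (Finsupp.single i 1) Q = c i := by
      simp only [Q, MvPolynomial.coeff_sum, MvPolynomial.coeff_C_mul, MvPolynomial.coeff_X',
        Finsupp.single_left_inj one_ne_zero]
      simp
    rw [hco] at hk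
    refine ⟨k, ?_⟩
    rw [← hc, ← map_pow, ← map_mul, Ideal.Quotient.eq_zero_iff_mem]
    exact hk

theorem projective_of_isLocallyQuasiRegular (hq : IsLocallyQuasiRegular R J) :
    Module.Projective (R ⧸ J) J.Cotangent := by
  classical
  apply (finite_projective_of_elementwise (C := R ⧸ J) (M := J.Cotangent) ?_).2
  intro p hp
  haveI := hp
  haveI : (p.comap (Ideal.Quotient.mk J)).IsPrime := Ideal.comap_isPrime _ _
  have hle : J ≤ p.comap (Ideal.Quotient.mk J) := by
    intro j hj
    rw [Ideal.mem_comap, Ideal.Quotient.eq_zero_iff_mem.mpr hj]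
    exact zero_mem _
  obtain ⟨g, hg, r, a, h⟩ := exists_locData hq _ hle
  exact ⟨Ideal.Quotient.mk J g, fun hmem => hg (Ideal.mem_comap.mpr hmem), r, cls h.mem,
    isLocBasis_of_locData h⟩

theorem symToGr_injective_of_isLocallyQuasiRegular (hq : IsLocallyQuasiRegular R J)
    (ι : Type u) [Fintype ι] [Nonempty ι] : Function.Injective (symToGr J ι) := by
  classical
  rw [injective_iff_map_eq_zero]
  intro x hx
  by_contra hne
  let Ann : Ideal R := LinearMap.ker (LinearMap.toSpanSingleton R (Sym[R] ι J.Cotangent) x)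
  have hAnn : ∀ s, s ∈ Ann ↔ s • x = 0 := by
    intro s
    simp [Ann, LinearMap.mem_ker, LinearMap.toSpanSingleton_apply]
  have hAnn_ne : Ann ≠ ⊤ := by
    intro htop
    have : (1 : R) ∈ Ann := htop ▸ Submodule.mem_top
    rw [hAnn, one_smul] at this
    exact hne this
  obtain ⟨𝔪, h𝔪, hle⟩ := Ideal.exists_le_maximal _ hAnn_ne
  haveI := h𝔪.isPrime
  by_cases hJ : J ≤ 𝔪
  · obtain ⟨g, hg, r, a, h⟩ := exists_locData hq 𝔪 hJ
    obtain ⟨N, Q, hQ, e⟩ := exists_monoMap_eq ι h x
    have h1 : symToGr J ι (monoMap ι (cls h.mem) Q) = 0 := by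
      rw [← e, map_smul, hx, smul_zero]
    have h2 := grToQuot_symToGr_monoMap ι h.mem Q hQ
    rw [h1, map_zero] at h2
    have h3 : MvPolynomial.eval a Q ∈ J ^ (Fintype.card ι + 1) :=
      Ideal.Quotient.eq_zero_iff_mem.mp h2.symm
    choose k hk using h.qr _ Q hQ h3
    let K := ∑ d ∈ Q.support, k d
    have hK : ∀ d, g ^ K * coeff d Q ∈ J := by
      intro d
      by_cases hd : d ∈ Q.support
      · have hle : k d ≤ K := Finset.single_le_sum (f := k) (fun _ _ => Nat.zero_le _) hd
        have : g ^ K = g ^ (K - k d) * g ^ k d := by rw [← pow_add]; congr 1; omega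
        rw [this, mul_assoc]
        exact J.mul_mem_left _ (hk d)
      · rw [MvPolynomial.notMem_support_iff.mp hd, mul_zero]
        exact zero_mem _
    have h4 : monoMap ι (cls h.mem) (C (g ^ K) * Q) = 0 := by
      apply monoMap_eq_zero_of_coeff_mem ι (cls h.mem) _
      · simpa using (MvPolynomial.isHomogeneous_C (Fin r) (g ^ K)).mul hQ
      · intro d
        rw [MvPolynomial.coeff_C_mul]
        exact hK d
    rw [← MvPolynomial.smul_eq_C_mul, map_smul, ← e, smul_smul, ← pow_add] at h4
    have h5 : g ^ (K + N) ∈ 𝔪 := hle ((hAnn _).mpr h4)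
    exact hg (Ideal.IsPrime.mem_of_pow_mem inferInstance _ h5)
  · obtain ⟨j, hjJ, hj𝔪⟩ := SetLike.not_le_iff_exists.mp hJ
    exact hj𝔪 (hle ((hAnn j).mpr (smul_sym_eq_zero J ι hjJ x)))

theorem symGrBijective_of_isLocallyQuasiRegular (hq : IsLocallyQuasiRegular R J) :
    SymGrBijective R J := by
  intro ι _ _
  exact ⟨symToGr J ι, fun x => symToGr_tprod J ι x,
    symToGr_injective_of_isLocallyQuasiRegular hq ι, symToGr_surjective J ι⟩

end forward

section backward

variable {J}

lemma symToGr_injective_of_symGrBijective (hsym : SymGrBijective R J) (ι : Type u) [Fintype ι]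
    [Nonempty ι] : Function.Injective (symToGr J ι) := by
  obtain ⟨φ, hφ, hbij⟩ := hsym ι
  have : φ = symToGr J ι := by
    apply SymPow.hom_ext
    intro v
    choose x hx using fun i => Ideal.toCotangent_surjective J (v i)
    have hv : v = fun i => J.toCotangent (x i) := funext fun i => (hx i).symm
    rw [hv, hφ, symToGr_tprod]
  rw [← this]; exact hbij.1

lemma aeval_X_eq_map {σ : Type*} {S : Type*} [CommRing S] [Algebra R S] (Q : MvPolynomial σ R) :
    MvPolynomial.aeval (fun k => (X k : MvPolynomial σ S)) Q =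
      MvPolynomial.map (algebraMap R S) Q := by
  induction Q using MvPolynomial.induction_on with
  | C a => simp [MvPolynomial.algebraMap_apply]
  | add p q hp hq => simp [hp, hq]
  | mul_X p i hp => simp [hp]

/-- Nakayama-type step -/
lemma exists_smul_le_span (hfg : J.FG) (P : Ideal R) [P.IsPrime] (hJP : J ≤ P) {g₁ : R}
    (hg₁ : g₁ ∉ P) {r : ℕ} (a' : Fin r → ↥J)
    (hgen : ∀ x : ↥J, ∃ (k : ℕ) (c : Fin r → R),
      J.toCotangent (g₁ ^ k • x) = J.toCotangent (∑ i, c i • a' i)) :
    ∃ u : R, u ∉ P ∧ ∀ y ∈ J, u * y ∈ Ideal.span (Set.range (fun i => (a' i : R))) := by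
  classical
  haveI : Module.Finite R ↥J := Module.Finite.iff_fg.mpr hfg
  let N' : Submodule R ↥J := Submodule.span R (Set.range a')
  let W : Submodule R ↥J := N' ⊔ J • (⊤ : Submodule R ↥J)
  -- step 1
  have h1 : ∀ x : ↥J, ∃ k : ℕ, g₁ ^ k • x ∈ W := by
    intro x
    obtain ⟨k, c, hc⟩ := hgen x
    refine ⟨k, ?_⟩
    have hz : g₁ ^ k • x - ∑ i, c i • a' i ∈ J • (⊤ : Submodule R ↥J) := by
      have : g₁ ^ k • x - ∑ i, c i • a' i ∈ LinearMap.ker J.toCotangent := by
        rw [LinearMap.mem_ker, map_sub, hc, sub_self]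
      change _ ∈ LinearMap.ker (Submodule.mkQ _) at this
      rwa [Submodule.ker_mkQ] at this
    have hn : ∑ i, c i • a' i ∈ N' :=
      Submodule.sum_mem _ (fun i _ => Submodule.smul_mem _ _ (Submodule.subset_span ⟨i, rfl⟩))
    have : g₁ ^ k • x = ∑ i, c i • a' i + (g₁ ^ k • x - ∑ i, c i • a' i) := by abel
    rw [this]
    exact Submodule.add_mem_sup hn hz
  -- step 2: uniform exponent
  obtain ⟨s, hs⟩ := (Module.Finite.fg_top : (⊤ : Submodule R ↥J).FG)
  choose k hk using h1
  let K := ∑ y ∈ s, k y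
  have h2 : ∀ x : ↥J, g₁ ^ K • x ∈ W := by
    have hle : (⊤ : Submodule R ↥J) ≤ W.comap (LinearMap.lsmul R ↥J (g₁ ^ K)) := by
      rw [← hs, Submodule.span_le]
      intro y hy
      have hle : k y ≤ K := Finset.single_le_sum (f := k) (fun _ _ => Nat.zero_le _) hy
      have : g₁ ^ K = g₁ ^ (K - k y) * g₁ ^ k y := by rw [← pow_add]; congr 1; omega
      change g₁ ^ K • y ∈ W
      rw [this, mul_smul]
      exact Submodule.smul_mem _ _ (hk y)
    intro x
    exact hle (Submodule.mem_top : x ∈ ⊤)
  -- step 3: Cayley-Hamilton on the quotient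
  let f : Module.End R (↥J ⧸ N') := algebraMap R (Module.End R (↥J ⧸ N')) (g₁ ^ K)
  have hrange : LinearMap.range f ≤ J • (⊤ : Submodule R (↥J ⧸ N')) := by
    rintro _ ⟨q, rfl⟩
    obtain ⟨x, rfl⟩ := Submodule.mkQ_surjective N' q
    have hW : Submodule.map N'.mkQ W ≤ J • (⊤ : Submodule R (↥J ⧸ N')) := by
      rw [Submodule.map_sup, Submodule.mkQ_map_self, bot_sup_eq, Submodule.map_smul'']
      exact Submodule.smul_mono le_rfl le_top
    apply hW
    refine ⟨g₁ ^ K • x, h2 x, ?_⟩
    rfl
  obtain ⟨p, hmonic, -, hcoeff, haeval⟩ :=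
    LinearMap.exists_monic_and_natDegree_eq_and_coeff_mem_pow_and_aeval_eq_zero R f J hrange
  simp only [f] at haeval
  rw [Polynomial.aeval_algebraMap_apply_eq_algebraMap_eval] at haeval
  refine ⟨p.eval (g₁ ^ K), ?_, ?_⟩
  · -- not in P
    intro hu
    rw [Polynomial.eval_eq_sum_range, Finset.sum_range_succ, hmonic.coeff_natDegree, one_mul] at hu
    have hsum : ∑ i ∈ Finset.range p.natDegree, p.coeff i * (g₁ ^ K) ^ i ∈ P := by
      apply Ideal.sum_mem
      intro i hi
      rw [Finset.mem_range] at hi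
      apply Ideal.mul_mem_right
      apply hJP
      exact Ideal.pow_le_self (by omega) (hcoeff i)
    have h3 := (Ideal.add_mem_iff_right _ hsum).mp hu
    have h4 := Ideal.IsPrime.mem_of_pow_mem inferInstance _ h3
    exact hg₁ (Ideal.IsPrime.mem_of_pow_mem inferInstance _ h4)
  · intro y hy
    have h5 : (algebraMap R (Module.End R (↥J ⧸ N')) (p.eval (g₁ ^ K))) (N'.mkQ ⟨y, hy⟩) = 0 := by
      rw [haeval]; rfl
    rw [Module.algebraMap_end_apply, ← map_smul, Submodule.mkQ_apply,
      Submodule.Quotient.mk_eq_zero] at h5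
    have h6 : J.subtype (p.eval (g₁ ^ K) • (⟨y, hy⟩ : ↥J)) ∈ Submodule.map J.subtype N' :=
      Submodule.mem_map_of_mem h5
    rw [Submodule.map_span, ← Set.range_comp] at h6
    exact h6

theorem isLocallyQuasiRegular_of (hfg : J.FG) (hproj : Module.Projective (R ⧸ J) J.Cotangent)
    (hsym : SymGrBijective R J) : IsLocallyQuasiRegular R J := by
  classical
  intro P hP hJP
  haveI : Module.Finite R ↥J := Module.Finite.iff_fg.mpr hfg
  haveI : Module.Finite R J.Cotangent :=
    Module.Finite.of_surjective J.toCotangent (Ideal.toCotangent_surjective J)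
  haveI : Module.Finite (R ⧸ J) J.Cotangent :=
    Module.Finite.of_restrictScalars_finite R (R ⧸ J) J.Cotangent
  let 𝔭 : Ideal (R ⧸ J) := P.map (Ideal.Quotient.mk J)
  haveI : 𝔭.IsPrime :=
    Ideal.map_isPrime_of_surjective Ideal.Quotient.mk_surjective (by rwa [Ideal.mk_ker])
  obtain ⟨gbar, hgbar, r, m, hm, coord, hcoord⟩ :=
    exists_isLocBasis_of_projective (C := R ⧸ J) (M := J.Cotangent) 𝔭
  obtain ⟨g₁, rfl⟩ := Ideal.Quotient.mk_surjective gbar
  have hg₁ : g₁ ∉ P := fun h => hgbar (Ideal.mem_map_of_mem _ h)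
  choose a' ha' using fun i => Ideal.toCotangent_surjective J (m i)
  obtain ⟨u, hu, hspan⟩ := exists_smul_le_span hfg P hJP hg₁ a' (by
    intro x
    obtain ⟨k, c, hc⟩ := hm.1 (J.toCotangent x)
    choose c' hc' using fun i => Ideal.Quotient.mk_surjective (c i)
    refine ⟨k, c', ?_⟩
    rw [map_smul, map_sum]
    simp_rw [map_smul, ha', ← mk_smul_cot, hc', map_pow]
    exact hc)
  let a : Fin r → R := fun i => (a' i : R)
  have ha : ∀ i, a i ∈ J := fun i => (a' i).2
  have hcls : cls ha = m := by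
    funext i
    exact ha' i
  have hg : g₁ * u ∉ P := fun h => (Ideal.IsPrime.mem_or_mem inferInstance h).elim hg₁ hu
  have hloc : LocData J (g₁ * u) a := by
    refine ⟨ha, ?_, ?_⟩
    · intro y hy
      obtain ⟨c, hc⟩ := (Ideal.mem_span_range_iff_exists_fun).mp (hspan y hy)
      refine ⟨1, fun i => g₁ * c i, ?_⟩
      rw [pow_one, mul_assoc, ← hc, Finset.mul_sum]
      apply Finset.sum_congr rfl
      intro i _; ring
    · intro n Q hQ hev d
      rcases Nat.eq_zero_or_pos n with rfl | hn
      · refine ⟨0, ?_⟩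
        have hQC : Q = C (coeff 0 Q) := by
          rw [← MvPolynomial.homogeneousComponent_zero, MvPolynomial.homogeneousComponent_eq_self hQ]
        rw [hQC, MvPolynomial.eval_C, zero_add, pow_one] at hev
        rw [pow_zero, one_mul, hQC, MvPolynomial.coeff_C]
        split_ifs
        · exact hev
        · exact zero_mem _
      · let ι : Type u := ULift.{u} (Fin n)
        haveI : Nonempty ι := ⟨⟨⟨0, hn⟩⟩⟩
        have hcard : Fintype.card ι = n := by simp [ι]
        have hQ' : Q.IsHomogeneous (Fintype.card ι) := by rwa [hcard]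
        have hev' : MvPolynomial.eval a Q ∈ J ^ (Fintype.card ι + 1) := by rwa [hcard]
        have h1 := grToQuot_symToGr_monoMap ι ha Q hQ'
        rw [Ideal.Quotient.eq_zero_iff_mem.mpr hev', ← map_zero (grToQuot J (Fintype.card ι))] at h1
        have h2 := grToQuot_injective J _ h1
        rw [← map_zero (symToGr J ι)] at h2
        have h3 := symToGr_injective_of_symGrBijective hsym ι h2
        rw [hcls] at h3
        -- evaluate
        let Loc := Localization.Away (Ideal.Quotient.mk J g₁)
        let A := MvPolynomial (Fin r) Loc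
        let ℓ : J.Cotangent →ₗ[R] A :=
          ((Fintype.linearCombination Loc (fun i => (X i : A))).restrictScalars R) ∘ₗ
            (coord.restrictScalars R)
        have hℓ : ∀ k, ℓ (m k) = X k := by
          intro k
          simp only [ℓ, LinearMap.comp_apply, LinearMap.restrictScalars_apply, hcoord,
            Fintype.linearCombination_apply]
          simp [Pi.single_apply]
        have h4 := evalProd_monoMap (ι := ι) ℓ m Q hQ'
        rw [h3, map_zero] at h4
        simp_rw [hℓ] at h4
        rw [aeval_X_eq_map] at h4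
        have h5 : algebraMap R Loc (coeff d Q) = 0 := by
          rw [← MvPolynomial.coeff_map, ← h4, MvPolynomial.coeff_zero]
        rw [IsScalarTower.algebraMap_apply R (R ⧸ J) Loc,
          IsLocalization.map_eq_zero_iff (Submonoid.powers (Ideal.Quotient.mk J g₁))] at h5
        obtain ⟨⟨_, k, rfl⟩, hk⟩ := h5
        refine ⟨k, ?_⟩
        simp only [Ideal.Quotient.algebraMap_eq] at hk
        rw [← map_pow, ← map_mul, Ideal.Quotient.eq_zero_iff_mem] at hk
        rw [mul_pow, mul_comm (g₁ ^ k), mul_assoc]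
        exact J.mul_mem_left _ hk
  obtain ⟨hqr, hsp⟩ := qr_of_locData J (g₁ * u) a hloc
  exact ⟨g₁ * u, hg, r, _, hqr, hsp⟩

end backward

/-- **EGA 0_IV 15.1.9 / 16.9.3-type criterion**: an ideal is locally quasi-regular iff it is
finitely generated, its conormal module is projective and `Sym(J/J²) → gr_J` is bijective. -/
theorem isLocallyQuasiRegular_iff (J : Ideal R) :
    IsLocallyQuasiRegular R J ↔
      J.FG ∧ Module.Projective (R ⧸ J) J.Cotangent ∧ SymGrBijective R J :=
  ⟨fun hq => ⟨fg_of_isLocallyQuasiRegular hq, projective_of_isLocallyQuasiRegular hq,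
    symGrBijective_of_isLocallyQuasiRegular hq⟩,
   fun ⟨h1, h2, h3⟩ => isLocallyQuasiRegular_of h1 h2 h3⟩

end Groth.Agent.Lib.helper10.QRSym
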