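import Mathlib
import Groth.Prelude.Def_PP16
import Groth.Agent.Lib.helper10.QRSym
import Groth.Agent.Lib.helper10.PolyLin

/-!
# Symmetric powers of `J/J²` and polynomials with coefficients in `B/J`
-/

set_option autoImplicit false
set_option linter.unusedVariables false
set_option linter.style.haveILetI false
set_option linter.unusedSectionVars false

namespace Groth.Agent.Lib.helper10.AdicSym

open TensorProduct SymmetricPower MvPolynomial PP16
open Groth.Agent.Lib.helper10.SymPow Groth.Agent.Lib.helper10.SymPowGr
open Groth.Agent.Lib.helper10.QRSym Groth.Agent.Lib.helper10.PolyLin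

universe u w

section general

variable {R : Type u} [CommRing R] (J : Ideal R) (ι : Type u) [Fintype ι] {κ : Type w}

/-- general index version of `grToQuot_symToGr_monoMap` -/
lemma grToQuot_symToGr_monoMap' (a : κ → ↥J) (Q : MvPolynomial κ R)
    (hQ : Q.IsHomogeneous (Fintype.card ι)) :
    grToQuot J (Fintype.card ι) (symToGr J ι (monoMap ι (fun k => J.toCotangent (a k)) Q)) =
      Ideal.Quotient.mk (J ^ (Fintype.card ι + 1)) (MvPolynomial.aeval (fun k => (a k : R)) Q) := by
  classical
  let L1 : MvPolynomial κ R →ₗ[R] R ⧸ J ^ (Fintype.card ι + 1) :=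
    grToQuot J _ ∘ₗ symToGr J ι ∘ₗ monoMap ι (fun k => J.toCotangent (a k))
  let L2 : MvPolynomial κ R →ₗ[R] R ⧸ J ^ (Fintype.card ι + 1) :=
    (Ideal.Quotient.mkₐ R (J ^ (Fintype.card ι + 1))).toLinearMap ∘ₗ
      (MvPolynomial.aeval (fun k => (a k : R))).toLinearMap
  have key : L1 Q = L2 Q := by
    rw [Q.as_sum, map_sum, map_sum]
    apply Finset.sum_congr rfl
    intro d hd
    have hdeg : d.degree = Fintype.card ι := by
      have := hQ (MvPolynomial.mem_support_iff.mp hd)
      rw [Finsupp.degree_eq_weight_one]; exact this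
    have h1 : (monomial d (coeff d Q) : MvPolynomial κ R) = coeff d Q • monomial d 1 := by
      rw [MvPolynomial.smul_monomial]; simp
    rw [h1, map_smul, map_smul]
    congr 1
    simp only [L1, L2, LinearMap.comp_apply]
    have h2 : monoMap ι (fun k => J.toCotangent (a k)) (monomial d (1 : R)) =
        SymmetricPower.tprod R (fun i => J.toCotangent (a (chooseMap ι d hdeg i))) := by
      conv_lhs => rw [← typ_chooseMap d hdeg]
      rw [monoMap_monomial_typ]
    rw [h2, symToGr_tprod, zetaJ, grToQuot_mk]
    have h3 : (monomial d (1 : R) : MvPolynomial κ R) =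
        ∏ i, (X (chooseMap ι d hdeg i) : MvPolynomial κ R) := by
      rw [prod_X_eq, typ_chooseMap]
    rw [h3]
    simp [map_prod]
  exact key

/-- general index version of `monoMap_eq_zero_of_coeff_mem` -/
lemma monoMap_eq_zero_of_coeff_mem' [Nonempty ι] (m : κ → J.Cotangent)
    (Q : MvPolynomial κ R) (hQ : Q.IsHomogeneous (Fintype.card ι))
    (hc : ∀ d, coeff d Q ∈ J) : monoMap ι m Q = 0 := by
  classical
  rw [Q.as_sum, map_sum]
  apply Finset.sum_eq_zero
  intro d hd
  have hdeg : d.degree = Fintype.card ι := by
    have := hQ (MvPolynomial.mem_support_iff.mp hd)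
    rw [Finsupp.degree_eq_weight_one]; exact this
  rw [monoMap_monomial m d hdeg, smul_sym_eq_zero J ι (hc d)]

end general

section ell

variable {B : Type u} [CommRing B] (J : Ideal B) (ι : Type u) [Fintype ι]
  (inn : J.Cotangent →ₗ[B ⧸ J] (J.Cotangent →₀ (B ⧸ J)))

/-- the linear forms attached to a splitting -/
noncomputable def ellC : J.Cotangent →ₗ[B ⧸ J] MvPolynomial J.Cotangent (B ⧸ J) :=
  linX (B ⧸ J) J.Cotangent ∘ₗ inn

/-- the same, as a `B`-linear map -/
noncomputable def ellB : J.Cotangent →ₗ[B] MvPolynomial J.Cotangent (B ⧸ J) :=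
  (ellC J inn).restrictScalars B

lemma ellB_apply (p : J.Cotangent) : ellB J inn p = linX (B ⧸ J) J.Cotangent (inn p) := rfl

lemma ellB_mem (p : J.Cotangent) : ellB J inn p ∈ idealOfVars J.Cotangent (B ⧸ J) :=
  linX_mem _

lemma ellB_isHomogeneous (p : J.Cotangent) : (ellB J inn p).IsHomogeneous 1 :=
  linX_isHomogeneous _

lemma evalProd_ellB_isHomogeneous (x : Sym[B] ι J.Cotangent) :
    (evalProd (ellB J inn) x).IsHomogeneous (Fintype.card ι) := by
  induction x using SymPow.induction_on with
  | zero => rw [map_zero]; exact isHomogeneous_zero _ _ _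
  | smul_tprod r v =>
    rw [map_smul, evalProd_tprod, Algebra.smul_def, MvPolynomial.algebraMap_apply]
    apply IsHomogeneous.C_mul
    have := IsHomogeneous.prod (Finset.univ : Finset ι) (fun i => ellB J inn (v i)) (fun _ => 1)
      (fun i _ => ellB_isHomogeneous J inn (v i))
    simpa using this
  | add x y hx hy => rw [map_add]; exact hx.add hy

/-- reduction of coefficients of linear forms -/
lemma map_linX (f : J.Cotangent →₀ B) :
    MvPolynomial.map (Ideal.Quotient.mk J) (linX B J.Cotangent f) =
      linX (B ⧸ J) J.Cotangent (Finsupp.mapRange.linearMap (Algebra.linearMap B (B ⧸ J)) f) := by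
  classical
  induction f using Finsupp.induction_linear with
  | zero => simp
  | add f g hf hg => simp only [map_add, hf, hg]
  | single k b =>
    rw [linX_single, map_mul, map_C, map_X]
    simp

variable (hinn : Finsupp.linearCombination (B ⧸ J) (id : J.Cotangent → J.Cotangent) ∘ₗ inn =
  LinearMap.id)

include hinn in
theorem evalProd_ellB_injective [Nonempty ι] :
    Function.Injective (evalProd (ellB J inn) :
      Sym[B] ι J.Cotangent →ₗ[B] MvPolynomial J.Cotangent (B ⧸ J)) := by
  classical
  rw [injective_iff_map_eq_zero]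
  intro x hx
  let innB : J.Cotangent →ₗ[B] (J.Cotangent →₀ B ⧸ J) := inn.restrictScalars B
  let outC : (J.Cotangent →₀ B ⧸ J) →ₗ[B] J.Cotangent :=
    (Finsupp.linearCombination (B ⧸ J) (id : J.Cotangent → J.Cotangent)).restrictScalars B
  let red : (J.Cotangent →₀ B) →ₗ[B] (J.Cotangent →₀ B ⧸ J) :=
    Finsupp.mapRange.linearMap (Algebra.linearMap B (B ⧸ J))
  let outB : (J.Cotangent →₀ B) →ₗ[B] J.Cotangent :=
    Finsupp.linearCombination B (id : J.Cotangent → J.Cotangent)
  let linXB : (J.Cotangent →₀ B ⧸ J) →ₗ[B] MvPolynomial J.Cotangent (B ⧸ J) :=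
    (linX (B ⧸ J) J.Cotangent).restrictScalars B
  have hout : outC ∘ₗ red = outB := by
    ext p
    simp [outC, red, outB]
  have hred : Function.Surjective red := by
    intro f
    obtain ⟨g, hg⟩ := Finsupp.mapRange_surjective (Ideal.Quotient.mk J) (map_zero _)
      Ideal.Quotient.mk_surjective f
    exact ⟨g, by rw [← hg]; rfl⟩
  have hoi : outC ∘ₗ innB = LinearMap.id := by
    ext p
    exact LinearMap.congr_fun hinn p
  obtain ⟨y, hy⟩ := SymPow.map_surjective (ι := ι) red hred (SymPow.map innB x)
  have key : ∀ z : Sym[B] ι (J.Cotangent →₀ B),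
      MvPolynomial.map (Ideal.Quotient.mk J) (toPoly B ι J.Cotangent z) =
        evalProd linXB (SymPow.map red z) := by
    intro z
    induction z using SymPow.induction_on with
    | zero => simp
    | smul_tprod r v =>
      have e1 : toPoly B ι J.Cotangent (r • SymmetricPower.tprod B v) =
          C r * ∏ i, linX B J.Cotangent (v i) := by
        rw [map_smul, toPoly_tprod, MvPolynomial.smul_eq_C_mul]
      have e2 : evalProd linXB (SymPow.map red (r • SymmetricPower.tprod B v)) =
          C (Ideal.Quotient.mk J r) * ∏ i, linX (B ⧸ J) J.Cotangent (red (v i)) := by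
        rw [map_smul, map_smul, SymPow.map_tprod, evalProd_tprod, Algebra.smul_def,
          MvPolynomial.algebraMap_apply]
        rfl
      rw [e1, e2, map_mul, map_C, map_prod]
      congr 1
      exact Finset.prod_congr rfl (fun i _ => map_linX J (v i))
    | add a b ha hb => simp only [map_add, ha, hb]
  have h1 : evalProd linXB (SymPow.map red y) = 0 := by
    rw [hy]
    have := LinearMap.congr_fun (evalProd_map (ι := ι) innB linXB) x
    rw [LinearMap.comp_apply] at this
    rw [this]
    exact hx
  have hcoeff : ∀ d, coeff d (toPoly B ι J.Cotangent y) ∈ J := by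
    intro d
    have := congrArg (coeff d) ((key y).trans h1)
    rw [coeff_map, coeff_zero] at this
    exact Ideal.Quotient.eq_zero_iff_mem.mp this
  have h2 : x = SymPow.map outB y := by
    have e1 : SymPow.map outC (SymPow.map innB x) = x := by
      have := LinearMap.congr_fun (SymPow.map_comp (ι := ι) innB outC) x
      rw [LinearMap.comp_apply] at this
      rw [← this, hoi, SymPow.map_id]
      rfl
    rw [← e1, ← hy]
    have := LinearMap.congr_fun (SymPow.map_comp (ι := ι) red outC) y
    rw [LinearMap.comp_apply] at this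
    rw [← this, hout]
  have h3 : SymPow.map outB y = monoMap ι (id : J.Cotangent → J.Cotangent)
      (toPoly B ι J.Cotangent y) := by
    rw [monoMap, LinearMap.comp_apply, ofPoly_toPoly]
  rw [h2, h3]
  exact monoMap_eq_zero_of_coeff_mem' J ι _ _ (toPoly_isHomogeneous y) hcoeff

end ell

end Groth.Agent.Lib.helper10.AdicSym
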