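import Mathlib
import Groth.Prelude.Def_PP16
import Groth.Prelude.Def_CAlgX
import Groth.Agent.Lib.helper10.AdicLift
import Groth.Agent.Lib.helper10.AdicSym
import Groth.Agent.Lib.helper10.AdicRho

/-!
# `J/J²` projective and `Sym(J/J²) ≃ gr_J(B)` ⇒ adic formal smoothness
(when `B/J` is formally smooth)
-/

set_option autoImplicit false
set_option linter.unusedVariables false
set_option linter.style.haveILetI false
set_option linter.unusedSectionVars false

namespace Groth.Agent.Lib.helper10.AdicBwd

open TensorProduct SymmetricPower MvPolynomial PP16 CAlgX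
open Groth.Agent.Lib.helper10.SymPow Groth.Agent.Lib.helper10.SymPowGr
open Groth.Agent.Lib.helper10.QRSym Groth.Agent.Lib.helper10.PolyLin
open Groth.Agent.Lib.helper10.AdicLift Groth.Agent.Lib.helper10.AdicSym
open Groth.Agent.Lib.helper10.AdicRho

universe u

section generalpoly

variable {κ : Type*} {R S : Type*} [CommRing R] [CommRing S]

lemma map_homogeneousComponent (f : R →+* S) (d : ℕ) (q : MvPolynomial κ R) :
    MvPolynomial.map f (homogeneousComponent d q) = homogeneousComponent d (MvPolynomial.map f q) := by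
  classical
  ext m
  rw [coeff_map, coeff_homogeneousComponent, coeff_homogeneousComponent, coeff_map]
  split_ifs <;> simp

lemma exists_homogeneous_lift (f : R →+* S) (hf : Function.Surjective f) (d : ℕ)
    (u : MvPolynomial κ S) (hu : u.IsHomogeneous d) :
    ∃ q : MvPolynomial κ R, q.IsHomogeneous d ∧ MvPolynomial.map f q = u := by
  obtain ⟨q₀, hq₀⟩ := MvPolynomial.map_surjective f hf u
  refine ⟨homogeneousComponent d q₀, homogeneousComponent_isHomogeneous d q₀, ?_⟩
  rw [map_homogeneousComponent, hq₀, homogeneousComponent_eq_self hu]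

lemma eq_C_of_isHomogeneous_zero (u : MvPolynomial κ R) (hu : u.IsHomogeneous 0) :
    u = C (coeff 0 u) := by
  rw [← homogeneousComponent_zero, homogeneousComponent_eq_self hu]

end generalpoly

variable {A B : Type u} [CommRing A] [CommRing B] [Algebra A B] (J : Ideal B) (N : ℕ)
  [Algebra.FormallySmooth A (B ⧸ J)]
  (inn : J.Cotangent →ₗ[B ⧸ J] (J.Cotangent →₀ (B ⧸ J)))
  (hinn : Finsupp.linearCombination (B ⧸ J) (id : J.Cotangent → J.Cotangent) ∘ₗ inn = LinearMap.id)

local notation "𝔛" => idealOfVars J.Cotangent (B ⧸ J)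
local notation "TT" => MvPolynomial J.Cotangent (B ⧸ J)

/-- the endomorphism `X_p ↦ ℓ(p)` of the polynomial ring -/
noncomputable def piT : TT →ₐ[B ⧸ J] TT := MvPolynomial.aeval (fun p => ellC J inn p)

@[simp] lemma piT_C (c : B ⧸ J) : piT J inn (C c) = C c := by
  rw [piT, MvPolynomial.aeval_C]; rfl

@[simp] lemma piT_X (p : J.Cotangent) : piT J inn (X p) = ellB J inn p := by
  rw [piT, MvPolynomial.aeval_X]; rfl

lemma piT_isHomogeneous (d : ℕ) (u : TT) (hu : u.IsHomogeneous d) :
    (piT J inn u).IsHomogeneous d := by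
  have := IsHomogeneous.aeval (S := B ⧸ J) hu (fun p => ellC J inn p) (n := 1)
    (fun p => ellB_isHomogeneous J inn p)
  rwa [one_mul] at this

/-- `B`-algebra evaluation at the linear forms equals `piT` after reducing coefficients -/
lemma aeval_ellB_eq (q : MvPolynomial J.Cotangent B) :
    MvPolynomial.aeval (fun p => ellB J inn p) q =
      piT J inn (MvPolynomial.map (Ideal.Quotient.mk J) q) := by
  induction q using MvPolynomial.induction_on with
  | C b =>
    rw [MvPolynomial.aeval_C, map_C, piT_C, MvPolynomial.algebraMap_apply]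
    rfl
  | add p q hp hq => rw [map_add, map_add, map_add, hp, hq]
  | mul_X p i hp => rw [map_mul, map_mul, map_mul, hp, MvPolynomial.aeval_X, map_X, piT_X]

variable (A) in
/-- `piT` as an `A`-algebra map -/
noncomputable def piTA : TT →ₐ[A] TT := (piT J inn).restrictScalars A

lemma piTA_apply (t : TT) : piTA A J inn t = piT J inn t := rfl

include hinn in
lemma rho_ellB_sub_mk_mem (p : J.Cotangent) :
    rho A J N (ellB J inn p) - Ideal.Quotient.mk (J ^ (N + 1)) ((gl J p : ↥J) : B) ∈ jj J N ^ 2 := by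
  apply rho_linX_sub_mk_mem (A := A) J N (inn p) (gl J p)
  rw [toCotangent_gl]
  exact (LinearMap.congr_fun hinn p).symm

include hinn in
theorem rho_piT_surjective : Function.Surjective (fun t => rho A J N (piT J inn t)) := by
  have := surjective_of_rho (A := A) J N
    ((piT J inn : TT →ₐ[B ⧸ J] TT) : TT →+* TT)
    (fun c => ⟨C c, piT_C J inn c⟩)
    (fun p => ⟨X p, by
      rw [RingHom.coe_coe, piT_X]
      exact ⟨ellB_mem J inn p, rho_ellB_sub_mk_mem J N inn hinn p⟩⟩)
  exact this

variable (hsym : SymGrBijective B J)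

include hinn hsym in
/-- the key step: the lowest homogeneous component must vanish -/
lemma claim_step (d : ℕ) (hd : d ≤ N) (u : TT) (hu : u.IsHomogeneous d)
    (hρ : rho A J N (piT J inn u) ∈ jj J N ^ (d + 1)) : piT J inn u = 0 := by
  classical
  rcases Nat.eq_zero_or_pos d with h0 | hpos
  · subst h0
    rw [eq_C_of_isHomogeneous_zero u hu] at hρ ⊢
    rw [piT_C] at hρ ⊢
    rw [rho_C, zero_add, pow_one, mem_jj_iff (A := A), piC_sig] at hρ
    rw [hρ, C_0]
  · let ι := ULift.{u} (Fin d)
    haveI : Nonempty ι := ⟨⟨⟨0, hpos⟩⟩⟩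
    have hcard : Fintype.card ι = d := by
      rw [Fintype.card_ulift, Fintype.card_fin]
    obtain ⟨q, hq, hqu⟩ := exists_homogeneous_lift (Ideal.Quotient.mk J) Ideal.Quotient.mk_surjective
      d u hu
    have hq' : q.IsHomogeneous (Fintype.card ι) := by rw [hcard]; exact hq
    set x : Sym[B] ι J.Cotangent := monoMap ι (id : J.Cotangent → J.Cotangent) q with hx
    have ha : evalProd (ellB J inn) x = piT J inn u := by
      rw [hx, evalProd_monoMap (ι := ι) (ellB J inn) (id : J.Cotangent → J.Cotangent) q hq']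
      have := aeval_ellB_eq J inn q
      rw [hqu] at this
      exact this
    have hid : (fun p : J.Cotangent => J.toCotangent (gl J p)) = id := funext (toCotangent_gl J)
    have hb := grToQuot_symToGr_monoMap' J ι (gl J) q hq'
    rw [hid] at hb
    -- the congruence
    let φ₁ : MvPolynomial J.Cotangent B →+* (B ⧸ J ^ (N + 1)) :=
      (Ideal.Quotient.mk (J ^ (N + 1))).comp
        ((MvPolynomial.aeval (fun p => ((gl J p : ↥J) : B)) : MvPolynomial J.Cotangent B →ₐ[B] B) :
          MvPolynomial J.Cotangent B →+* B)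
    let φ₂ : MvPolynomial J.Cotangent B →+* (B ⧸ J ^ (N + 1)) :=
      ((rho A J N : TT →ₐ[A] (B ⧸ J ^ (N + 1))) : TT →+* (B ⧸ J ^ (N + 1))).comp
        ((MvPolynomial.aeval (fun p => ellB J inn p) : MvPolynomial J.Cotangent B →ₐ[B] TT) :
          MvPolynomial J.Cotangent B →+* TT)
    have hcong := cong_of_homogeneous φ₁ φ₂ (jj J N) ?_ ?_ ?_ d q hq
    · have h2 : φ₂ q = rho A J N (piT J inn u) := by
        simp only [φ₂, RingHom.coe_comp, RingHom.coe_coe, Function.comp_apply]
        rw [aeval_ellB_eq, hqu]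
      have h1 : φ₁ q ∈ jj J N ^ (d + 1) := by
        have : φ₁ q = (φ₁ q - φ₂ q) + φ₂ q := by ring
        rw [this]
        exact Ideal.add_mem _ hcong (h2 ▸ hρ)
      have h3 : MvPolynomial.aeval (fun p => ((gl J p : ↥J) : B)) q ∈ J ^ (d + 1) :=
        (mk_mem_jj_pow_iff J N (d + 1) (by omega) _).mp h1
      have h4 : grToQuot J (Fintype.card ι) (symToGr J ι x) = 0 := by
        rw [hb]
        apply Ideal.Quotient.eq_zero_iff_mem.mpr
        rw [hcard]
        exact h3
      rw [← map_zero (grToQuot J (Fintype.card ι))] at h4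
      have h5 := grToQuot_injective J _ h4
      rw [← map_zero (symToGr J ι)] at h5
      have h6 := symToGr_injective_of_symGrBijective hsym ι h5
      rw [← ha, h6, map_zero]
    · intro b
      simp only [φ₁, φ₂, RingHom.coe_comp, RingHom.coe_coe, Function.comp_apply,
        MvPolynomial.aeval_C]
      rw [MvPolynomial.algebraMap_apply, rho_C]
      have := sig_sub_mk_mem (A := A) J N b
      rw [← Ideal.neg_mem_iff] at this
      convert this using 1
      simp
    · intro p
      simp only [φ₂, RingHom.coe_comp, RingHom.coe_coe, Function.comp_apply, MvPolynomial.aeval_X]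
      exact rho_mem_jj J N _ (ellB_mem J inn p)
    · intro p
      simp only [φ₁, φ₂, RingHom.coe_comp, RingHom.coe_coe, Function.comp_apply,
        MvPolynomial.aeval_X]
      have := rho_ellB_sub_mk_mem (A := A) J N inn hinn p
      rw [← Ideal.neg_mem_iff] at this
      convert this using 1
      ring

include hinn hsym in
/-- the kernel of `rho ∘ piT` is contained in `piT⁻¹(𝔛^(N+1))` -/
theorem piT_mem_of_rho_eq_zero (t : TT) (ht : rho A J N (piT J inn t) = 0) :
    piT J inn t ∈ 𝔛 ^ (N + 1) := by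
  classical
  set M := t.totalDegree + 1 with hM
  have hsum : ∑ i ∈ Finset.range M, homogeneousComponent i t = t := sum_homogeneousComponent t
  have hhom : ∀ i, (piT J inn (homogeneousComponent i t)).IsHomogeneous i := fun i =>
    piT_isHomogeneous J inn i _ (homogeneousComponent_isHomogeneous i t)
  have hmem : ∀ i, rho A J N (piT J inn (homogeneousComponent i t)) ∈ jj J N ^ i := fun i =>
    rho_mem_jj_pow J N i _ (homogeneous_mem_pow i _ (hhom i))
  have hzero : ∀ i, i ≤ N → piT J inn (homogeneousComponent i t) = 0 := by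
    intro i
    induction i using Nat.strong_induction_on with
    | _ i ih =>
      intro hi
      by_cases hiM : i ∈ Finset.range M
      · apply claim_step (A := A) J N inn hinn hsym i hi _ (homogeneousComponent_isHomogeneous i t)
        have h1 : rho A J N (piT J inn t) =
            ∑ j ∈ Finset.range M, rho A J N (piT J inn (homogeneousComponent j t)) := by
          conv_lhs => rw [← hsum]
          rw [map_sum, map_sum]
        rw [ht, ← Finset.add_sum_erase _ _ hiM] at h1
        have h2 : rho A J N (piT J inn (homogeneousComponent i t)) =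
            - ∑ j ∈ (Finset.range M).erase i,
              rho A J N (piT J inn (homogeneousComponent j t)) := by
          rw [eq_neg_iff_add_eq_zero]
          exact h1.symm
        rw [h2, Ideal.neg_mem_iff]
        apply Ideal.sum_mem
        intro j hj
        rw [Finset.mem_erase] at hj
        rcases Nat.lt_or_gt_of_ne hj.1 with hlt | hgt
        · rw [ih j hlt (by omega), map_zero]
          exact zero_mem _
        · exact Ideal.pow_le_pow_right (by omega) (hmem j)
      · have : homogeneousComponent i t = 0 := by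
          apply homogeneousComponent_eq_zero
          rw [Finset.mem_range, hM] at hiM
          omega
        rw [this, map_zero]
  rw [← hsum, map_sum]
  apply Ideal.sum_mem
  intro i _
  by_cases hi : i ≤ N
  · rw [hzero i hi]
    exact zero_mem _
  · exact Ideal.pow_le_pow_right (by omega) (homogeneous_mem_pow i _ (hhom i))

include hinn hsym in
/-- **the converse direction** -/
theorem isAdicFormallySmooth_of : IsAdicFormallySmooth A B J := by
  intro E _ _ 𝔑 h𝔑 ψ ⟨k, hk⟩
  -- `N + 1 = 2 (k + 1)`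
  set K := k + 1 with hK
  set N := 2 * k + 1 with hN
  have hNK : N + 1 = K * 2 := by omega
  have hψK : ∀ x ∈ J ^ K, ψ x = 0 := fun x hx => hk x (Ideal.pow_le_pow_right (by omega) hx)
  let ψbar : (B ⧸ J ^ (N + 1)) →ₐ[A] (E ⧸ 𝔑) :=
    Ideal.Quotient.liftₐ (J ^ (N + 1)) ψ
      (fun x hx => hψK x (Ideal.pow_le_pow_right (by omega) hx))
  have hψbar : ∀ b : B, ψbar (Ideal.Quotient.mk _ b) = ψ b := fun b => rfl
  haveI : Algebra.FormallySmooth A TT := Algebra.FormallySmooth.comp A (B ⧸ J) TT
  let χT : TT →ₐ[A] E := Algebra.FormallySmooth.lift 𝔑 ⟨2, h𝔑⟩ (ψbar.comp (rho A J N))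
  have hχT : ∀ t : TT, Ideal.Quotient.mk 𝔑 (χT t) = ψbar (rho A J N t) := fun t =>
    Algebra.FormallySmooth.mk_lift 𝔑 ⟨2, h𝔑⟩ (ψbar.comp (rho A J N)) t
  -- `χT` kills `𝔛^(N+1)`
  have hψjj : ∀ r ∈ jj J N ^ K, ψbar r = 0 := by
    intro r hr
    obtain ⟨b, rfl⟩ := Ideal.Quotient.mk_surjective r
    rw [mk_mem_jj_pow_iff J N K (by omega)] at hr
    rw [hψbar]
    exact hψK b hr
  have hχ𝔑 : ∀ t ∈ 𝔛 ^ K, χT t ∈ 𝔑 := by
    intro t ht
    rw [← Ideal.Quotient.eq_zero_iff_mem, hχT]
    exact hψjj _ (rho_mem_jj_pow J N K t ht)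
  have hχ0 : ∀ t ∈ 𝔛 ^ (N + 1), χT t = 0 := by
    intro t ht
    rw [hNK, pow_mul] at ht
    have := mem_pow_of_map_le (𝔛 ^ K) ((χT : TT →ₐ[A] E) : TT →+* E) 𝔑 hχ𝔑 2 t ht
    rwa [h𝔑, Ideal.mem_bot] at this
  -- the two maps out of `TT`
  let ρπ : TT →ₐ[A] (B ⧸ J ^ (N + 1)) := (rho A J N).comp (piTA A J inn)
  let χπ : TT →ₐ[A] E := χT.comp (piTA A J inn)
  have hsurj : Function.Surjective ρπ := rho_piT_surjective (A := A) J N inn hinn
  have hker : ∀ t, ρπ t = 0 → χπ t = 0 := by
    intro t ht
    exact hχ0 _ (piT_mem_of_rho_eq_zero (A := A) J N inn hinn hsym t ht)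
  let e := Ideal.quotientKerAlgEquivOfSurjective hsurj
  let lft : (TT ⧸ RingHom.ker (ρπ : TT →+* (B ⧸ J ^ (N + 1)))) →ₐ[A] E :=
    Ideal.Quotient.liftₐ (RingHom.ker (ρπ : TT →+* (B ⧸ J ^ (N + 1)))) χπ
      (fun t ht => hker t ht)
  let χ : (B ⧸ J ^ (N + 1)) →ₐ[A] E := lft.comp e.symm.toAlgHom
  have hχ : ∀ t, χ (ρπ t) = χπ t := by
    intro t
    have h1 : e (Ideal.Quotient.mk _ t) = ρπ t := rfl
    have h2 : e.symm (ρπ t) = Ideal.Quotient.mk _ t := by
      rw [← h1, AlgEquiv.symm_apply_apply]
    change lft (e.symm (ρπ t)) = χπ t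
    rw [h2]
    rfl
  refine ⟨χ.comp (Ideal.Quotient.mkₐ A (J ^ (N + 1))), ?_⟩
  ext b
  obtain ⟨t, ht⟩ := hsurj (Ideal.Quotient.mk _ b)
  rw [AlgHom.comp_apply, AlgHom.comp_apply, Ideal.Quotient.mkₐ_eq_mk, Ideal.Quotient.mkₐ_eq_mk,
    ← ht, hχ t]
  change Ideal.Quotient.mk 𝔑 (χT (piT J inn t)) = ψ b
  rw [hχT]
  change ψbar (ρπ t) = ψ b
  rw [ht, hψbar]

end Groth.Agent.Lib.helper10.AdicBwd
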