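import Mathlib
import Groth.Prelude.Def_CAlgX
import Groth.Agent.Lib.helper10.AdicLift

/-!
# Lifting of derivations for adically formally smooth algebras
-/

set_option autoImplicit false
set_option linter.unusedVariables false
set_option linter.style.haveILetI false
set_option linter.unusedSectionVars false

namespace Groth.Agent.Lib.helper10.AdicDer

open CAlgX TrivSqZeroExt
open Groth.Agent.Lib.helper10.AdicLift

universe u

section algvia

/-- a type synonym of a ring `E`, carrying the algebra structure defined by a ring map `v` -/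
def AlgVia {A E : Type u} [CommRing A] [CommRing E] (v : A →+* E) : Type u := E

namespace AlgVia

variable {A E : Type u} [CommRing A] [CommRing E] (v : A →+* E)

noncomputable instance : CommRing (AlgVia v) := inferInstanceAs (CommRing E)

noncomputable instance : Algebra A (AlgVia v) := v.toAlgebra

/-- the identity ring isomorphism -/
noncomputable def out : AlgVia v ≃+* E := RingEquiv.refl E

lemma out_algebraMap (a : A) : out v (algebraMap A (AlgVia v) a) = v a := rfl

end AlgVia

end algvia

section tsze

variable {Λ B : Type u} [CommRing Λ] [CommRing B] [Algebra Λ B] {J : Ideal B}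
  {R : Type u} [CommRing R] [Algebra Λ R] [Algebra B R] [IsScalarTower Λ B R]

/-- the module structure over the opposite ring, for a commutative ring -/
@[reducible] def opModule {M : Type u} [AddCommGroup M] [Module R M] : Module Rᵐᵒᵖ M :=
  Module.compHom _ ((RingHom.id R).fromOpposite mul_comm)

attribute [local instance] opModule

local instance {M : Type u} [AddCommGroup M] [Module R M] : IsCentralScalar R M :=
  ⟨fun r m => rfl⟩

variable {M : Type u} [AddCommGroup M] [Module R M] [Module B M] [IsScalarTower B R M]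
  [Module Λ M] [IsScalarTower Λ R M] [IsScalarTower Λ B M]

/-- the algebra map `b ↦ (b̄, D b)` attached to a derivation -/
noncomputable def ofDer (D : Derivation Λ B M) : B →ₐ[Λ] TrivSqZeroExt R M where
  toFun b := inl (algebraMap B R b) + inr (D b)
  map_one' := by
    apply TrivSqZeroExt.ext <;> simp
  map_mul' b b' := by
    apply TrivSqZeroExt.ext
    · simp
    · simp only [snd_add, snd_inl, snd_inr, zero_add, snd_mul, fst_add, fst_inl, fst_inr, add_zero,
        Derivation.leibniz]
      congr 1
      · exact (algebraMap_smul R b (D b')).symm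
      · exact (algebraMap_smul R b' (D b)).symm
  map_zero' := by
    apply TrivSqZeroExt.ext <;> simp
  map_add' b b' := by
    apply TrivSqZeroExt.ext <;> simp [add_add_add_comm]
  commutes' l := by
    apply TrivSqZeroExt.ext
    · simp [TrivSqZeroExt.algebraMap_eq_inl', ← IsScalarTower.algebraMap_apply]
    · simp [TrivSqZeroExt.algebraMap_eq_inl']

lemma fst_ofDer (D : Derivation Λ B M) (b : B) :
    (ofDer (R := R) D b).fst = algebraMap B R b := by
  simp [ofDer]

lemma snd_ofDer (D : Derivation Λ B M) (b : B) : (ofDer (R := R) D b).snd = D b := by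
  simp [ofDer]

/-- the derivation attached to an algebra map `B → R ⋉ M` whose first component is the
canonical map -/
noncomputable def toDer (φ : B →ₐ[Λ] TrivSqZeroExt R M)
    (hφ : ∀ b, (φ b).fst = algebraMap B R b) : Derivation Λ B M where
  toFun b := (φ b).snd
  map_add' b b' := by simp
  map_smul' l b := by simp
  map_one_eq_zero' := by simp
  leibniz' b b' := by
    simp only [LinearMap.coe_mk, AddHom.coe_mk, map_mul, snd_mul, hφ]
    congr 1
    · exact algebraMap_smul R b (φ b').snd
    · exact algebraMap_smul R b' (φ b).snd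

lemma toDer_apply (φ : B →ₐ[Λ] TrivSqZeroExt R M)
    (hφ : ∀ b, (φ b).fst = algebraMap B R b) (b : B) : toDer φ hφ b = (φ b).snd := rfl

variable {M'' : Type u} [AddCommGroup M''] [Module R M''] [Module B M''] [IsScalarTower B R M'']
  [Module Λ M''] [IsScalarTower Λ R M''] [IsScalarTower Λ B M'']

/-- derivation lifting property, for modules over a quotient `R` of `B` killed by `J^k` -/
theorem exists_lift_der_R (h : IsAdicFormallySmooth Λ B J) (k : ℕ)
    (hk : ∀ x ∈ J ^ k, algebraMap B R x = 0)
    (p : M →ₗ[R] M'') (hp : Function.Surjective p) (D'' : Derivation Λ B M'') :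
    ∃ D : Derivation Λ B M, ∀ b, p (D b) = D'' b := by
  let π : TrivSqZeroExt R M →ₐ[Λ] TrivSqZeroExt R M'' :=
    (TrivSqZeroExt.map p).restrictScalars Λ
  have hπfst : ∀ x, (π x).fst = x.fst := fun x => TrivSqZeroExt.fst_map p x
  have hπsnd : ∀ x, (π x).snd = p x.snd := fun x => TrivSqZeroExt.snd_map p x
  have hπ : Function.Surjective π := by
    intro y
    obtain ⟨m, hm⟩ := hp y.snd
    refine ⟨inl y.fst + inr m, ?_⟩
    apply TrivSqZeroExt.ext
    · rw [hπfst]; simp
    · rw [hπsnd]; simp [hm]
  have hker : (RingHom.ker (π : TrivSqZeroExt R M →+* TrivSqZeroExt R M'')) ^ 2 = ⊥ := by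
    rw [pow_two, eq_bot_iff, Ideal.mul_le]
    intro x hx y hy
    rw [RingHom.mem_ker] at hx hy
    have hx1 : x.fst = 0 := by
      have := congrArg TrivSqZeroExt.fst hx
      rwa [RingHom.coe_coe, hπfst] at this
    have hy1 : y.fst = 0 := by
      have := congrArg TrivSqZeroExt.fst hy
      rwa [RingHom.coe_coe, hπfst] at this
    rw [Ideal.mem_bot]
    apply TrivSqZeroExt.ext
    · simp [hx1]
    · simp [hx1, hy1]
  have hψ : ∀ x ∈ J ^ (k + k), ofDer (R := R) D'' x = 0 := by
    intro x hx
    rw [pow_add] at hx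
    refine Submodule.mul_induction_on hx ?_ ?_
    · intro y hy z hz
      rw [map_mul]
      apply TrivSqZeroExt.ext
      · simp [fst_ofDer, hk y hy]
      · simp [fst_ofDer, hk y hy, hk z hz]
    · intro a b ha hb
      rw [map_add, ha, hb, add_zero]
  obtain ⟨φ, hφ⟩ := lift_of_sqZero h π hπ hker (ofDer (R := R) D'') (k + k) hψ
  have hφ' : ∀ b, π (φ b) = ofDer (R := R) D'' b := fun b => AlgHom.congr_fun hφ b
  have hφfst : ∀ b, (φ b).fst = algebraMap B R b := by
    intro b
    rw [← hπfst, hφ', fst_ofDer]
  refine ⟨toDer φ hφfst, fun b => ?_⟩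
  rw [toDer_apply, ← hπsnd, hφ', snd_ofDer]

section extA

variable {A : Type u} [CommRing A] [Algebra Λ A] [Algebra A B] [IsScalarTower Λ A B]
  [Algebra A R] [IsScalarTower A B R] [IsScalarTower Λ A R]
  [Module A M] [IsScalarTower A R M] [IsScalarTower Λ A M]

/-- extension of derivations from `A` to `B` when `B` is adically formally smooth over `A`,
for modules over a quotient `R` of `B` killed by `J^k` -/
theorem exists_ext_der_R (hAB : IsAdicFormallySmooth A B J) (k : ℕ)
    (hk : ∀ x ∈ J ^ k, algebraMap B R x = 0) (hsurj : Function.Surjective (algebraMap B R))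
    (D₀ : Derivation Λ A M) :
    ∃ D : Derivation Λ B M, ∀ a, D (algebraMap A B a) = D₀ a := by
  let v : A →ₐ[Λ] TrivSqZeroExt R M := ofDer (B := A) (R := R) D₀
  let π : AlgVia (v : A →+* TrivSqZeroExt R M) →ₐ[A] R :=
    { toFun := fun e => (AlgVia.out (v : A →+* TrivSqZeroExt R M) e).fst
      map_one' := by simp
      map_mul' := fun x y => by simp
      map_zero' := by simp
      map_add' := fun x y => by simp
      commutes' := fun a => by
        rw [AlgVia.out_algebraMap]
        exact fst_ofDer (B := A) (R := R) D₀ a }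
  have hπ : Function.Surjective π := by
    intro r
    refine ⟨(AlgVia.out (v : A →+* TrivSqZeroExt R M)).symm (inl r : TrivSqZeroExt R M), ?_⟩
    change (AlgVia.out (v : A →+* TrivSqZeroExt R M)
      ((AlgVia.out (v : A →+* TrivSqZeroExt R M)).symm (inl r : TrivSqZeroExt R M))).fst = r
    rw [RingEquiv.apply_symm_apply, fst_inl]
  have hker : (RingHom.ker (π : AlgVia (v : A →+* TrivSqZeroExt R M) →+* R)) ^ 2 = ⊥ := by
    rw [pow_two, eq_bot_iff, Ideal.mul_le]
    intro x hx y hy
    rw [RingHom.mem_ker] at hx hy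
    have hx1 : (AlgVia.out (v : A →+* TrivSqZeroExt R M) x).fst = 0 := hx
    have hy1 : (AlgVia.out (v : A →+* TrivSqZeroExt R M) y).fst = 0 := hy
    rw [Ideal.mem_bot]
    apply (AlgVia.out (v : A →+* TrivSqZeroExt R M)).injective
    rw [map_mul, map_zero]
    apply TrivSqZeroExt.ext
    · simp [hx1]
    · simp [hx1, hy1]
  obtain ⟨χ, hχ⟩ := lift_of_sqZero hAB π hπ hker (IsScalarTower.toAlgHom A B R) k
    (fun x hx => hk x hx)
  have hχ' : ∀ b, (AlgVia.out (v : A →+* TrivSqZeroExt R M) (χ b)).fst = algebraMap B R b :=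
    fun b => AlgHom.congr_fun hχ b
  let φ : B →ₐ[Λ] TrivSqZeroExt R M :=
    { ((AlgVia.out (v : A →+* TrivSqZeroExt R M) : AlgVia (v : A →+* TrivSqZeroExt R M) →+*
        TrivSqZeroExt R M).comp (χ : B →+* AlgVia (v : A →+* TrivSqZeroExt R M))) with
      commutes' := fun l => by
        change AlgVia.out (v : A →+* TrivSqZeroExt R M) (χ (algebraMap Λ B l)) = _
        rw [IsScalarTower.algebraMap_apply Λ A B, χ.commutes, AlgVia.out_algebraMap]
        exact v.commutes l }
  have hφ : ∀ b, φ b = AlgVia.out (v : A →+* TrivSqZeroExt R M) (χ b) := fun b => rfl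
  refine ⟨toDer φ (fun b => by rw [hφ, hχ']), fun a => ?_⟩
  rw [toDer_apply, hφ, χ.commutes, AlgVia.out_algebraMap]
  exact snd_ofDer (B := A) (R := R) D₀ a

end extA

end tsze

section dlp

variable {Λ B : Type u} [CommRing Λ] [CommRing B] [Algebra Λ B] {J : Ideal B}
  {M M'' : Type u} [AddCommGroup M] [Module B M] [Module Λ M] [IsScalarTower Λ B M]
  [AddCommGroup M''] [Module B M''] [Module Λ M''] [IsScalarTower Λ B M'']

/-- **derivation lifting property** for an adically formally smooth algebra -/
theorem exists_lift_der (h : IsAdicFormallySmooth Λ B J) (k : ℕ)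
    (hM : ∀ x ∈ J ^ k, ∀ m : M, x • m = 0) (hM'' : ∀ x ∈ J ^ k, ∀ m : M'', x • m = 0)
    (p : M →ₗ[B] M'') (hp : Function.Surjective p) (D'' : Derivation Λ B M'') :
    ∃ D : Derivation Λ B M, ∀ b, p (D b) = D'' b := by
  have hT : Module.IsTorsionBySet B M (J ^ k : Ideal B) := fun m x => hM x x.2 m
  have hT'' : Module.IsTorsionBySet B M'' (J ^ k : Ideal B) := fun m x => hM'' x x.2 m
  letI : Module (B ⧸ J ^ k) M := hT.module
  letI : Module (B ⧸ J ^ k) M'' := hT''.module
  haveI : IsScalarTower B (B ⧸ J ^ k) M := hT.isScalarTower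
  haveI : IsScalarTower B (B ⧸ J ^ k) M'' := hT''.isScalarTower
  haveI : IsScalarTower Λ (B ⧸ J ^ k) M := hT.isScalarTower
  haveI : IsScalarTower Λ (B ⧸ J ^ k) M'' := hT''.isScalarTower
  exact exists_lift_der_R (R := B ⧸ J ^ k) h k
    (fun x hx => Ideal.Quotient.eq_zero_iff_mem.mpr hx)
    (p.extendScalarsOfSurjective Ideal.Quotient.mk_surjective) hp D''

/-- extension of derivations along `A → B` for an adically formally smooth `A`-algebra `B` -/
theorem exists_ext_der {A : Type u} [CommRing A] [Algebra Λ A] [Algebra A B] [IsScalarTower Λ A B]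
    [Module A M] [IsScalarTower A B M] [IsScalarTower Λ A M]
    (hAB : IsAdicFormallySmooth A B J) (k : ℕ)
    (hM : ∀ x ∈ J ^ k, ∀ m : M, x • m = 0) (D₀ : Derivation Λ A M) :
    ∃ D : Derivation Λ B M, ∀ a, D (algebraMap A B a) = D₀ a := by
  have hT : Module.IsTorsionBySet B M (J ^ k : Ideal B) := fun m x => hM x x.2 m
  letI : Module (B ⧸ J ^ k) M := hT.module
  haveI : IsScalarTower B (B ⧸ J ^ k) M := hT.isScalarTower
  haveI : IsScalarTower Λ (B ⧸ J ^ k) M := hT.isScalarTower
  haveI : IsScalarTower A (B ⧸ J ^ k) M := hT.isScalarTower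
  exact exists_ext_der_R (R := B ⧸ J ^ k) hAB k
    (fun x hx => Ideal.Quotient.eq_zero_iff_mem.mpr hx) Ideal.Quotient.mk_surjective D₀

end dlp

end Groth.Agent.Lib.helper10.AdicDer
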