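import Mathlib

/-!
# A wrapped quotient ring (to keep instance paths canonical for complicated base rings)
-/

set_option autoImplicit false
set_option linter.unusedVariables false
set_option linter.style.haveILetI false
set_option linter.unusedSectionVars false

namespace Groth.Agent.Lib.helper10

universe u v

/-- the quotient ring `T ⧸ I`, wrapped in a definition -/
def QuotW {T : Type u} [CommRing T] (I : Ideal T) : Type u := T ⧸ I

namespace QuotW

variable {T : Type u} [CommRing T] (I : Ideal T)

noncomputable instance : CommRing (QuotW I) := inferInstanceAs (CommRing (T ⧸ I))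

noncomputable instance {A : Type v} [CommRing A] [Algebra A T] : Algebra A (QuotW I) :=
  inferInstanceAs (Algebra A (T ⧸ I))

/-- the quotient map -/
noncomputable def mkR : T →+* QuotW I := Ideal.Quotient.mk I

lemma mkR_surjective : Function.Surjective (mkR I) := Ideal.Quotient.mk_surjective

lemma mkR_eq_zero_iff (t : T) : mkR I t = 0 ↔ t ∈ I := Ideal.Quotient.eq_zero_iff_mem

lemma mkR_eq_mkR_iff (t t' : T) : mkR I t = mkR I t' ↔ t - t' ∈ I := Ideal.Quotient.eq

variable (A : Type v) [CommRing A] [Algebra A T]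

/-- the quotient map as an algebra map -/
noncomputable def mkA : T →ₐ[A] QuotW I := Ideal.Quotient.mkₐ A I

lemma mkA_apply (t : T) : mkA I A t = mkR I t := rfl

variable {A} in
/-- the universal property -/
noncomputable def lift {S : Type*} [CommRing S] [Algebra A S] (f : T →ₐ[A] S)
    (hf : ∀ t ∈ I, f t = 0) : QuotW I →ₐ[A] S := Ideal.Quotient.liftₐ I f hf

variable {A} in
lemma lift_mkR {S : Type*} [CommRing S] [Algebra A S] (f : T →ₐ[A] S)
    (hf : ∀ t ∈ I, f t = 0) (t : T) : lift I f hf (mkR I t) = f t := rfl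

lemma map_mkR_pow_eq_bot (K : Ideal T) (n : ℕ) (h : K ^ n ≤ I) : (K.map (mkR I)) ^ n = ⊥ := by
  rw [← Ideal.map_pow, eq_bot_iff, Ideal.map_le_iff_le_comap]
  intro t ht
  rw [Ideal.mem_comap, Ideal.mem_bot, mkR_eq_zero_iff]
  exact h ht

lemma mkR_mem_map_pow_iff (K : Ideal T) (d : ℕ) (h : I ≤ K ^ d) (t : T) :
    mkR I t ∈ (K.map (mkR I)) ^ d ↔ t ∈ K ^ d := by
  rw [← Ideal.map_pow]
  constructor
  · intro ht
    rw [Ideal.mem_map_iff_of_surjective _ (mkR_surjective I)] at ht
    obtain ⟨t', ht', e⟩ := ht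
    rw [mkR_eq_mkR_iff] at e
    have : t = t' - (t' - t) := by ring
    rw [this]
    exact (K ^ d).sub_mem ht' (h e)
  · intro ht
    exact Ideal.mem_map_of_mem _ ht

lemma mkR_mem_map_iff (K : Ideal T) (h : I ≤ K) (t : T) :
    mkR I t ∈ K.map (mkR I) ↔ t ∈ K := by
  have := mkR_mem_map_pow_iff I K 1 (by rwa [pow_one]) t
  rwa [pow_one, pow_one] at this

end QuotW

end Groth.Agent.Lib.helper10
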