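import Mathlib
import Groth.Prelude.Def_PP16
import Groth.Prelude.Def_CAlgX
import Groth.Agent.Lib.helper10.AdicLift
import Groth.Agent.Lib.helper10.AdicSym
import Groth.Agent.Lib.helper10.AdicRho
import Groth.Agent.Lib.helper10.QuotW

/-!
# Adic formal smoothness ⇒ `J/J²` projective and `Sym(J/J²) ≃ gr_J(B)`
-/

set_option autoImplicit false
set_option linter.unusedVariables false
set_option linter.style.haveILetI false
set_option linter.unusedSectionVars false

namespace Groth.Agent.Lib.helper10.AdicFwd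

open TensorProduct SymmetricPower MvPolynomial PP16 CAlgX
open Groth.Agent.Lib.helper10.SymPow Groth.Agent.Lib.helper10.SymPowGr
open Groth.Agent.Lib.helper10.QRSym Groth.Agent.Lib.helper10.PolyLin
open Groth.Agent.Lib.helper10.AdicLift Groth.Agent.Lib.helper10.AdicSym
open Groth.Agent.Lib.helper10.AdicRho Groth.Agent.Lib.helper10

universe u

variable {A B : Type u} [CommRing A] [CommRing B] [Algebra A B] (J : Ideal B) (N : ℕ)
  [Algebra.FormallySmooth A (B ⧸ J)]

local notation "𝔛" => idealOfVars J.Cotangent (B ⧸ J)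
local notation "TT" => MvPolynomial J.Cotangent (B ⧸ J)

variable (A) in
/-- the induced map on the truncated polynomial ring -/
noncomputable def rhoQ : (QuotW (𝔛 ^ (N + 1))) →ₐ[A] (B ⧸ J ^ (N + 1)) :=
  QuotW.lift (𝔛 ^ (N + 1)) (rho A J N) (fun t ht => rho_eq_zero_of_mem J N t ht)

lemma rhoQ_mk (t : TT) : rhoQ A J N (QuotW.mkR (𝔛 ^ (N + 1)) t) = rho A J N t := rfl

lemma rhoQ_surjective : Function.Surjective (rhoQ A J N) := by
  intro r
  obtain ⟨t, rfl⟩ := rho_surjective (A := A) J N r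
  exact ⟨QuotW.mkR (𝔛 ^ (N + 1)) t, rfl⟩

/-- the image of `𝔛` in the truncated polynomial ring -/
noncomputable def XX : Ideal (QuotW (𝔛 ^ (N + 1))) := (𝔛).map (QuotW.mkR (𝔛 ^ (N + 1)))

lemma XX_pow : XX J N ^ (N + 1) = ⊥ := QuotW.map_mkR_pow_eq_bot _ (𝔛) (N + 1) le_rfl

lemma mk_mem_XX_pow_iff (d : ℕ) (hd : d ≤ N + 1) (t : TT) :
    QuotW.mkR (𝔛 ^ (N + 1)) t ∈ XX J N ^ d ↔ t ∈ 𝔛 ^ d :=
  QuotW.mkR_mem_map_pow_iff _ (𝔛) d (Ideal.pow_le_pow_right hd) t

lemma mk_mem_XX_iff (t : TT) : QuotW.mkR (𝔛 ^ (N + 1)) t ∈ XX J N ↔ t ∈ 𝔛 :=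
  QuotW.mkR_mem_map_iff _ (𝔛) (Ideal.pow_le_self (Nat.succ_ne_zero N)) t

lemma ker_rhoQ_le : RingHom.ker ((rhoQ A J N : (QuotW (𝔛 ^ (N + 1))) →ₐ[A] (B ⧸ J ^ (N + 1))) :
    (QuotW (𝔛 ^ (N + 1))) →+* (B ⧸ J ^ (N + 1))) ≤ XX J N := by
  intro y hy
  obtain ⟨t, rfl⟩ := QuotW.mkR_surjective _ y
  rw [RingHom.mem_ker] at hy
  change rhoQ A J N (QuotW.mkR _ t) = 0 at hy
  rw [rhoQ_mk] at hy
  rw [mk_mem_XX_iff]
  apply mem_of_constantCoeff_eq_zero
  rw [← piC_rho (A := A) J N t, hy, map_zero]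

lemma ker_rhoQ_pow : (RingHom.ker ((rhoQ A J N : (QuotW (𝔛 ^ (N + 1))) →ₐ[A] (B ⧸ J ^ (N + 1))) :
    (QuotW (𝔛 ^ (N + 1))) →+* (B ⧸ J ^ (N + 1)))) ^ (N + 1) = ⊥ := by
  rw [eq_bot_iff, ← XX_pow J N]
  exact Ideal.pow_right_mono (ker_rhoQ_le J N) (N + 1)

variable (h : IsAdicFormallySmooth A B J)

include h in
lemma exists_Theta : ∃ Θ : B →ₐ[A] (QuotW (𝔛 ^ (N + 1))),
    (rhoQ A J N).comp Θ = Ideal.Quotient.mkₐ A (J ^ (N + 1)) :=
  lift_of_nilpotent h (N + 1) (rhoQ A J N) (rhoQ_surjective J N) (ker_rhoQ_pow J N)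
    (Ideal.Quotient.mkₐ A (J ^ (N + 1))) (N + 1)
    (fun x hx => by
      rw [Ideal.Quotient.mkₐ_eq_mk]
      exact Ideal.Quotient.eq_zero_iff_mem.mpr hx)

/-- the Taylor map -/
noncomputable def Theta : B →ₐ[A] (QuotW (𝔛 ^ (N + 1))) := (exists_Theta J N h).choose

lemma rhoQ_Theta (b : B) : rhoQ A J N (Theta J N h b) = Ideal.Quotient.mk (J ^ (N + 1)) b :=
  AlgHom.congr_fun (exists_Theta J N h).choose_spec b

/-- a set-theoretic section of the quotient map -/
noncomputable def rep (y : QuotW (𝔛 ^ (N + 1))) : TT :=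
  Function.surjInv (QuotW.mkR_surjective (𝔛 ^ (N + 1))) y

lemma mk_rep (y : QuotW (𝔛 ^ (N + 1))) : QuotW.mkR (𝔛 ^ (N + 1)) (rep J N y) = y :=
  Function.surjInv_eq (QuotW.mkR_surjective (𝔛 ^ (N + 1))) y

lemma constantCoeff_of_mk_eq (b : B) (t : TT)
    (ht : QuotW.mkR (𝔛 ^ (N + 1)) t = Theta J N h b) :
    constantCoeff t = Ideal.Quotient.mk J b := by
  rw [← piC_rho (A := A) J N t, ← rhoQ_mk, ht, rhoQ_Theta, piC_mk]

lemma rho_of_mk_eq (b : B) (t : TT)
    (ht : QuotW.mkR (𝔛 ^ (N + 1)) t = Theta J N h b) :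
    rho A J N t = Ideal.Quotient.mk (J ^ (N + 1)) b := by
  rw [← rhoQ_mk, ht, rhoQ_Theta]

lemma Theta_sub_mem (b : B) :
    Theta J N h b - QuotW.mkR (𝔛 ^ (N + 1)) (C (Ideal.Quotient.mk J b)) ∈ XX J N := by
  have h1 := mk_rep J N (Theta J N h b)
  rw [← h1, ← map_sub, mk_mem_XX_iff, ← constantCoeff_of_mk_eq J N h b _ h1]
  exact sub_C_mem _

lemma Theta_mem (x : B) (hx : x ∈ J) : Theta J N h x ∈ XX J N := by
  have h1 := mk_rep J N (Theta J N h x)
  rw [← h1, mk_mem_XX_iff]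
  apply mem_of_constantCoeff_eq_zero
  rw [constantCoeff_of_mk_eq J N h x _ h1]
  exact Ideal.Quotient.eq_zero_iff_mem.mpr hx

lemma Theta_eq_zero (y : B) (hy : y ∈ J ^ (N + 1)) : Theta J N h y = 0 := by
  have h3 := mem_pow_of_map_le J
    ((Theta J N h : B →ₐ[A] (QuotW (𝔛 ^ (N + 1)))) : B →+* (QuotW (𝔛 ^ (N + 1)))) (XX J N)
    (fun x hx => Theta_mem J N h x hx) (N + 1) y hy
  rw [XX_pow] at h3
  exact h3

variable (hN : 1 ≤ N)

include hN in
lemma lin_congr (t t' : TT)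
    (htt : QuotW.mkR (𝔛 ^ (N + 1)) t = QuotW.mkR (𝔛 ^ (N + 1)) t') :
    lin J.Cotangent (B ⧸ J) t = lin J.Cotangent (B ⧸ J) t' := by
  rw [QuotW.mkR_eq_mkR_iff] at htt
  have h2 : t - t' ∈ 𝔛 ^ 2 := Ideal.pow_le_pow_right (by omega) htt
  have := lin_eq_zero_of_mem_sq _ h2
  rw [map_sub, sub_eq_zero] at this
  exact this

/-- the linear part of the Taylor map on `J` -/
noncomputable def Dmap : ↥J →ₗ[B] (J.Cotangent →₀ (B ⧸ J)) where
  toFun x := lin J.Cotangent (B ⧸ J) (rep J N (Theta J N h (x : B)))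
  map_add' x y := by
    rw [← map_add]
    apply lin_congr J N hN
    rw [map_add, mk_rep, mk_rep, mk_rep, Submodule.coe_add, map_add]
  map_smul' b x := by
    have h1 : lin J.Cotangent (B ⧸ J) (rep J N (Theta J N h ((b • x : ↥J) : B))) =
        lin J.Cotangent (B ⧸ J) (rep J N (Theta J N h b) * rep J N (Theta J N h (x : B))) := by
      apply lin_congr J N hN
      rw [map_mul, mk_rep, mk_rep, mk_rep, Submodule.coe_smul, smul_eq_mul, map_mul]
    have h2 : rep J N (Theta J N h (x : B)) ∈ 𝔛 := by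
      rw [← mk_mem_XX_iff J N, mk_rep]
      exact Theta_mem J N h _ x.2
    rw [h1, lin_mul_of_mem _ _ h2, constantCoeff_of_mk_eq J N h b _ (mk_rep J N _)]
    exact algebraMap_smul (B ⧸ J) b _

lemma Dmap_apply (x : ↥J) :
    Dmap J N h hN x = lin J.Cotangent (B ⧸ J) (rep J N (Theta J N h (x : B))) := rfl

lemma Dmap_eq_of_mk_eq (x : ↥J) (t : TT)
    (ht : QuotW.mkR (𝔛 ^ (N + 1)) t = Theta J N h (x : B)) :
    Dmap J N h hN x = lin J.Cotangent (B ⧸ J) t := by
  rw [Dmap_apply]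
  apply lin_congr J N hN
  rw [mk_rep, ht]

lemma smul_top_le_ker : (J • ⊤ : Submodule B ↥J) ≤ LinearMap.ker (Dmap J N h hN) := by
  rw [Submodule.smul_le]
  intro r hr x _
  rw [LinearMap.mem_ker, map_smul, ← algebraMap_smul (B ⧸ J) r,
    Ideal.Quotient.algebraMap_eq, Ideal.Quotient.eq_zero_iff_mem.mpr hr, zero_smul]

/-- the induced map on the cotangent module, `B`-linear version -/
noncomputable def innB : J.Cotangent →ₗ[B] (J.Cotangent →₀ (B ⧸ J)) :=
  Submodule.liftQ (J • ⊤ : Submodule B ↥J) (Dmap J N h hN) (smul_top_le_ker J N h hN)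

lemma innB_toCotangent (x : ↥J) : innB J N h hN (J.toCotangent x) = Dmap J N h hN x := rfl

/-- the splitting of `(J/J² →₀ B/J) → J/J²` coming from the Taylor map -/
noncomputable def inn : J.Cotangent →ₗ[B ⧸ J] (J.Cotangent →₀ (B ⧸ J)) :=
  LinearMap.extendScalarsOfSurjective Ideal.Quotient.mk_surjective (innB J N h hN)

lemma inn_toCotangent (x : ↥J) : inn J N h hN (J.toCotangent x) = Dmap J N h hN x := rfl

include hN in
lemma out_Dmap (x : ↥J) :
    Finsupp.linearCombination (B ⧸ J) (id : J.Cotangent → J.Cotangent) (Dmap J N h hN x) =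
      J.toCotangent x := by
  set t := rep J N (Theta J N h (x : B)) with ht
  have hmk : QuotW.mkR (𝔛 ^ (N + 1)) t = Theta J N h (x : B) := mk_rep J N _
  have hc : constantCoeff t = 0 := by
    rw [constantCoeff_of_mk_eq J N h _ t hmk]
    exact Ideal.Quotient.eq_zero_iff_mem.mpr x.2
  have h1 : rho A J N t - rho A J N (linX (B ⧸ J) J.Cotangent (lin J.Cotangent (B ⧸ J) t)) ∈
      jj J N ^ 2 := by
    rw [← map_sub]
    exact rho_mem_jj_pow J N 2 _ (sub_linX_mem_sq t hc)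
  obtain ⟨x', hx'⟩ := J.toCotangent_surjective
    (Finsupp.linearCombination (B ⧸ J) (id : J.Cotangent → J.Cotangent)
      (lin J.Cotangent (B ⧸ J) t))
  have h2 := rho_linX_sub_mk_mem (A := A) J N (lin J.Cotangent (B ⧸ J) t) x' hx'
  rw [rho_of_mk_eq J N h _ t hmk] at h1
  have h3 : Ideal.Quotient.mk (J ^ (N + 1)) ((x : B) - (x' : B)) ∈ jj J N ^ 2 := by
    have e : Ideal.Quotient.mk (J ^ (N + 1)) ((x : B) - (x' : B)) =
        (Ideal.Quotient.mk (J ^ (N + 1)) (x : B) -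
          rho A J N (linX (B ⧸ J) J.Cotangent (lin J.Cotangent (B ⧸ J) t))) +
        (rho A J N (linX (B ⧸ J) J.Cotangent (lin J.Cotangent (B ⧸ J) t)) -
          Ideal.Quotient.mk (J ^ (N + 1)) (x' : B)) := by
      rw [map_sub]; ring
    rw [e]
    exact Ideal.add_mem _ h1 h2
  rw [mk_mem_jj_pow_iff J N 2 (by omega)] at h3
  rw [Dmap_apply, ← hx']
  exact (J.toCotangent_eq.mpr h3).symm

include hN in
lemma out_comp_inn :
    Finsupp.linearCombination (B ⧸ J) (id : J.Cotangent → J.Cotangent) ∘ₗ inn J N h hN =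
      LinearMap.id := by
  ext p
  obtain ⟨x, rfl⟩ := J.toCotangent_surjective p
  rw [LinearMap.comp_apply, inn_toCotangent, out_Dmap J N h hN, LinearMap.id_apply]

include h in
/-- **projectivity of `J/J²`** -/
theorem projective_cotangent : Module.Projective (B ⧸ J) J.Cotangent :=
  Module.Projective.of_split (inn J 1 h le_rfl)
    (Finsupp.linearCombination (B ⧸ J) (id : J.Cotangent → J.Cotangent))
    (out_comp_inn J 1 h le_rfl)

section inj

variable (ι : Type u) [Fintype ι] [Nonempty ι]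

include h in
/-- **injectivity of `Sym(J/J²) → gr_J(B)`** -/
theorem symToGr_injective : Function.Injective (symToGr J ι) := by
  classical
  rw [injective_iff_map_eq_zero]
  intro x hx
  have hn : 1 ≤ Fintype.card ι := Fintype.card_pos
  set n := Fintype.card ι with hn'
  have hid : (fun p : J.Cotangent => J.toCotangent (gl J p)) = id := funext (toCotangent_gl J)
  obtain ⟨Q, hQ, hQx⟩ := exists_monoMap_eq (ι := ι) (id : J.Cotangent → J.Cotangent)
    (by rw [Set.range_id]; exact Submodule.span_univ) x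
  -- the representative in `J^n`
  have h1 := grToQuot_symToGr_monoMap' J ι (gl J) Q hQ
  rw [hid, hQx, hx, map_zero] at h1
  have hy : MvPolynomial.aeval (fun p => ((gl J p : ↥J) : B)) Q ∈ J ^ (n + 1) :=
    Ideal.Quotient.eq_zero_iff_mem.mp h1.symm
  have hΘ := Theta_eq_zero J n h _ hy
  -- the two ring maps
  let φ₁ : MvPolynomial J.Cotangent B →+* (QuotW (𝔛 ^ (n + 1))) :=
    ((Theta J n h : B →ₐ[A] (QuotW (𝔛 ^ (n + 1)))) : B →+* (QuotW (𝔛 ^ (n + 1)))).comp
      ((MvPolynomial.aeval (fun p => ((gl J p : ↥J) : B)) : MvPolynomial J.Cotangent B →ₐ[B] B) :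
        MvPolynomial J.Cotangent B →+* B)
  let φ₂ : MvPolynomial J.Cotangent B →+* (QuotW (𝔛 ^ (n + 1))) :=
    (QuotW.mkR (𝔛 ^ (n + 1))).comp
      ((MvPolynomial.aeval (fun p => ellB J (inn J n h hn) p) :
        MvPolynomial J.Cotangent B →ₐ[B] TT) : MvPolynomial J.Cotangent B →+* TT)
  have hcong := cong_of_homogeneous φ₁ φ₂ (XX J n) ?_ ?_ ?_ n Q hQ
  · rw [XX_pow, Ideal.mem_bot] at hcong
    have h2 : φ₁ Q = 0 := hΘ
    rw [h2, zero_sub, neg_eq_zero] at hcong
    have h3 : MvPolynomial.aeval (fun p => ellB J (inn J n h hn) p) Q ∈ 𝔛 ^ (n + 1) :=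
      (QuotW.mkR_eq_zero_iff _ _).mp hcong
    have h4 := evalProd_monoMap (ι := ι) (ellB J (inn J n h hn)) (id : J.Cotangent → J.Cotangent) Q hQ
    rw [hQx] at h4
    have h5 : evalProd (ellB J (inn J n h hn)) x = 0 := by
      apply eq_zero_of_homogeneous_of_mem n _ (evalProd_ellB_isHomogeneous J ι _ x)
      rw [h4]
      exact h3
    rw [← map_zero (evalProd (ellB J (inn J n h hn)) :
      Sym[B] ι J.Cotangent →ₗ[B] MvPolynomial J.Cotangent (B ⧸ J))] at h5
    exact evalProd_ellB_injective J ι _ (out_comp_inn J n h hn) h5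
  · intro b
    simp only [φ₁, φ₂, RingHom.coe_comp, RingHom.coe_coe, Function.comp_apply, MvPolynomial.aeval_C]
    exact Theta_sub_mem J n h b
  · intro p
    simp only [φ₂, RingHom.coe_comp, RingHom.coe_coe, Function.comp_apply, MvPolynomial.aeval_X]
    exact (mk_mem_XX_iff J n _).mpr (ellB_mem J _ p)
  · intro p
    simp only [φ₁, φ₂, RingHom.coe_comp, RingHom.coe_coe, Function.comp_apply, MvPolynomial.aeval_X]
    have hmk := mk_rep J n (Theta J n h ((gl J p : ↥J) : B))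
    rw [← hmk, ← map_sub, mk_mem_XX_pow_iff J n 2 (by omega)]
    have hc : constantCoeff (rep J n (Theta J n h ((gl J p : ↥J) : B))) = 0 := by
      rw [constantCoeff_of_mk_eq J n h _ _ hmk]
      exact Ideal.Quotient.eq_zero_iff_mem.mpr (gl J p).2
    have := sub_linX_mem_sq _ hc
    have e : ellB J (inn J n h hn) p =
        linX (B ⧸ J) J.Cotangent
          (lin J.Cotangent (B ⧸ J) (rep J n (Theta J n h ((gl J p : ↥J) : B)))) := by
      rw [ellB_apply]
      congr 1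
      conv_lhs => rw [← toCotangent_gl J p]
      rw [inn_toCotangent, Dmap_apply]
    rw [e]
    exact this

include h in
theorem symGrBijective : SymGrBijective B J := by
  intro ι _ _
  exact ⟨symToGr J ι, fun x => symToGr_tprod J ι x, symToGr_injective J h ι,
    symToGr_surjective J ι⟩

end inj

end Groth.Agent.Lib.helper10.AdicFwd
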