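import Mathlib
import Groth.Prelude.Def_CAlgX
import Groth.Agent.Lib.helper10.AdicDer

/-!
# A Jacobian-type criterion: from adic formal smoothness over `Λ` to adic formal smoothness over `A`
-/

set_option autoImplicit false
set_option linter.unusedVariables false
set_option linter.style.haveILetI false
set_option linter.unusedSectionVars false

namespace Groth.Agent.Lib.helper10.AdicJac

open CAlgX TensorProduct KaehlerDifferential
open Groth.Agent.Lib.helper10.AdicLift Groth.Agent.Lib.helper10.AdicDer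

universe u

variable {Λ A B : Type u} [CommRing Λ] [CommRing A] [CommRing B] [Algebra Λ A] [Algebra A B]
  [Algebra Λ B] [IsScalarTower Λ A B] (J : Ideal B)

/-- the extension property for derivations with values in modules killed by `J^i` -/
def ExtProp (i : ℕ) : Prop :=
  ∀ (M : Type u) [AddCommGroup M] [Module B M] [Module A M] [Module Λ M] [IsScalarTower A B M]
    [IsScalarTower Λ A M] [IsScalarTower Λ B M], (∀ x ∈ J ^ i, ∀ m : M, x • m = 0) →
    ∀ D₀ : Derivation Λ A M, ∃ D : Derivation Λ B M, ∀ a, D (algebraMap A B a) = D₀ a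

section split

variable (hinj : Function.Injective ((mapBaseChange Λ A B).lTensor (B ⧸ J)))
  (hproj : Module.Projective (B ⧸ J) ((B ⧸ J) ⊗[B] (Ω[B⁄A])))

include hinj hproj in
/-- the retraction of `C ⊗ (B ⊗ Ω_{A/Λ}) → C ⊗ Ω_{B/Λ}` -/
lemma exists_retraction :
    ∃ l : (B ⧸ J) ⊗[B] (Ω[B⁄Λ]) →ₗ[B] (B ⧸ J) ⊗[B] (B ⊗[A] (Ω[A⁄Λ])),
      l ∘ₗ (mapBaseChange Λ A B).lTensor (B ⧸ J) = LinearMap.id := by
  have hex : Function.Exact ((mapBaseChange Λ A B).lTensor (B ⧸ J))
      ((KaehlerDifferential.map Λ A B B).lTensor (B ⧸ J)) :=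
    lTensor_exact (B ⧸ J) (exact_mapBaseChange_map Λ A B) (KaehlerDifferential.map_surjective Λ A B)
  have hsurj : Function.Surjective ((KaehlerDifferential.map Λ A B B).lTensor (B ⧸ J)) :=
    LinearMap.lTensor_surjective (B ⧸ J) (KaehlerDifferential.map_surjective Λ A B)
  -- a section from projectivity
  have hsurj' : Function.Surjective ((KaehlerDifferential.map Λ A B B).baseChange (B ⧸ J)) := by
    intro y
    obtain ⟨x, hx⟩ := hsurj y
    exact ⟨x, hx⟩
  obtain ⟨s, hs⟩ := Module.projective_lifting_property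
    ((KaehlerDifferential.map Λ A B B).baseChange (B ⧸ J)) LinearMap.id hsurj'
  have hsec : ∃ s' : (B ⧸ J) ⊗[B] (Ω[B⁄A]) →ₗ[B] (B ⧸ J) ⊗[B] (Ω[B⁄Λ]),
      (KaehlerDifferential.map Λ A B B).lTensor (B ⧸ J) ∘ₗ s' = LinearMap.id := by
    refine ⟨s.restrictScalars B, ?_⟩
    apply LinearMap.ext
    intro y
    exact LinearMap.congr_fun hs y
  exact ((Function.Exact.split_tfae hex hinj hsurj).out 0 1).mp hsec

include hinj hproj in
/-- the extension property for modules killed by `J` -/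
theorem extProp_one : ExtProp (Λ := Λ) (A := A) J 1 := by
  intro M _ _ _ _ _ _ _ hM D₀
  obtain ⟨l, hl⟩ := exists_retraction J hinj hproj
  have hT : Module.IsTorsionBySet B M (J : Ideal B) := fun m x => hM x (by simp) m
  letI : Module (B ⧸ J) M := hT.module
  haveI : IsScalarTower B (B ⧸ J) M := hT.isScalarTower
  let l₀ : Ω[A⁄Λ] →ₗ[A] M := D₀.liftKaehlerDifferential
  let l₁ : B ⊗[A] (Ω[A⁄Λ]) →ₗ[B] M := LinearMap.liftBaseChange B l₀
  let l₂ : (B ⧸ J) ⊗[B] (B ⊗[A] (Ω[A⁄Λ])) →ₗ[B] M :=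
    (LinearMap.liftBaseChange (B ⧸ J) l₁).restrictScalars B
  let L : Ω[B⁄Λ] →ₗ[B] M := l₂ ∘ₗ l ∘ₗ (TensorProduct.mk B (B ⧸ J) (Ω[B⁄Λ]) 1)
  refine ⟨L.compDer (KaehlerDifferential.D Λ B), fun a => ?_⟩
  have h1 : (1 : B ⧸ J) ⊗ₜ[B] (KaehlerDifferential.D Λ B (algebraMap A B a)) =
      (mapBaseChange Λ A B).lTensor (B ⧸ J)
        ((1 : B ⧸ J) ⊗ₜ[B] ((1 : B) ⊗ₜ[A] (KaehlerDifferential.D Λ A a))) := by
    rw [LinearMap.lTensor_tmul, mapBaseChange_tmul, one_smul, KaehlerDifferential.map_D]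
  have h2 : l ((1 : B ⧸ J) ⊗ₜ[B] (KaehlerDifferential.D Λ B (algebraMap A B a))) =
      (1 : B ⧸ J) ⊗ₜ[B] ((1 : B) ⊗ₜ[A] (KaehlerDifferential.D Λ A a)) := by
    rw [h1]
    exact LinearMap.congr_fun hl _
  change l₂ (l ((1 : B ⧸ J) ⊗ₜ[B] (KaehlerDifferential.D Λ B (algebraMap A B a)))) = D₀ a
  rw [h2]
  change LinearMap.liftBaseChange (B ⧸ J) l₁
    ((1 : B ⧸ J) ⊗ₜ[B] ((1 : B) ⊗ₜ[A] (KaehlerDifferential.D Λ A a))) = D₀ a
  rw [LinearMap.liftBaseChange_tmul, one_smul, LinearMap.liftBaseChange_tmul, one_smul]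
  exact D₀.liftKaehlerDifferential_comp_D a

end split

section induction

variable (hΛ : IsAdicFormallySmooth Λ B J) (h1 : ExtProp (Λ := Λ) (A := A) J 1)

include hΛ h1 in
/-- the extension property for all modules killed by a power of `J` -/
theorem extProp_all (i : ℕ) : ExtProp (Λ := Λ) (A := A) J i := by
  induction i with
  | zero =>
    intro M _ _ _ _ _ _ _ hM D₀
    have h0 : ∀ m : M, m = 0 := fun m => by simpa using hM 1 (by simp) m
    exact ⟨0, fun a => by rw [h0 (D₀ a)]; rfl⟩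
  | succ i ih =>
    intro M _ _ _ _ _ _ _ hM D₀
    let M' : Submodule B M := J • ⊤
    have hM' : ∀ x ∈ J ^ i, ∀ m : M', x • m = 0 := by
      intro x hx m
      apply Subtype.ext
      rw [Submodule.coe_smul, Submodule.coe_zero]
      have hm : (m : M) ∈ J • (⊤ : Submodule B M) := m.2
      refine Submodule.smul_induction_on hm ?_ ?_
      · intro r hr n _
        rw [← mul_smul]
        exact hM _ (by rw [pow_succ]; exact Ideal.mul_mem_mul hx hr) n
      · intro a b ha hb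
        rw [smul_add, ha, hb, add_zero]
    have hQ : ∀ x ∈ J ^ 1, ∀ m : M ⧸ M', x • m = 0 := by
      intro x hx m
      rw [pow_one] at hx
      obtain ⟨n, rfl⟩ := Submodule.mkQ_surjective M' m
      rw [← map_smul, Submodule.mkQ_apply, Submodule.Quotient.mk_eq_zero]
      exact Submodule.smul_mem_smul hx Submodule.mem_top
    have hQ' : ∀ x ∈ J ^ (i + 1), ∀ m : M ⧸ M', x • m = 0 := by
      intro x hx m
      exact hQ x (by rw [pow_one]; exact Ideal.pow_le_self (Nat.succ_ne_zero i) hx) m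
    let D₀'' : Derivation Λ A (M ⧸ M') := ((M'.mkQ).restrictScalars A).compDer D₀
    obtain ⟨D'', hD''⟩ := h1 (M ⧸ M') hQ D₀''
    obtain ⟨Dt, hDt⟩ := exists_lift_der hΛ (i + 1) hM hQ' M'.mkQ (Submodule.mkQ_surjective _) D''
    let D₁ : Derivation Λ A M := D₀ - Derivation.compAlgebraMap A Dt
    have hD₁a : ∀ a, D₁ a = D₀ a - Dt (algebraMap A B a) := fun a => rfl
    have hD₁ : ∀ a, D₁ a ∈ M' := by
      intro a
      rw [← Submodule.Quotient.mk_eq_zero, hD₁a, Submodule.Quotient.mk_sub]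
      have e1 : (Submodule.Quotient.mk (Dt (algebraMap A B a)) : M ⧸ M') = D'' (algebraMap A B a) :=
        hDt _
      rw [e1, hD'']
      exact sub_self _
    let D₁' : Derivation Λ A M' :=
      { toFun := fun a => ⟨D₁ a, hD₁ a⟩
        map_add' := fun a b => by apply Subtype.ext; simp
        map_smul' := fun l a => by apply Subtype.ext; simp
        map_one_eq_zero' := by apply Subtype.ext; simp
        leibniz' := fun a b => by
          apply Subtype.ext
          simp only [LinearMap.coe_mk, AddHom.coe_mk, Derivation.leibniz, Submodule.coe_add]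
          rfl }
    obtain ⟨D', hD'⟩ := ih M' hM' D₁'
    refine ⟨Dt + (M'.subtype).compDer D', fun a => ?_⟩
    have e2 : ((M'.subtype).compDer D') (algebraMap A B a) = D₁ a := by
      change ((D' (algebraMap A B a) : M') : M) = D₁ a
      rw [hD']
      rfl
    rw [Derivation.add_apply, e2, hD₁a]
    abel

end induction

section assemble

variable (hΛ : IsAdicFormallySmooth Λ B J) (hext : ∀ i, ExtProp (Λ := Λ) (A := A) J i)

include hΛ hext in
/-- adic formal smoothness over `Λ` plus the extension property for derivations gives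
adic formal smoothness over `A` -/
theorem isAdicFormallySmooth_of_extProp : IsAdicFormallySmooth A B J := by
  intro E _ _ 𝔑 h𝔑 ψ ⟨k, hk⟩
  letI algΛE : Algebra Λ E := ((algebraMap A E).comp (algebraMap Λ A)).toAlgebra
  haveI : IsScalarTower Λ A E := IsScalarTower.of_algebraMap_eq (fun _ => rfl)
  let ψΛ : B →ₐ[Λ] E ⧸ 𝔑 := ψ.restrictScalars Λ
  obtain ⟨u, hu⟩ := hΛ E 𝔑 h𝔑 ψΛ ⟨k, hk⟩
  have hu' : ∀ b, Ideal.Quotient.mk 𝔑 (u b) = ψ b := fun b => AlgHom.congr_fun hu b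
  letI algBE : Algebra B E := u.toRingHom.toAlgebra
  have hBE : ∀ b, algebraMap B E b = u b := fun b => rfl
  haveI : IsScalarTower Λ B E := IsScalarTower.of_algebraMap_eq (fun l => (u.commutes l).symm)
  have hdiff : ∀ a : A, u (algebraMap A B a) - algebraMap A E a ∈ 𝔑 := by
    intro a
    rw [← Ideal.Quotient.eq, hu', ψ.commutes]
    rfl
  have hsq : ∀ x ∈ 𝔑, ∀ y ∈ 𝔑, x * y = 0 := by
    intro x hx y hy
    have : x * y ∈ 𝔑 ^ 2 := by rw [pow_two]; exact Ideal.mul_mem_mul hx hy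
    rwa [h𝔑] at this
  haveI : IsScalarTower A B 𝔑 := ⟨fun a b n => by
    apply Subtype.ext
    change (a • b) • (n : E) = a • (b • (n : E))
    have e1 : (a • b) • (n : E) = u (algebraMap A B a) * u b * (n : E) := by
      rw [Algebra.smul_def (a • b) (n : E), hBE, Algebra.smul_def a b, map_mul]
    have e2 : a • (b • (n : E)) = algebraMap A E a * (u b * (n : E)) := by
      rw [Algebra.smul_def a, Algebra.smul_def b (n : E), hBE]
    rw [e1, e2]
    have h0 := hsq _ (hdiff a) _ (𝔑.mul_mem_left (u b) n.2)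
    have e : u (algebraMap A B a) * u b * (n : E) - algebraMap A E a * (u b * (n : E)) =
        (u (algebraMap A B a) - algebraMap A E a) * (u b * (n : E)) := by ring
    rw [← sub_eq_zero, e, h0]⟩
  -- the derivation measuring the failure of `u` to be `A`-linear
  have e0 : (Ideal.Quotient.mkₐ Λ 𝔑).comp (u.comp (IsScalarTower.toAlgHom Λ A B)) =
      IsScalarTower.toAlgHom Λ A (E ⧸ 𝔑) := by
    ext a
    change Ideal.Quotient.mk 𝔑 (u (algebraMap A B a)) = algebraMap A (E ⧸ 𝔑) a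
    rw [hu', ψ.commutes]
  let D₀ : Derivation Λ A 𝔑 :=
    derivationToSquareZeroOfLift 𝔑 h𝔑 (u.comp (IsScalarTower.toAlgHom Λ A B)) e0
  have hD₀ : ∀ a, ((D₀ a : 𝔑) : E) = u (algebraMap A B a) - algebraMap A E a := fun a => rfl
  have hJ : ∀ x ∈ J ^ k, ∀ n : 𝔑, x • n = 0 := by
    intro x hx n
    apply Subtype.ext
    change x • (n : E) = 0
    rw [Algebra.smul_def, hBE]
    refine hsq _ ?_ _ n.2
    rw [← Ideal.Quotient.eq_zero_iff_mem, hu']
    exact hk x hx
  obtain ⟨D, hD⟩ := hext k 𝔑 hJ D₀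
  let u' : B →ₐ[Λ] E := liftOfDerivationToSquareZero 𝔑 h𝔑 (-D)
  have hu'' : ∀ b, u' b = -((D b : 𝔑) : E) + u b := fun b => rfl
  refine ⟨{ (u' : B →+* E) with
    commutes' := fun a => ?_ }, ?_⟩
  · change u' (algebraMap A B a) = algebraMap A E a
    rw [hu'', hD, hD₀]
    ring
  · ext b
    change Ideal.Quotient.mk 𝔑 (u' b) = ψ b
    rw [hu'', map_add, map_neg, Ideal.Quotient.eq_zero_iff_mem.mpr (D b).2, neg_zero, zero_add,
      hu']

end assemble

section converse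

/-- composition: `A` formally smooth over `Λ` and `B` adically formally smooth over `A` -/
theorem comp_isAdicFormallySmooth [Algebra.FormallySmooth Λ A] (hAB : IsAdicFormallySmooth A B J) :
    IsAdicFormallySmooth Λ B J := by
  intro E _ _ 𝔑 h𝔑 ψ ⟨k, hk⟩
  let v : A →ₐ[Λ] E :=
    Algebra.FormallySmooth.lift 𝔑 ⟨2, h𝔑⟩ (ψ.comp (IsScalarTower.toAlgHom Λ A B))
  have hv : ∀ a, Ideal.Quotient.mk 𝔑 (v a) = ψ (algebraMap A B a) := fun a =>
    Algebra.FormallySmooth.mk_lift 𝔑 ⟨2, h𝔑⟩ (ψ.comp (IsScalarTower.toAlgHom Λ A B)) a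
  letI : Algebra A E := v.toRingHom.toAlgebra
  haveI : IsScalarTower Λ A E := IsScalarTower.of_algebraMap_eq (fun l => (v.commutes l).symm)
  let ψA : B →ₐ[A] E ⧸ 𝔑 :=
    { (ψ : B →+* E ⧸ 𝔑) with
      commutes' := fun a => by
        change ψ (algebraMap A B a) = algebraMap A (E ⧸ 𝔑) a
        rw [← hv]
        rfl }
  obtain ⟨χ, hχ⟩ := hAB E 𝔑 h𝔑 ψA ⟨k, hk⟩
  refine ⟨χ.restrictScalars Λ, ?_⟩
  ext b
  exact AlgHom.congr_fun hχ b

variable (hAB : IsAdicFormallySmooth A B J)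

include hAB in
/-- injectivity of `C ⊗ (B ⊗ Ω_{A/Λ}) → C ⊗ Ω_{B/Λ}` -/
theorem lTensor_mapBaseChange_injective :
    Function.Injective ((mapBaseChange Λ A B).lTensor (B ⧸ J)) := by
  -- the universal derivation into the source
  let ι₁ : Ω[A⁄Λ] →ₗ[A] B ⊗[A] (Ω[A⁄Λ]) := TensorProduct.mk A B (Ω[A⁄Λ]) 1
  let ι₂ : B ⊗[A] (Ω[A⁄Λ]) →ₗ[A] (B ⧸ J) ⊗[B] (B ⊗[A] (Ω[A⁄Λ])) :=
    (TensorProduct.mk B (B ⧸ J) (B ⊗[A] (Ω[A⁄Λ])) 1).restrictScalars A
  let D₀ : Derivation Λ A ((B ⧸ J) ⊗[B] (B ⊗[A] (Ω[A⁄Λ]))) :=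
    (ι₂ ∘ₗ ι₁).compDer (KaehlerDifferential.D Λ A)
  have hD₀ : ∀ a, D₀ a = (1 : B ⧸ J) ⊗ₜ[B] ((1 : B) ⊗ₜ[A] (KaehlerDifferential.D Λ A a)) :=
    fun a => rfl
  have hN : ∀ x ∈ J ^ 1, ∀ n : (B ⧸ J) ⊗[B] (B ⊗[A] (Ω[A⁄Λ])), x • n = 0 := by
    intro x hx n
    rw [pow_one] at hx
    induction n using TensorProduct.induction_on with
    | zero => exact smul_zero x
    | tmul c y =>
      rw [TensorProduct.smul_tmul', Algebra.smul_def, Ideal.Quotient.algebraMap_eq,
        Ideal.Quotient.eq_zero_iff_mem.mpr hx, zero_mul, TensorProduct.zero_tmul]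
    | add a b ha hb => rw [smul_add, ha, hb, add_zero]
  obtain ⟨D, hD⟩ := exists_ext_der hAB 1 hN D₀
  let lD : Ω[B⁄Λ] →ₗ[B] (B ⧸ J) ⊗[B] (B ⊗[A] (Ω[A⁄Λ])) := D.liftKaehlerDifferential
  let r : (B ⧸ J) ⊗[B] (Ω[B⁄Λ]) →ₗ[B] (B ⧸ J) ⊗[B] (B ⊗[A] (Ω[A⁄Λ])) :=
    (LinearMap.liftBaseChange (B ⧸ J) lD).restrictScalars B
  have key : ∀ (ω : Ω[A⁄Λ]) (c : B ⧸ J) (b : B),
      r ((mapBaseChange Λ A B).lTensor (B ⧸ J) (c ⊗ₜ[B] (b ⊗ₜ[A] ω))) = c ⊗ₜ[B] (b ⊗ₜ[A] ω) := by
    intro ω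
    have hω : ω ∈ Submodule.span A (Set.range (KaehlerDifferential.D Λ A)) := by
      rw [KaehlerDifferential.span_range_derivation]; trivial
    induction hω using Submodule.span_induction with
    | mem ω hω =>
      obtain ⟨a, rfl⟩ := hω
      intro c b
      rw [LinearMap.lTensor_tmul, mapBaseChange_tmul, KaehlerDifferential.map_D]
      change LinearMap.liftBaseChange (B ⧸ J) lD (c ⊗ₜ[B] (b • KaehlerDifferential.D Λ B (algebraMap A B a))) = _
      rw [LinearMap.liftBaseChange_tmul, map_smul]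
      change c • b • D.liftKaehlerDifferential (KaehlerDifferential.D Λ B (algebraMap A B a)) = _
      rw [Derivation.liftKaehlerDifferential_comp_D, hD, hD₀, TensorProduct.smul_tmul',
        TensorProduct.smul_tmul, TensorProduct.smul_tmul', TensorProduct.smul_tmul', smul_eq_mul,
        mul_one, smul_eq_mul, mul_one]
    | zero =>
      intro c b
      simp
    | add ω₁ ω₂ _ _ h₁ h₂ =>
      intro c b
      rw [TensorProduct.tmul_add, TensorProduct.tmul_add, map_add, map_add, h₁, h₂]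
    | smul a' ω _ hω' =>
      intro c b
      rw [← TensorProduct.smul_tmul]
      exact hω' c (a' • b)
  have hrg : ∀ z, r ((mapBaseChange Λ A B).lTensor (B ⧸ J) z) = z := by
    intro z
    induction z using TensorProduct.induction_on with
    | zero => simp
    | tmul c y =>
      induction y using TensorProduct.induction_on with
      | zero => simp
      | tmul b ω => exact key ω c b
      | add y₁ y₂ h₁ h₂ =>
        rw [TensorProduct.tmul_add, map_add, map_add, h₁, h₂]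
    | add z₁ z₂ h₁ h₂ => rw [map_add, map_add, h₁, h₂]
  exact Function.LeftInverse.injective hrg

include hAB in
/-- projectivity of `C ⊗ Ω_{B/A}` -/
theorem projective_tensor_kaehler :
    Module.Projective (B ⧸ J) ((B ⧸ J) ⊗[B] (Ω[B⁄A])) := by
  let out : (((B ⧸ J) ⊗[B] (Ω[B⁄A])) →₀ (B ⧸ J)) →ₗ[B ⧸ J] (B ⧸ J) ⊗[B] (Ω[B⁄A]) :=
    Finsupp.linearCombination (B ⧸ J) id
  have hout : Function.Surjective out := Finsupp.linearCombination_id_surjective _ _
  let p : (((B ⧸ J) ⊗[B] (Ω[B⁄A])) →₀ (B ⧸ J)) →ₗ[B] (B ⧸ J) ⊗[B] (Ω[B⁄A]) :=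
    out.restrictScalars B
  let D'' : Derivation A B ((B ⧸ J) ⊗[B] (Ω[B⁄A])) :=
    (TensorProduct.mk B (B ⧸ J) (Ω[B⁄A]) 1).compDer (KaehlerDifferential.D A B)
  have hD'' : ∀ b, D'' b = (1 : B ⧸ J) ⊗ₜ[B] (KaehlerDifferential.D A B b) := fun b => rfl
  have hM : ∀ x ∈ J ^ 1, ∀ m : (((B ⧸ J) ⊗[B] (Ω[B⁄A])) →₀ (B ⧸ J)), x • m = 0 := by
    intro x hx m
    rw [pow_one] at hx
    rw [← algebraMap_smul (B ⧸ J) x m, Ideal.Quotient.algebraMap_eq,
      Ideal.Quotient.eq_zero_iff_mem.mpr hx, zero_smul]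
  have hM'' : ∀ x ∈ J ^ 1, ∀ n : (B ⧸ J) ⊗[B] (Ω[B⁄A]), x • n = 0 := by
    intro x hx n
    rw [pow_one] at hx
    rw [← algebraMap_smul (B ⧸ J) x n, Ideal.Quotient.algebraMap_eq,
      Ideal.Quotient.eq_zero_iff_mem.mpr hx, zero_smul]
  obtain ⟨D, hD⟩ := exists_lift_der hAB 1 hM hM'' p hout D''
  let lD : Ω[B⁄A] →ₗ[B] (((B ⧸ J) ⊗[B] (Ω[B⁄A])) →₀ (B ⧸ J)) := D.liftKaehlerDifferential
  let hh : (B ⧸ J) ⊗[B] (Ω[B⁄A]) →ₗ[B ⧸ J] (((B ⧸ J) ⊗[B] (Ω[B⁄A])) →₀ (B ⧸ J)) :=
    LinearMap.liftBaseChange (B ⧸ J) lD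
  have key : ∀ (ω : Ω[B⁄A]) (c : B ⧸ J), out (hh (c ⊗ₜ[B] ω)) = c ⊗ₜ[B] ω := by
    intro ω
    have hω : ω ∈ Submodule.span B (Set.range (KaehlerDifferential.D A B)) := by
      rw [KaehlerDifferential.span_range_derivation]; trivial
    induction hω using Submodule.span_induction with
    | mem ω hω =>
      obtain ⟨b, rfl⟩ := hω
      intro c
      rw [LinearMap.liftBaseChange_tmul, map_smul]
      change c • p (D.liftKaehlerDifferential (KaehlerDifferential.D A B b)) = _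
      rw [Derivation.liftKaehlerDifferential_comp_D, hD, hD'', TensorProduct.smul_tmul',
        smul_eq_mul, mul_one]
    | zero =>
      intro c
      simp
    | add ω₁ ω₂ _ _ h₁ h₂ =>
      intro c
      rw [TensorProduct.tmul_add, map_add, map_add, h₁, h₂]
    | smul b' ω _ hω' =>
      intro c
      rw [← TensorProduct.smul_tmul]
      exact hω' (b' • c)
  have hsplit : out ∘ₗ hh = LinearMap.id := by
    apply LinearMap.ext
    intro z
    induction z using TensorProduct.induction_on with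
    | zero => simp
    | tmul c ω => exact key ω c
    | add z₁ z₂ h₁ h₂ =>
      rw [map_add, h₁, h₂]
      rfl
  exact Module.Projective.of_split hh out hsplit

end converse

end Groth.Agent.Lib.helper10.AdicJac
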