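import Mathlib
import Groth.Prelude.Def_W4c1arstab1appArSing

set_option autoImplicit false
universe u

namespace Groth.Agent.Lib.helper10.ArS

open Polynomial

/-- automatic continuity: two `k`-algebra maps out of `k⟦X⟧` into an adically separated
augmented algebra that agree on `X` are equal. -/
theorem algHom_ext_of_X {k : Type*} [Field k] {B : Type*} [CommRing B] [Algebra k B]
    (𝔪 : Ideal B) (h𝔪 : ⨅ n : ℕ, 𝔪 ^ n = ⊥) (ε : B →ₐ[k] k) (hε : RingHom.ker ε ≤ 𝔪)
    (ψ₁ ψ₂ : PowerSeries k →ₐ[k] B) (h : ψ₁ PowerSeries.X = ψ₂ PowerSeries.X) : ψ₁ = ψ₂ := by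
  have hC : ∀ (ψ : PowerSeries k →ₐ[k] B) (c : k), ε (ψ (PowerSeries.C c)) = c := by
    intro ψ c
    have : (PowerSeries.C c : PowerSeries k) = algebraMap k (PowerSeries k) c := rfl
    rw [this, AlgHom.commutes, AlgHom.commutes]
    rfl
  have hu : ψ₁ PowerSeries.X ∈ 𝔪 := by
    apply hε
    rw [RingHom.mem_ker]
    by_contra hc
    have hunit : IsUnit (PowerSeries.X - PowerSeries.C (ε (ψ₁ PowerSeries.X)) : PowerSeries k) := by
      rw [PowerSeries.isUnit_iff_constantCoeff]
      simpa using hc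
    have h2 := (hunit.map ψ₁).map ε
    rw [map_sub, map_sub, hC, sub_self] at h2
    exact not_isUnit_zero h2
  have hpoly : ∀ P : Polynomial k, ψ₁ (P : PowerSeries k) = ψ₂ P := by
    intro P
    have : (ψ₁.comp (Polynomial.coeToPowerSeries.algHom k)) =
        (ψ₂.comp (Polynomial.coeToPowerSeries.algHom k)) := by
      apply Polynomial.algHom_ext
      simpa using h
    exact DFunLike.congr_fun this P
  apply AlgHom.ext
  intro p
  rw [← sub_eq_zero, ← Ideal.mem_bot, ← h𝔪, Ideal.mem_iInf]
  intro n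
  have hp := PowerSeries.eq_shift_mul_X_pow_add_trunc n p
  have e1 : ψ₁ p - ψ₂ p = (ψ₁ (PowerSeries.mk fun i ↦ PowerSeries.coeff (i + n) p) -
      ψ₂ (PowerSeries.mk fun i ↦ PowerSeries.coeff (i + n) p)) * ψ₁ PowerSeries.X ^ n := by
    conv_lhs => rw [hp]
    rw [map_add, map_add, map_mul, map_mul, map_pow, map_pow, hpoly, ← h]
    ring
  rw [e1]
  exact Ideal.mul_mem_left _ _ (Ideal.pow_mem_pow hu n)


variable (k : Type u) [Field k]

/-- `Fin 2 ≃ Option Unit`, `0 ↦ some ()`, `1 ↦ none`. -/
def e2 : Fin 2 ≃ Option Unit where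
  toFun i := if i = 0 then some () else none
  invFun o := match o with
    | some _ => 0
    | none => 1
  left_inv := by decide
  right_inv := by
    rintro (_ | ⟨⟩) <;> rfl

/-- `k⟦x,y⟧ ≃ k⟦t⟧⟦Y⟧`, `x ↦ C t`, `y ↦ Y`. -/
noncomputable def Psi : MvPowerSeries (Fin 2) k ≃ₐ[k] PowerSeries (PowerSeries k) :=
  (MvPowerSeries.renameEquiv k e2).trans (MvPowerSeries.optionEquivLeft Unit k)

lemma Psi_X0 : Psi k (MvPowerSeries.X 0) = PowerSeries.C (PowerSeries.X : PowerSeries k) := by
  show MvPowerSeries.optionEquivLeft Unit k (MvPowerSeries.rename e2 (MvPowerSeries.X 0)) = _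
  rw [MvPowerSeries.rename_X]
  exact MvPowerSeries.optionEquivLeft_X_some (R := k) ()

lemma Psi_X1 : Psi k (MvPowerSeries.X 1) = (PowerSeries.X : PowerSeries (PowerSeries k)) := by
  show MvPowerSeries.optionEquivLeft Unit k (MvPowerSeries.rename e2 (MvPowerSeries.X 1)) = _
  rw [MvPowerSeries.rename_X]
  exact MvPowerSeries.optionEquivLeft_X_none (R := k) (σ := Unit)


/-- automatic continuity, local noetherian target with an augmentation. -/
theorem algHom_ext_of_X' {B : Type*} [CommRing B] [Algebra k B] [IsLocalRing B]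
    [IsNoetherianRing B] (ε : B →ₐ[k] k) (ψ₁ ψ₂ : PowerSeries k →ₐ[k] B)
    (h : ψ₁ PowerSeries.X = ψ₂ PowerSeries.X) : ψ₁ = ψ₂ :=
  algHom_ext_of_X (IsLocalRing.maximalIdeal B)
    (Ideal.iInf_pow_eq_bot_of_isLocalRing _ (IsLocalRing.maximalIdeal.isMaximal B).ne_top) ε
    (IsLocalRing.le_maximalIdeal (RingHom.ker_ne_top _)) ψ₁ ψ₂ h

/-- `C` as a `k`-algebra map `k⟦t⟧ → k⟦t⟧⟦Y⟧`. -/
noncomputable def Calg : PowerSeries k →ₐ[k] PowerSeries (PowerSeries k) :=
  { (PowerSeries.C : PowerSeries k →+* PowerSeries (PowerSeries k)) with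
    commutes' := fun c => by
      show PowerSeries.C (algebraMap k (PowerSeries k) c) =
        (algebraMap k (PowerSeries (PowerSeries k))) c
      rw [PowerSeries.algebraMap_apply, PowerSeries.algebraMap_apply]
      simp }

lemma Calg_apply (p : PowerSeries k) : Calg k p = PowerSeries.C p := rfl

/-- the augmentation of `k⟦x,y⟧`. -/
noncomputable def eps2 : MvPowerSeries (Fin 2) k →ₐ[k] k :=
  { (MvPowerSeries.constantCoeff : MvPowerSeries (Fin 2) k →+* k) with
    commutes' := fun c => by
      show MvPowerSeries.constantCoeff (MvPowerSeries.C c) = c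
      simp }

lemma eps2_apply (F : MvPowerSeries (Fin 2) k) : eps2 k F = MvPowerSeries.constantCoeff F := rfl

/-- substitution `t ↦ x`. -/
noncomputable def s0 : PowerSeries k →ₐ[k] MvPowerSeries (Fin 2) k :=
  PowerSeries.substAlgHom
    (PowerSeries.HasSubst.of_constantCoeff_zero
      (MvPowerSeries.constantCoeff_X (0 : Fin 2) : MvPowerSeries.constantCoeff
        (MvPowerSeries.X (0 : Fin 2) : MvPowerSeries (Fin 2) k) = 0))

lemma s0_X : s0 k PowerSeries.X = MvPowerSeries.X 0 := PowerSeries.substAlgHom_X _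

lemma Psi_s0 (p : PowerSeries k) : Psi k (s0 k p) = PowerSeries.C p := by
  have : ((Psi k : MvPowerSeries (Fin 2) k →ₐ[k] PowerSeries (PowerSeries k)).comp (s0 k)) =
      Calg k := by
    apply algHom_ext_of_X' k ((eps2 k).comp (Psi k).symm)
    rw [AlgHom.comp_apply, s0_X, Calg_apply]
    exact Psi_X0 k
  exact DFunLike.congr_fun this p


variable (r : ℕ)

/-- `Y² - t^(r+1)` as a polynomial over `k⟦t⟧`. -/
noncomputable def gpoly : Polynomial (PowerSeries k) :=
  Polynomial.X ^ 2 - Polynomial.C (PowerSeries.X ^ (r + 1))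

lemma gpoly_monic : (gpoly k r).Monic :=
  Polynomial.monic_X_pow_sub_C _ (by norm_num)

lemma gpoly_natDegree : (gpoly k r).natDegree = 2 := Polynomial.natDegree_X_pow_sub_C

lemma gpoly_dist : (gpoly k r).IsDistinguishedAt (Ideal.span {(PowerSeries.X : PowerSeries k)}) := by
  refine ⟨⟨fun {n} hn => ?_⟩, gpoly_monic k r⟩
  rw [gpoly_natDegree] at hn
  unfold gpoly
  rw [Polynomial.coeff_sub, Polynomial.coeff_X_pow, Polynomial.coeff_C, if_neg (by omega)]
  by_cases h0 : n = 0
  · rw [if_pos h0, zero_sub, pow_succ]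
    exact neg_mem (Ideal.mul_mem_left _ _ (Ideal.mem_span_singleton_self _))
  · rw [if_neg h0, sub_zero]
    exact zero_mem _

lemma coe_gpoly : ((gpoly k r : Polynomial (PowerSeries k)) : PowerSeries (PowerSeries k)) =
    PowerSeries.X ^ 2 - PowerSeries.C (PowerSeries.X ^ (r + 1)) := by
  unfold gpoly
  rw [Polynomial.coe_sub, Polynomial.coe_pow, Polynomial.coe_X, Polynomial.coe_C]

lemma Psi_eqn : Psi k (ArSing.eqn k r) = (gpoly k r : PowerSeries (PowerSeries k)) := by
  rw [coe_gpoly]
  unfold ArSing.eqn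
  rw [map_sub, map_pow, map_pow, Psi_X0, Psi_X1, map_pow]

/-- the quotient isomorphism induced by `Psi`. -/
noncomputable def Q : ArSing.ring k r ≃ₐ[k]
    (PowerSeries (PowerSeries k) ⧸
      Ideal.span {((gpoly k r : Polynomial (PowerSeries k)) : PowerSeries (PowerSeries k))}) :=
  Ideal.quotientEquivAlg _ _ (Psi k) (by
    rw [Ideal.map_span, Set.image_singleton]
    congr 2
    exact (Psi_eqn k r).symm)

lemma Q_mk (F : MvPowerSeries (Fin 2) k) :
    Q k r (Ideal.Quotient.mk _ F) = Ideal.Quotient.mk _ (Psi k F) := rfl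

lemma xMap_apply (p : PowerSeries k) :
    ArSing.xMap k r p = Ideal.Quotient.mk _ (s0 k p) := rfl


lemma Q_repr (p q : PowerSeries k) :
    Q k r (ArSing.xMap k r p + ArSing.xMap k r q * ArSing.y k r) =
      Ideal.Quotient.mk _ (((Polynomial.C p + Polynomial.C q * Polynomial.X :
        Polynomial (PowerSeries k)) : PowerSeries (PowerSeries k))) := by
  rw [xMap_apply, xMap_apply]
  show Q k r (Ideal.Quotient.mk _ (s0 k p + s0 k q * MvPowerSeries.X 1)) = _
  rw [Q_mk, map_add, map_mul, Psi_s0, Psi_s0, Psi_X1, Polynomial.coe_add, Polynomial.coe_mul,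
    Polynomial.coe_C, Polynomial.coe_C, Polynomial.coe_X]

attribute [-instance] PowerSeries.algebraPowerSeries MvPowerSeries.algebraMvPowerSeries in
/-- Weierstrass division isomorphism (as a ring isomorphism, to avoid the instance diamond
on `Algebra k⟦t⟧ k⟦t⟧⟦Y⟧`). -/
noncomputable def W : (Polynomial (PowerSeries k) ⧸ Ideal.span {gpoly k r}) ≃+*
    (PowerSeries (PowerSeries k) ⧸
      Ideal.span {((gpoly k r : Polynomial (PowerSeries k)) : PowerSeries (PowerSeries k))}) :=
  ((gpoly_dist k r).algEquivQuotient).toRingEquiv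

lemma W_mk (f : Polynomial (PowerSeries k)) :
    W k r (Ideal.Quotient.mk _ f) =
      Ideal.Quotient.mk _ (f : PowerSeries (PowerSeries k)) := rfl

/-- existence of the normal form `p(x) + q(x) y`. -/
theorem exists_repr (a : ArSing.ring k r) :
    ∃ p q : PowerSeries k, a = ArSing.xMap k r p + ArSing.xMap k r q * ArSing.y k r := by
  obtain ⟨c, hc⟩ := (W k r).surjective (Q k r a)
  obtain ⟨f, rfl⟩ := Ideal.Quotient.mk_surjective c
  have hdeg : (f %ₘ gpoly k r).natDegree ≤ 1 := by
    have := Polynomial.natDegree_modByMonic_lt f (gpoly_monic k r)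
      (fun h => by
        have := gpoly_natDegree k r
        rw [h, Polynomial.natDegree_one] at this
        omega)
    rw [gpoly_natDegree] at this
    omega
  obtain ⟨q, p, hqp⟩ := Polynomial.exists_eq_X_add_C_of_natDegree_le_one hdeg
  refine ⟨p, q, ?_⟩
  apply (Q k r).injective
  rw [Q_repr, ← hc, W_mk]
  have h1 : (Ideal.Quotient.mk (Ideal.span {gpoly k r})) f =
      Ideal.Quotient.mk _ (Polynomial.C p + Polynomial.C q * Polynomial.X) := by
    rw [Ideal.Quotient.eq, Ideal.mem_span_singleton]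
    refine ⟨f /ₘ gpoly k r, ?_⟩
    have := Polynomial.modByMonic_add_div f (gpoly k r)
    rw [hqp] at this
    conv_lhs => rw [← this]
    ring
  rw [← W_mk, ← W_mk, h1]

/-- uniqueness of the normal form. -/
theorem repr_unique {p q : PowerSeries k}
    (h : ArSing.xMap k r p + ArSing.xMap k r q * ArSing.y k r = 0) : p = 0 ∧ q = 0 := by
  have h1 := congrArg (Q k r) h
  rw [Q_repr, map_zero, ← W_mk] at h1
  have h2 : (Ideal.Quotient.mk (Ideal.span {gpoly k r}))
      (Polynomial.C p + Polynomial.C q * Polynomial.X) = 0 := by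
    apply (W k r).injective
    rw [h1, map_zero]
  rw [Ideal.Quotient.eq_zero_iff_mem, Ideal.mem_span_singleton] at h2
  have h3 : (Polynomial.C p + Polynomial.C q * Polynomial.X : Polynomial (PowerSeries k)) = 0 := by
    by_contra hne
    have := Polynomial.natDegree_le_of_dvd h2 hne
    rw [gpoly_natDegree] at this
    have h4 : (Polynomial.C p + Polynomial.C q * Polynomial.X :
        Polynomial (PowerSeries k)).natDegree ≤ 1 := by
      refine (Polynomial.natDegree_add_le _ _).trans (max_le ?_ ?_)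
      · simp
      · exact (Polynomial.natDegree_C_mul_le _ _).trans (by simp)
    omega
  constructor
  · have := congrArg (fun f => Polynomial.coeff f 0) h3
    simpa using this
  · have := congrArg (fun f => Polynomial.coeff f 1) h3
    simpa using this

end Groth.Agent.Lib.helper10.ArS
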