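import Groth.Agent.Lib.helper10.ArSingA

set_option autoImplicit false
universe u

namespace Groth.Agent.Lib.helper10.ArS

variable (k : Type u) [Field k] (r : ℕ)

local notation "A" => ArSing.ring k r
local notation "ι" => ArSing.xMap k r
local notation "x" => ArSing.x k r
local notation "y" => ArSing.y k r

lemma xMap_X : ι PowerSeries.X = x := by
  rw [xMap_apply, s0_X]

lemma y_mul_y : y * y = ι (PowerSeries.X ^ (r + 1)) := by
  rw [map_pow, xMap_X]
  have : (Ideal.Quotient.mk (Ideal.span {ArSing.eqn k r}))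
      (MvPowerSeries.X 1 ^ 2 - MvPowerSeries.X 0 ^ (r + 1)) = 0 :=
    Ideal.Quotient.eq_zero_iff_mem.mpr (Ideal.mem_span_singleton_self _)
  rw [map_sub, map_pow, map_pow, sub_eq_zero] at this
  show y * y = x ^ (r + 1)
  rw [← pow_two]
  exact this

lemma y_sq : y ^ 2 = x ^ (r + 1) := by
  rw [pow_two, y_mul_y, map_pow, xMap_X]

/-- multiplication in normal form. -/
lemma repr_mul (p q p' q' : PowerSeries k) :
    (ι p + ι q * y) * (ι p' + ι q' * y) =
      ι (p * p' + PowerSeries.X ^ (r + 1) * (q * q')) + ι (p * q' + q * p') * y := by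
  have h := y_mul_y k r
  simp only [map_add, map_mul] at h ⊢
  calc (ι p + ι q * y) * (ι p' + ι q' * y)
      = ι p * ι p' + (ι q * ι q') * (y * y) + (ι p * ι q' + ι q * ι p') * y := by ring
    _ = _ := by rw [h]; ring

lemma repr_eq_iff {p q p' q' : PowerSeries k} :
    ι p + ι q * y = ι p' + ι q' * y ↔ p = p' ∧ q = q' := by
  constructor
  · intro h
    have : ι (p - p') + ι (q - q') * y = 0 := by
      rw [map_sub, map_sub]
      linear_combination h
    obtain ⟨h1, h2⟩ := repr_unique k r this
    exact ⟨sub_eq_zero.mp h1, sub_eq_zero.mp h2⟩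
  · rintro ⟨rfl, rfl⟩; rfl

lemma xMap_injective : Function.Injective ι := by
  intro p p' h
  have : ι p + ι 0 * y = ι p' + ι 0 * y := by rw [h]
  exact ((repr_eq_iff k r).mp this).1

/-- the augmentation `A_r → k`. -/
noncomputable def eps : A →ₐ[k] k :=
  Ideal.Quotient.liftₐ _ (eps2 k) (by
    intro a ha
    obtain ⟨b, rfl⟩ := Ideal.mem_span_singleton'.mp ha
    rw [map_mul]
    have : eps2 k (ArSing.eqn k r) = 0 := by
      rw [eps2_apply]
      unfold ArSing.eqn
      simp
    rw [this, mul_zero])

lemma eps_mk (F : MvPowerSeries (Fin 2) k) :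
    eps k r (Ideal.Quotient.mk _ F) = MvPowerSeries.constantCoeff F := rfl

lemma eps_x : eps k r x = 0 := by
  show eps k r (Ideal.Quotient.mk _ _) = 0
  rw [eps_mk]; simp

lemma eps_y : eps k r y = 0 := by
  show eps k r (Ideal.Quotient.mk _ _) = 0
  rw [eps_mk]; simp

instance : Nontrivial A := by
  refine ⟨⟨0, 1, fun h => ?_⟩⟩
  have := congrArg (eps k r) h
  rw [map_zero, map_one] at this
  exact zero_ne_one this

instance : IsLocalRing A :=
  IsLocalRing.of_surjective' (Ideal.Quotient.mk (Ideal.span {ArSing.eqn k r}))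
    Ideal.Quotient.mk_surjective

/-- automatic continuity for maps `k⟦t⟧ → A_r`. -/
theorem algHom_ext_X (ψ₁ ψ₂ : PowerSeries k →ₐ[k] A)
    (h : ψ₁ PowerSeries.X = ψ₂ PowerSeries.X) : ψ₁ = ψ₂ :=
  algHom_ext_of_X' k (eps k r) ψ₁ ψ₂ h

lemma eps_xMap (p : PowerSeries k) : eps k r (ι p) = PowerSeries.constantCoeff p := by
  have : (eps k r).comp ι = (⟨PowerSeries.constantCoeff, fun c => by
      show PowerSeries.constantCoeff (PowerSeries.C c) = c
      simp⟩ : PowerSeries k →ₐ[k] k) := by
    have hB : ⨅ n : ℕ, (⊥ : Ideal k) ^ n = ⊥ := by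
      apply le_antisymm _ bot_le
      exact (iInf_le _ 1).trans (by simp)
    apply algHom_ext_of_X (⊥ : Ideal k) hB (AlgHom.id k k) (by
      intro z hz; simpa using hz)
    rw [AlgHom.comp_apply, xMap_X, eps_x]
    simp
  exact DFunLike.congr_fun this p


/-- a ring map with a two element "basis" `1, b` is flat. -/
lemma flat_of_basis_two {R S : Type*} [CommRing R] [CommRing S] (f : R →+* S) (b : S)
    (hex : ∀ a : S, ∃ p q : R, a = f p + f q * b)
    (huniq : ∀ p q : R, f p + f q * b = 0 → p = 0 ∧ q = 0) : f.Flat := by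
  letI : Algebra R S := f.toAlgebra
  show Module.Flat R S
  have hsmul : ∀ (c : R) (a : S), c • a = f c * a := fun c a => by
    rw [Algebra.smul_def]; rfl
  let φ : (R × R) →ₗ[R] S :=
    { toFun := fun pq => f pq.1 + f pq.2 * b
      map_add' := fun u v => by
        simp only [Prod.fst_add, Prod.snd_add, map_add]; ring
      map_smul' := fun c u => by
        simp only [Prod.smul_fst, Prod.smul_snd, smul_eq_mul, map_mul, RingHom.id_apply, hsmul]
        ring }
  have hbij : Function.Bijective φ := by
    constructor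
    · rw [injective_iff_map_eq_zero]
      rintro ⟨p, q⟩ h
      obtain ⟨h1, h2⟩ := huniq p q h
      rw [h1, h2]; rfl
    · intro a
      obtain ⟨p, q, rfl⟩ := hex a
      exact ⟨(p, q), rfl⟩
  have : Module.Free R S := Module.Free.of_equiv (LinearEquiv.ofBijective φ hbij)
  infer_instance

/-- length of a cyclic quotient that is a quotient of `k⟦t⟧` by `(t^n)`. -/
lemma length_eq_of_powerSeries_surj {B R' : Type*} [CommRing B] [CommRing R'] [Algebra B R']
    (hB : Function.Surjective (algebraMap B R')) (f : PowerSeries k →+* R')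
    (hf : Function.Surjective f) (n : ℕ)
    (hker : RingHom.ker f = Ideal.span {(PowerSeries.X : PowerSeries k) ^ n}) :
    Module.length B R' = n := by
  rw [Module.length_eq_of_surjective (S := B) (R := R') (M := R') hB]
  letI : Algebra (PowerSeries k) R' := f.toAlgebra
  rw [← Module.length_eq_of_surjective (S := PowerSeries k) (R := R') (M := R') hf]
  have hf' : Function.Surjective (Algebra.linearMap (PowerSeries k) R') := hf
  have e1 := (Algebra.linearMap (PowerSeries k) R').quotKerEquivOfSurjective hf'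
  have hk : LinearMap.ker (Algebra.linearMap (PowerSeries k) R') =
      (IsLocalRing.maximalIdeal (PowerSeries k)) ^ n := by
    rw [PowerSeries.maximalIdeal_eq_span_X, Ideal.span_singleton_pow, ← hker]
    rfl
  rw [← e1.length_eq, (Submodule.quotEquivOfEq _ _ hk).length_eq]
  exact IsDiscreteValuationRing.length_quotient_pow_maximalIdeal (PowerSeries k) n

/-- how an automorphism acts on `k⟦x⟧ ⊆ A_r`. -/
lemma algEquiv_xMap (σ : A ≃ₐ[k] A) (τ : PowerSeries k →ₐ[k] PowerSeries k)
    (h : σ x = ι (τ PowerSeries.X)) (p : PowerSeries k) : σ (ι p) = ι (τ p) := by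
  have : (σ : A →ₐ[k] A).comp ι = (ι).comp τ := by
    apply algHom_ext_X
    rw [AlgHom.comp_apply, AlgHom.comp_apply, xMap_X]
    exact h
  exact DFunLike.congr_fun this p

end Groth.Agent.Lib.helper10.ArS
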