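import Groth.Agent.Lib.helper10.ArSingB

set_option autoImplicit false
universe u

namespace Groth.Agent.Lib.helper10.ArS

variable (k : Type u) [Field k] (r : ℕ)

local notation "A" => ArSing.ring k r
local notation "ι" => ArSing.xMap k r
local notation "x" => ArSing.x k r
local notation "y" => ArSing.y k r

lemma repr_mul_y (p q : PowerSeries k) :
    (ι p + ι q * y) * y = ι (PowerSeries.X ^ (r + 1) * q) + ι p * y := by
  have := repr_mul k r p q 0 1
  simp only [map_zero, map_one, one_mul, zero_add, mul_zero, mul_one, add_zero] at this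
  rw [this]

lemma repr_mul_x (p q : PowerSeries k) :
    (ι p + ι q * y) * x = ι (p * PowerSeries.X) + ι (q * PowerSeries.X) * y := by
  rw [map_mul, map_mul, xMap_X]; ring

lemma y_mem_nonZeroDivisors : y ∈ nonZeroDivisors A := by
  rw [mem_nonZeroDivisors_iff_right]
  intro z hz
  obtain ⟨p, q, rfl⟩ := exists_repr k r z
  rw [repr_mul_y] at hz
  obtain ⟨h1, h2⟩ := repr_unique k r hz
  have hq : q = 0 := by
    rcases mul_eq_zero.mp h1 with h | h
    · exact absurd h (pow_ne_zero _ PowerSeries.X_ne_zero)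
    · exact h
  rw [h2, hq]; simp

lemma x_mem_nonZeroDivisors : x ∈ nonZeroDivisors A := by
  rw [mem_nonZeroDivisors_iff_right]
  intro z hz
  obtain ⟨p, q, rfl⟩ := exists_repr k r z
  rw [repr_mul_x] at hz
  obtain ⟨h1, h2⟩ := repr_unique k r hz
  have hp : p = 0 := by
    rcases mul_eq_zero.mp h1 with h | h
    · exact h
    · exact absurd h PowerSeries.X_ne_zero
  have hq : q = 0 := by
    rcases mul_eq_zero.mp h2 with h | h
    · exact h
    · exact absurd h PowerSeries.X_ne_zero
  rw [hp, hq]; simp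

lemma map_maximalIdeal_ne_top :
    Ideal.map ι (IsLocalRing.maximalIdeal (PowerSeries k)) ≠ ⊤ := by
  intro h
  have hle : Ideal.map ι (IsLocalRing.maximalIdeal (PowerSeries k)) ≤
      RingHom.ker (eps k r) := by
    rw [Ideal.map_le_iff_le_comap]
    intro p hp
    rw [Ideal.mem_comap, RingHom.mem_ker, eps_xMap]
    rw [← PowerSeries.ker_coeff_eq_max_ideal, RingHom.mem_ker] at hp
    exact hp
  rw [h, top_le_iff] at hle
  exact RingHom.ker_ne_top _ hle

section S14093


lemma sigma1_repr (σ : A ≃ₐ[k] A) (hx : σ x = x) (hy : σ y = -y) (p q : PowerSeries k) : σ (ι p + ι q * y) = ι p + ι (-q) * y := by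
  have h1 : ∀ p, σ (ι p) = ι p := fun p => by
    have := algEquiv_xMap k r σ (AlgHom.id k _) (by rw [AlgHom.id_apply, xMap_X]; exact hx) p
    simpa using this
  rw [map_add, map_mul, h1, h1, hy, map_neg]; ring

lemma sigma1_fixed_iff (h2 : (2 : k) ≠ 0) (σ : A ≃ₐ[k] A) (hx : σ x = x) (hy : σ y = -y) (a : A) : σ a = a ↔ a ∈ (ι).range := by
  obtain ⟨p, q, rfl⟩ := exists_repr k r a
  rw [sigma1_repr k r σ hx hy, repr_eq_iff]
  constructor
  · rintro ⟨-, h⟩
    have hq : q = 0 := by
      ext n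
      have := congrArg (PowerSeries.coeff n) h
      rw [map_neg, neg_eq_iff_add_eq_zero, ← two_mul] at this
      rw [map_zero]
      exact (mul_eq_zero.mp this).resolve_left h2
    rw [hq]
    exact ⟨p, by simp⟩
  · rintro ⟨p', hp'⟩
    have hp'' : ι p' = ι p + ι q * y := hp'
    have : ι p' + ι 0 * y = ι p + ι q * y := by rw [hp'']; simp
    obtain ⟨-, h⟩ := (repr_eq_iff k r).mp this
    rw [← h]; simp

lemma sigma1_ideal (h2 : (2 : k) ≠ 0) (σ : A ≃ₐ[k] A) (hx : σ x = x) (hy : σ y = -y) :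
    Ideal.span (Set.range fun a : A => σ a - a) = Ideal.span {y} := by
  apply le_antisymm
  · rw [Ideal.span_le]
    rintro _ ⟨a, rfl⟩
    obtain ⟨p, q, rfl⟩ := exists_repr k r a
    show σ (ι p + ι q * y) - (ι p + ι q * y) ∈ _
    rw [sigma1_repr k r σ hx hy, SetLike.mem_coe, Ideal.mem_span_singleton']
    exact ⟨ι (-q) - ι q, by ring⟩
  · rw [Ideal.span_le, Set.singleton_subset_iff, SetLike.mem_coe]
    have h1 : σ y - y ∈ Ideal.span (Set.range fun a : A => σ a - a) :=
      Ideal.subset_span ⟨y, rfl⟩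
    have h3 : y = algebraMap k A (-2)⁻¹ * (σ y - y) := by
      rw [hy]
      have : -y - y = algebraMap k A (-2) * y := by
        rw [map_neg, map_ofNat]; ring
      rw [this, ← mul_assoc, ← map_mul, inv_mul_cancel₀ (neg_ne_zero.mpr h2), map_one, one_mul]
    rw [h3]
    exact Ideal.mul_mem_left _ _ h1

end S14093

/-- length of `A_r/(y)`. -/
lemma length_quot_y : Module.length A (A ⧸ Ideal.span {y}) = ((r + 1 : ℕ) : ℕ∞) := by
  refine (length_eq_of_powerSeries_surj k (B := A) (R' := A ⧸ Ideal.span {y})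
    Ideal.Quotient.mk_surjective
    ((Ideal.Quotient.mk (Ideal.span {y})).comp (ι : PowerSeries k →+* A)) ?_ (r + 1) ?_ :)
  · intro b
    obtain ⟨a, rfl⟩ := Ideal.Quotient.mk_surjective b
    obtain ⟨p, q, rfl⟩ := exists_repr k r a
    refine ⟨p, ?_⟩
    rw [RingHom.comp_apply, eq_comm, Ideal.Quotient.eq, Ideal.mem_span_singleton']
    exact ⟨ι q, by simp⟩
  · ext p
    rw [RingHom.mem_ker, RingHom.comp_apply, Ideal.Quotient.eq_zero_iff_mem,
      Ideal.mem_span_singleton', Ideal.mem_span_singleton]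
    constructor
    · rintro ⟨a, ha⟩
      obtain ⟨p', q', rfl⟩ := exists_repr k r a
      rw [repr_mul_y] at ha
      have : ι (PowerSeries.X ^ (r + 1) * q') + ι p' * y = ι p + ι 0 * y := by
        rw [ha]; simp
      obtain ⟨h1, -⟩ := (repr_eq_iff k r).mp this
      exact ⟨q', h1.symm⟩
    · rintro ⟨q', rfl⟩
      refine ⟨ι q' * y, ?_⟩
      rw [mul_assoc, y_mul_y, ← map_mul]
      simp [mul_comm]

end Groth.Agent.Lib.helper10.ArS
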