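import Mathlib

set_option autoImplicit false
universe u

namespace Groth.Agent.Lib.helper10.ArS

open PowerSeries

variable {k : Type u} [Field k]

/-- `p(t) ↦ p(t²)`. -/
noncomputable def E : PowerSeries k →ₐ[k] PowerSeries k := PowerSeries.expand 2 (by norm_num)

lemma E_X : E (X : PowerSeries k) = X ^ 2 := PowerSeries.expand_X 2 (by norm_num)

lemma coeff_E (p : PowerSeries k) (n : ℕ) :
    coeff n (E p) = if 2 ∣ n then coeff (n / 2) p else 0 :=
  PowerSeries.coeff_expand 2 (by norm_num) p

lemma constantCoeff_E (p : PowerSeries k) : constantCoeff (E p) = constantCoeff p :=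
  PowerSeries.constantCoeff_expand 2 (by norm_num) p

/-- even part. -/
noncomputable def ev (p : PowerSeries k) : PowerSeries k := mk fun n => coeff (2 * n) p

/-- odd part. -/
noncomputable def od (p : PowerSeries k) : PowerSeries k := mk fun n => coeff (2 * n + 1) p

lemma coeff_E_add (a b : PowerSeries k) (n : ℕ) :
    coeff n (E a + X * E b) = if 2 ∣ n then coeff (n / 2) a else coeff (n / 2) b := by
  rw [map_add, coeff_E]
  rcases n with _ | n
  · simp
  · rw [coeff_succ_X_mul, coeff_E]
    by_cases h : 2 ∣ n + 1
    · have h' : ¬ 2 ∣ n := by omega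
      simp only [if_pos h, if_neg h', add_zero]
    · have h' : 2 ∣ n := by omega
      simp only [if_neg h, if_pos h', zero_add]
      have : n / 2 = (n + 1) / 2 := by omega
      rw [this]

lemma even_odd (p : PowerSeries k) : p = E (ev p) + X * E (od p) := by
  ext n
  rw [coeff_E_add]
  by_cases h : 2 ∣ n
  · rw [if_pos h, ev, coeff_mk]
    have : 2 * (n / 2) = n := by omega
    rw [this]
  · rw [if_neg h, od, coeff_mk]
    have : 2 * (n / 2) + 1 = n := by omega
    rw [this]

lemma even_odd_unique {a b a' b' : PowerSeries k} (h : E a + X * E b = E a' + X * E b') :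
    a = a' ∧ b = b' := by
  constructor
  · ext n
    have := congrArg (coeff (2 * n)) h
    rw [coeff_E_add, coeff_E_add, if_pos (dvd_mul_right _ _), if_pos (dvd_mul_right _ _)] at this
    simpa using this
  · ext n
    have := congrArg (coeff (2 * n + 1)) h
    rw [coeff_E_add, coeff_E_add, if_neg (by omega), if_neg (by omega)] at this
    have h2 : (2 * n + 1) / 2 = n := by omega
    rwa [h2] at this

lemma even_odd_eq_zero {a b : PowerSeries k} (h : E a + X * E b = 0) : a = 0 ∧ b = 0 := by
  have : E a + X * E b = E 0 + X * E 0 := by rw [h]; simp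
  exact even_odd_unique this

/-- `p(t) ↦ p(-t)`. -/
noncomputable def T : PowerSeries k →ₐ[k] PowerSeries k := PowerSeries.rescaleAlgHom (-1)

lemma T_apply (p : PowerSeries k) : T p = rescale (-1 : k) p := by
  unfold T
  exact DFunLike.congr_fun (PowerSeries.coe_rescaleAlgHom (-1 : k)) p

lemma T_X : T (X : PowerSeries k) = -X := by
  rw [T_apply, rescale_neg_one_X]

lemma T_E (p : PowerSeries k) : T (E p) = E p := by
  ext n
  rw [T_apply, coeff_rescale, coeff_E]
  by_cases h : 2 ∣ n
  · rw [if_pos h]
    obtain ⟨m, rfl⟩ := h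
    rw [pow_mul]; simp
  · rw [if_neg h, mul_zero]

lemma T_even_odd (a b : PowerSeries k) : T (E a + X * E b) = E a + X * E (-b) := by
  rw [map_add, map_mul, T_E, T_E, T_X, map_neg]; ring

lemma constantCoeff_T (p : PowerSeries k) : constantCoeff (T p) = constantCoeff p := by
  rw [T_apply, ← coeff_zero_eq_constantCoeff_apply, ← coeff_zero_eq_constantCoeff_apply,
    coeff_rescale]
  simp

lemma neg_eq_self_iff (h2 : (2 : k) ≠ 0) (b : PowerSeries k) : -b = b ↔ b = 0 := by
  constructor
  · intro h
    ext n
    have := congrArg (coeff n) h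
    rw [map_neg, neg_eq_iff_add_eq_zero, ← two_mul] at this
    rw [map_zero]
    exact (mul_eq_zero.mp this).resolve_left h2
  · rintro rfl; simp

/-- splitting off the constant term. -/
lemma eq_C_add_X_mul (p : PowerSeries k) :
    p = C (constantCoeff p) + X * mk (fun n => coeff (n + 1) p) := by
  ext n
  rcases n with _ | n
  · simp
  · rw [map_add, coeff_succ_X_mul, coeff_mk, coeff_C, if_neg (by omega), zero_add]

lemma exists_eq_X_mul_of_constantCoeff_eq_zero {p : PowerSeries k} (h : constantCoeff p = 0) :
    ∃ p' : PowerSeries k, p = X * p' := by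
  refine ⟨mk (fun n => coeff (n + 1) p), ?_⟩
  conv_lhs => rw [eq_C_add_X_mul p, h, map_zero, zero_add]

end Groth.Agent.Lib.helper10.ArS
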