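import Groth.Agent.Lib.helper10.ArSingC
import Groth.Agent.Lib.helper10.ArSingD

set_option autoImplicit false
universe u

namespace Groth.Agent.Lib.helper10.ArS

variable (k : Type u) [Field k] (r : ℕ)

local notation "A" => ArSing.ring k r
local notation "ι" => ArSing.xMap k r
local notation "x" => ArSing.x k r
local notation "y" => ArSing.y k r

/-- how an algebra map `A_s → A_r` acts on `k⟦x⟧`. -/
lemma algHom_xMap (s : ℕ) (φ : ArSing.ring k s →ₐ[k] A) (τ : PowerSeries k →ₐ[k] PowerSeries k)
    (h : φ (ArSing.x k s) = ι (τ PowerSeries.X)) (p : PowerSeries k) :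
    φ (ArSing.xMap k s p) = ι (τ p) := by
  have : φ.comp (ArSing.xMap k s) = (ι).comp τ := by
    apply algHom_ext_X
    rw [AlgHom.comp_apply, AlgHom.comp_apply, xMap_X]
    exact h
  exact DFunLike.congr_fun this p

lemma eps_repr (p q : PowerSeries k) :
    eps k r (ι p + ι q * y) = PowerSeries.constantCoeff p := by
  rw [map_add, map_mul, eps_xMap, eps_y, mul_zero, add_zero]

lemma xMap_C (c : k) : ι (PowerSeries.C c) = algebraMap k A c := by
  have : (PowerSeries.C c : PowerSeries k) = algebraMap k (PowerSeries k) c := rfl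
  rw [this, AlgHom.commutes]

/-- elements of the augmentation ideal. -/
lemma exists_of_eps_eq_zero {a : A} (h : eps k r a = 0) :
    ∃ p q : PowerSeries k, a = x * ι p + ι q * y := by
  obtain ⟨p, q, rfl⟩ := exists_repr k r a
  rw [eps_repr] at h
  obtain ⟨p', rfl⟩ := exists_eq_X_mul_of_constantCoeff_eq_zero h
  exact ⟨p', q, by rw [map_mul, xMap_X]⟩

/-- substitution `t ↦ y` into `k⟦x,y⟧`. -/
noncomputable def s1 : PowerSeries k →ₐ[k] MvPowerSeries (Fin 2) k :=
  PowerSeries.substAlgHom
    (PowerSeries.HasSubst.of_constantCoeff_zero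
      (MvPowerSeries.constantCoeff_X (1 : Fin 2) : MvPowerSeries.constantCoeff
        (MvPowerSeries.X (1 : Fin 2) : MvPowerSeries (Fin 2) k) = 0))

/-- `k⟦t⟧ → A_r`, `t ↦ y`. -/
noncomputable def yMap : PowerSeries k →ₐ[k] A :=
  (Ideal.Quotient.mkₐ k (Ideal.span {ArSing.eqn k r})).comp (s1 k)

lemma yMap_X : yMap k r PowerSeries.X = y := by
  show Ideal.Quotient.mk _ (s1 k PowerSeries.X) = _
  rw [s1, PowerSeries.substAlgHom_X]

lemma yMap_C (c : k) : yMap k r (PowerSeries.C c) = algebraMap k A c := by
  have : (PowerSeries.C c : PowerSeries k) = algebraMap k (PowerSeries k) c := rfl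
  rw [this, AlgHom.commutes]

/-- length of `A_r/(x)`. -/
lemma length_quot_x : Module.length A (A ⧸ Ideal.span {x}) = ((2 : ℕ) : ℕ∞) := by
  refine (length_eq_of_powerSeries_surj k (B := A) (R' := A ⧸ Ideal.span {x})
    Ideal.Quotient.mk_surjective
    ((Ideal.Quotient.mk (Ideal.span {x})).comp (yMap k r : PowerSeries k →+* A)) ?_ 2 ?_ :)
  · intro b
    obtain ⟨a, rfl⟩ := Ideal.Quotient.mk_surjective b
    obtain ⟨p, q, rfl⟩ := exists_repr k r a
    obtain ⟨p0, p1, rfl⟩ : ∃ (p0 : k) (p1 : PowerSeries k),
        p = PowerSeries.C p0 + PowerSeries.X * p1 := ⟨_, _, eq_C_add_X_mul p⟩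
    obtain ⟨q0, q1, rfl⟩ : ∃ (q0 : k) (q1 : PowerSeries k),
        q = PowerSeries.C q0 + PowerSeries.X * q1 := ⟨_, _, eq_C_add_X_mul q⟩
    refine ⟨PowerSeries.C p0 + PowerSeries.C q0 * PowerSeries.X, ?_⟩
    rw [RingHom.comp_apply, Ideal.Quotient.eq, Ideal.mem_span_singleton']
    refine ⟨- (ι p1 + ι q1 * y), ?_⟩
    show _ = yMap k r _ - _
    rw [map_add, map_mul, yMap_C, yMap_C, yMap_X]
    simp only [map_add, map_mul, xMap_C, xMap_X]
    ring
  · ext w
    rw [RingHom.mem_ker, RingHom.comp_apply, Ideal.Quotient.eq_zero_iff_mem,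
      Ideal.mem_span_singleton', Ideal.mem_span_singleton]
    constructor
    · rintro ⟨a, ha⟩
      have ha' : a * x = yMap k r w := ha
      -- decompose `w`
      set w1 := PowerSeries.mk fun n => PowerSeries.coeff (n + 1) w with hw1
      set w2 := PowerSeries.mk fun n => PowerSeries.coeff (n + 1) w1 with hw2
      have e1 : w = PowerSeries.C (PowerSeries.constantCoeff w) + PowerSeries.X * w1 :=
        eq_C_add_X_mul w
      have e2 : w1 = PowerSeries.C (PowerSeries.constantCoeff w1) + PowerSeries.X * w2 :=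
        eq_C_add_X_mul w1
      have hy2 : yMap k r w = algebraMap k A (PowerSeries.constantCoeff w) +
          algebraMap k A (PowerSeries.constantCoeff w1) * y +
          x * (x ^ r * yMap k r w2) := by
        conv_lhs => rw [e1, e2]
        simp only [map_add, map_mul, yMap_C, yMap_X]
        have := y_sq k r
        linear_combination (yMap k r w2) * this
      obtain ⟨p, q, hpq⟩ := exists_repr k r (a - x ^ r * yMap k r w2)
      have h3 : ι (PowerSeries.C (PowerSeries.constantCoeff w)) +
          ι (PowerSeries.C (PowerSeries.constantCoeff w1)) * y =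
          ι (p * PowerSeries.X) + ι (q * PowerSeries.X) * y := by
        rw [← repr_mul_x, ← hpq, xMap_C, xMap_C]
        linear_combination (-1 : A) * ha' - hy2
      obtain ⟨h4, h5⟩ := (repr_eq_iff k r).mp h3
      have h6 : PowerSeries.constantCoeff w = 0 := by
        have := congrArg PowerSeries.constantCoeff h4
        simpa using this
      have h7 : PowerSeries.constantCoeff w1 = 0 := by
        have := congrArg PowerSeries.constantCoeff h5
        simpa using this
      refine ⟨w2, ?_⟩
      conv_lhs => rw [e1, e2, h6, h7]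
      simp only [map_zero, zero_add]
      ring
    · rintro ⟨w', rfl⟩
      refine ⟨x ^ r * yMap k r w', ?_⟩
      show _ = yMap k r (PowerSeries.X ^ 2 * w')
      rw [map_mul, map_pow, yMap_X, y_sq]
      ring

end Groth.Agent.Lib.helper10.ArS
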