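import Groth.Agent.Lib.helper10.ArSingE

set_option autoImplicit false
universe u

namespace Groth.Agent.Lib.helper10.ArS

variable (k : Type u) [Field k] (r s : ℕ)

local notation "A" => ArSing.ring k r
local notation "ι" => ArSing.xMap k r
local notation "x" => ArSing.x k r
local notation "y" => ArSing.y k r
local notation "A'" => ArSing.ring k s
local notation "ι'" => ArSing.xMap k s
local notation "x'" => ArSing.x k s
local notation "y'" => ArSing.y k s

/-- `σ : x ↦ -x` acts on `k⟦x⟧` by `t ↦ -t`. -/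
lemma sigma_neg_x_xMap (σ : A ≃ₐ[k] A) (hx : σ x = -x) (p : PowerSeries k) :
    σ (ι p) = ι (T p) :=
  algEquiv_xMap k r σ T (by rw [T_X, map_neg, xMap_X]; exact hx) p

/-- `φ : x' ↦ x²` acts on `k⟦x'⟧` by `t ↦ t²`. -/
lemma phi_sq_xMap (φ : A' →ₐ[k] A) (hφx : φ x' = x ^ 2) (p : PowerSeries k) :
    φ (ι' p) = ι (E p) :=
  algHom_xMap k r s φ E (by rw [E_X, map_pow, xMap_X]; exact hφx) p

lemma invertible_two_mul (h2 : (2 : k) ≠ 0) (a : A) :
    a = algebraMap k A (-2)⁻¹ * (-a - a) := by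
  have : -a - a = algebraMap k A (-2) * a := by
    rw [map_neg, map_ofNat]; ring
  rw [this, ← mul_assoc, ← map_mul, inv_mul_cancel₀ (neg_ne_zero.mpr h2), map_one, one_mul]

section S14094

lemma sigma2_repr (σ : A ≃ₐ[k] A) (hx : σ x = -x) (hy : σ y = y) (p q : PowerSeries k) :
    σ (ι p + ι q * y) = ι (T p) + ι (T q) * y := by
  rw [map_add, map_mul, sigma_neg_x_xMap k r σ hx, sigma_neg_x_xMap k r σ hx, hy]

lemma phi2_repr (φ : A' →ₐ[k] A) (hφx : φ x' = x ^ 2) (hφy : φ y' = y) (p q : PowerSeries k) :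
    φ (ι' p + ι' q * y') = ι (E p) + ι (E q) * y := by
  rw [map_add, map_mul, phi_sq_xMap k r s φ hφx, phi_sq_xMap k r s φ hφx, hφy]

lemma sigma2_fixed_iff (h2 : (2 : k) ≠ 0) (σ : A ≃ₐ[k] A) (hx : σ x = -x) (hy : σ y = y)
    (φ : A' →ₐ[k] A) (hφx : φ x' = x ^ 2) (hφy : φ y' = y) (a : A) :
    σ a = a ↔ a ∈ φ.range := by
  constructor
  · intro h
    obtain ⟨p, q, rfl⟩ := exists_repr k r a
    rw [sigma2_repr k r σ hx hy, repr_eq_iff] at h
    obtain ⟨hp, hq⟩ := h
    rw [even_odd p, T_even_odd] at hp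
    rw [even_odd q, T_even_odd] at hq
    have hp' := (neg_eq_self_iff h2 _).mp (even_odd_unique hp).2
    have hq' := (neg_eq_self_iff h2 _).mp (even_odd_unique hq).2
    refine ⟨ι' (ev p) + ι' (ev q) * y', ?_⟩
    show φ _ = _
    rw [phi2_repr k r s φ hφx hφy]
    conv_rhs => rw [even_odd p, even_odd q, hp', hq']
    simp
  · rintro ⟨c, rfl⟩
    obtain ⟨p, q, rfl⟩ := exists_repr k s c
    show σ (φ _) = φ _
    rw [phi2_repr k r s φ hφx hφy, sigma2_repr k r σ hx hy, T_E, T_E]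

lemma phi2_flat (φ : A' →ₐ[k] A) (hφx : φ x' = x ^ 2) (hφy : φ y' = y) :
    φ.toRingHom.Flat := by
  apply flat_of_basis_two φ.toRingHom x
  · intro a
    obtain ⟨p, q, rfl⟩ := exists_repr k r a
    refine ⟨ι' (ev p) + ι' (ev q) * y', ι' (od p) + ι' (od q) * y', ?_⟩
    show _ = φ _ + φ _ * x
    rw [phi2_repr k r s φ hφx hφy, phi2_repr k r s φ hφx hφy]
    conv_lhs => rw [even_odd p, even_odd q]
    simp only [map_add, map_mul, xMap_X]
    ring
  · intro b c h
    obtain ⟨p₁, q₁, rfl⟩ := exists_repr k s b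
    obtain ⟨p₂, q₂, rfl⟩ := exists_repr k s c
    have h' : φ (ι' p₁ + ι' q₁ * y') + φ (ι' p₂ + ι' q₂ * y') * x = 0 := h
    rw [phi2_repr k r s φ hφx hφy, phi2_repr k r s φ hφx hφy] at h'
    have h'' : ι (E p₁ + PowerSeries.X * E p₂) + ι (E q₁ + PowerSeries.X * E q₂) * y = 0 := by
      simp only [map_add, map_mul, xMap_X]
      linear_combination h'
    obtain ⟨h1, h2⟩ := repr_unique k r h''
    obtain ⟨hp1, hp2⟩ := even_odd_eq_zero h1
    obtain ⟨hq1, hq2⟩ := even_odd_eq_zero h2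
    rw [hp1, hp2, hq1, hq2]
    simp

lemma eps_phi2 (φ : A' →ₐ[k] A) (hφx : φ x' = x ^ 2) (hφy : φ y' = y) (c : A') :
    eps k r (φ c) = eps k s c := by
  obtain ⟨p, q, rfl⟩ := exists_repr k s c
  rw [phi2_repr k r s φ hφx hφy, eps_repr, eps_repr, constantCoeff_E]

lemma map_ne_top_of_eps (φ : A' →ₐ[k] A) (hε : ∀ c, eps k r (φ c) = eps k s c)
    (I : Ideal A') (hI : I.IsMaximal) : Ideal.map φ I ≠ ⊤ := by
  intro h
  have hI' : I = RingHom.ker (eps k s) := by
    have h1 : (RingHom.ker (eps k s)).IsMaximal :=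
      RingHom.ker_isMaximal_of_surjective _ (fun c => ⟨algebraMap k A' c, by simp⟩)
    rw [IsLocalRing.eq_maximalIdeal hI, IsLocalRing.eq_maximalIdeal h1]
  have hle : Ideal.map φ I ≤ RingHom.ker (eps k r) := by
    rw [Ideal.map_le_iff_le_comap]
    intro c hc
    rw [hI', RingHom.mem_ker] at hc
    rw [Ideal.mem_comap, RingHom.mem_ker, hε, hc]
  rw [h, top_le_iff] at hle
  exact RingHom.ker_ne_top _ hle

lemma sigma2_ideal (h2 : (2 : k) ≠ 0) (σ : A ≃ₐ[k] A) (hx : σ x = -x) (hy : σ y = y) :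
    Ideal.span (Set.range fun a : A => σ a - a) = Ideal.span {x} := by
  apply le_antisymm
  · rw [Ideal.span_le]
    rintro _ ⟨a, rfl⟩
    obtain ⟨p, q, rfl⟩ := exists_repr k r a
    show σ (ι p + ι q * y) - (ι p + ι q * y) ∈ _
    rw [sigma2_repr k r σ hx hy, SetLike.mem_coe, Ideal.mem_span_singleton']
    refine ⟨ι (E (-od p) - E (od p)) + ι (E (-od q) - E (od q)) * y, ?_⟩
    conv_rhs => rw [even_odd p, even_odd q, T_even_odd, T_even_odd]
    simp only [map_add, map_mul, map_sub, xMap_X]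
    ring
  · rw [Ideal.span_le, Set.singleton_subset_iff, SetLike.mem_coe]
    have h1 : σ x - x ∈ Ideal.span (Set.range fun a : A => σ a - a) :=
      Ideal.subset_span ⟨x, rfl⟩
    rw [invertible_two_mul k r h2 x, ← hx]
    exact Ideal.mul_mem_left _ _ h1

end S14094

end Groth.Agent.Lib.helper10.ArS
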