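import Groth.Agent.Lib.helper10.ArSingF

set_option autoImplicit false
universe u

namespace Groth.Agent.Lib.helper10.ArS

variable (k : Type u) [Field k] (r s : ℕ)

local notation "A" => ArSing.ring k r
local notation "ι" => ArSing.xMap k r
local notation "x" => ArSing.x k r
local notation "y" => ArSing.y k r
local notation "A'" => ArSing.ring k s
local notation "ι'" => ArSing.xMap k s
local notation "x'" => ArSing.x k s
local notation "y'" => ArSing.y k s

lemma sigma3_repr (σ : A ≃ₐ[k] A) (hx : σ x = -x) (hy : σ y = -y) (p q : PowerSeries k) :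
    σ (ι p + ι q * y) = ι (T p) + ι (-T q) * y := by
  rw [map_add, map_mul, sigma_neg_x_xMap k r σ hx, sigma_neg_x_xMap k r σ hx, hy, map_neg]
  ring

lemma phi3_repr (φ : A' →ₐ[k] A) (hφx : φ x' = x ^ 2) (hφy : φ y' = x * y) (p q : PowerSeries k) :
    φ (ι' p + ι' q * y') = ι (E p) + ι (PowerSeries.X * E q) * y := by
  rw [map_add, map_mul, phi_sq_xMap k r s φ hφx, phi_sq_xMap k r s φ hφx, hφy, map_mul, xMap_X]
  ring

lemma sigma3_fixed_iff (h2 : (2 : k) ≠ 0) (σ : A ≃ₐ[k] A) (hx : σ x = -x) (hy : σ y = -y)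
    (φ : A' →ₐ[k] A) (hφx : φ x' = x ^ 2) (hφy : φ y' = x * y) (a : A) :
    σ a = a ↔ a ∈ φ.range := by
  constructor
  · intro h
    obtain ⟨p, q, rfl⟩ := exists_repr k r a
    rw [sigma3_repr k r σ hx hy, repr_eq_iff] at h
    obtain ⟨hp, hq⟩ := h
    rw [even_odd p, T_even_odd] at hp
    have hp' := (neg_eq_self_iff h2 _).mp (even_odd_unique hp).2
    have hq1 : E (-ev q) + PowerSeries.X * E (od q) = E (ev q) + PowerSeries.X * E (od q) := by
      conv_rhs => rw [← even_odd q, ← hq]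
      conv_rhs => rw [even_odd q, T_even_odd]
      simp only [map_neg]
      ring
    have hq' := (neg_eq_self_iff h2 _).mp (even_odd_unique hq1).1
    refine ⟨ι' (ev p) + ι' (od q) * y', ?_⟩
    show φ _ = _
    rw [phi3_repr k r s φ hφx hφy]
    conv_rhs => rw [even_odd p, even_odd q, hp', hq']
    simp
  · rintro ⟨c, rfl⟩
    obtain ⟨p, q, rfl⟩ := exists_repr k s c
    show σ (φ _) = φ _
    rw [phi3_repr k r s φ hφx hφy, sigma3_repr k r σ hx hy, T_E, map_mul, T_E, T_X]
    simp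

lemma phi3_injective (φ : A' →ₐ[k] A) (hφx : φ x' = x ^ 2) (hφy : φ y' = x * y) :
    Function.Injective φ := by
  rw [injective_iff_map_eq_zero]
  intro c hc
  obtain ⟨p, q, rfl⟩ := exists_repr k s c
  rw [phi3_repr k r s φ hφx hφy] at hc
  obtain ⟨h1, h2⟩ := repr_unique k r hc
  have hp : p = 0 := by
    have : E p + PowerSeries.X * E 0 = 0 := by rw [h1]; simp
    exact (even_odd_eq_zero this).1
  have hq : q = 0 := by
    have : E 0 + PowerSeries.X * E q = 0 := by rw [h2]; simp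
    exact (even_odd_eq_zero this).2
  rw [hp, hq]; simp

lemma phi3_not_flat (φ : A' →ₐ[k] A) (hφx : φ x' = x ^ 2) (hφy : φ y' = x * y) :
    ¬ φ.toRingHom.Flat := by
  intro hflat
  letI : Algebra A' A := φ.toRingHom.toAlgebra
  have hflat' : Module.Flat A' A := hflat
  have hsmul : ∀ (c : A') (a : A), c • a = φ c * a := fun c a => by
    rw [Algebra.smul_def]; rfl
  have hrel : ∑ i : Fin 2, (![y', -x'] i) • (![x, y] i) = 0 := by
    rw [Fin.sum_univ_two]
    simp only [Matrix.cons_val_zero, Matrix.cons_val_one, hsmul, map_neg, hφx, hφy]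
    ring
  have htr : Module.IsTrivialRelation ![y', -x'] ![x, y] :=
    Module.Flat.isTrivialRelation_of_sum_smul_eq_zero hrel
  obtain ⟨n, a, z, hz, ha⟩ := htr
  have h0 : ∀ j, eps k s (a 0 j) = 0 := by
    intro j
    have h := ha j
    rw [Fin.sum_univ_two] at h
    simp only [Matrix.cons_val_zero, Matrix.cons_val_one] at h
    obtain ⟨p₁, q₁, h1⟩ := exists_repr k s (a 0 j)
    obtain ⟨p₂, q₂, h2⟩ := exists_repr k s (a 1 j)
    rw [h1, h2] at h
    have h' : ι' (PowerSeries.X ^ (s + 1) * q₁) + ι' p₁ * y' =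
        ι' (p₂ * PowerSeries.X) + ι' (q₂ * PowerSeries.X) * y' := by
      rw [← repr_mul_y, ← repr_mul_x]
      linear_combination h
    obtain ⟨-, h3⟩ := (repr_eq_iff k s).mp h'
    rw [h1, eps_repr, h3]
    simp
  have h1 : ∀ j, ∃ mj : A, φ (a 0 j) = x * mj ∧ eps k r mj = 0 := by
    intro j
    obtain ⟨p, q, hpq⟩ := exists_of_eps_eq_zero k s (h0 j)
    refine ⟨x * ι (E p) + ι (E q) * y, ?_, ?_⟩
    · rw [hpq, map_add, map_mul, map_mul, hφx, hφy, phi_sq_xMap k r s φ hφx,
        phi_sq_xMap k r s φ hφx]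
      ring
    · rw [map_add, map_mul, map_mul, eps_x, eps_y]; simp
  choose mj hmj1 hmj2 using h1
  have hx1 : x = x * ∑ j, mj j * z j := by
    have h := hz 0
    simp only [Matrix.cons_val_zero, hsmul] at h
    rw [Finset.mul_sum]
    conv_lhs => rw [h]
    apply Finset.sum_congr rfl
    intro j _
    rw [hmj1]; ring
  have hx2 : (1 - ∑ j, mj j * z j) * x = 0 := by linear_combination hx1
  have h3 : 1 - ∑ j, mj j * z j = 0 :=
    (mem_nonZeroDivisors_iff_right.mp (x_mem_nonZeroDivisors k r)) _ hx2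
  have h4 := congrArg (eps k r) h3
  rw [map_sub, map_one, map_sum, map_zero] at h4
  simp only [map_mul, hmj2, zero_mul, Finset.sum_const_zero, sub_zero] at h4
  exact one_ne_zero h4

lemma sigma3_ideal (h2 : (2 : k) ≠ 0) (σ : A ≃ₐ[k] A) (hx : σ x = -x) (hy : σ y = -y) :
    Ideal.span (Set.range fun a : A => σ a - a) = RingHom.ker (eps k r) := by
  apply le_antisymm
  · rw [Ideal.span_le]
    rintro _ ⟨a, rfl⟩
    obtain ⟨p, q, rfl⟩ := exists_repr k r a
    show σ (ι p + ι q * y) - (ι p + ι q * y) ∈ _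
    rw [sigma3_repr k r σ hx hy, SetLike.mem_coe, RingHom.mem_ker, map_sub, eps_repr, eps_repr,
      constantCoeff_T, sub_self]
  · intro a ha
    rw [RingHom.mem_ker] at ha
    obtain ⟨p, q, rfl⟩ := exists_of_eps_eq_zero k r ha
    have h1 : x ∈ Ideal.span (Set.range fun a : A => σ a - a) := by
      have : σ x - x ∈ Ideal.span (Set.range fun a : A => σ a - a) :=
        Ideal.subset_span ⟨x, rfl⟩
      rw [invertible_two_mul k r h2 x, ← hx]
      exact Ideal.mul_mem_left _ _ this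
    have h3 : y ∈ Ideal.span (Set.range fun a : A => σ a - a) := by
      have : σ y - y ∈ Ideal.span (Set.range fun a : A => σ a - a) :=
        Ideal.subset_span ⟨y, rfl⟩
      rw [invertible_two_mul k r h2 y, ← hy]
      exact Ideal.mul_mem_left _ _ this
    exact add_mem (Ideal.mul_mem_right _ _ h1) (Ideal.mul_mem_left _ _ h3)

lemma length_quot_ker_eps :
    Module.length A (A ⧸ RingHom.ker (eps k r)) = 1 := by
  rw [Module.length_eq_one_iff, isSimpleModule_iff_isCoatom, ← Ideal.isMaximal_def]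
  exact RingHom.ker_isMaximal_of_surjective _ (fun c => ⟨algebraMap k A c, by simp⟩)

lemma ker_eps_not_principal (hr : 1 ≤ r) :
    ¬ ∃ g : A, g ∈ nonZeroDivisors A ∧ RingHom.ker (eps k r) = Ideal.span {g} := by
  rintro ⟨g, -, hg⟩
  have hgm : g ∈ RingHom.ker (eps k r) := by rw [hg]; exact Ideal.mem_span_singleton_self g
  have hxm : x ∈ Ideal.span {g} := by rw [← hg, RingHom.mem_ker, eps_x]
  have hym : y ∈ Ideal.span {g} := by rw [← hg, RingHom.mem_ker, eps_y]
  rw [RingHom.mem_ker] at hgm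
  obtain ⟨p, q, rfl⟩ := exists_repr k r g
  rw [eps_repr] at hgm
  obtain ⟨p', rfl⟩ := exists_eq_X_mul_of_constantCoeff_eq_zero hgm
  obtain ⟨a, ha⟩ := Ideal.mem_span_singleton'.mp hxm
  obtain ⟨b, hb⟩ := Ideal.mem_span_singleton'.mp hym
  obtain ⟨a₁, a₂, rfl⟩ := exists_repr k r a
  obtain ⟨b₁, b₂, rfl⟩ := exists_repr k r b
  rw [repr_mul] at ha hb
  have ha' : ι (a₁ * (PowerSeries.X * p') + PowerSeries.X ^ (r + 1) * (a₂ * q)) +
      ι (a₁ * q + a₂ * (PowerSeries.X * p')) * y = ι PowerSeries.X + ι 0 * y := by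
    rw [ha, xMap_X]; simp
  have hb' : ι (b₁ * (PowerSeries.X * p') + PowerSeries.X ^ (r + 1) * (b₂ * q)) +
      ι (b₁ * q + b₂ * (PowerSeries.X * p')) * y = ι 0 + ι 1 * y := by
    rw [hb]; simp
  obtain ⟨hE1, hE2⟩ := (repr_eq_iff k r).mp ha'
  obtain ⟨-, hE4⟩ := (repr_eq_iff k r).mp hb'
  -- divide E1 by X
  have hE1' : a₁ * p' + PowerSeries.X ^ r * (a₂ * q) = 1 := by
    have : PowerSeries.X * (a₁ * p' + PowerSeries.X ^ r * (a₂ * q)) = PowerSeries.X * 1 := by
      rw [mul_one]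
      conv_rhs => rw [← hE1]
      ring
    exact mul_left_cancel₀ PowerSeries.X_ne_zero this
  have c1 := congrArg PowerSeries.constantCoeff hE1'
  have c2 := congrArg PowerSeries.constantCoeff hE2
  have c4 := congrArg PowerSeries.constantCoeff hE4
  have hXr : PowerSeries.constantCoeff ((PowerSeries.X : PowerSeries k) ^ r) = 0 := by
    rw [map_pow, PowerSeries.constantCoeff_X, zero_pow (by omega)]
  simp only [map_add, map_mul, hXr, PowerSeries.constantCoeff_X, map_one, map_zero, zero_mul,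
    mul_zero, add_zero] at c1 c2 c4
  -- c1 : a₁(0) p'(0) = 1, c2 : a₁(0) q(0) = 0, c4 : b₁(0) q(0) = 1
  have hq0 : PowerSeries.constantCoeff q ≠ 0 := fun h => by rw [h, mul_zero] at c4; exact zero_ne_one c4
  have ha0 : PowerSeries.constantCoeff a₁ ≠ 0 := fun h => by rw [h, zero_mul] at c1; exact zero_ne_one c1
  exact (mul_ne_zero ha0 hq0) c2

end Groth.Agent.Lib.helper10.ArS
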