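import Groth.Agent.Lib.helper10.ArSingG

set_option autoImplicit false
universe u

namespace Groth.Agent.Lib.helper10.ArS

variable (k : Type u) [Field k] (r : ℕ)

local notation "A" => ArSing.ring k r
local notation "ι" => ArSing.xMap k r
local notation "x" => ArSing.x k r
local notation "y" => ArSing.y k r

/-- the augmentation of `k⟦t⟧`. -/
noncomputable def epsP : PowerSeries k →ₐ[k] k :=
  ⟨PowerSeries.constantCoeff, fun c => by
    show PowerSeries.constantCoeff (PowerSeries.C c) = c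
    simp⟩

/-- two algebra maps `k⟦t⟧ → k⟦t⟧` agreeing on `t` are equal. -/
theorem algHom_ext_PX (ψ₁ ψ₂ : PowerSeries k →ₐ[k] PowerSeries k)
    (h : ψ₁ PowerSeries.X = ψ₂ PowerSeries.X) : ψ₁ = ψ₂ :=
  algHom_ext_of_X' k (epsP k) ψ₁ ψ₂ h

/-- algebra maps out of `A_r` into a local noetherian augmented algebra are determined by the
images of `x` and `y`. -/
theorem algHom_ext_xy {B : Type*} [CommRing B] [Algebra k B] [IsLocalRing B] [IsNoetherianRing B]
    (ε : B →ₐ[k] k) (ψ₁ ψ₂ : A →ₐ[k] B) (hx : ψ₁ x = ψ₂ x) (hy : ψ₁ y = ψ₂ y) : ψ₁ = ψ₂ := by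
  have h1 : ψ₁.comp ι = ψ₂.comp ι := by
    apply algHom_ext_of_X' k ε
    rw [AlgHom.comp_apply, AlgHom.comp_apply, xMap_X]
    exact hx
  apply AlgHom.ext
  intro a
  obtain ⟨p, q, rfl⟩ := exists_repr k r a
  have h2 : ∀ p, ψ₁ (ι p) = ψ₂ (ι p) := fun p => DFunLike.congr_fun h1 p
  rw [map_add, map_add, map_mul, map_mul, h2, h2, hy]

/-- substitution `x ↦ a, y ↦ b` from `k⟦x,y⟧` to `k⟦t⟧`. -/
noncomputable def bi (a b : PowerSeries k) (ha : PowerSeries.constantCoeff a = 0)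
    (hb : PowerSeries.constantCoeff b = 0) : MvPowerSeries (Fin 2) k →ₐ[k] PowerSeries k :=
  MvPowerSeries.substAlgHom (σ := Fin 2) (τ := Unit) (a := ![a, b])
    (MvPowerSeries.hasSubst_of_constantCoeff_zero (fun i => by
      fin_cases i
      · exact ha
      · exact hb))

lemma bi_X0 (a b : PowerSeries k) (ha : PowerSeries.constantCoeff a = 0)
    (hb : PowerSeries.constantCoeff b = 0) : bi k a b ha hb (MvPowerSeries.X 0) = a := by
  unfold bi
  rw [MvPowerSeries.substAlgHom_X]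
  rfl

lemma bi_X1 (a b : PowerSeries k) (ha : PowerSeries.constantCoeff a = 0)
    (hb : PowerSeries.constantCoeff b = 0) : bi k a b ha hb (MvPowerSeries.X 1) = b := by
  unfold bi
  rw [MvPowerSeries.substAlgHom_X]
  rfl

/-- a "branch" `A_r → k⟦t⟧`, `x ↦ a`, `y ↦ b` with `b² = a^(r+1)`. -/
noncomputable def branch (a b : PowerSeries k) (ha : PowerSeries.constantCoeff a = 0)
    (hb : PowerSeries.constantCoeff b = 0) (hab : b ^ 2 = a ^ (r + 1)) : A →ₐ[k] PowerSeries k :=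
  Ideal.Quotient.liftₐ _ (bi k a b ha hb) (by
    intro z hz
    obtain ⟨c, rfl⟩ := Ideal.mem_span_singleton'.mp hz
    rw [map_mul]
    have : bi k a b ha hb (ArSing.eqn k r) = 0 := by
      unfold ArSing.eqn
      rw [map_sub, map_pow, map_pow, bi_X0, bi_X1, hab, sub_self]
    rw [this, mul_zero])

lemma branch_x (a b : PowerSeries k) (ha : PowerSeries.constantCoeff a = 0)
    (hb : PowerSeries.constantCoeff b = 0) (hab : b ^ 2 = a ^ (r + 1)) :
    branch k r a b ha hb hab x = a := by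
  show bi k a b ha hb (MvPowerSeries.X 0) = a
  exact bi_X0 k a b ha hb

lemma branch_y (a b : PowerSeries k) (ha : PowerSeries.constantCoeff a = 0)
    (hb : PowerSeries.constantCoeff b = 0) (hab : b ^ 2 = a ^ (r + 1)) :
    branch k r a b ha hb hab y = b := by
  show bi k a b ha hb (MvPowerSeries.X 1) = b
  exact bi_X1 k a b ha hb

/-- maps `A_r → k⟦t⟧` are determined by `x`, `y`. -/
theorem algHom_ext_xy_P (ψ₁ ψ₂ : A →ₐ[k] PowerSeries k) (hx : ψ₁ x = ψ₂ x) (hy : ψ₁ y = ψ₂ y) :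
    ψ₁ = ψ₂ :=
  algHom_ext_xy k r (epsP k) ψ₁ ψ₂ hx hy

/-- maps `A_r → A_s` are determined by `x`, `y`. -/
theorem algHom_ext_xy_A (s : ℕ) (ψ₁ ψ₂ : A →ₐ[k] ArSing.ring k s) (hx : ψ₁ x = ψ₂ x)
    (hy : ψ₁ y = ψ₂ y) : ψ₁ = ψ₂ :=
  algHom_ext_xy k r (eps k s) ψ₁ ψ₂ hx hy

end Groth.Agent.Lib.helper10.ArS
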