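import Groth.Agent.Lib.helper10.ArSingH

set_option autoImplicit false
universe u

namespace Groth.Agent.Lib.helper10.ArS

open PowerSeries

variable (k : Type u) [Field k]

local notation "A" => ArSing.ring k 1
local notation "ι" => ArSing.xMap k 1
local notation "x" => ArSing.x k 1
local notation "y" => ArSing.y k 1

lemma T_T (p : PowerSeries k) : T (T p) = p := by
  rw [T_apply, T_apply, rescale_rescale]
  simp

/-- branch `v = 0` of the node: `x ↦ t, y ↦ t`. -/
noncomputable def piU : A →ₐ[k] PowerSeries k :=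
  branch k 1 X X (by simp) (by simp) (by ring)

/-- branch `u = 0` of the node: `x ↦ -t, y ↦ t`. -/
noncomputable def piV : A →ₐ[k] PowerSeries k :=
  branch k 1 (-X) X (by simp) (by simp) (by ring)

lemma piU_x : piU k x = X := branch_x k 1 _ _ _ _ _
lemma piU_y : piU k y = X := branch_y k 1 _ _ _ _ _
lemma piV_x : piV k x = -X := branch_x k 1 _ _ _ _ _
lemma piV_y : piV k y = X := branch_y k 1 _ _ _ _ _

lemma piU_xMap (p : PowerSeries k) : piU k (ι p) = p := by
  have : (piU k).comp ι = AlgHom.id k _ := by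
    apply algHom_ext_PX
    rw [AlgHom.comp_apply, xMap_X, piU_x]; rfl
  exact DFunLike.congr_fun this p

lemma piV_xMap (p : PowerSeries k) : piV k (ι p) = T p := by
  have : (piV k).comp ι = T := by
    apply algHom_ext_PX
    rw [AlgHom.comp_apply, xMap_X, piV_x, T_X]
  exact DFunLike.congr_fun this p

lemma piU_repr (p q : PowerSeries k) : piU k (ι p + ι q * y) = p + q * X := by
  rw [map_add, map_mul, piU_xMap, piU_xMap, piU_y]

lemma piV_repr (p q : PowerSeries k) : piV k (ι p + ι q * y) = T p + T q * X := by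
  rw [map_add, map_mul, piV_xMap, piV_xMap, piV_y]

lemma two_ne_zero_PS (h2 : (2 : k) ≠ 0) : (2 : PowerSeries k) ≠ 0 := by
  intro h
  have := congrArg PowerSeries.constantCoeff h
  rw [map_ofNat, map_zero] at this
  exact h2 this

lemma pi_injective (h2 : (2 : k) ≠ 0) {a : A} (h1 : piU k a = 0) (h3 : piV k a = 0) : a = 0 := by
  obtain ⟨p, q, rfl⟩ := exists_repr k 1 a
  rw [piU_repr] at h1
  rw [piV_repr] at h3
  have h4 : p - q * X = 0 := by
    have := congrArg T h3
    rw [map_add, map_mul, T_T, T_T, T_X, map_zero] at this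
    linear_combination this
  have hp : p = 0 := by
    have : (2 : PowerSeries k) * p = 0 := by linear_combination h1 + h4
    exact (mul_eq_zero.mp this).resolve_left (two_ne_zero_PS k h2)
  have hq : q = 0 := by
    rw [hp, zero_add] at h1
    exact (mul_eq_zero.mp h1).resolve_right X_ne_zero
  rw [hp, hq]; simp

lemma pi_ext (h2 : (2 : k) ≠ 0) {a b : A} (h1 : piU k a = piU k b) (h3 : piV k a = piV k b) :
    a = b := by
  rw [← sub_eq_zero]
  apply pi_injective k h2
  · rw [map_sub, h1, sub_self]
  · rw [map_sub, h3, sub_self]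

lemma pi_surj (h2 : (2 : k) ≠ 0) (f g : PowerSeries k)
    (h : constantCoeff f = constantCoeff g) : ∃ c : A, piU k c = f ∧ piV k c = g := by
  have hd : constantCoeff (f - T g) = 0 := by
    rw [map_sub, constantCoeff_T, h, sub_self]
  obtain ⟨d', hd'⟩ := exists_eq_X_mul_of_constantCoeff_eq_zero hd
  have hC : (C (2⁻¹ : k) : PowerSeries k) * 2 = 1 := by
    rw [← map_ofNat (C (R := k)) 2, ← map_mul, inv_mul_cancel₀ h2, map_one]
  refine ⟨ι (C 2⁻¹ * (f + T g)) + ι (C 2⁻¹ * d') * y, ?_, ?_⟩
  · rw [piU_repr]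
    have : f = C 2⁻¹ * 2 * f := by rw [hC, one_mul]
    conv_rhs => rw [this]
    linear_combination (- C (2⁻¹ : k)) * hd'
  · rw [piV_repr]
    have hTd : X * T d' = g - T f := by
      have := congrArg T hd'
      rw [map_sub, T_T, map_mul, T_X] at this
      linear_combination this
    have hT2 : T (C (2⁻¹ : k)) = C (2⁻¹ : k) := by
      have : (C (2⁻¹ : k) : PowerSeries k) = algebraMap k _ 2⁻¹ := rfl
      rw [this, AlgHom.commutes]
    have : g = C 2⁻¹ * 2 * g := by rw [hC, one_mul]
    conv_rhs => rw [this]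
    rw [map_mul, map_mul, map_add, T_T, hT2]
    linear_combination (C (2⁻¹ : k)) * hTd

lemma ker_piU : RingHom.ker (piU k) = Ideal.span {y - x} := by
  apply le_antisymm
  · intro a ha
    rw [RingHom.mem_ker] at ha
    obtain ⟨p, q, rfl⟩ := exists_repr k 1 a
    rw [piU_repr] at ha
    rw [Ideal.mem_span_singleton']
    refine ⟨ι q, ?_⟩
    have hp : p = - (q * X) := by linear_combination ha
    rw [hp, map_neg, map_mul, xMap_X]
    ring
  · rw [Ideal.span_le, Set.singleton_subset_iff, SetLike.mem_coe, RingHom.mem_ker, map_sub,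
      piU_x, piU_y, sub_self]

end Groth.Agent.Lib.helper10.ArS
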