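import Groth.Agent.Lib.helper10.ArSingI

set_option autoImplicit false
universe u

namespace Groth.Agent.Lib.helper10.ArS

open PowerSeries

variable (k : Type u) [Field k]

local notation "A" => ArSing.ring k 1
local notation "ι" => ArSing.xMap k 1
local notation "x" => ArSing.x k 1
local notation "y" => ArSing.y k 1

/-- equational criterion for a single relation `f u * v = 0`. -/
lemma exists_of_flat_of_mul_eq_zero {R S : Type*} [CommRing R] [CommRing S] (f : R →+* S)
    (hf : f.Flat) (u : R) (v : S) (huv : f u * v = 0) :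
    ∃ (n : ℕ) (a : Fin n → R) (z : Fin n → S), v = ∑ j, f (a j) * z j ∧ ∀ j, u * a j = 0 := by
  letI : Algebra R S := f.toAlgebra
  have hflat' : Module.Flat R S := hf
  have hsmul : ∀ (c : R) (a : S), c • a = f c * a := fun c a => by
    rw [Algebra.smul_def]; rfl
  have hrel : ∑ i : Fin 1, (![u] i) • (![v] i) = 0 := by
    rw [Fin.sum_univ_one]
    simp only [Matrix.cons_val_zero, hsmul]
    exact huv
  have htr : Module.IsTrivialRelation ![u] ![v] :=
    Module.Flat.isTrivialRelation_of_sum_smul_eq_zero hrel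
  obtain ⟨n, a, z, hz, ha⟩ := htr
  refine ⟨n, a 0, z, ?_, ?_⟩
  · have h := hz 0
    simp only [Matrix.cons_val_zero, hsmul] at h
    exact h
  · intro j
    have h := ha j
    rw [Fin.sum_univ_one] at h
    simpa using h

/-- `p(t) ↦ p(2t²)`. -/
noncomputable def G : PowerSeries k →ₐ[k] PowerSeries k := E.comp (rescaleAlgHom 2)

lemma G_apply (p : PowerSeries k) : G k p = E (rescale (2 : k) p) := by
  unfold G
  rw [AlgHom.comp_apply]
  congr 1
  exact DFunLike.congr_fun (PowerSeries.coe_rescaleAlgHom (2 : k)) p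

lemma E_injective : Function.Injective (E : PowerSeries k →ₐ[k] PowerSeries k) := by
  intro a b h
  have : E a + X * E 0 = E b + X * E 0 := by rw [h]
  exact (even_odd_unique this).1

lemma G_injective (h2 : (2 : k) ≠ 0) : Function.Injective (G k) := by
  intro a b h
  rw [G_apply, G_apply] at h
  have h' := E_injective k h
  have := congrArg (rescale (2⁻¹ : k)) h'
  rw [rescale_rescale, rescale_rescale, mul_inv_cancel₀ h2, rescale_one] at this
  exact this

lemma G_X : G k X = C (2 : k) * X ^ 2 := by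
  rw [G_apply, rescale_X, map_mul, E_X]
  congr 1
  have : (C (2 : k) : PowerSeries k) = algebraMap k _ 2 := rfl
  rw [this, AlgHom.commutes]

lemma T_G (p : PowerSeries k) : T (G k p) = G k p := by
  rw [G_apply, T_E]

lemma constantCoeff_pi (a : A) : constantCoeff (piU k a) = constantCoeff (piV k a) := by
  obtain ⟨p, q, rfl⟩ := exists_repr k 1 a
  rw [piU_repr, piV_repr]
  simp [constantCoeff_T]

section swap

variable (h2 : (2 : k) ≠ 0) (σ : A ≃ₐ[k] A) (hx : σ x = y) (hy : σ y = x)

lemma piU_sigma (σ : A ≃ₐ[k] A) (hx : σ x = y) (hy : σ y = x) (a : A) :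
    piU k (σ a) = piU k a := by
  have : (piU k).comp (σ : A →ₐ[k] A) = piU k := by
    apply algHom_ext_xy_P
    · rw [AlgHom.comp_apply]
      show piU k (σ x) = _
      rw [hx, piU_x, piU_y]
    · rw [AlgHom.comp_apply]
      show piU k (σ y) = _
      rw [hy, piU_x, piU_y]
  exact DFunLike.congr_fun this a

lemma piV_sigma (σ : A ≃ₐ[k] A) (hx : σ x = y) (hy : σ y = x) (a : A) :
    piV k (σ a) = T (piV k a) := by
  have : (piV k).comp (σ : A →ₐ[k] A) = T.comp (piV k) := by
    apply algHom_ext_xy_P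
    · rw [AlgHom.comp_apply, AlgHom.comp_apply]
      show piV k (σ x) = _
      rw [hx, piV_x, piV_y, map_neg, T_X, neg_neg]
    · rw [AlgHom.comp_apply, AlgHom.comp_apply]
      show piV k (σ y) = _
      rw [hy, piV_x, piV_y, T_X]
  exact DFunLike.congr_fun this a

lemma piU_phi (h2 : (2 : k) ≠ 0) (φ : A →ₐ[k] A) (hφu : φ (x + y) = x + y)
    (hφv : φ (y - x) = (y - x) ^ 2) (a : A) : piU k (φ a) = piU k a := by
  have e1 := congrArg (piU k) hφu
  have e2 := congrArg (piU k) hφv
  simp only [map_add, map_sub, map_pow, piU_x, piU_y] at e1 e2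
  have hx' : piU k (φ x) = X := by
    have : (2 : PowerSeries k) * piU k (φ x) = 2 * X := by linear_combination e1 - e2
    exact mul_left_cancel₀ (two_ne_zero_PS k h2) this
  have hy' : piU k (φ y) = X := by
    have : (2 : PowerSeries k) * piU k (φ y) = 2 * X := by linear_combination e1 + e2
    exact mul_left_cancel₀ (two_ne_zero_PS k h2) this
  have : (piU k).comp φ = piU k := by
    apply algHom_ext_xy_P
    · rw [AlgHom.comp_apply, hx', piU_x]
    · rw [AlgHom.comp_apply, hy', piU_y]
  exact DFunLike.congr_fun this a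

lemma piV_phi (h2 : (2 : k) ≠ 0) (φ : A →ₐ[k] A) (hφu : φ (x + y) = x + y)
    (hφv : φ (y - x) = (y - x) ^ 2) (a : A) : piV k (φ a) = G k (piV k a) := by
  have e1 := congrArg (piV k) hφu
  have e2 := congrArg (piV k) hφv
  simp only [map_add, map_sub, map_pow, piV_x, piV_y] at e1 e2
  have hC2 : (C (2 : k) : PowerSeries k) = 2 := by rw [map_ofNat]
  have hx' : piV k (φ x) = -(C (2 : k) * X ^ 2) := by
    have : (2 : PowerSeries k) * piV k (φ x) = 2 * -(C (2 : k) * X ^ 2) := by
      rw [hC2]; linear_combination e1 - e2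
    exact mul_left_cancel₀ (two_ne_zero_PS k h2) this
  have hy' : piV k (φ y) = C (2 : k) * X ^ 2 := by
    have : (2 : PowerSeries k) * piV k (φ y) = 2 * (C (2 : k) * X ^ 2) := by
      rw [hC2]; linear_combination e1 + e2
    exact mul_left_cancel₀ (two_ne_zero_PS k h2) this
  have : (piV k).comp φ = (G k).comp (piV k) := by
    apply algHom_ext_xy_P
    · rw [AlgHom.comp_apply, AlgHom.comp_apply, hx', piV_x, map_neg, G_X]
    · rw [AlgHom.comp_apply, AlgHom.comp_apply, hy', piV_y, G_X]
  exact DFunLike.congr_fun this a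

lemma swap_fixed_iff (h2 : (2 : k) ≠ 0) (σ : A ≃ₐ[k] A) (hx : σ x = y) (hy : σ y = x)
    (φ : A →ₐ[k] A) (hφu : φ (x + y) = x + y) (hφv : φ (y - x) = (y - x) ^ 2) (a : A) :
    σ a = a ↔ a ∈ φ.range := by
  constructor
  · intro h
    have hT : T (piV k a) = piV k a := by rw [← piV_sigma k σ hx hy, h]
    set g := piV k a with hg
    have hodd : od g = 0 := by
      have h1 : E (ev g) + X * E (-od g) = E (ev g) + X * E (od g) := by
        rw [← T_even_odd, ← even_odd g, hT]
      exact (neg_eq_self_iff h2 _).mp (even_odd_unique h1).2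
    have hgE : g = E (ev g) := by
      conv_lhs => rw [even_odd g, hodd]
      simp
    have hG : G k (rescale (2⁻¹ : k) (ev g)) = g := by
      rw [G_apply, rescale_rescale, inv_mul_cancel₀ h2, rescale_one, RingHom.id_apply, ← hgE]
    have hcc : constantCoeff (piU k a) = constantCoeff (rescale (2⁻¹ : k) (ev g)) := by
      rw [constantCoeff_pi, ← hg]
      conv_lhs => rw [hgE, constantCoeff_E]
      rw [← coeff_zero_eq_constantCoeff_apply, ← coeff_zero_eq_constantCoeff_apply, coeff_rescale]
      simp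
    obtain ⟨c, hc1, hc2⟩ := pi_surj k h2 _ _ hcc
    refine ⟨c, ?_⟩
    show φ c = a
    apply pi_ext k h2
    · rw [piU_phi k h2 φ hφu hφv, hc1]
    · rw [piV_phi k h2 φ hφu hφv, hc2, hG]
  · rintro ⟨c, rfl⟩
    show σ (φ c) = φ c
    apply pi_ext k h2
    · rw [piU_sigma k σ hx hy]
    · rw [piV_sigma k σ hx hy, piV_phi k h2 φ hφu hφv, T_G]

lemma swap_phi_injective (h2 : (2 : k) ≠ 0) (φ : A →ₐ[k] A) (hφu : φ (x + y) = x + y)
    (hφv : φ (y - x) = (y - x) ^ 2) : Function.Injective φ := by
  rw [injective_iff_map_eq_zero]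
  intro c hc
  apply pi_injective k h2
  · rw [← piU_phi k h2 φ hφu hφv, hc, map_zero]
  · apply G_injective k h2
    rw [← piV_phi k h2 φ hφu hφv, hc, map_zero, map_zero]

lemma swap_ideal (h2 : (2 : k) ≠ 0) (σ : A ≃ₐ[k] A) (hx : σ x = y) (hy : σ y = x) :
    Ideal.span (Set.range fun a : A => σ a - a) = Ideal.span {y - x} := by
  apply le_antisymm
  · rw [Ideal.span_le]
    rintro _ ⟨a, rfl⟩
    rw [SetLike.mem_coe, ← ker_piU, RingHom.mem_ker]
    show piU k (σ a - a) = 0
    rw [map_sub, piU_sigma k σ hx hy, sub_self]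
  · rw [Ideal.span_le, Set.singleton_subset_iff, SetLike.mem_coe]
    have h1 : σ (y - x) - (y - x) ∈ Ideal.span (Set.range fun a : A => σ a - a) :=
      Ideal.subset_span ⟨y - x, rfl⟩
    have h3 : σ (y - x) = -(y - x) := by rw [map_sub, hx, hy]; ring
    rw [invertible_two_mul k 1 h2 (y - x), ← h3]
    exact Ideal.mul_mem_left _ _ h1

lemma u_mul_v : (x + y) * (y - x) = 0 := by
  have := y_sq k 1
  linear_combination this

lemma piU_u_ne_zero (h2 : (2 : k) ≠ 0) : piU k (x + y) ≠ 0 := by
  rw [map_add, piU_x, piU_y, ← two_mul]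
  exact mul_ne_zero (two_ne_zero_PS k h2) X_ne_zero

lemma v_not_mem_nonZeroDivisors (h2 : (2 : k) ≠ 0) : (y - x) ∉ nonZeroDivisors A := by
  intro h
  have := (mem_nonZeroDivisors_iff_right.mp h) (x + y) (u_mul_v k)
  exact piU_u_ne_zero k h2 (by rw [this, map_zero])

lemma span_v_mem_minimalPrimes (h2 : (2 : k) ≠ 0) :
    Ideal.span {y - x} ∈ minimalPrimes A := by
  show IsMinimalPrime _
  rw [IsMinimalPrime.iff_minimal]
  refine ⟨?_, fun P hP hle => ?_⟩
  · rw [← ker_piU]
    exact RingHom.ker_isPrime _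
  · rw [Ideal.span_le, Set.singleton_subset_iff, SetLike.mem_coe]
    have h0 : (x + y) * (y - x) ∈ P := by rw [u_mul_v]; exact zero_mem _
    rcases hP.mem_or_mem h0 with h | h
    · exfalso
      have := hle h
      rw [← ker_piU, RingHom.mem_ker] at this
      exact piU_u_ne_zero k h2 this
    · exact h

lemma swap_phi_not_flat (h2 : (2 : k) ≠ 0) (φ : A →ₐ[k] A) (hφu : φ (x + y) = x + y)
    (hφv : φ (y - x) = (y - x) ^ 2) : ¬ φ.toRingHom.Flat := by
  intro hflat
  obtain ⟨n, a, z, hz, ha⟩ := exists_of_flat_of_mul_eq_zero φ.toRingHom hflat (x + y) (y - x)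
    (by
      show φ (x + y) * (y - x) = 0
      rw [hφu]; exact u_mul_v k)
  have hz' : y - x = ∑ j, φ (a j) * z j := hz
  have h0 : ∀ j, ∃ b : A, φ (a j) = b * (y - x) ^ 2 := by
    intro j
    have h := ha j
    have h1 : piU k (a j) = 0 := by
      have := congrArg (piU k) h
      rw [map_mul, map_zero] at this
      exact (mul_eq_zero.mp this).resolve_left (piU_u_ne_zero k h2)
    have h3 : a j ∈ Ideal.span {y - x} := by rw [← ker_piU, RingHom.mem_ker]; exact h1
    obtain ⟨b, hb⟩ := Ideal.mem_span_singleton'.mp h3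
    exact ⟨φ b, by rw [← hb, map_mul, hφv]⟩
  choose b hb using h0
  have hv : y - x = (∑ j, b j * z j) * (y - x) ^ 2 := by
    rw [Finset.sum_mul]
    conv_lhs => rw [hz']
    apply Finset.sum_congr rfl
    intro j _
    rw [hb]; ring
  have h4 := congrArg (piV k) hv
  simp only [map_mul, map_pow, map_sub, piV_x, piV_y] at h4
  -- X - -X = w * (X - -X)^2
  have h5 : (2 : PowerSeries k) * X = piV k (∑ j, b j * z j) * (4 * X) * X := by
    linear_combination h4
  have h6 := mul_right_cancel₀ X_ne_zero h5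
  have h7 := congrArg constantCoeff h6
  simp only [map_mul, constantCoeff_X, mul_zero, map_ofNat] at h7
  exact h2 h7

end swap

end Groth.Agent.Lib.helper10.ArS
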