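import Groth.Agent.Lib.helper10.ArSingJ

set_option autoImplicit false
universe u

namespace Groth.Agent.Lib.helper10.ArS

open PowerSeries

variable (k : Type u) [Field k]

local notation "A" => ArSing.ring k 1
local notation "ι" => ArSing.xMap k 1
local notation "x" => ArSing.x k 1
local notation "y" => ArSing.y k 1

/-- the image of `t` under an algebra map into an augmented algebra lies in the augmentation
ideal. -/
lemma eps_algHom_X {B : Type*} [CommRing B] [Algebra k B] (ε : B →ₐ[k] k)
    (ψ : PowerSeries k →ₐ[k] B) : ε (ψ X) = 0 := by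
  by_contra hc
  have hC : ε (ψ (C (ε (ψ X)))) = ε (ψ X) := by
    have : (C (ε (ψ X)) : PowerSeries k) = algebraMap k (PowerSeries k) (ε (ψ X)) := rfl
    rw [this, AlgHom.commutes, AlgHom.commutes]
    rfl
  have hunit : IsUnit (X - C (ε (ψ X)) : PowerSeries k) := by
    rw [PowerSeries.isUnit_iff_constantCoeff]
    simpa using hc
  have h2 := (hunit.map ψ).map ε
  rw [map_sub, map_sub, hC, sub_self] at h2
  exact not_isUnit_zero h2

lemma constantCoeff_algHom (θ : PowerSeries k →ₐ[k] PowerSeries k) (p : PowerSeries k) :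
    constantCoeff (θ p) = constantCoeff p := by
  have : (epsP k).comp θ = epsP k := by
    have hB : ⨅ n : ℕ, (⊥ : Ideal k) ^ n = ⊥ := by
      apply le_antisymm _ bot_le
      exact (iInf_le _ 1).trans (by simp)
    apply algHom_ext_of_X (⊥ : Ideal k) hB (AlgHom.id k k) (by
      intro z hz; simpa using hz)
    rw [AlgHom.comp_apply, eps_algHom_X k (epsP k) θ]
    show (0 : k) = constantCoeff X
    simp
  exact DFunLike.congr_fun this p

lemma constantCoeff_algEquiv (θ : PowerSeries k ≃ₐ[k] PowerSeries k) (p : PowerSeries k) :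
    constantCoeff (θ p) = constantCoeff p :=
  constantCoeff_algHom k (θ : PowerSeries k →ₐ[k] PowerSeries k) p

lemma algEquiv_C (θ : PowerSeries k ≃ₐ[k] PowerSeries k) (c : k) : θ (C c) = C c := by
  have : (C c : PowerSeries k) = algebraMap k (PowerSeries k) c := rfl
  rw [this, AlgEquiv.commutes]

/-- pairs of power series with the same constant term. -/
def Fib : Subalgebra k (PowerSeries k × PowerSeries k) where
  carrier := {fg | constantCoeff fg.1 = constantCoeff fg.2}
  mul_mem' := by
    intro a b ha hb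
    simp only [Set.mem_setOf_eq, Prod.fst_mul, Prod.snd_mul, map_mul] at ha hb ⊢
    rw [ha, hb]
  add_mem' := by
    intro a b ha hb
    simp only [Set.mem_setOf_eq, Prod.fst_add, Prod.snd_add, map_add] at ha hb ⊢
    rw [ha, hb]
  algebraMap_mem' := by
    intro c
    simp only [Set.mem_setOf_eq, Prod.algebraMap_apply]

lemma mem_Fib {fg : PowerSeries k × PowerSeries k} :
    fg ∈ Fib k ↔ constantCoeff fg.1 = constantCoeff fg.2 := Iff.rfl

/-- the normalization map of the node as a map into `Fib`. -/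
noncomputable def PiHom : A →ₐ[k] Fib k :=
  AlgHom.codRestrict ((piU k).prod (piV k)) (Fib k) (fun a => constantCoeff_pi k a)

lemma PiHom_fst (a : A) : (PiHom k a).1.1 = piU k a := rfl
lemma PiHom_snd (a : A) : (PiHom k a).1.2 = piV k a := rfl

/-- the node algebra is the fibre product of its two branches. -/
noncomputable def PiEquiv (h2 : (2 : k) ≠ 0) : A ≃ₐ[k] Fib k :=
  AlgEquiv.ofBijective (PiHom k) (by
    constructor
    · intro a b h
      apply pi_ext k h2
      · rw [← PiHom_fst, ← PiHom_fst, h]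
      · rw [← PiHom_snd, ← PiHom_snd, h]
    · rintro ⟨⟨f, g⟩, hfg⟩
      obtain ⟨c, hc1, hc2⟩ := pi_surj k h2 f g hfg
      refine ⟨c, Subtype.ext (Prod.ext ?_ ?_)⟩
      · exact hc1
      · exact hc2)

lemma PiEquiv_apply (h2 : (2 : k) ≠ 0) (a : A) : PiEquiv k h2 a = PiHom k a := rfl

/-- an automorphism of `Fib` from automorphisms of the two branches. -/
noncomputable def fibAut (θu θv : PowerSeries k ≃ₐ[k] PowerSeries k) : Fib k ≃ₐ[k] Fib k where
  toFun z := ⟨(θu z.1.1, θv z.1.2), by
    show constantCoeff (θu z.1.1) = constantCoeff (θv z.1.2)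
    rw [constantCoeff_algEquiv, constantCoeff_algEquiv]
    exact z.2⟩
  invFun z := ⟨(θu.symm z.1.1, θv.symm z.1.2), by
    show constantCoeff (θu.symm z.1.1) = constantCoeff (θv.symm z.1.2)
    rw [constantCoeff_algEquiv, constantCoeff_algEquiv]
    exact z.2⟩
  left_inv z := Subtype.ext (Prod.ext (by simp) (by simp))
  right_inv z := Subtype.ext (Prod.ext (by simp) (by simp))
  map_mul' a b := Subtype.ext (Prod.ext (by simp) (by simp))
  map_add' a b := Subtype.ext (Prod.ext (by simp) (by simp))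
  commutes' c := Subtype.ext (Prod.ext (by simp [algEquiv_C]) (by simp [algEquiv_C]))

/-- the branch swap on `Fib`. -/
noncomputable def fibSwap : Fib k ≃ₐ[k] Fib k where
  toFun z := ⟨(z.1.2, z.1.1), z.2.symm⟩
  invFun z := ⟨(z.1.2, z.1.1), z.2.symm⟩
  left_inv z := rfl
  right_inv z := rfl
  map_mul' a b := rfl
  map_add' a b := rfl
  commutes' c := rfl

/-- automorphism of the node from automorphisms of the branches. -/
noncomputable def autA (h2 : (2 : k) ≠ 0) (θu θv : PowerSeries k ≃ₐ[k] PowerSeries k) :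
    A ≃ₐ[k] A :=
  (PiEquiv k h2).trans ((fibAut k θu θv).trans (PiEquiv k h2).symm)

lemma PiHom_autA (h2 : (2 : k) ≠ 0) (θu θv : PowerSeries k ≃ₐ[k] PowerSeries k) (a : A) :
    PiHom k (autA k h2 θu θv a) = fibAut k θu θv (PiHom k a) := by
  show PiEquiv k h2 ((PiEquiv k h2).symm (fibAut k θu θv (PiEquiv k h2 a))) = _
  rw [AlgEquiv.apply_symm_apply]
  rfl

lemma piU_autA (h2 : (2 : k) ≠ 0) (θu θv : PowerSeries k ≃ₐ[k] PowerSeries k) (a : A) :
    piU k (autA k h2 θu θv a) = θu (piU k a) := by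
  rw [← PiHom_fst, PiHom_autA]; rfl

lemma piV_autA (h2 : (2 : k) ≠ 0) (θu θv : PowerSeries k ≃ₐ[k] PowerSeries k) (a : A) :
    piV k (autA k h2 θu θv a) = θv (piV k a) := by
  rw [← PiHom_snd, PiHom_autA]; rfl

/-- the branch swapping automorphism of the node. -/
noncomputable def swapA (h2 : (2 : k) ≠ 0) : A ≃ₐ[k] A :=
  (PiEquiv k h2).trans ((fibSwap k).trans (PiEquiv k h2).symm)

lemma PiHom_swapA (h2 : (2 : k) ≠ 0) (a : A) :
    PiHom k (swapA k h2 a) = fibSwap k (PiHom k a) := by
  show PiEquiv k h2 ((PiEquiv k h2).symm (fibSwap k (PiEquiv k h2 a))) = _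
  rw [AlgEquiv.apply_symm_apply]
  rfl

lemma piU_swapA (h2 : (2 : k) ≠ 0) (a : A) : piU k (swapA k h2 a) = piV k a := by
  rw [← PiHom_fst, PiHom_swapA]; rfl

lemma piV_swapA (h2 : (2 : k) ≠ 0) (a : A) : piV k (swapA k h2 a) = piU k a := by
  rw [← PiHom_snd, PiHom_swapA]; rfl

end Groth.Agent.Lib.helper10.ArS
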