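import Groth.Agent.Lib.helper10.ArSingK
import Groth.Agent.S14080

set_option autoImplicit false
universe u

namespace Groth.Agent.Lib.helper10.ArS

open PowerSeries

variable (k : Type u) [Field k]

local notation "A" => ArSing.ring k 1
local notation "ι" => ArSing.xMap k 1
local notation "x" => ArSing.x k 1
local notation "y" => ArSing.y k 1

lemma ker_piV : RingHom.ker (piV k) = Ideal.span {x + y} := by
  apply le_antisymm
  · intro a ha
    rw [RingHom.mem_ker] at ha
    obtain ⟨p, q, rfl⟩ := exists_repr k 1 a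
    rw [piV_repr] at ha
    rw [Ideal.mem_span_singleton']
    refine ⟨ι q, ?_⟩
    have hp : p = q * X := by
      have := congrArg T ha
      rw [map_add, map_mul, T_T, T_T, T_X, map_zero] at this
      linear_combination this
    rw [hp, map_mul, xMap_X]
    ring
  · rw [Ideal.span_le, Set.singleton_subset_iff, SetLike.mem_coe, RingHom.mem_ker, map_add,
      piV_x, piV_y, neg_add_cancel]

lemma piV_v_ne_zero (h2 : (2 : k) ≠ 0) : piV k (y - x) ≠ 0 := by
  rw [map_sub, piV_x, piV_y, sub_neg_eq_add, ← two_mul]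
  exact mul_ne_zero (two_ne_zero_PS k h2) X_ne_zero

/-- the statement to be proved for an involution `σ` of the node. -/
def Concl (σ : A ≃ₐ[k] A) : Prop :=
  ∃ φ : A ≃ₐ[k] A,
    (φ.symm (σ (φ x)) = x ∧ φ.symm (σ (φ y)) = -y) ∨
    (φ.symm (σ (φ x)) = -x ∧ φ.symm (σ (φ y)) = -y) ∨
    (φ.symm (σ (φ x)) = y ∧ φ.symm (σ (φ y)) = x)

lemma Concl_conj (σ ψ : A ≃ₐ[k] A) (h : Concl k ((ψ.trans σ).trans ψ.symm)) : Concl k σ := by
  obtain ⟨φ, hφ⟩ := h
  refine ⟨φ.trans ψ, ?_⟩
  simpa [AlgEquiv.trans_apply, AlgEquiv.symm_trans_apply] using hφ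

/-- the dichotomy: an automorphism preserves or swaps the two branches. -/
lemma dichotomy (h2 : (2 : k) ≠ 0) (σ : A ≃ₐ[k] A) :
    (piU k (σ (y - x)) = 0 ∧ piV k (σ (x + y)) = 0) ∨
    (piU k (σ (x + y)) = 0 ∧ piV k (σ (y - x)) = 0) := by
  have huv : σ (x + y) * σ (y - x) = 0 := by rw [← map_mul, u_mul_v, map_zero]
  have hU := congrArg (piU k) huv
  have hV := congrArg (piV k) huv
  rw [map_mul, map_zero, mul_eq_zero] at hU hV
  have hu : σ (x + y) ≠ 0 := by
    intro h
    have := σ.injective (h.trans (map_zero σ).symm)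
    exact piU_u_ne_zero k h2 (by rw [this, map_zero])
  have hv : σ (y - x) ≠ 0 := by
    intro h
    have := σ.injective (h.trans (map_zero σ).symm)
    exact piV_v_ne_zero k h2 (by rw [this, map_zero])
  rcases hU with hU | hU <;> rcases hV with hV | hV
  · exact absurd (pi_injective k h2 hU hV) hu
  · exact Or.inr ⟨hU, hV⟩
  · exact Or.inl ⟨hU, hV⟩
  · exact absurd (pi_injective k h2 hU hV) hv

/-- `T` as an algebra automorphism. -/
noncomputable def TE : PowerSeries k ≃ₐ[k] PowerSeries k :=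
  AlgEquiv.ofAlgHom T T (AlgHom.ext fun p => T_T k p) (AlgHom.ext fun p => T_T k p)

lemma TE_apply (p : PowerSeries k) : TE k p = T p := rfl

lemma rescale_one_apply (p : PowerSeries k) : rescale (1 : k) p = p := by
  rw [rescale_one]; rfl

/-- final step: an automorphism acting on the branches by `t ↦ ξ t`. -/
lemma Concl_of_rescale (h2 : (2 : k) ≠ 0) (σ' : A ≃ₐ[k] A) (hne : σ' ≠ AlgEquiv.refl)
    (ξu ξv : k) (hξu : ξu ^ 2 = 1) (hξv : ξv ^ 2 = 1)
    (hU : ∀ a, piU k (σ' a) = rescale ξu (piU k a))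
    (hV : ∀ a, piV k (σ' a) = rescale ξv (piV k a)) : Concl k σ' := by
  have hcases : ∀ ξ : k, ξ ^ 2 = 1 → ξ = 1 ∨ ξ = -1 := fun ξ h => by
    have : (ξ - 1) * (ξ + 1) = 0 := by linear_combination h
    rcases mul_eq_zero.mp this with h | h
    · left; linear_combination h
    · right; linear_combination h
  rcases hcases ξu hξu with rfl | rfl <;> rcases hcases ξv hξv with rfl | rfl
  · exfalso
    apply hne
    apply AlgEquiv.ext
    intro a
    apply pi_ext k h2
    · rw [hU, rescale_one_apply]; rfl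
    · rw [hV, rescale_one_apply]; rfl
  · -- (1, -1): the swap
    refine ⟨AlgEquiv.refl, Or.inr (Or.inr ⟨?_, ?_⟩)⟩
    · show σ' x = y
      apply pi_ext k h2
      · rw [hU, rescale_one_apply, piU_x, piU_y]
      · rw [hV, piV_x, piV_y, map_neg, rescale_neg_one_X, neg_neg]
    · show σ' y = x
      apply pi_ext k h2
      · rw [hU, rescale_one_apply, piU_x, piU_y]
      · rw [hV, piV_x, piV_y, rescale_neg_one_X]
  · -- (-1, 1): conjugate by the branch swap
    refine ⟨swapA k h2, Or.inr (Or.inr ⟨?_, ?_⟩)⟩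
    · rw [AlgEquiv.symm_apply_eq]
      apply pi_ext k h2
      · rw [hU, piU_swapA, piU_swapA, piV_x, piV_y, map_neg, rescale_neg_one_X, neg_neg]
      · rw [hV, piV_swapA, piV_swapA, rescale_one_apply, piU_x, piU_y]
    · rw [AlgEquiv.symm_apply_eq]
      apply pi_ext k h2
      · rw [hU, piU_swapA, piU_swapA, piV_x, piV_y, rescale_neg_one_X]
      · rw [hV, piV_swapA, piV_swapA, rescale_one_apply, piU_x, piU_y]
  · -- (-1, -1)
    refine ⟨AlgEquiv.refl, Or.inr (Or.inl ⟨?_, ?_⟩)⟩
    · show σ' x = -x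
      apply pi_ext k h2
      · rw [hU, map_neg, piU_x, rescale_neg_one_X]
      · rw [hV, map_neg, piV_x, map_neg, rescale_neg_one_X]
    · show σ' y = -y
      apply pi_ext k h2
      · rw [hU, map_neg, piU_y, rescale_neg_one_X]
      · rw [hV, map_neg, piV_y, rescale_neg_one_X]

end Groth.Agent.Lib.helper10.ArS
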