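import Groth.Agent.Lib.helper10.ArSingL

set_option autoImplicit false
universe u

namespace Groth.Agent.Lib.helper10.ArS

open PowerSeries

variable (k : Type u) [Field k]

local notation "A" => ArSing.ring k 1
local notation "ι" => ArSing.xMap k 1
local notation "x" => ArSing.x k 1
local notation "y" => ArSing.y k 1

/-- branch preserving involutions. -/
lemma Concl_of_preserving (h2 : (2 : k) ≠ 0) (σ : A ≃ₐ[k] A) (hσ : ∀ a, σ (σ a) = a)
    (hne : σ ≠ AlgEquiv.refl) (h1 : piU k (σ (y - x)) = 0) (h3 : piV k (σ (x + y)) = 0) :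
    Concl k σ := by
  -- kernels are preserved
  have kU : ∀ a, piU k a = 0 → piU k (σ a) = 0 := by
    intro a ha
    have : a ∈ Ideal.span {y - x} := by rw [← ker_piU, RingHom.mem_ker]; exact ha
    obtain ⟨c, rfl⟩ := Ideal.mem_span_singleton'.mp this
    rw [map_mul, map_mul, h1, mul_zero]
  have kV : ∀ a, piV k a = 0 → piV k (σ a) = 0 := by
    intro a ha
    have : a ∈ Ideal.span {x + y} := by rw [← ker_piV, RingHom.mem_ker]; exact ha
    obtain ⟨c, rfl⟩ := Ideal.mem_span_singleton'.mp this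
    rw [map_mul, map_mul, h3, mul_zero]
  -- induced maps on the branches
  let α : PowerSeries k →ₐ[k] PowerSeries k := ((piU k).comp (σ : A →ₐ[k] A)).comp ι
  let β : PowerSeries k →ₐ[k] PowerSeries k :=
    ((piV k).comp (σ : A →ₐ[k] A)).comp ((ι).comp T)
  have hα : ∀ a, piU k (σ a) = α (piU k a) := by
    intro a
    have h0 : piU k (a - ι (piU k a)) = 0 := by rw [map_sub, piU_xMap, sub_self]
    have := kU _ h0
    rw [map_sub, map_sub, sub_eq_zero] at this
    exact this
  have hβ : ∀ a, piV k (σ a) = β (piV k a) := by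
    intro a
    have h0 : piV k (a - ι (T (piV k a))) = 0 := by rw [map_sub, piV_xMap, T_T, sub_self]
    have := kV _ h0
    rw [map_sub, map_sub, sub_eq_zero] at this
    exact this
  have hαα : ∀ p, α (α p) = p := by
    intro p
    have := hα (σ (ι p))
    rw [hσ, hα, piU_xMap] at this
    exact this.symm
  have hββ : ∀ p, β (β p) = p := by
    intro p
    have := hβ (σ (ι (T p)))
    rw [hσ, hβ, piV_xMap, T_T] at this
    exact this.symm
  let αE : PowerSeries k ≃ₐ[k] PowerSeries k :=
    AlgEquiv.ofAlgHom α α (AlgHom.ext hαα) (AlgHom.ext hαα)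
  let βE : PowerSeries k ≃ₐ[k] PowerSeries k :=
    AlgEquiv.ofAlgHom β β (AlgHom.ext hββ) (AlgHom.ext hββ)
  obtain ⟨hξu, θu, -, hθu⟩ := Groth.Agent.S14080.result k h2 αE hαα
  obtain ⟨hξv, θv, -, hθv⟩ := Groth.Agent.S14080.result k h2 βE hββ
  have hθu' : ∀ f, α (θu f) = θu (rescale (coeff 1 (αE X)) f) := by
    intro f
    have := hθu f
    rw [AlgEquiv.symm_apply_eq] at this
    exact this
  have hθv' : ∀ f, β (θv f) = θv (rescale (coeff 1 (βE X)) f) := by
    intro f
    have := hθv f
    rw [AlgEquiv.symm_apply_eq] at this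
    exact this
  apply Concl_conj k σ (autA k h2 θu θv)
  apply Concl_of_rescale k h2 _ _ (coeff 1 (αE X)) (coeff 1 (βE X)) hξu hξv
  · intro a
    apply θu.injective
    rw [← piU_autA k h2 θu θv]
    simp only [AlgEquiv.trans_apply, AlgEquiv.apply_symm_apply]
    rw [hα, piU_autA, hθu']
  · intro a
    apply θv.injective
    rw [← piV_autA k h2 θu θv]
    simp only [AlgEquiv.trans_apply, AlgEquiv.apply_symm_apply]
    rw [hβ, piV_autA, hθv']
  · intro h
    apply hne
    apply AlgEquiv.ext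
    intro a
    have := DFunLike.congr_fun h ((autA k h2 θu θv).symm a)
    simp only [AlgEquiv.trans_apply, AlgEquiv.apply_symm_apply, AlgEquiv.coe_refl, id] at this
    have h4 := congrArg (autA k h2 θu θv) this
    simpa using h4

/-- branch swapping involutions. -/
lemma Concl_of_swapping (h2 : (2 : k) ≠ 0) (σ : A ≃ₐ[k] A) (hσ : ∀ a, σ (σ a) = a)
    (h1 : piU k (σ (x + y)) = 0) (h3 : piV k (σ (y - x)) = 0) :
    Concl k σ := by
  have kU : ∀ a, piV k a = 0 → piU k (σ a) = 0 := by
    intro a ha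
    have : a ∈ Ideal.span {x + y} := by rw [← ker_piV, RingHom.mem_ker]; exact ha
    obtain ⟨c, rfl⟩ := Ideal.mem_span_singleton'.mp this
    rw [map_mul, map_mul, h1, mul_zero]
  have kV : ∀ a, piU k a = 0 → piV k (σ a) = 0 := by
    intro a ha
    have : a ∈ Ideal.span {y - x} := by rw [← ker_piU, RingHom.mem_ker]; exact ha
    obtain ⟨c, rfl⟩ := Ideal.mem_span_singleton'.mp this
    rw [map_mul, map_mul, h3, mul_zero]
  let α : PowerSeries k →ₐ[k] PowerSeries k :=
    ((piU k).comp (σ : A →ₐ[k] A)).comp ((ι).comp T)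
  let β : PowerSeries k →ₐ[k] PowerSeries k := ((piV k).comp (σ : A →ₐ[k] A)).comp ι
  have hα : ∀ a, piU k (σ a) = α (piV k a) := by
    intro a
    have h0 : piV k (a - ι (T (piV k a))) = 0 := by rw [map_sub, piV_xMap, T_T, sub_self]
    have := kU _ h0
    rw [map_sub, map_sub, sub_eq_zero] at this
    exact this
  have hβ : ∀ a, piV k (σ a) = β (piU k a) := by
    intro a
    have h0 : piU k (a - ι (piU k a)) = 0 := by rw [map_sub, piU_xMap, sub_self]
    have := kV _ h0
    rw [map_sub, map_sub, sub_eq_zero] at this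
    exact this
  have hαβ : ∀ p, α (β p) = p := by
    intro p
    have := hα (σ (ι p))
    rw [hσ, hβ, piU_xMap] at this
    exact this.symm
  have hβα : ∀ p, β (α p) = p := by
    intro p
    have := hβ (σ (ι (T p)))
    rw [hσ, hα, piV_xMap, T_T] at this
    exact this.symm
  let βE : PowerSeries k ≃ₐ[k] PowerSeries k :=
    AlgEquiv.ofAlgHom β α (AlgHom.ext hβα) (AlgHom.ext hαβ)
  let ψ := autA k h2 AlgEquiv.refl ((TE k).trans βE)
  have hψU : ∀ a, piU k (ψ a) = piU k a := fun a => by
    rw [piU_autA]; rfl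
  have hψV : ∀ a, piV k (ψ a) = β (T (piV k a)) := fun a => by
    rw [piV_autA]; rfl
  have hβinj : Function.Injective β := fun p q h => by
    have := congrArg α h
    rwa [hαβ, hαβ] at this
  have hTinj : Function.Injective (T : PowerSeries k →ₐ[k] PowerSeries k) := fun p q h => by
    have := congrArg T h
    rwa [T_T, T_T] at this
  -- the conjugated involution
  have hU : ∀ a, piU k (ψ.symm (σ (ψ a))) = T (piV k a) := by
    intro a
    rw [← hψU, AlgEquiv.apply_symm_apply, hα, hψV, hαβ]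
  have hV : ∀ a, piV k (ψ.symm (σ (ψ a))) = T (piU k a) := by
    intro a
    apply hTinj
    apply hβinj
    rw [← hψV, AlgEquiv.apply_symm_apply, hβ, hψU, T_T]
  refine ⟨ψ, Or.inl ⟨?_, ?_⟩⟩
  · apply pi_ext k h2
    · rw [hU, piV_x, map_neg, T_X, neg_neg, piU_x]
    · rw [hV, piU_x, T_X, piV_x]
  · apply pi_ext k h2
    · rw [hU, piV_y, T_X, map_neg, piU_y]
    · rw [hV, piU_y, T_X, map_neg, piV_y]

theorem node_involution (h2 : (2 : k) ≠ 0) (σ : A ≃ₐ[k] A) (hσ : ∀ a, σ (σ a) = a)
    (hne : σ ≠ AlgEquiv.refl) : Concl k σ := by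
  rcases dichotomy k h2 σ with ⟨h1, h3⟩ | ⟨h1, h3⟩
  · exact Concl_of_preserving k h2 σ hσ hne h1 h3
  · exact Concl_of_swapping k h2 σ hσ h1 h3

end Groth.Agent.Lib.helper10.ArS
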