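import Groth.Agent.Lib.helper10.ArSingH

set_option autoImplicit false
universe u

namespace Groth.Agent.Lib.helper10.ArS

open PowerSeries

variable (k : Type u) [Field k] (s : ℕ)

local notation "A" => ArSing.ring k (2 * s)
local notation "ι" => ArSing.xMap k (2 * s)
local notation "x" => ArSing.x k (2 * s)
local notation "y" => ArSing.y k (2 * s)

lemma mk_out (r : ℕ) (a : ArSing.ring k r) :
    Ideal.Quotient.mk (Ideal.span {ArSing.eqn k r}) (Quotient.out a) = a :=
  Quotient.out_eq a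

lemma hasSubst_out (r : ℕ) (a b : ArSing.ring k r) (ha : eps k r a = 0) (hb : eps k r b = 0) :
    MvPowerSeries.HasSubst (σ := Fin 2) (τ := Fin 2) (S := k)
      ![Quotient.out a, Quotient.out b] := by
  apply MvPowerSeries.hasSubst_of_constantCoeff_zero
  intro i
  fin_cases i
  · show MvPowerSeries.constantCoeff (Quotient.out a) = 0
    rw [← eps_mk k r, mk_out, ha]
  · show MvPowerSeries.constantCoeff (Quotient.out b) = 0
    rw [← eps_mk k r, mk_out, hb]

/-- `k⟦x,y⟧ → A_r`, `x ↦ a`, `y ↦ b`. -/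
noncomputable def preHom (r : ℕ) (a b : ArSing.ring k r) (ha : eps k r a = 0)
    (hb : eps k r b = 0) : MvPowerSeries (Fin 2) k →ₐ[k] ArSing.ring k r :=
  (Ideal.Quotient.mkₐ k (Ideal.span {ArSing.eqn k r})).comp
    (MvPowerSeries.substAlgHom (hasSubst_out k r a b ha hb))

lemma preHom_X0 (r : ℕ) (a b : ArSing.ring k r) (ha : eps k r a = 0) (hb : eps k r b = 0) :
    preHom k r a b ha hb (MvPowerSeries.X 0) = a := by
  unfold preHom
  rw [AlgHom.comp_apply, MvPowerSeries.substAlgHom_X]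
  exact mk_out k r a

lemma preHom_X1 (r : ℕ) (a b : ArSing.ring k r) (ha : eps k r a = 0) (hb : eps k r b = 0) :
    preHom k r a b ha hb (MvPowerSeries.X 1) = b := by
  unfold preHom
  rw [AlgHom.comp_apply, MvPowerSeries.substAlgHom_X]
  exact mk_out k r b

/-- general endomorphism constructor `x ↦ a, y ↦ b`. -/
noncomputable def homOfXY (r : ℕ) (a b : ArSing.ring k r) (ha : eps k r a = 0) (hb : eps k r b = 0)
    (hab : b ^ 2 = a ^ (r + 1)) : ArSing.ring k r →ₐ[k] ArSing.ring k r :=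
  Ideal.Quotient.liftₐ _ (preHom k r a b ha hb) (by
    intro z hz
    obtain ⟨c, rfl⟩ := Ideal.mem_span_singleton'.mp hz
    rw [map_mul]
    have : preHom k r a b ha hb (ArSing.eqn k r) = 0 := by
      show preHom k r a b ha hb (MvPowerSeries.X 1 ^ 2 - MvPowerSeries.X 0 ^ (r + 1)) = 0
      rw [map_sub, map_pow, map_pow, preHom_X0, preHom_X1, hab, sub_self]
    rw [this, mul_zero])

lemma homOfXY_x (r : ℕ) (a b : ArSing.ring k r) (ha : eps k r a = 0) (hb : eps k r b = 0)
    (hab : b ^ 2 = a ^ (r + 1)) : homOfXY k r a b ha hb hab (ArSing.x k r) = a :=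
  preHom_X0 k r a b ha hb

lemma homOfXY_y (r : ℕ) (a b : ArSing.ring k r) (ha : eps k r a = 0) (hb : eps k r b = 0)
    (hab : b ^ 2 = a ^ (r + 1)) : homOfXY k r a b ha hb hab (ArSing.y k r) = b :=
  preHom_X1 k r a b ha hb

/-- the normalization `A_{2s} → k⟦t⟧`, `x ↦ t²`, `y ↦ t^(2s+1)`. -/
noncomputable def nu : A →ₐ[k] PowerSeries k :=
  branch k (2 * s) (X ^ 2) (X ^ (2 * s + 1)) (by simp) (by simp) (by ring)

lemma nu_x : nu k s x = X ^ 2 := branch_x k _ _ _ _ _ _
lemma nu_y : nu k s y = X ^ (2 * s + 1) := branch_y k _ _ _ _ _ _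

lemma nu_xMap (p : PowerSeries k) : nu k s (ι p) = E p := by
  have : (nu k s).comp ι = E := by
    apply algHom_ext_PX
    rw [AlgHom.comp_apply, xMap_X, nu_x, E_X]
  exact DFunLike.congr_fun this p

lemma nu_repr (p q : PowerSeries k) :
    nu k s (ι p + ι q * y) = E p + X * E (X ^ s * q) := by
  rw [map_add, map_mul, nu_xMap, nu_xMap, nu_y, map_mul, map_pow, E_X]
  ring

lemma nu_injective : Function.Injective (nu k s) := by
  rw [injective_iff_map_eq_zero]
  intro a ha
  obtain ⟨p, q, rfl⟩ := exists_repr k (2 * s) a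
  rw [nu_repr] at ha
  obtain ⟨hp, hq⟩ := even_odd_eq_zero ha
  have hq' : q = 0 := by
    rcases mul_eq_zero.mp hq with h | h
    · exact absurd h (pow_ne_zero _ X_ne_zero)
    · exact h
  rw [hp, hq']; simp

/-- the image of the normalization map. -/
lemma mem_range_nu_iff (f : PowerSeries k) :
    f ∈ (nu k s).range ↔ X ^ s ∣ od f := by
  constructor
  · rintro ⟨a, rfl⟩
    obtain ⟨p, q, rfl⟩ := exists_repr k (2 * s) a
    show X ^ s ∣ od (nu k s (ι p + ι q * y))
    rw [nu_repr]
    have h := even_odd (E p + X * E (X ^ s * q))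
    have := (even_odd_unique h).2
    rw [← this]
    exact dvd_mul_right _ _
  · rintro ⟨q, hq⟩
    refine ⟨ι (ev f) + ι q * y, ?_⟩
    show nu k s _ = f
    rw [nu_repr, ← hq, ← even_odd]

lemma constantCoeff_nu (a : A) : constantCoeff (nu k s a) = eps k (2 * s) a := by
  obtain ⟨p, q, rfl⟩ := exists_repr k (2 * s) a
  rw [nu_repr, eps_repr]
  simp [constantCoeff_E]

end Groth.Agent.Lib.helper10.ArS
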