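import Groth.Agent.Lib.helper10.ArSingN

set_option autoImplicit false
universe u

namespace Groth.Agent.Lib.helper10.ArS

open PowerSeries

variable (k : Type u) [Field k]

/-- extracting the "uniformizer" from a point of the cusp `b² = a^(2s+1)` over `k⟦t⟧`. -/
lemma exists_root (s : ℕ) (a b : PowerSeries k) (ha : a ≠ 0) (hab : b ^ 2 = a ^ (2 * s + 1)) :
    ∃ θ : PowerSeries k, θ ^ 2 = a ∧ θ ^ (2 * s + 1) = b := by
  have hb : b ≠ 0 := by
    rintro rfl
    rw [zero_pow (by norm_num)] at hab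
    exact ha (pow_eq_zero_iff (by omega) |>.mp hab.symm)
  obtain ⟨n, hn⟩ : ∃ n : ℕ, (n : ℕ∞) = a.order := ⟨a.order.toNat, coe_toNat_order ha⟩
  obtain ⟨l, hl⟩ : ∃ l : ℕ, (l : ℕ∞) = b.order := ⟨b.order.toNat, coe_toNat_order hb⟩
  have hord : 2 * l = (2 * s + 1) * n := by
    have := congrArg order hab
    rw [order_pow, order_pow, ← hn, ← hl] at this
    simp only [nsmul_eq_mul] at this
    exact_mod_cast this
  have ea : X ^ n * divXPowOrder a = a := by
    have := X_pow_order_mul_divXPowOrder (f := a)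
    rw [← hn] at this
    simpa using this
  have eb : X ^ l * divXPowOrder b = b := by
    have := X_pow_order_mul_divXPowOrder (f := b)
    rw [← hl] at this
    simpa using this
  have hua : constantCoeff (divXPowOrder a) ≠ 0 := by
    rw [Ne, constantCoeff_divXPowOrder_eq_zero_iff]; exact ha
  obtain ⟨ua, hua'⟩ : ∃ ua, ua = divXPowOrder a := ⟨_, rfl⟩
  obtain ⟨ub, hub'⟩ : ∃ ub, ub = divXPowOrder b := ⟨_, rfl⟩
  rw [← hua'] at ea hua
  rw [← hub'] at eb
  obtain ⟨va, hva⟩ : ∃ va, ua * va = 1 := ⟨ua⁻¹, PowerSeries.mul_inv_cancel ua hua⟩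
  have hsn : s * n ≤ l := by nlinarith
  have key : X ^ (l - s * n) * (ub * va ^ s) * a ^ s = b := by
    rw [← ea, ← eb, mul_pow, ← pow_mul]
    have : l = (l - s * n) + n * s := by rw [mul_comm n s]; omega
    conv_rhs => rw [this, pow_add]
    have h1 : va ^ s * ua ^ s = 1 := by rw [← mul_pow, mul_comm, hva, one_pow]
    linear_combination (X ^ (l - s * n) * ub * X ^ (n * s)) * h1
  have hasn : a ^ s ≠ 0 := pow_ne_zero _ ha
  refine ⟨X ^ (l - s * n) * (ub * va ^ s), ?_, ?_⟩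
  · have h2 : (X ^ (l - s * n) * (ub * va ^ s)) ^ 2 * (a ^ s) ^ 2 = a * (a ^ s) ^ 2 := by
      rw [← mul_pow, key, hab]; ring
    exact mul_right_cancel₀ (pow_ne_zero _ hasn) h2
  · have h2 : (X ^ (l - s * n) * (ub * va ^ s)) ^ 2 * (a ^ s) ^ 2 = a * (a ^ s) ^ 2 := by
      rw [← mul_pow, key, hab]; ring
    have h3 := mul_right_cancel₀ (pow_ne_zero _ hasn) h2
    rw [pow_succ, pow_mul, h3]
    rw [mul_comm]
    exact key

/-- substitution `t ↦ θ` in `k⟦t⟧`. -/
noncomputable def subP (θ : PowerSeries k) (hθ : constantCoeff θ = 0) :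
    PowerSeries k →ₐ[k] PowerSeries k :=
  PowerSeries.substAlgHom (HasSubst.of_constantCoeff_zero' hθ)

lemma subP_X (θ : PowerSeries k) (hθ : constantCoeff θ = 0) : subP k θ hθ X = θ :=
  PowerSeries.substAlgHom_X _

/-- linear algebra: an automorphism mapping a finite-codimension subspace into itself maps it
onto itself. -/
lemma map_eq_of_map_le {V : Type*} [AddCommGroup V] [Module k V] (I N : Submodule k V)
    (hIN : I ≤ N) [FiniteDimensional k (V ⧸ I)] (e : V ≃ₗ[k] V) (hI : I.map (e : V →ₗ[k] V) = I)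
    (hN : N.map (e : V →ₗ[k] V) ≤ N) : N ≤ N.map (e : V →ₗ[k] V) := by
  let ebar : (V ⧸ I) ≃ₗ[k] (V ⧸ I) := Submodule.Quotient.equiv I I e hI
  have hbar : ∀ v, ebar (I.mkQ v) = I.mkQ (e v) := fun v => rfl
  let Nbar : Submodule k (V ⧸ I) := N.map I.mkQ
  have h1 : Nbar.map (ebar : (V ⧸ I) →ₗ[k] (V ⧸ I)) ≤ Nbar := by
    rintro _ ⟨_, ⟨v, hv, rfl⟩, rfl⟩
    refine ⟨e v, hN ⟨v, hv, rfl⟩, ?_⟩
    exact (hbar v).symm
  have h2 : Nbar.map (ebar : (V ⧸ I) →ₗ[k] (V ⧸ I)) = Nbar := by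
    apply Submodule.eq_of_le_of_finrank_eq h1
    exact LinearEquiv.finrank_map_eq ebar Nbar
  intro f hf
  have hfbar : I.mkQ f ∈ Nbar.map (ebar : (V ⧸ I) →ₗ[k] (V ⧸ I)) := by
    rw [h2]; exact ⟨f, hf, rfl⟩
  obtain ⟨_, ⟨g, hg, rfl⟩, hgf⟩ := hfbar
  have h3 : f - e g ∈ I := by
    have : I.mkQ (f - e g) = 0 := by
      rw [map_sub, ← hgf]
      show ebar (I.mkQ g) - I.mkQ (e g) = 0
      rw [hbar, sub_self]
    rwa [Submodule.mkQ_apply, Submodule.Quotient.mk_eq_zero] at this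
  rw [← hI] at h3
  obtain ⟨g', hg', hg'e⟩ := h3
  refine ⟨g + g', N.add_mem hg (hIN hg'), ?_⟩
  show e (g + g') = f
  have : e g' = f - e g := hg'e
  rw [map_add, this]; abel

end Groth.Agent.Lib.helper10.ArS
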