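import Groth.Agent.Lib.helper10.ArSingO
import Groth.Agent.Lib.helper10.ArSingK

set_option autoImplicit false
universe u

namespace Groth.Agent.Lib.helper10.ArS

open PowerSeries

variable (k : Type u) [Field k]

/-- `(t^m)` as a `k`-subspace of `k⟦t⟧`. -/
noncomputable def IX (m : ℕ) : Submodule k (PowerSeries k) :=
  (Ideal.span {(X : PowerSeries k) ^ m}).restrictScalars k

lemma mem_IX {m : ℕ} {f : PowerSeries k} : f ∈ IX k m ↔ X ^ m ∣ f := by
  show f ∈ Ideal.span {(X : PowerSeries k) ^ m} ↔ _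
  rw [Ideal.mem_span_singleton]

instance (m : ℕ) : FiniteDimensional k (PowerSeries k ⧸ IX k m) := by
  let L : (Fin m → k) →ₗ[k] (PowerSeries k ⧸ IX k m) :=
    (IX k m).mkQ.comp
      (Fintype.linearCombination k (fun i : Fin m => (X : PowerSeries k) ^ (i : ℕ)))
  apply Module.Finite.of_surjective L
  intro z
  obtain ⟨f, rfl⟩ := (IX k m).mkQ_surjective z
  refine ⟨fun i => coeff (i : ℕ) f, ?_⟩
  show (IX k m).mkQ _ = (IX k m).mkQ f
  rw [← sub_eq_zero, ← map_sub, Submodule.mkQ_apply, Submodule.Quotient.mk_eq_zero, mem_IX,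
    X_pow_dvd_iff]
  intro j hj
  rw [map_sub, Fintype.linearCombination_apply, map_sum]
  rw [Finset.sum_eq_single (⟨j, hj⟩ : Fin m)]
  · simp [coeff_X_pow]
  · intro i _ hi
    rw [coeff_smul, coeff_X_pow, if_neg, smul_zero]
    intro h
    exact hi (Fin.ext h.symm)
  · intro h; exact absurd (Finset.mem_univ _) h

lemma X_dvd_algEquiv_X (e : PowerSeries k ≃ₐ[k] PowerSeries k) : X ∣ e X := by
  rw [X_dvd_iff, constantCoeff_algEquiv]
  simp

lemma IX_map_algEquiv (m : ℕ) (e : PowerSeries k ≃ₐ[k] PowerSeries k) :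
    (IX k m).map (e.toLinearEquiv : PowerSeries k →ₗ[k] PowerSeries k) = IX k m := by
  have hle : ∀ e : PowerSeries k ≃ₐ[k] PowerSeries k,
      (IX k m).map (e.toLinearEquiv : PowerSeries k →ₗ[k] PowerSeries k) ≤ IX k m := by
    intro e
    rintro _ ⟨f, hf, rfl⟩
    rw [SetLike.mem_coe, mem_IX] at hf
    obtain ⟨g, rfl⟩ := hf
    show e (X ^ m * g) ∈ IX k m
    rw [mem_IX, map_mul, map_pow]
    exact Dvd.dvd.mul_right (pow_dvd_pow_of_dvd (X_dvd_algEquiv_X k e) m) _
  apply le_antisymm (hle e)
  intro f hf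
  refine ⟨e.symm f, hle e.symm ⟨f, hf, rfl⟩, ?_⟩
  show e (e.symm f) = f
  simp

/-- even/odd parts of a product. -/
lemma od_mul (f g : PowerSeries k) : od (f * g) = ev f * od g + od f * ev g := by
  have h : f * g = E (ev f * ev g + X * (od f * od g)) + X * E (ev f * od g + od f * ev g) := by
    conv_lhs => rw [even_odd f, even_odd g]
    simp only [map_add, map_mul, E_X]
    ring
  have := even_odd_unique ((even_odd (f * g)).symm.trans h)
  exact this.2

lemma od_X_mul (f : PowerSeries k) : od (X * f) = ev f := by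
  have h : X * f = E (X * od f) + X * E (ev f) := by
    conv_lhs => rw [even_odd f]
    simp only [map_mul, E_X]
    ring
  have := even_odd_unique ((even_odd (X * f)).symm.trans h)
  exact this.2

lemma constantCoeff_od (f : PowerSeries k) : constantCoeff (od f) = coeff 1 f := by
  rw [od, ← coeff_zero_eq_constantCoeff_apply, coeff_mk]

variable (s : ℕ)

local notation "A" => ArSing.ring k (2 * s)
local notation "ι" => ArSing.xMap k (2 * s)
local notation "x" => ArSing.x k (2 * s)
local notation "y" => ArSing.y k (2 * s)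

lemma X_pow_mul_mem_range_nu (g : PowerSeries k) : X ^ (2 * s + 1) * g ∈ (nu k s).range := by
  rw [mem_range_nu_iff]
  have h : X ^ (2 * s + 1) * g = E (X ^ (s + 1) * od g) + X * E (X ^ s * ev g) := by
    conv_lhs => rw [even_odd g]
    simp only [map_mul, map_pow, E_X]
    ring
  have := even_odd_unique ((even_odd (X ^ (2 * s + 1) * g)).symm.trans h)
  rw [this.2]
  exact dvd_mul_right _ _

end Groth.Agent.Lib.helper10.ArS
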