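import Groth.Agent.Lib.helper10.ArSingP
import Groth.Agent.Lib.helper10.ArSingL

set_option autoImplicit false
universe u

namespace Groth.Agent.Lib.helper10.ArS

open PowerSeries

variable (k : Type u) [Field k] (s : ℕ)

local notation "A" => ArSing.ring k (2 * s)
local notation "ι" => ArSing.xMap k (2 * s)
local notation "x" => ArSing.x k (2 * s)
local notation "y" => ArSing.y k (2 * s)

theorem cusp_involution (h2 : (2 : k) ≠ 0) (σ : A ≃ₐ[k] A) (hσ : ∀ a, σ (σ a) = a)
    (hne : σ ≠ AlgEquiv.refl) :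
    ∃ φ : A ≃ₐ[k] A, φ.symm (σ (φ x)) = x ∧ φ.symm (σ (φ y)) = -y := by
  obtain ⟨a, ha_def⟩ : ∃ a, a = nu k s (σ x) := ⟨_, rfl⟩
  obtain ⟨b, hb_def⟩ : ∃ b, b = nu k s (σ y) := ⟨_, rfl⟩
  have ha : a ≠ 0 := by
    intro h
    have h1 : σ x = 0 := nu_injective k s (by rw [map_zero, ← ha_def]; exact h)
    have h3 : x = 0 := σ.injective (by rw [h1, map_zero])
    have := congrArg (nu k s) h3
    rw [nu_x, map_zero] at this
    exact pow_ne_zero 2 X_ne_zero this
  have hab : b ^ 2 = a ^ (2 * s + 1) := by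
    rw [ha_def, hb_def, ← map_pow (nu k s), ← map_pow (nu k s), ← map_pow σ, ← map_pow σ, y_sq]
  obtain ⟨θ, hθ2, hθb⟩ := exists_root k s a b ha hab
  have hεx : eps k (2 * s) (σ x) = 0 := by
    have := eps_algHom_X k (eps k (2 * s)) ((σ : A →ₐ[k] A).comp ι)
    rwa [AlgHom.comp_apply, xMap_X] at this
  have ha0 : constantCoeff a = 0 := by rw [ha_def, constantCoeff_nu]; exact hεx
  have hθ0 : constantCoeff θ = 0 := by
    have := congrArg constantCoeff hθ2
    rw [map_pow, ha0] at this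
    exact pow_eq_zero_iff (by norm_num) |>.mp this
  obtain ⟨σt, hσt_def⟩ : ∃ σt, σt = subP k θ hθ0 := ⟨_, rfl⟩
  have hσtX : σt X = θ := by rw [hσt_def, subP_X]
  have hσt : ∀ c, nu k s (σ c) = σt (nu k s c) := by
    have : (nu k s).comp (σ : A →ₐ[k] A) = σt.comp (nu k s) := by
      apply algHom_ext_xy_P
      · rw [AlgHom.comp_apply, AlgHom.comp_apply, nu_x, map_pow, hσtX, hθ2, ha_def]; rfl
      · rw [AlgHom.comp_apply, AlgHom.comp_apply, nu_y, map_pow, hσtX, hθb, hb_def]; rfl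
    exact fun c => DFunLike.congr_fun this c
  have hσtσt : ∀ f, σt (σt f) = f := by
    have hw2 : (σt (σt X)) ^ 2 = X ^ 2 := by
      have := hσt (σ x)
      rw [hσ, hσt, nu_x, map_pow, map_pow] at this
      exact this.symm
    have hwm : (σt (σt X)) ^ (2 * s + 1) = X ^ (2 * s + 1) := by
      have := hσt (σ y)
      rw [hσ, hσt, nu_y, map_pow, map_pow] at this
      exact this.symm
    have hw : σt (σt X) = X := by
      have : σt (σt X) * X ^ (2 * s) = X * X ^ (2 * s) := by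
        calc σt (σt X) * X ^ (2 * s) = σt (σt X) * ((σt (σt X)) ^ 2) ^ s := by
              rw [hw2, ← pow_mul]
          _ = (σt (σt X)) ^ (2 * s + 1) := by ring
          _ = X ^ (2 * s + 1) := hwm
          _ = X * X ^ (2 * s) := by ring
      exact mul_right_cancel₀ (pow_ne_zero _ X_ne_zero) this
    have : σt.comp σt = AlgHom.id k _ := by
      apply algHom_ext_PX
      rw [AlgHom.comp_apply, hw]; rfl
    exact fun f => DFunLike.congr_fun this f
  obtain ⟨σE, hσE⟩ : ∃ σE : PowerSeries k ≃ₐ[k] PowerSeries k, ∀ f, σE f = σt f :=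
    ⟨AlgEquiv.ofAlgHom σt σt (AlgHom.ext hσtσt) (AlgHom.ext hσtσt), fun f => rfl⟩
  obtain ⟨hξ, φ₀, hφ₀X, hφ₀⟩ := Groth.Agent.S14080.result k h2 σE
    (fun f => by rw [hσE, hσE, hσtσt])
  rw [hσE, hσtX] at hξ hφ₀X hφ₀
  have hφ₀' : ∀ f, σt (φ₀ f) = φ₀ (rescale (coeff 1 θ) f) := fun f => by
    have := hφ₀ f
    rw [AlgEquiv.symm_apply_eq, hσE] at this
    exact this
  have hξ' : coeff 1 θ = 1 ∨ coeff 1 θ = -1 := by
    have : (coeff 1 θ - 1) * (coeff 1 θ + 1) = 0 := by linear_combination hξ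
    rcases mul_eq_zero.mp this with h | h
    · left; linear_combination h
    · right; linear_combination h
  rcases hξ' with hξ1 | hξ1
  · exfalso
    apply hne
    have hid : ∀ f, σt f = f := by
      intro f
      have := hφ₀' (φ₀.symm f)
      rw [hξ1, rescale_one_apply, AlgEquiv.apply_symm_apply] at this
      exact this
    apply AlgEquiv.ext
    intro c
    apply nu_injective k s
    rw [hσt, hid]; rfl
  · obtain ⟨w, hw_def⟩ : ∃ w, w = φ₀ X := ⟨_, rfl⟩
    have hw : w = C (2⁻¹ : k) * (X - θ) := by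
      rw [hw_def, hφ₀X, hξ1]
      simp only [map_neg, map_one, neg_mul, one_mul]
      ring
    have hσw : σt w = -w := by
      rw [hw_def, hφ₀', hξ1, rescale_neg_one_X, map_neg]
    have hw0 : constantCoeff w = 0 := by
      rw [hw]; simp [hθ0]
    have hθ2mem : θ ^ 2 ∈ (nu k s).range := ⟨σ x, by
      show nu k s (σ x) = θ ^ 2
      rw [hθ2, ha_def]⟩
    have hXθ : X * θ ∈ (nu k s).range := by
      rw [mem_range_nu_iff, od_X_mul]
      have h1 : X ^ s ∣ od (θ ^ 2) := (mem_range_nu_iff k s _).mp hθ2mem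
      rw [pow_two, od_mul] at h1
      have hunit : IsUnit (2 * od θ : PowerSeries k) := by
        rw [isUnit_iff_constantCoeff, map_mul, constantCoeff_od, hξ1, map_ofNat]
        simpa using h2
      have h3 : ev θ * od θ + od θ * ev θ = (2 * od θ) * ev θ := by ring
      rw [h3] at h1
      exact (hunit.dvd_mul_left).mp h1
    have hX2 : X ^ 2 ∈ (nu k s).range := ⟨x, nu_x k s⟩
    have hw2mem : w ^ 2 ∈ (nu k s).range := by
      have : w ^ 2 = algebraMap k (PowerSeries k) ((2⁻¹) ^ 2) *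
          (X ^ 2 - algebraMap k (PowerSeries k) 2 * (X * θ) + θ ^ 2) := by
        rw [hw]
        have h1 : (C (2⁻¹ : k) : PowerSeries k) = algebraMap k _ 2⁻¹ := rfl
        rw [h1, map_pow, map_ofNat]
        ring
      rw [this]
      exact Subalgebra.mul_mem _ (Subalgebra.algebraMap_mem _ _)
        (Subalgebra.add_mem _ (Subalgebra.sub_mem _ hX2
          (Subalgebra.mul_mem _ (Subalgebra.algebraMap_mem _ _) hXθ)) hθ2mem)
    have hwmmem : w ^ (2 * s + 1) ∈ (nu k s).range := by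
      obtain ⟨g, hg⟩ := X_dvd_iff.mpr hw0
      rw [hg, mul_pow]
      exact X_pow_mul_mem_range_nu k s _
    obtain ⟨cx, hcx⟩ := hw2mem
    obtain ⟨cy, hcy⟩ := hwmmem
    have hcx' : nu k s cx = w ^ 2 := hcx
    have hcy' : nu k s cy = w ^ (2 * s + 1) := hcy
    have hcxy : cy ^ 2 = cx ^ (2 * s + 1) :=
      nu_injective k s (by rw [map_pow, map_pow, hcx', hcy']; ring)
    have hεcx : eps k (2 * s) cx = 0 := by
      rw [← constantCoeff_nu, hcx', map_pow, hw0]; simp
    have hεcy : eps k (2 * s) cy = 0 := by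
      rw [← constantCoeff_nu, hcy', map_pow, hw0]; simp
    obtain ⟨Φ, hΦx, hΦy⟩ : ∃ Φ : A →ₐ[k] A, Φ x = cx ∧ Φ y = cy :=
      ⟨homOfXY k (2 * s) cx cy hεcx hεcy hcxy, homOfXY_x k _ _ _ _ _ _, homOfXY_y k _ _ _ _ _ _⟩
    have hΦ : ∀ c, nu k s (Φ c) = φ₀ (nu k s c) := by
      have : (nu k s).comp Φ = (φ₀ : PowerSeries k →ₐ[k] PowerSeries k).comp (nu k s) := by
        apply algHom_ext_xy_P
        · rw [AlgHom.comp_apply, AlgHom.comp_apply, hΦx, hcx', nu_x, map_pow, hw_def]; rfl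
        · rw [AlgHom.comp_apply, AlgHom.comp_apply, hΦy, hcy', nu_y, map_pow, hw_def]; rfl
      exact fun c => DFunLike.congr_fun this c
    have hΦinj : Function.Injective Φ := by
      intro c c' h
      apply nu_injective k s
      apply φ₀.injective
      rw [← hΦ, ← hΦ, h]
    have hΦsurj : Function.Surjective Φ := by
      intro c
      have hN := map_eq_of_map_le k (IX k (2 * s + 1)) (Subalgebra.toSubmodule (nu k s).range)
        (by
          intro f hf
          rw [mem_IX] at hf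
          obtain ⟨g, rfl⟩ := hf
          exact X_pow_mul_mem_range_nu k s g)
        φ₀.toLinearEquiv (IX_map_algEquiv k _ φ₀)
        (by
          rintro _ ⟨_, ⟨c', rfl⟩, rfl⟩
          exact ⟨Φ c', hΦ c'⟩)
      have hc : nu k s c ∈ Subalgebra.toSubmodule (nu k s).range := ⟨c, rfl⟩
      obtain ⟨f, ⟨c', hc'⟩, hf⟩ := hN hc
      refine ⟨c', nu_injective k s ?_⟩
      rw [hΦ]
      have hc'' : nu k s c' = f := hc'
      rw [hc'']
      exact hf
    refine ⟨AlgEquiv.ofBijective Φ ⟨hΦinj, hΦsurj⟩, ?_, ?_⟩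
    · rw [AlgEquiv.symm_apply_eq]
      apply nu_injective k s
      show nu k s (σ (Φ x)) = nu k s (Φ x)
      rw [hσt, hΦx, hcx', map_pow, hσw]; ring
    · rw [AlgEquiv.symm_apply_eq]
      apply nu_injective k s
      show nu k s (σ (Φ y)) = nu k s (Φ (-y))
      rw [hσt, map_neg, map_neg, hΦy, hcy', map_pow, hσw, Odd.neg_pow ⟨s, rfl⟩]

end Groth.Agent.Lib.helper10.ArS
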