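import Groth.Agent.Lib.helper10.ArSingQ

set_option autoImplicit false
universe u

namespace Groth.Agent.Lib.helper10.ArS

open PowerSeries

variable (k : Type u) [Field k] (n : ℕ)

local notation "A" => ArSing.ring k (2 * n + 1)
local notation "ι" => ArSing.xMap k (2 * n + 1)
local notation "x" => ArSing.x k (2 * n + 1)
local notation "y" => ArSing.y k (2 * n + 1)

/-- branch `y = x^m` of `y² = x^(2m)`, `m = n + 1`: `x ↦ t, y ↦ t^m`. -/
noncomputable def pU : A →ₐ[k] PowerSeries k :=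
  branch k (2 * n + 1) X (X ^ (n + 1)) (by simp) (by simp) (by ring)

/-- branch `y = -x^m`: `x ↦ t, y ↦ -t^m`. -/
noncomputable def pV : A →ₐ[k] PowerSeries k :=
  branch k (2 * n + 1) X (-X ^ (n + 1)) (by simp) (by simp) (by ring)

lemma pU_x : pU k n x = X := branch_x k _ _ _ _ _ _
lemma pU_y : pU k n y = X ^ (n + 1) := branch_y k _ _ _ _ _ _
lemma pV_x : pV k n x = X := branch_x k _ _ _ _ _ _
lemma pV_y : pV k n y = -X ^ (n + 1) := branch_y k _ _ _ _ _ _

lemma pU_xMap (p : PowerSeries k) : pU k n (ι p) = p := by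
  have : (pU k n).comp ι = AlgHom.id k _ := by
    apply algHom_ext_PX
    rw [AlgHom.comp_apply, xMap_X, pU_x]; rfl
  exact DFunLike.congr_fun this p

lemma pV_xMap (p : PowerSeries k) : pV k n (ι p) = p := by
  have : (pV k n).comp ι = AlgHom.id k _ := by
    apply algHom_ext_PX
    rw [AlgHom.comp_apply, xMap_X, pV_x]; rfl
  exact DFunLike.congr_fun this p

lemma pU_repr (p q : PowerSeries k) : pU k n (ι p + ι q * y) = p + q * X ^ (n + 1) := by
  rw [map_add, map_mul, pU_xMap, pU_xMap, pU_y]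

lemma pV_repr (p q : PowerSeries k) : pV k n (ι p + ι q * y) = p - q * X ^ (n + 1) := by
  rw [map_add, map_mul, pV_xMap, pV_xMap, pV_y]; ring

lemma p_injective (h2 : (2 : k) ≠ 0) {a : A} (h1 : pU k n a = 0) (h3 : pV k n a = 0) : a = 0 := by
  obtain ⟨p, q, rfl⟩ := exists_repr k _ a
  rw [pU_repr] at h1
  rw [pV_repr] at h3
  have hp : p = 0 := by
    have : (2 : PowerSeries k) * p = 0 := by linear_combination h1 + h3
    exact (mul_eq_zero.mp this).resolve_left (two_ne_zero_PS k h2)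
  have hq : q = 0 := by
    rw [hp, zero_add] at h1
    exact (mul_eq_zero.mp h1).resolve_right (pow_ne_zero _ X_ne_zero)
  rw [hp, hq]; simp

lemma p_ext (h2 : (2 : k) ≠ 0) {a b : A} (h1 : pU k n a = pU k n b) (h3 : pV k n a = pV k n b) :
    a = b := by
  rw [← sub_eq_zero]
  apply p_injective k n h2
  · rw [map_sub, h1, sub_self]
  · rw [map_sub, h3, sub_self]

lemma p_dvd (a : A) : X ^ (n + 1) ∣ pU k n a - pV k n a := by
  obtain ⟨p, q, rfl⟩ := exists_repr k _ a
  rw [pU_repr, pV_repr]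
  exact ⟨2 * q, by ring⟩

lemma p_surj (h2 : (2 : k) ≠ 0) (f g : PowerSeries k) (h : X ^ (n + 1) ∣ f - g) :
    ∃ c : A, pU k n c = f ∧ pV k n c = g := by
  obtain ⟨d, hd⟩ := h
  have hC : (C (2⁻¹ : k) : PowerSeries k) * 2 = 1 := by
    rw [← map_ofNat (C (R := k)) 2, ← map_mul, inv_mul_cancel₀ h2, map_one]
  refine ⟨ι (C 2⁻¹ * (f + g)) + ι (C 2⁻¹ * d) * y, ?_, ?_⟩
  · rw [pU_repr]
    have : f = C 2⁻¹ * 2 * f := by rw [hC, one_mul]
    conv_rhs => rw [this]
    linear_combination (- C (2⁻¹ : k)) * hd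
  · rw [pV_repr]
    have : g = C 2⁻¹ * 2 * g := by rw [hC, one_mul]
    conv_rhs => rw [this]
    linear_combination (C (2⁻¹ : k)) * hd

lemma constantCoeff_pU (a : A) : constantCoeff (pU k n a) = eps k _ a := by
  obtain ⟨p, q, rfl⟩ := exists_repr k _ a
  rw [pU_repr, eps_repr]
  simp

lemma constantCoeff_pV (a : A) : constantCoeff (pV k n a) = eps k _ a := by
  obtain ⟨p, q, rfl⟩ := exists_repr k _ a
  rw [pV_repr, eps_repr]
  simp

lemma mem_ker_pU {a : A} (h : pU k n a = 0) : ∃ c, a = c * (y - x ^ (n + 1)) := by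
  obtain ⟨p, q, rfl⟩ := exists_repr k _ a
  rw [pU_repr] at h
  refine ⟨ι q, ?_⟩
  have hp : p = - (q * X ^ (n + 1)) := by linear_combination h
  rw [hp, map_neg, map_mul, map_pow, xMap_X]
  ring

lemma mem_ker_pV {a : A} (h : pV k n a = 0) : ∃ c, a = c * (y + x ^ (n + 1)) := by
  obtain ⟨p, q, rfl⟩ := exists_repr k _ a
  rw [pV_repr] at h
  refine ⟨ι q, ?_⟩
  have hp : p = q * X ^ (n + 1) := by linear_combination h
  rw [hp, map_mul, map_pow, xMap_X]
  ring

lemma pU_u : pU k n (y - x ^ (n + 1)) = 0 := by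
  rw [map_sub, map_pow, pU_x, pU_y, sub_self]

lemma pV_v : pV k n (y + x ^ (n + 1)) = 0 := by
  rw [map_add, map_pow, pV_x, pV_y, neg_add_cancel]

lemma u_mul_v' : (y - x ^ (n + 1)) * (y + x ^ (n + 1)) = 0 := by
  have := y_sq k (2 * n + 1)
  have h2 : (2 * n + 1 + 1) = (n + 1) * 2 := by ring
  rw [h2, pow_mul] at this
  linear_combination this

lemma pV_u_ne_zero (h2 : (2 : k) ≠ 0) : pV k n (y - x ^ (n + 1)) ≠ 0 := by
  rw [map_sub, map_pow, pV_x, pV_y]
  have : -(X : PowerSeries k) ^ (n + 1) - X ^ (n + 1) = - (2 * X ^ (n + 1)) := by ring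
  rw [this, neg_ne_zero]
  exact mul_ne_zero (two_ne_zero_PS k h2) (pow_ne_zero _ X_ne_zero)

lemma pU_v_ne_zero (h2 : (2 : k) ≠ 0) : pU k n (y + x ^ (n + 1)) ≠ 0 := by
  rw [map_add, map_pow, pU_x, pU_y, ← two_mul]
  exact mul_ne_zero (two_ne_zero_PS k h2) (pow_ne_zero _ X_ne_zero)

/-- the dichotomy: an automorphism preserves or swaps the two branches. -/
lemma dichotomy' (h2 : (2 : k) ≠ 0) (σ : A ≃ₐ[k] A) :
    (pU k n (σ (y - x ^ (n + 1))) = 0 ∧ pV k n (σ (y + x ^ (n + 1))) = 0) ∨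
    (pU k n (σ (y + x ^ (n + 1))) = 0 ∧ pV k n (σ (y - x ^ (n + 1))) = 0) := by
  have huv : σ (y - x ^ (n + 1)) * σ (y + x ^ (n + 1)) = 0 := by
    rw [← map_mul, u_mul_v', map_zero]
  have hU := congrArg (pU k n) huv
  have hV := congrArg (pV k n) huv
  rw [map_mul, map_zero, mul_eq_zero] at hU hV
  have hu : σ (y - x ^ (n + 1)) ≠ 0 := by
    intro h
    have := σ.injective (h.trans (map_zero σ).symm)
    exact pV_u_ne_zero k n h2 (by rw [this, map_zero])
  have hv : σ (y + x ^ (n + 1)) ≠ 0 := by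
    intro h
    have := σ.injective (h.trans (map_zero σ).symm)
    exact pU_v_ne_zero k n h2 (by rw [this, map_zero])
  rcases hU with hU | hU <;> rcases hV with hV | hV
  · exact absurd (p_injective k n h2 hU hV) hu
  · exact Or.inl ⟨hU, hV⟩
  · exact Or.inr ⟨hU, hV⟩
  · exact absurd (p_injective k n h2 hU hV) hv

end Groth.Agent.Lib.helper10.ArS
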