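import Groth.Agent.Lib.helper10.ArSingR

set_option autoImplicit false
universe u

namespace Groth.Agent.Lib.helper10.ArS

open PowerSeries

variable (k : Type u) [Field k]

lemma X_dvd_algHom_X (φ : PowerSeries k →ₐ[k] PowerSeries k) : X ∣ φ X := by
  rw [X_dvd_iff, constantCoeff_algHom]
  simp

lemma X_pow_dvd_algHom (φ : PowerSeries k →ₐ[k] PowerSeries k) {m : ℕ} {f : PowerSeries k}
    (h : X ^ m ∣ f) : X ^ m ∣ φ f := by
  obtain ⟨g, rfl⟩ := h
  rw [map_mul, map_pow]
  exact Dvd.dvd.mul_right (pow_dvd_pow_of_dvd (X_dvd_algHom_X k φ) m) _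

lemma algHom_C (φ : PowerSeries k →ₐ[k] PowerSeries k) (c : k) : φ (C c) = C c := by
  have : (C c : PowerSeries k) = algebraMap k (PowerSeries k) c := rfl
  rw [this, AlgHom.commutes]

/-- two endomorphisms of `k⟦t⟧` congruent on `t` modulo `t^m` are congruent. -/
lemma dvd_sub_algHom (φ ψ : PowerSeries k →ₐ[k] PowerSeries k) (m : ℕ)
    (h : X ^ m ∣ φ X - ψ X) (f : PowerSeries k) : X ^ m ∣ φ f - ψ f := by
  have key : ∀ j, j ≤ m → ∀ f : PowerSeries k, X ^ j ∣ φ f - ψ f := by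
    intro j
    induction j with
    | zero => intro _ f; rw [pow_zero]; exact one_dvd _
    | succ j ih =>
      intro hj f
      have hf := eq_C_add_X_mul f
      obtain ⟨g, hg⟩ : ∃ g, g = mk (fun n => coeff (n + 1) f) := ⟨_, rfl⟩
      rw [← hg] at hf
      have h1 : φ f - ψ f = φ X * (φ g - ψ g) + (φ X - ψ X) * ψ g := by
        conv_lhs => rw [hf]
        rw [map_add, map_add, map_mul, map_mul, algHom_C, algHom_C]
        ring
      rw [h1]
      apply dvd_add
      · rw [pow_succ']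
        exact mul_dvd_mul (X_dvd_algHom_X k φ) (ih (by omega) g)
      · exact Dvd.dvd.mul_right ((pow_dvd_pow X hj).trans h) _
  exact key m le_rfl f

lemma coeff_one_algHom (φ : PowerSeries k →ₐ[k] PowerSeries k) (f : PowerSeries k) :
    coeff 1 (φ f) = coeff 1 (φ X) * coeff 1 f := by
  have hf := eq_C_add_X_mul f
  obtain ⟨g, hg⟩ : ∃ g, g = mk (fun n => coeff (n + 1) f) := ⟨_, rfl⟩
  rw [← hg] at hf
  have hg' := eq_C_add_X_mul g
  obtain ⟨g2, hg2⟩ : ∃ g2, g2 = mk (fun n => coeff (n + 1) g) := ⟨_, rfl⟩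
  rw [← hg2] at hg'
  have hc : constantCoeff g = coeff 1 f := by
    rw [hg]; simp
  obtain ⟨w, hw⟩ := X_dvd_algHom_X k φ
  have h1 : φ f = C (constantCoeff f) + C (constantCoeff g) * φ X + X ^ 2 * (w * w * φ g2) := by
    conv_lhs => rw [hf, hg']
    rw [map_add, map_mul, map_add, map_mul, algHom_C, algHom_C]
    rw [hw]
    ring
  rw [h1, map_add, map_add, coeff_C_mul, coeff_X_pow_mul', hc]
  simp [coeff_C, mul_comm]

/-- substitution `t ↦ w` with `w = c t + …`, `c ≠ 0`, as an automorphism. -/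
noncomputable def subE (w : PowerSeries k) (hw0 : constantCoeff w = 0) (hw1 : coeff 1 w ≠ 0) :
    PowerSeries k ≃ₐ[k] PowerSeries k :=
  AlgEquiv.ofBijective (subP k w hw0) (by
    have hX : subP k w hw0 (MvPowerSeries.X ()) = w := subP_X k w hw0
    apply Groth.Agent.Lib.Helper20.IFT.algHom_bijective (σ := Unit) (subP k w hw0)
    · intro i
      rw [show MvPowerSeries.X i = MvPowerSeries.X () from rfl, hX]
      exact hw0
    · rw [Matrix.det_unique]
      show IsUnit (MvPowerSeries.coeff (Finsupp.single () 1) (subP k w hw0 (MvPowerSeries.X ())))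
      rw [hX]
      show IsUnit (coeff 1 w)
      exact IsUnit.mk0 _ hw1)

lemma subE_X (w : PowerSeries k) (hw0 : constantCoeff w = 0) (hw1 : coeff 1 w ≠ 0) :
    subE k w hw0 hw1 X = w := subP_X k w hw0

lemma subE_apply (w : PowerSeries k) (hw0 : constantCoeff w = 0) (hw1 : coeff 1 w ≠ 0)
    (f : PowerSeries k) : subE k w hw0 hw1 f = subP k w hw0 f := rfl

/-- `t ↦ ξ t` with `ξ² = 1` as an automorphism. -/
noncomputable def resE (ξ : k) (hξ : ξ ^ 2 = 1) : PowerSeries k ≃ₐ[k] PowerSeries k :=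
  AlgEquiv.ofAlgHom (rescaleAlgHom ξ) (rescaleAlgHom ξ)
    (AlgHom.ext fun f => by
      show rescaleAlgHom ξ (rescaleAlgHom ξ f) = f
      have hr : ∀ g : PowerSeries k, (rescaleAlgHom ξ) g = rescale ξ g := fun g =>
        RingHom.congr_fun (coe_rescaleAlgHom ξ) g
      rw [hr, hr, rescale_rescale, ← sq, hξ, rescale_one]; rfl)
    (AlgHom.ext fun f => by
      show rescaleAlgHom ξ (rescaleAlgHom ξ f) = f
      have hr : ∀ g : PowerSeries k, (rescaleAlgHom ξ) g = rescale ξ g := fun g =>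
        RingHom.congr_fun (coe_rescaleAlgHom ξ) g
      rw [hr, hr, rescale_rescale, ← sq, hξ, rescale_one]; rfl)

lemma resE_apply (ξ : k) (hξ : ξ ^ 2 = 1) (f : PowerSeries k) : resE k ξ hξ f = rescale ξ f :=
  RingHom.congr_fun (coe_rescaleAlgHom ξ) f

lemma resE_symm_apply (ξ : k) (hξ : ξ ^ 2 = 1) (f : PowerSeries k) :
    (resE k ξ hξ).symm f = rescale ξ f :=
  RingHom.congr_fun (coe_rescaleAlgHom ξ) f

end Groth.Agent.Lib.helper10.ArS
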