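import Groth.Agent.Lib.helper10.ArSingS

set_option autoImplicit false
universe u

namespace Groth.Agent.Lib.helper10.ArS

open PowerSeries

variable (k : Type u) [Field k] (n : ℕ)

local notation "A" => ArSing.ring k (2 * n + 1)
local notation "ι" => ArSing.xMap k (2 * n + 1)
local notation "x" => ArSing.x k (2 * n + 1)
local notation "y" => ArSing.y k (2 * n + 1)

/-- endomorphism of `A` from endomorphisms of the branches congruent modulo `t^m`. -/
lemma exists_homP (h2 : (2 : k) ≠ 0) (φu φv : PowerSeries k →ₐ[k] PowerSeries k)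
    (h : X ^ (n + 1) ∣ φu X - φv X) :
    ∃ Φ : A →ₐ[k] A, (∀ a, pU k n (Φ a) = φu (pU k n a)) ∧
      (∀ a, pV k n (Φ a) = φv (pV k n a)) := by
  obtain ⟨cx, hcxU, hcxV⟩ := p_surj k n h2 (φu X) (φv X) h
  have hdvd : X ^ (n + 1) ∣ (φu X) ^ (n + 1) - (-(φv X) ^ (n + 1)) := by
    rw [sub_neg_eq_add]
    exact dvd_add (pow_dvd_pow_of_dvd (X_dvd_algHom_X k φu) _)
      (pow_dvd_pow_of_dvd (X_dvd_algHom_X k φv) _)
  obtain ⟨cy, hcyU, hcyV⟩ := p_surj k n h2 _ _ hdvd
  have hεx : eps k (2 * n + 1) cx = 0 := by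
    rw [← constantCoeff_pU, hcxU, constantCoeff_algHom]; simp
  have hεy : eps k (2 * n + 1) cy = 0 := by
    rw [← constantCoeff_pU, hcyU, map_pow, constantCoeff_algHom]; simp
  have hxy : cy ^ 2 = cx ^ (2 * n + 1 + 1) := by
    apply p_ext k n h2
    · rw [map_pow, map_pow, hcxU, hcyU]; ring
    · rw [map_pow, map_pow, hcxV, hcyV]; ring
  refine ⟨homOfXY k (2 * n + 1) cx cy hεx hεy hxy, ?_, ?_⟩
  · have : (pU k n).comp (homOfXY k (2 * n + 1) cx cy hεx hεy hxy) = φu.comp (pU k n) := by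
      apply algHom_ext_xy_P
      · rw [AlgHom.comp_apply, AlgHom.comp_apply, homOfXY_x, hcxU, pU_x]
      · rw [AlgHom.comp_apply, AlgHom.comp_apply, homOfXY_y, hcyU, pU_y, map_pow]
    exact fun a => DFunLike.congr_fun this a
  · have : (pV k n).comp (homOfXY k (2 * n + 1) cx cy hεx hεy hxy) = φv.comp (pV k n) := by
      apply algHom_ext_xy_P
      · rw [AlgHom.comp_apply, AlgHom.comp_apply, homOfXY_x, hcxV, pV_x]
      · rw [AlgHom.comp_apply, AlgHom.comp_apply, homOfXY_y, hcyV, pV_y, map_neg, map_pow]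
    exact fun a => DFunLike.congr_fun this a

/-- automorphism of `A` from automorphisms of the branches congruent modulo `t^m`. -/
lemma exists_autP (h2 : (2 : k) ≠ 0) (φu φv : PowerSeries k ≃ₐ[k] PowerSeries k)
    (h : X ^ (n + 1) ∣ φu X - φv X) :
    ∃ Φ : A ≃ₐ[k] A, (∀ a, pU k n (Φ a) = φu (pU k n a)) ∧
      (∀ a, pV k n (Φ a) = φv (pV k n a)) := by
  have h' : X ^ (n + 1) ∣ φu.symm X - φv.symm X := by
    have h1 := dvd_sub_algHom k (φu : PowerSeries k →ₐ[k] PowerSeries k)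
      (φv : PowerSeries k →ₐ[k] PowerSeries k) (n + 1) h (φv.symm X)
    have h3 := X_pow_dvd_algHom k (φu.symm : PowerSeries k →ₐ[k] PowerSeries k) h1
    have h4 : (φu.symm : PowerSeries k →ₐ[k] PowerSeries k)
        ((φu : PowerSeries k →ₐ[k] PowerSeries k) (φv.symm X) -
          (φv : PowerSeries k →ₐ[k] PowerSeries k) (φv.symm X)) =
        - (φu.symm X - φv.symm X) := by
      show φu.symm (φu (φv.symm X) - φv (φv.symm X)) = _
      rw [map_sub, AlgEquiv.symm_apply_apply, AlgEquiv.apply_symm_apply]; ring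
    rw [h4] at h3
    exact (dvd_neg.mp h3)
  obtain ⟨Φ, hΦU, hΦV⟩ := exists_homP k n h2 (φu : PowerSeries k →ₐ[k] PowerSeries k)
    (φv : PowerSeries k →ₐ[k] PowerSeries k) h
  obtain ⟨Ψ, hΨU, hΨV⟩ := exists_homP k n h2 (φu.symm : PowerSeries k →ₐ[k] PowerSeries k)
    (φv.symm : PowerSeries k →ₐ[k] PowerSeries k) h'
  refine ⟨AlgEquiv.ofAlgHom Φ Ψ ?_ ?_, hΦU, hΦV⟩
  · apply AlgHom.ext
    intro a
    apply p_ext k n h2
    · show pU k n (Φ (Ψ a)) = pU k n a
      rw [hΦU, hΨU]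
      exact φu.apply_symm_apply _
    · show pV k n (Φ (Ψ a)) = pV k n a
      rw [hΦV, hΨV]
      exact φv.apply_symm_apply _
  · apply AlgHom.ext
    intro a
    apply p_ext k n h2
    · show pU k n (Ψ (Φ a)) = pU k n a
      rw [hΨU, hΦU]
      exact φu.symm_apply_apply _
    · show pV k n (Ψ (Φ a)) = pV k n a
      rw [hΨV, hΦV]
      exact φv.symm_apply_apply _

/-- the statement to be proved for an involution `σ`. -/
def Concl3 (σ : A ≃ₐ[k] A) : Prop :=
  ∃ φ : A ≃ₐ[k] A,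
    (φ.symm (σ (φ x)) = x ∧ φ.symm (σ (φ y)) = -y) ∨
    (φ.symm (σ (φ x)) = -x ∧ φ.symm (σ (φ y)) = y) ∨
    (φ.symm (σ (φ x)) = -x ∧ φ.symm (σ (φ y)) = -y)

lemma Concl3_conj (σ ψ : A ≃ₐ[k] A) (h : Concl3 k n ((ψ.trans σ).trans ψ.symm)) :
    Concl3 k n σ := by
  obtain ⟨φ, hφ⟩ := h
  refine ⟨φ.trans ψ, ?_⟩
  simpa [AlgEquiv.trans_apply, AlgEquiv.symm_trans_apply] using hφ

lemma rescale_neg_one_X_pow (j : ℕ) :
    rescale (-1 : k) ((X : PowerSeries k) ^ j) = (-X) ^ j := by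
  rw [map_pow, rescale_neg_one_X]

/-- final step, branch preserving. -/
lemma Concl3_of_pres (h2 : (2 : k) ≠ 0) (σ' : A ≃ₐ[k] A) (hne : σ' ≠ AlgEquiv.refl)
    (ξ : k) (hξ : ξ = 1 ∨ ξ = -1)
    (hU : ∀ a, pU k n (σ' a) = rescale ξ (pU k n a))
    (hV : ∀ a, pV k n (σ' a) = rescale ξ (pV k n a)) : Concl3 k n σ' := by
  rcases hξ with rfl | rfl
  · exfalso
    apply hne
    apply AlgEquiv.ext
    intro a
    apply p_ext k n h2
    · rw [hU, rescale_one_apply]; rfl
    · rw [hV, rescale_one_apply]; rfl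
  · have hx : σ' x = -x := by
      apply p_ext k n h2
      · rw [hU, map_neg, pU_x, rescale_neg_one_X]
      · rw [hV, map_neg, pV_x, rescale_neg_one_X]
    rcases Nat.even_or_odd (n + 1) with he | ho
    · refine ⟨AlgEquiv.refl, Or.inr (Or.inl ⟨hx, ?_⟩)⟩
      show σ' y = y
      apply p_ext k n h2
      · rw [hU, pU_y, rescale_neg_one_X_pow, he.neg_pow]
      · rw [hV, pV_y, map_neg, rescale_neg_one_X_pow, he.neg_pow]
    · refine ⟨AlgEquiv.refl, Or.inr (Or.inr ⟨hx, ?_⟩)⟩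
      show σ' y = -y
      apply p_ext k n h2
      · rw [hU, map_neg, pU_y, rescale_neg_one_X_pow, ho.neg_pow]
      · rw [hV, map_neg, pV_y, map_neg, rescale_neg_one_X_pow, ho.neg_pow]

/-- final step, branch swapping. -/
lemma Concl3_of_swap (h2 : (2 : k) ≠ 0) (σ' : A ≃ₐ[k] A)
    (ξ : k) (hξ : ξ = 1 ∨ ξ = -1)
    (hU : ∀ a, pU k n (σ' a) = rescale ξ (pV k n a))
    (hV : ∀ a, pV k n (σ' a) = rescale ξ (pU k n a)) : Concl3 k n σ' := by
  rcases hξ with rfl | rfl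
  · refine ⟨AlgEquiv.refl, Or.inl ⟨?_, ?_⟩⟩
    · show σ' x = x
      apply p_ext k n h2
      · rw [hU, rescale_one_apply, pV_x, pU_x]
      · rw [hV, rescale_one_apply, pV_x, pU_x]
    · show σ' y = -y
      apply p_ext k n h2
      · rw [hU, rescale_one_apply, map_neg, pV_y, pU_y]
      · rw [hV, rescale_one_apply, map_neg, pV_y, pU_y, neg_neg]
  · have hx : σ' x = -x := by
      apply p_ext k n h2
      · rw [hU, map_neg, pU_x, pV_x, rescale_neg_one_X]
      · rw [hV, map_neg, pV_x, pU_x, rescale_neg_one_X]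
    rcases Nat.even_or_odd (n + 1) with he | ho
    · refine ⟨AlgEquiv.refl, Or.inr (Or.inr ⟨hx, ?_⟩)⟩
      show σ' y = -y
      apply p_ext k n h2
      · rw [hU, map_neg, pU_y, pV_y, map_neg, rescale_neg_one_X_pow, he.neg_pow]
      · rw [hV, map_neg, pV_y, pU_y, rescale_neg_one_X_pow, he.neg_pow, neg_neg]
    · refine ⟨AlgEquiv.refl, Or.inr (Or.inl ⟨hx, ?_⟩)⟩
      show σ' y = y
      apply p_ext k n h2
      · rw [hU, pU_y, pV_y, map_neg, rescale_neg_one_X_pow, ho.neg_pow, neg_neg]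
      · rw [hV, pV_y, pU_y, rescale_neg_one_X_pow, ho.neg_pow]

lemma sq_eq_one_cases (ξ : k) (h : ξ ^ 2 = 1) : ξ = 1 ∨ ξ = -1 := by
  have : (ξ - 1) * (ξ + 1) = 0 := by linear_combination h
  rcases mul_eq_zero.mp this with h | h
  · left; linear_combination h
  · right; linear_combination h

end Groth.Agent.Lib.helper10.ArS
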