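import Groth.Agent.Lib.helper10.ArSingT

set_option autoImplicit false
universe u

namespace Groth.Agent.Lib.helper10.ArS

open PowerSeries

variable (k : Type u) [Field k] (n : ℕ)

local notation "A" => ArSing.ring k (2 * n + 1)
local notation "ι" => ArSing.xMap k (2 * n + 1)
local notation "x" => ArSing.x k (2 * n + 1)
local notation "y" => ArSing.y k (2 * n + 1)

lemma coeff_one_eq_of_dvd (hn : 1 ≤ n) {f g : PowerSeries k} (h : X ^ (n + 1) ∣ f - g) :
    coeff 1 f = coeff 1 g := by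
  rw [X_pow_dvd_iff] at h
  have := h 1 (by omega)
  rw [map_sub, sub_eq_zero] at this
  exact this

/-- branch preserving involutions. -/
lemma Concl3_of_preserving (h2 : (2 : k) ≠ 0) (hn : 1 ≤ n) (σ : A ≃ₐ[k] A)
    (hσ : ∀ a, σ (σ a) = a) (hne : σ ≠ AlgEquiv.refl)
    (h1 : pU k n (σ (y - x ^ (n + 1))) = 0) (h3 : pV k n (σ (y + x ^ (n + 1))) = 0) :
    Concl3 k n σ := by
  have kU : ∀ a, pU k n a = 0 → pU k n (σ a) = 0 := by
    intro a ha
    obtain ⟨c, rfl⟩ := mem_ker_pU k n ha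
    rw [map_mul, map_mul, h1, mul_zero]
  have kV : ∀ a, pV k n a = 0 → pV k n (σ a) = 0 := by
    intro a ha
    obtain ⟨c, rfl⟩ := mem_ker_pV k n ha
    rw [map_mul, map_mul, h3, mul_zero]
  obtain ⟨α, hα_def⟩ : ∃ α : PowerSeries k →ₐ[k] PowerSeries k,
      α = ((pU k n).comp (σ : A →ₐ[k] A)).comp ι := ⟨_, rfl⟩
  obtain ⟨β, hβ_def⟩ : ∃ β : PowerSeries k →ₐ[k] PowerSeries k,
      β = ((pV k n).comp (σ : A →ₐ[k] A)).comp ι := ⟨_, rfl⟩
  have hα : ∀ a, pU k n (σ a) = α (pU k n a) := by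
    intro a
    have h0 : pU k n (a - ι (pU k n a)) = 0 := by rw [map_sub, pU_xMap, sub_self]
    have := kU _ h0
    rw [map_sub, map_sub, sub_eq_zero] at this
    rw [hα_def]
    exact this
  have hβ : ∀ a, pV k n (σ a) = β (pV k n a) := by
    intro a
    have h0 : pV k n (a - ι (pV k n a)) = 0 := by rw [map_sub, pV_xMap, sub_self]
    have := kV _ h0
    rw [map_sub, map_sub, sub_eq_zero] at this
    rw [hβ_def]
    exact this
  have hαα : ∀ p, α (α p) = p := by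
    intro p
    have := hα (σ (ι p))
    rw [hσ, hα, pU_xMap] at this
    exact this.symm
  have hββ : ∀ p, β (β p) = p := by
    intro p
    have := hβ (σ (ι p))
    rw [hσ, hβ, pV_xMap] at this
    exact this.symm
  obtain ⟨αE, hαE⟩ : ∃ αE : PowerSeries k ≃ₐ[k] PowerSeries k, ∀ f, αE f = α f :=
    ⟨AlgEquiv.ofAlgHom α α (AlgHom.ext hαα) (AlgHom.ext hαα), fun f => rfl⟩
  obtain ⟨βE, hβE⟩ : ∃ βE : PowerSeries k ≃ₐ[k] PowerSeries k, ∀ f, βE f = β f :=
    ⟨AlgEquiv.ofAlgHom β β (AlgHom.ext hββ) (AlgHom.ext hββ), fun f => rfl⟩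
  obtain ⟨hξu, θu, hθuX, hθu⟩ := Groth.Agent.S14080.result k h2 αE
    (fun f => by rw [hαE, hαE, hαα])
  obtain ⟨hξv, θv, hθvX, hθv⟩ := Groth.Agent.S14080.result k h2 βE
    (fun f => by rw [hβE, hβE, hββ])
  rw [hαE] at hξu hθuX hθu
  rw [hβE] at hξv hθvX hθv
  have hdvd : X ^ (n + 1) ∣ α X - β X := by
    have := p_dvd k n (σ x)
    rwa [hα, hβ, pU_x, pV_x] at this
  have hξeq : coeff 1 (α X) = coeff 1 (β X) := coeff_one_eq_of_dvd k n hn hdvd
  have hθdvd : X ^ (n + 1) ∣ θu X - θv X := by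
    rw [hθuX, hθvX, ← hξeq]
    obtain ⟨d, hd⟩ := hdvd
    refine ⟨C (2⁻¹ : k) * C (coeff 1 (α X)) * d, ?_⟩
    linear_combination (C (2⁻¹ : k) * C (coeff 1 (α X))) * hd
  have hθu' : ∀ f, α (θu f) = θu (rescale (coeff 1 (α X)) f) := by
    intro f
    have := hθu f
    rw [AlgEquiv.symm_apply_eq, hαE] at this
    exact this
  have hθv' : ∀ f, β (θv f) = θv (rescale (coeff 1 (α X)) f) := by
    intro f
    have := hθv f
    rw [AlgEquiv.symm_apply_eq, hβE, ← hξeq] at this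
    exact this
  obtain ⟨Φ, hΦU, hΦV⟩ := exists_autP k n h2 θu θv hθdvd
  apply Concl3_conj k n σ Φ
  apply Concl3_of_pres k n h2 _ _ (coeff 1 (α X)) (sq_eq_one_cases k _ hξu)
  · intro a
    apply θu.injective
    rw [← hΦU]
    simp only [AlgEquiv.trans_apply, AlgEquiv.apply_symm_apply]
    rw [hα, hΦU, hθu']
  · intro a
    apply θv.injective
    rw [← hΦV]
    simp only [AlgEquiv.trans_apply, AlgEquiv.apply_symm_apply]
    rw [hβ, hΦV, hθv']
  · intro h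
    apply hne
    apply AlgEquiv.ext
    intro a
    have := DFunLike.congr_fun h (Φ.symm a)
    simp only [AlgEquiv.trans_apply, AlgEquiv.apply_symm_apply, AlgEquiv.coe_refl, id] at this
    have h4 := congrArg Φ this
    simpa using h4

/-- branch swapping involutions. -/
lemma Concl3_of_swapping (h2 : (2 : k) ≠ 0) (hn : 1 ≤ n) (σ : A ≃ₐ[k] A)
    (hσ : ∀ a, σ (σ a) = a)
    (h1 : pU k n (σ (y + x ^ (n + 1))) = 0) (h3 : pV k n (σ (y - x ^ (n + 1))) = 0) :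
    Concl3 k n σ := by
  have kU : ∀ a, pV k n a = 0 → pU k n (σ a) = 0 := by
    intro a ha
    obtain ⟨c, rfl⟩ := mem_ker_pV k n ha
    rw [map_mul, map_mul, h1, mul_zero]
  have kV : ∀ a, pU k n a = 0 → pV k n (σ a) = 0 := by
    intro a ha
    obtain ⟨c, rfl⟩ := mem_ker_pU k n ha
    rw [map_mul, map_mul, h3, mul_zero]
  obtain ⟨α, hα_def⟩ : ∃ α : PowerSeries k →ₐ[k] PowerSeries k,
      α = ((pU k n).comp (σ : A →ₐ[k] A)).comp ι := ⟨_, rfl⟩
  obtain ⟨β, hβ_def⟩ : ∃ β : PowerSeries k →ₐ[k] PowerSeries k,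
      β = ((pV k n).comp (σ : A →ₐ[k] A)).comp ι := ⟨_, rfl⟩
  have hα : ∀ a, pU k n (σ a) = α (pV k n a) := by
    intro a
    have h0 : pV k n (a - ι (pV k n a)) = 0 := by rw [map_sub, pV_xMap, sub_self]
    have := kU _ h0
    rw [map_sub, map_sub, sub_eq_zero] at this
    rw [hα_def]
    exact this
  have hβ : ∀ a, pV k n (σ a) = β (pU k n a) := by
    intro a
    have h0 : pU k n (a - ι (pU k n a)) = 0 := by rw [map_sub, pU_xMap, sub_self]
    have := kV _ h0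
    rw [map_sub, map_sub, sub_eq_zero] at this
    rw [hβ_def]
    exact this
  have hαβ : ∀ p, α (β p) = p := by
    intro p
    have := hα (σ (ι p))
    rw [hσ, hβ, pU_xMap] at this
    exact this.symm
  have hβα : ∀ p, β (α p) = p := by
    intro p
    have := hβ (σ (ι p))
    rw [hσ, hα, pV_xMap] at this
    exact this.symm
  obtain ⟨βE, hβE⟩ : ∃ βE : PowerSeries k ≃ₐ[k] PowerSeries k, ∀ f, βE f = β f :=
    ⟨AlgEquiv.ofAlgHom β α (AlgHom.ext hβα) (AlgHom.ext hαβ), fun f => rfl⟩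
  have hdvd : X ^ (n + 1) ∣ α X - β X := by
    have := p_dvd k n (σ x)
    rwa [hα, hβ, pU_x, pV_x] at this
  obtain ⟨ξ, hξ_def⟩ : ∃ ξ : k, ξ = coeff 1 (β X) := ⟨_, rfl⟩
  have hξα : coeff 1 (α X) = ξ := by
    rw [hξ_def]; exact coeff_one_eq_of_dvd k n hn hdvd
  have hξ2 : ξ ^ 2 = 1 := by
    have := coeff_one_algHom k α (β X)
    rw [hαβ, coeff_one_X, hξα, ← hξ_def] at this
    rw [sq]; exact this.symm
  have hCC : (C ξ : PowerSeries k) * C ξ = 1 := by rw [← map_mul, ← sq, hξ2, map_one]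
  have hβ0 : constantCoeff (β X) = 0 := by rw [constantCoeff_algHom]; simp
  obtain ⟨w, hw_def⟩ : ∃ w : PowerSeries k, w = C (2⁻¹ : k) * (X + C ξ * β X) := ⟨_, rfl⟩
  have hw0 : constantCoeff w = 0 := by
    rw [hw_def, map_mul, map_add, map_mul, hβ0, constantCoeff_X, mul_zero, add_zero, mul_zero]
  have hw1 : coeff 1 w = 1 := by
    rw [hw_def, coeff_C_mul, map_add, coeff_C_mul, coeff_one_X, ← hξ_def, ← sq, hξ2]
    field_simp
    norm_num
  obtain ⟨φ, hφ_def⟩ : ∃ φ : PowerSeries k ≃ₐ[k] PowerSeries k,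
      φ = subE k w hw0 (by rw [hw1]; exact one_ne_zero) := ⟨_, rfl⟩
  have hφX : φ X = w := by rw [hφ_def, subE_X]
  obtain ⟨φv, hφv_def⟩ : ∃ φv : PowerSeries k ≃ₐ[k] PowerSeries k,
      φv = (resE k ξ hξ2).trans (φ.trans βE) := ⟨_, rfl⟩
  have hφv : ∀ f, φv f = β (φ (rescale ξ f)) := by
    intro f
    rw [hφv_def, AlgEquiv.trans_apply, AlgEquiv.trans_apply, hβE, resE_apply]
  have hφC : ∀ c : k, φ (C c) = C c := fun c => algEquiv_C k φ c
  have hφvX : φv X = C ξ * (C (2⁻¹ : k) * (β X + C ξ * β (β X))) := by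
    rw [hφv, rescale_X, map_mul, hφC, hφX, map_mul, algHom_C, hw_def, map_mul, algHom_C,
      map_add, map_mul, algHom_C]
  have hφdvd : X ^ (n + 1) ∣ φ X - φv X := by
    have h4 := dvd_sub_algHom k α β (n + 1) hdvd (β X)
    rw [hαβ] at h4
    obtain ⟨d, hd⟩ := h4
    refine ⟨C (2⁻¹ : k) * d, ?_⟩
    rw [hφX, hφvX, hw_def]
    linear_combination (C (2⁻¹ : k)) * hd - (C (2⁻¹ : k) * β (β X)) * hCC
  obtain ⟨Φ, hΦU, hΦV⟩ := exists_autP k n h2 φ φv hφdvd
  apply Concl3_conj k n σ Φ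
  apply Concl3_of_swap k n h2 _ ξ (sq_eq_one_cases k _ hξ2)
  · intro a
    apply φ.injective
    rw [← hΦU]
    simp only [AlgEquiv.trans_apply, AlgEquiv.apply_symm_apply]
    rw [hα, hΦV, hφv, hαβ]
  · intro a
    apply φv.injective
    rw [← hΦV]
    simp only [AlgEquiv.trans_apply, AlgEquiv.apply_symm_apply]
    rw [hβ, hΦU, hφv, rescale_rescale, ← sq, hξ2, rescale_one_apply]

theorem tacnode_involution (h2 : (2 : k) ≠ 0) (hn : 1 ≤ n) (σ : A ≃ₐ[k] A)
    (hσ : ∀ a, σ (σ a) = a) (hne : σ ≠ AlgEquiv.refl) : Concl3 k n σ := by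
  rcases dichotomy' k n h2 σ with ⟨h1, h3⟩ | ⟨h1, h3⟩
  · exact Concl3_of_preserving k n h2 hn σ hσ hne h1 h3
  · exact Concl3_of_swapping k n h2 hn σ hσ h1 h3

end Groth.Agent.Lib.helper10.ArS
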