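import Mathlib
import Groth.Agent.Lib.Helper21.FlatKit2

set_option maxHeartbeats 400000
set_option autoImplicit false
universe u
open TensorProduct Function IsLocalRing CategoryTheory
open Groth.Agent.Lib.Helper21.FlatKit

namespace H10S15133

variable {A : Type u} [CommRing A] [IsLocalRing A] [IsArtinianRing A]

/-- If `X → Y → W` is a complex with `W` flat whose reduction mod the maximal ideal is exact,
then the cokernel of `Y → W` is flat. -/
theorem flat_coker_of_red_exact {X Y W : Type u} [AddCommGroup X] [Module A X]
    [AddCommGroup Y] [Module A Y] [AddCommGroup W] [Module A W] [Module.Flat A W]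
    (f : X →ₗ[A] Y) (v : Y →ₗ[A] W) (hfv : v ∘ₗ f = 0)
    (hred : Exact (f.lTensor (ResidueField A)) (v.lTensor (ResidueField A))) :
    Module.Flat A (W ⧸ LinearMap.range v) ∧
      Injective ((LinearMap.range v).subtype.lTensor (ResidueField A)) := by
  have hinj : Injective ((LinearMap.range v).subtype.lTensor (ResidueField A)) := by
    rw [injective_iff_map_eq_zero]
    intro ξ hξ
    obtain ⟨x, rfl⟩ := LinearMap.lTensor_surjective (ResidueField A)
      (LinearMap.surjective_rangeRestrict v) ξ
    have h1 : (v.lTensor (ResidueField A)) x = 0 := by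
      rw [← hξ, ← LinearMap.comp_apply, ← LinearMap.lTensor_comp]
      rfl
    obtain ⟨y, rfl⟩ := (hred x).1 h1
    rw [← LinearMap.comp_apply, ← LinearMap.lTensor_comp]
    have : v.rangeRestrict ∘ₗ f = 0 := by
      ext t
      exact LinearMap.congr_fun hfv t
    rw [this, LinearMap.lTensor_zero, LinearMap.zero_apply]
  exact ⟨artin_flat_coker (LinearMap.range v).subtype (LinearMap.range v).mkQ
    (Submodule.mkQ_surjective _) (LinearMap.exact_subtype_mkQ _) hinj, hinj⟩

/-- If `k ⊗ I → k ⊗ W` is injective and `W` is flat then `I` is flat. -/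
theorem flat_of_lTensor_injective {I W : Type u} [AddCommGroup I] [Module A I]
    [AddCommGroup W] [Module A W] [Module.Flat A W] (v : I →ₗ[A] W)
    (h : Injective (v.lTensor (ResidueField A))) : Module.Flat A I := by
  have hex : Exact ((0 : I →ₗ[A] I).lTensor (ResidueField A)) (v.lTensor (ResidueField A)) := by
    intro x
    rw [LinearMap.lTensor_zero]
    constructor
    · intro hx
      have hx0 : x = 0 := h (hx.trans (map_zero _).symm)
      exact ⟨0, by rw [hx0]; simp⟩
    · rintro ⟨y, rfl⟩
      simp
  obtain ⟨hQ, hB⟩ := flat_coker_of_red_exact (0 : I →ₗ[A] I) v (by simp) hex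
  have hBflat : Module.Flat A (LinearMap.range v) :=
    flat_of_exact_of_flat (LinearMap.range v).subtype (LinearMap.range v).mkQ
      (Submodule.subtype_injective _) (Submodule.mkQ_surjective _) (LinearMap.exact_subtype_mkQ _)
  let v' := v.rangeRestrict
  have hv's : Surjective v' := LinearMap.surjective_rangeRestrict v
  have hv'i : Injective (v'.lTensor (ResidueField A)) := by
    have : (LinearMap.range v).subtype.lTensor (ResidueField A) ∘ₗ v'.lTensor (ResidueField A) =
        v.lTensor (ResidueField A) := by
      rw [← LinearMap.lTensor_comp]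
      rfl
    have h2 : Injective (⇑((LinearMap.range v).subtype.lTensor (ResidueField A)) ∘
        ⇑(v'.lTensor (ResidueField A))) := by
      rw [← LinearMap.coe_comp, this]
      exact h
    exact Injective.of_comp h2
  let K := LinearMap.ker v'
  have hKex : Exact K.subtype v' := LinearMap.exact_subtype_ker_map v'
  have hKi : Injective (K.subtype.lTensor (ResidueField A)) :=
    LinearMap.lTensor_injective_of_exact_of_flat v' hv's K.subtype (Submodule.subtype_injective _)
      hKex _
  have hKex' : Exact (K.subtype.lTensor (ResidueField A)) (v'.lTensor (ResidueField A)) :=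
    lTensor_exact _ hKex hv's
  have hsub : Subsingleton ((A ⧸ maximalIdeal A) ⊗[A] K) := by
    refine ⟨fun z w => ?_⟩
    apply hKi
    apply hv'i
    rw [hKex'.apply_apply_eq_zero, hKex'.apply_apply_eq_zero]
  have hK : Subsingleton K :=
    subsingleton_of_tensor_quotient (maximalIdeal A) isNilpotent_maximalIdeal hsub
  have hv'inj : Injective v' := by
    rw [← LinearMap.ker_eq_bot]
    exact (Submodule.subsingleton_iff_eq_bot).1 hK
  exact Module.Flat.of_linearEquiv (LinearEquiv.ofBijective v' ⟨hv'inj, hv's⟩)


section Cx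

open MonoidalCategory

variable (C : CochainComplex (ModuleCat.{u} A) ℕ)

/-- the reduced complex -/
noncomputable abbrev Kred : CochainComplex (ModuleCat.{u} A) ℕ :=
  ((MonoidalCategory.tensorLeft (ModuleCat.of A (IsLocalRing.ResidueField A))).mapHomologicalComplex
    (ComplexShape.up ℕ)).obj C

omit [IsArtinianRing A] in
theorem exact_of_exactAt_succ (m : ℕ) (h : (Kred C).ExactAt (m + 1)) :
    Exact ((C.d m (m + 1)).hom.lTensor (ResidueField A))
      ((C.d (m + 1) (m + 2)).hom.lTensor (ResidueField A)) := by
  rw [HomologicalComplex.exactAt_iff' (Kred C) m (m + 1) (m + 2) (by simp) (by simp),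
    ShortComplex.ShortExact.moduleCat_exact_iff_function_exact] at h
  exact h

omit [IsArtinianRing A] in
theorem injective_of_exactAt_zero (h : (Kred C).ExactAt 0) :
    Injective ((C.d 0 1).hom.lTensor (ResidueField A)) := by
  rw [HomologicalComplex.exactAt_iff' (Kred C) 0 0 1 (by simp) (by simp),
    ShortComplex.ShortExact.moduleCat_exact_iff_function_exact] at h
  have h0 : ((Kred C).sc' 0 0 1).f = 0 := (Kred C).shape 0 0 (by simp)
  rw [injective_iff_map_eq_zero]
  intro x hx
  obtain ⟨y, hy⟩ := (h x).1 hx
  rw [← hy, h0]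
  rfl

theorem main (n : ℕ) (hn : 0 < n)
    (hflat : ∀ i, i ≤ n → Module.Flat A (C.X (i + 1)))
    (hred : ∀ j, j ≤ n → (Kred C).ExactAt j) :
    Module.Flat A (C.X 0) ∧
      Module.Flat A (C.X (n + 1) ⧸ LinearMap.range (C.d n (n + 1)).hom) := by
  constructor
  · have := hflat 0 (Nat.zero_le n)
    exact flat_of_lTensor_injective (C.d 0 1).hom (injective_of_exactAt_zero C (hred 0 (Nat.zero_le n)))
  · obtain ⟨m, rfl⟩ : ∃ m, n = m + 1 := ⟨n - 1, by omega⟩
    have := hflat (m + 1) le_rfl
    refine (flat_coker_of_red_exact (C.d m (m + 1)).hom (C.d (m + 1) (m + 2)).hom ?_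
      (exact_of_exactAt_succ C m (hred (m + 1) le_rfl))).1
    rw [← ModuleCat.hom_comp, C.d_comp_d]
    rfl

end Cx

end H10S15133
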