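import Mathlib
import Groth.Prelude.Def_Disc

set_option maxHeartbeats 400000
set_option autoImplicit false
universe u v

namespace H10S2218

/-- A non-torsion element of a finite module over a domain is detected by a functional
(universe-general version of `H10S14994.exists_dual_ne_zero_of_not_torsion`). -/
theorem exists_dual_ne_zero_of_not_torsion {A : Type u} [CommRing A] [IsDomain A]
    {Q : Type v} [AddCommGroup Q] [Module A Q]
    [Module.Finite A Q] (q : Q) (hq : q ∉ Submodule.torsion A Q) :
    ∃ g : Q →ₗ[A] A, g q ≠ 0 := by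
  classical
  let K := FractionRing A
  let V := LocalizedModule (nonZeroDivisors A) Q
  let ι : Q →ₗ[A] V := LocalizedModule.mkLinearMap (nonZeroDivisors A) Q
  have hv : ι q ≠ 0 := by
    intro h0
    rw [IsLocalizedModule.eq_zero_iff (nonZeroDivisors A)] at h0
    obtain ⟨s, hs⟩ := h0
    exact hq ((Submodule.mem_torsion_iff q).2 ⟨s, hs⟩)
  obtain ⟨φ, hφ⟩ := Module.Projective.exists_dual_ne_zero K hv
  let ψ : Q →ₗ[A] K := (φ.restrictScalars A).comp ι
  obtain ⟨S, hS⟩ := (Module.Finite.fg_top : (⊤ : Submodule A Q).FG)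
  obtain ⟨b, hb⟩ := IsLocalization.exist_integer_multiples_of_finset (nonZeroDivisors A)
    (S.image ψ)
  have hrange : ∀ x : Q, ((b : A) • ψ x) ∈ LinearMap.range (Algebra.linearMap A K) := by
    intro x
    have hx : x ∈ Submodule.span A (S : Set Q) := hS ▸ Submodule.mem_top
    induction hx using Submodule.span_induction with
    | mem y hy =>
      obtain ⟨r, hr⟩ := hb (ψ y) (Finset.mem_image_of_mem ψ hy)
      exact ⟨r, hr⟩
    | zero => simp
    | add y z _ _ hy hz =>
      rw [map_add, smul_add]
      exact Submodule.add_mem _ hy hz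
    | smul r y _ hy =>
      rw [map_smul, smul_comm]
      exact Submodule.smul_mem _ r hy
  have hinj : Function.Injective (Algebra.linearMap A K) := IsFractionRing.injective A K
  let e := LinearEquiv.ofInjective (Algebra.linearMap A K) hinj
  let g' : Q →ₗ[A] LinearMap.range (Algebra.linearMap A K) :=
    LinearMap.codRestrict _ ((b : A) • ψ) hrange
  refine ⟨e.symm.toLinearMap.comp g', ?_⟩
  intro h0
  have h1 : g' q = 0 := by
    have := congrArg e h0
    simpa using this
  have h2 : (b : A) • ψ q = 0 := congrArg Subtype.val h1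
  have h3 : ψ q ≠ 0 := hφ
  rw [Algebra.smul_def, mul_eq_zero] at h2
  rcases h2 with h2 | h2
  · have : (b : A) = 0 := (IsFractionRing.injective A K) (by rw [h2, map_zero])
    exact nonZeroDivisors.coe_ne_zero b this
  · exact h3 h2

open Disc

variable {A : Type u} {B : Type v} [CommRing A] [CommRing B] [Algebra A B]

lemma omega_smul_eq_zero_iff (b : B) (ω : Omega A B) :
    b • ω = 0 ↔ ∀ y, ω.toLinearMap (b * y) = 0 := by
  constructor
  · intro h y
    have := congrArg (fun φ : Omega A B => φ.toLinearMap y) h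
    simpa using this
  · intro h
    apply Omega.ext
    ext y
    simpa using h y

theorem subset1 [IsNoetherianRing A] [IsNoetherianRing B] [Module.Finite A B] (q : Ideal B)
    (hq : q ∈ associatedPrimes B (Omega A B)) :
    q.IsPrime ∧ q.comap (algebraMap A B) ∈ associatedPrimes A A := by
  classical
  rw [AssociatedPrimes.mem_iff, isAssociatedPrime_iff] at hq
  obtain ⟨hqp, ω, hω⟩ := hq
  refine ⟨hqp, ?_⟩
  have hpp : (q.comap (algebraMap A B)).IsPrime := Ideal.comap_isPrime _ q
  obtain ⟨s, hs⟩ := (Module.Finite.fg_top : (⊤ : Submodule A B).FG)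
  have hmem : ∀ a : A, a ∈ q.comap (algebraMap A B) ↔ ∀ y ∈ s, a * ω.toLinearMap y = 0 := by
    intro a
    rw [Ideal.mem_comap, hω, Submodule.mem_colon_singleton, Submodule.mem_bot,
      omega_smul_eq_zero_iff]
    constructor
    · intro h y _
      have := h y
      rwa [← Algebra.smul_def, map_smul, smul_eq_mul] at this
    · intro h y
      rw [← Algebra.smul_def, map_smul, smul_eq_mul]
      have hy : y ∈ Submodule.span A (s : Set B) := hs ▸ Submodule.mem_top
      induction hy using Submodule.span_induction with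
      | mem z hz => exact h z hz
      | zero => simp
      | add z w _ _ hz hw => rw [map_add, mul_add, hz, hw, add_zero]
      | smul r z _ hz => rw [map_smul, smul_eq_mul, mul_left_comm, hz, mul_zero]
  have heq : q.comap (algebraMap A B)
      = s.inf (fun y => (⊥ : Submodule A A).colon {ω.toLinearMap y}) := by
    ext a
    rw [hmem, Submodule.mem_finsetInf]
    simp only [Submodule.mem_colon_singleton, Submodule.mem_bot, smul_eq_mul]
  obtain ⟨y, hy, hle⟩ := (Ideal.IsPrime.inf_le' hpp).mp heq.symm.le
  rw [AssociatedPrimes.mem_iff, isAssociatedPrime_iff]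
  refine ⟨hpp, ω.toLinearMap y, le_antisymm ?_ hle⟩
  rw [heq]
  exact Finset.inf_le hy

theorem subset2 [IsNoetherianRing A] [IsNoetherianRing B] [Module.Finite A B] (q : Ideal B)
    (hqp : q.IsPrime) (hp : q.comap (algebraMap A B) ∈ associatedPrimes A A) :
    q ∈ associatedPrimes B (Omega A B) := by
  classical
  rw [AssociatedPrimes.mem_iff, isAssociatedPrime_iff] at hp
  obtain ⟨hpp, x₀, hx₀⟩ := hp
  set p := q.comap (algebraMap A B) with hp_def
  have hpmem : ∀ a : A, a ∈ p ↔ a * x₀ = 0 := by
    intro a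
    rw [hx₀, Submodule.mem_colon_singleton, Submodule.mem_bot, smul_eq_mul]
  -- functional on B ⧸ q
  have h1 : (1 : B ⧸ q) ∉ Submodule.torsion (A ⧸ p) (B ⧸ q) := by
    intro h
    rw [Submodule.mem_torsion_iff] at h
    obtain ⟨d, hd⟩ := h
    rw [Submonoid.smul_def, Algebra.smul_def, mul_one] at hd
    have : (d : A ⧸ p) = 0 := Ideal.algebraMap_quotient_injective (by rw [hd, map_zero])
    exact nonZeroDivisors.coe_ne_zero d this
  obtain ⟨g, hg⟩ := exists_dual_ne_zero_of_not_torsion (A := A ⧸ p) (1 : B ⧸ q) h1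
  -- the embedding A ⧸ p → A
  let μ : (A ⧸ p) →ₗ[A] A := Submodule.liftQ p (LinearMap.mulRight A x₀) (by
    intro a ha
    rw [LinearMap.mem_ker, LinearMap.mulRight_apply]
    exact (hpmem a).mp ha)
  have hμ : ∀ a : A, μ (Ideal.Quotient.mk p a) = a * x₀ := fun a => rfl
  have hμinj : ∀ d : A ⧸ p, μ d = 0 → d = 0 := by
    intro d hd
    obtain ⟨a, rfl⟩ := Ideal.Quotient.mk_surjective d
    rw [hμ] at hd
    exact Ideal.Quotient.eq_zero_iff_mem.mpr ((hpmem a).mpr hd)
  let ω : Omega A B := ⟨μ.comp ((g.restrictScalars A).comp (Ideal.Quotient.mkₐ A q).toLinearMap)⟩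
  have hω : ∀ y : B, ω.toLinearMap y = μ (g (Ideal.Quotient.mk q y)) := fun y => rfl
  rw [AssociatedPrimes.mem_iff, isAssociatedPrime_iff]
  refine ⟨hqp, ω, ?_⟩
  ext b
  rw [Submodule.mem_colon_singleton, Submodule.mem_bot, omega_smul_eq_zero_iff]
  constructor
  · intro hb y
    rw [hω]
    have : Ideal.Quotient.mk q (b * y) = 0 :=
      Ideal.Quotient.eq_zero_iff_mem.mpr (q.mul_mem_right y hb)
    rw [this, map_zero, map_zero]
  · intro h
    by_contra hb
    have hb0 : Ideal.Quotient.mk q b ≠ 0 := fun h0 => hb (Ideal.Quotient.eq_zero_iff_mem.mp h0)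
    have hint : IsIntegral (A ⧸ p) (Ideal.Quotient.mk q b) := Algebra.IsIntegral.isIntegral _
    have hne := Ideal.comap_ne_bot_of_integral_mem (I := Ideal.span {Ideal.Quotient.mk q b})
      hb0 (Ideal.mem_span_singleton_self _) hint
    obtain ⟨c, hc, hc0⟩ := Submodule.exists_mem_ne_zero_of_ne_bot hne
    rw [Ideal.mem_comap, Ideal.mem_span_singleton'] at hc
    obtain ⟨ybar, hy⟩ := hc
    obtain ⟨y, rfl⟩ := Ideal.Quotient.mk_surjective ybar
    have h2 := h y
    rw [hω, map_mul, mul_comm, hy] at h2
    have h3 := hμinj _ h2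
    rw [Algebra.algebraMap_eq_smul_one, map_smul, smul_eq_mul, mul_eq_zero] at h3
    rcases h3 with h3 | h3
    · exact hc0 h3
    · exact hg h3

theorem main [IsNoetherianRing A] [IsNoetherianRing B] [Module.Finite A B] :
    associatedPrimes B (Omega A B) =
      {q : Ideal B | q.IsPrime ∧ q.comap (algebraMap A B) ∈ associatedPrimes A A} := by
  ext q
  constructor
  · intro hq; exact subset1 q hq
  · rintro ⟨hqp, hp⟩; exact subset2 q hqp hp

end H10S2218
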