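import Mathlib
import Groth.Prelude.Def_Disc

/-!
# The dualizing module of a flat finite quotient

If `R` is a finite `A'`-algebra and `R → C` is a surjective flat ring map with finitely generated
kernel (so `C` is a direct factor of `R`), then `C ⊗_R Hom_{A'}(R, A') ≅ Hom_{A'}(C, A')`.
-/

set_option autoImplicit false
universe u
open TensorProduct

namespace Groth.Agent.Lib.helper10.OmegaIdem

variable {A' R C : Type u} [CommRing A'] [CommRing R] [CommRing C] [Algebra A' R] [Algebra A' C]
  [Algebra R C] [IsScalarTower A' R C]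

/-- the kernel of a flat surjection with finitely generated kernel is generated by an idempotent -/
theorem exists_idempotent (hs : Function.Surjective (algebraMap R C)) [Module.Flat R C]
    (hfg : (RingHom.ker (algebraMap R C)).FG) :
    ∃ ε : R, IsIdempotentElem ε ∧ RingHom.ker (algebraMap R C) = Ideal.span {ε} := by
  have e : (R ⧸ RingHom.ker (algebraMap R C)) ≃ₗ[R] C :=
    (Ideal.quotientKerAlgEquivOfSurjective (f := Algebra.ofId R C) hs).toLinearEquiv
  haveI : (RingHom.ker (algebraMap R C)).Pure := Module.Flat.of_linearEquiv e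
  have h1 := Ideal.isIdempotentElem_of_pure (RingHom.ker (algebraMap R C))
  exact (Ideal.isIdempotentElem_iff_of_fg _ hfg).mp h1

section Idem

variable (hs : Function.Surjective (algebraMap R C)) (ε : R) (hε : IsIdempotentElem ε)
  (hk : RingHom.ker (algebraMap R C) = Ideal.span {ε})

include hk hε in
theorem one_sub_mul_eq {r r' : R} (h : algebraMap R C r = algebraMap R C r') :
    (1 - ε) * r = (1 - ε) * r' := by
  have h1 : r - r' ∈ RingHom.ker (algebraMap R C) := by
    rw [RingHom.mem_ker, map_sub, h, sub_self]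
  rw [hk, Ideal.mem_span_singleton'] at h1
  obtain ⟨a, ha⟩ := h1
  have h2 : (1 - ε) * (r - r') = 0 := by
    rw [← ha]
    have : (1 - ε) * (a * ε) = a * (ε - ε * ε) := by ring
    rw [this, hε.eq, sub_self, mul_zero]
  rw [mul_sub, sub_eq_zero] at h2
  exact h2

include hk in
theorem map_eps : algebraMap R C ε = 0 := by
  have : ε ∈ RingHom.ker (algebraMap R C) := by rw [hk]; exact Ideal.mem_span_singleton_self ε
  exact this

/-- the section `C → R`, `π r ↦ (1 - ε) r` -/
noncomputable def sec : C →ₗ[R] R where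
  toFun c := (1 - ε) * Function.surjInv hs c
  map_add' c c' := by
    rw [← mul_add]
    apply one_sub_mul_eq ε hε hk
    rw [map_add, Function.surjInv_eq hs, Function.surjInv_eq hs, Function.surjInv_eq hs]
  map_smul' r c := by
    rw [RingHom.id_apply, smul_eq_mul, mul_left_comm]
    apply one_sub_mul_eq ε hε hk
    rw [map_mul, Function.surjInv_eq hs, Function.surjInv_eq hs, Algebra.smul_def]

theorem sec_algebraMap (r : R) : sec hs ε hε hk (algebraMap R C r) = (1 - ε) * r := by
  show (1 - ε) * Function.surjInv hs (algebraMap R C r) = (1 - ε) * r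
  apply one_sub_mul_eq ε hε hk
  rw [Function.surjInv_eq hs]

theorem algebraMap_sec (c : C) : algebraMap R C (sec hs ε hε hk c) = c := by
  obtain ⟨r, rfl⟩ := hs c
  rw [sec_algebraMap, map_mul, map_sub, map_one, map_eps ε hk, sub_zero, one_mul]

/-- restriction of functionals along the section -/
noncomputable def rho : Disc.Omega A' R → Disc.Omega A' C := fun φ =>
  ⟨φ.toLinearMap ∘ₗ (sec hs ε hε hk).restrictScalars A'⟩

theorem rho_apply (φ : Disc.Omega A' R) (c : C) :
    (rho hs ε hε hk φ).toLinearMap c = φ.toLinearMap (sec hs ε hε hk c) := rfl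

/-- pulling back functionals along `R → C` -/
noncomputable def pull : Disc.Omega A' C → Disc.Omega A' R := fun ψ =>
  ⟨ψ.toLinearMap ∘ₗ (Algebra.linearMap R C).restrictScalars A'⟩

omit [IsScalarTower A' R C] in
theorem pull_apply' [IsScalarTower A' R C] (ψ : Disc.Omega A' C) (r : R) :
    (pull (R := R) ψ).toLinearMap r = ψ.toLinearMap (algebraMap R C r) := rfl

include hs hε hk in
theorem main : Nonempty (C ⊗[R] Disc.Omega A' R ≃ₗ[C] Disc.Omega A' C) := by
  letI mR : Module R (Disc.Omega A' C) := Module.compHom _ (algebraMap R C)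
  haveI tR : IsScalarTower R C (Disc.Omega A' C) :=
    IsScalarTower.of_algebraMap_smul (fun r x => rfl)
  let ρ : Disc.Omega A' R →ₗ[R] Disc.Omega A' C :=
    { toFun := rho hs ε hε hk
      map_add' := fun φ ψ => by
        apply Disc.Omega.ext
        ext c
        rfl
      map_smul' := fun r φ => by
        apply Disc.Omega.ext
        ext c
        show φ.toLinearMap (r * sec hs ε hε hk c) =
          φ.toLinearMap (sec hs ε hε hk (algebraMap R C r * c))
        rw [← Algebra.smul_def, map_smul, smul_eq_mul] }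
  let Φ : C ⊗[R] Disc.Omega A' R →ₗ[C] Disc.Omega A' C := LinearMap.liftBaseChange C ρ
  let Ψ : Disc.Omega A' C → C ⊗[R] Disc.Omega A' R := fun ψ => (1 : C) ⊗ₜ[R] pull ψ
  have hΨadd : ∀ x y, Ψ (x + y) = Ψ x + Ψ y := by
    intro x y
    show (1 : C) ⊗ₜ[R] pull (x + y) = (1 : C) ⊗ₜ[R] pull x + (1 : C) ⊗ₜ[R] pull y
    rw [← TensorProduct.tmul_add]
    rfl
  have h1 : ∀ ψ, Φ (Ψ ψ) = ψ := by
    intro ψ
    show LinearMap.liftBaseChange C ρ ((1 : C) ⊗ₜ[R] pull ψ) = ψ
    rw [LinearMap.liftBaseChange_tmul, one_smul]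
    apply Disc.Omega.ext
    ext c
    show ψ.toLinearMap (algebraMap R C (sec hs ε hε hk c)) = ψ.toLinearMap c
    rw [algebraMap_sec]
  have h2 : ∀ z, Ψ (Φ z) = z := by
    intro z
    induction z using TensorProduct.induction_on with
    | zero =>
      show (1 : C) ⊗ₜ[R] pull (Φ 0) = 0
      rw [map_zero]
      have : pull (R := R) (0 : Disc.Omega A' C) = 0 := by
        apply Disc.Omega.ext
        ext r
        rfl
      rw [this, TensorProduct.tmul_zero]
    | tmul c φ =>
      obtain ⟨r₀, rfl⟩ := hs c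
      show (1 : C) ⊗ₜ[R] pull (LinearMap.liftBaseChange C ρ (algebraMap R C r₀ ⊗ₜ[R] φ)) = _
      rw [LinearMap.liftBaseChange_tmul]
      have : pull (R := R) (algebraMap R C r₀ • ρ φ) = ((1 - ε) * r₀) • φ := by
        apply Disc.Omega.ext
        ext s
        show φ.toLinearMap (sec hs ε hε hk (algebraMap R C r₀ * algebraMap R C s)) =
          φ.toLinearMap ((1 - ε) * r₀ * s)
        rw [← map_mul, sec_algebraMap, mul_assoc]
      rw [this, ← TensorProduct.smul_tmul, Algebra.smul_def, mul_one, map_mul, map_sub, map_one,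
        map_eps ε hk, sub_zero, one_mul]
    | add x y hx hy => rw [map_add, hΨadd, hx, hy]
  exact ⟨LinearEquiv.ofBijective Φ
    ⟨fun x y hxy => by rw [← h2 x, ← h2 y, hxy], fun ψ => ⟨Ψ ψ, h1 ψ⟩⟩⟩

end Idem

/-- the main statement: flat surjection with finitely generated kernel -/
theorem nonempty_equiv (hs : Function.Surjective (algebraMap R C)) [Module.Flat R C]
    (hfg : (RingHom.ker (algebraMap R C)).FG) :
    Nonempty (C ⊗[R] Disc.Omega A' R ≃ₗ[C] Disc.Omega A' C) := by
  obtain ⟨ε, hε, hk⟩ := exists_idempotent hs hfg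
  exact main hs ε hε hk

end Groth.Agent.Lib.helper10.OmegaIdem
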