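import Mathlib
import Groth.Agent.S8958
import Groth.Agent.Lib.helper10.OmegaIdem

/-!
# Ring epimorphisms and the dualizing module of a finite flat-epi quotient of a base change
-/

set_option autoImplicit false
universe u
open TensorProduct CategoryTheory

namespace Groth.Agent.Lib.helper10.QFEpi

/-- a ring epimorphism (in the category of commutative rings of the same universe) -/
def RingEpi {R S : Type u} [CommRing R] [CommRing S] (f : R →+* S) : Prop :=
  ∀ (Q : Type u) [CommRing Q] (g h : S →+* Q), g.comp f = h.comp f → g = h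

theorem RingEpi.comp {R S T : Type u} [CommRing R] [CommRing S] [CommRing T] {f : R →+* S}
    {g : S →+* T} (hf : RingEpi f) (hg : RingEpi g) : RingEpi (g.comp f) := by
  intro Q _ a b hab
  apply hg
  apply hf
  rw [RingHom.comp_assoc, RingHom.comp_assoc]
  exact hab

theorem ringEpi_of_surjective {R S : Type u} [CommRing R] [CommRing S] (f : R →+* S)
    (hf : Function.Surjective f) : RingEpi f := by
  intro Q _ a b hab
  ext s
  obtain ⟨r, rfl⟩ := hf s
  exact RingHom.congr_fun hab r

theorem ringEpi_of_isLocalization {R S : Type u} [CommRing R] [CommRing S] [Algebra R S]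
    (M : Submonoid R) [IsLocalization M S] : RingEpi (algebraMap R S) := by
  intro Q _ a b hab
  exact IsLocalization.ringHom_ext M hab

theorem RingEpi.isEpi {R S : Type u} [CommRing R] [CommRing S] [Algebra R S]
    (h : RingEpi (algebraMap R S)) : Algebra.IsEpi R S := by
  rw [← CommRingCat.epi_iff_epi]
  refine ⟨fun {T} g g' hgg' => ?_⟩
  ext1
  apply h
  have := congrArg CommRingCat.Hom.hom hgg'
  simpa using this

theorem RingEpi.surjective_of_finite {R S : Type u} [CommRing R] [CommRing S] [Algebra R S]
    [Module.Finite R S] (h : RingEpi (algebraMap R S)) : Function.Surjective (algebraMap R S) := by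
  haveI := h.isEpi
  exact Algebra.isEpi_iff_surjective_algebraMap_of_finite.mp inferInstance

/-- base change of an epimorphism -/
theorem RingEpi.tensorMap {A A' B' B : Type u} [CommRing A] [CommRing A'] [CommRing B']
    [CommRing B] [Algebra A A'] [Algebra A B'] [Algebra A B] (f : B' →ₐ[A] B)
    (hf : RingEpi f.toRingHom) :
    RingEpi (Algebra.TensorProduct.map (AlgHom.id A' A') f).toRingHom := by
  intro Q _ a b hab
  have h1 : ∀ x : A', a (x ⊗ₜ[A] 1) = b (x ⊗ₜ[A] 1) := by
    intro x
    have := RingHom.congr_fun hab (x ⊗ₜ[A] 1)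
    simpa using this
  have h2 : a.comp (Algebra.TensorProduct.includeRight (R := A) (A := A') (B := B)).toRingHom =
      b.comp (Algebra.TensorProduct.includeRight (R := A) (A := A') (B := B)).toRingHom := by
    apply hf
    ext y
    have := RingHom.congr_fun hab ((1 : A') ⊗ₜ[A] y)
    simpa using this
  refine RingHom.ext fun z => ?_
  induction z using TensorProduct.induction_on with
  | zero => simp
  | tmul x y =>
    have : (x ⊗ₜ[A] y : A' ⊗[A] B) = (x ⊗ₜ[A] 1) * ((1 : A') ⊗ₜ[A] y) := by simp
    rw [this, map_mul, map_mul, h1]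
    congr 1
    exact RingHom.congr_fun h2 y
  | add x y hx hy => rw [map_add, map_add, hx, hy]

/-- The abstract core: `T'` the base change of a finite `A`-algebra `B'` along a flat map
`A → A'`, and `C` a finite `A'`-algebra which is a flat epimorphic `T'`-algebra.  Then
`C ⊗_{B'} Hom_A(B', A) ≅ Hom_{A'}(C, A')`. -/
theorem core {A A' B' T' C : Type u} [CommRing A] [CommRing A'] [CommRing B'] [CommRing T']
    [CommRing C] [Algebra A A'] [Algebra A B'] [Algebra A' T'] [Algebra B' T'] [Algebra A T']
    [IsScalarTower A A' T'] [IsScalarTower A B' T'] (hpo : Algebra.IsPushout A A' B' T')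
    [IsNoetherianRing A] [IsNoetherianRing A'] [Module.Finite A B'] [Module.Flat A A']
    [Algebra T' C] [Algebra B' C] [IsScalarTower B' T' C] [Algebra A' C] [IsScalarTower A' T' C]
    [Module.Finite A' C] [Module.Flat T' C] (hepi : RingEpi (algebraMap T' C)) :
    Nonempty (C ⊗[B'] Disc.Omega A B' ≃ₗ[C] Disc.Omega A' C) := by
  have h1 := Groth.Agent.S8958.result A B' A' T' C hpo
  let e1 : C ⊗[B'] Disc.Omega A B' ≃ₗ[C] C ⊗[T'] Disc.Omega A' T' :=
    LinearEquiv.ofBijective (QFDual.omegaBC (B₁ := C) hpo) h1
  haveI : Module.Finite A' T' := Module.Finite.equiv hpo.out.equiv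
  haveI : IsNoetherianRing T' := IsNoetherianRing.of_finite A' T'
  haveI : Module.Finite T' C := Module.Finite.of_restrictScalars_finite A' T' C
  have hs := hepi.surjective_of_finite
  obtain ⟨e2⟩ := Groth.Agent.Lib.helper10.OmegaIdem.nonempty_equiv (A' := A') (R := T') (C := C) hs
    (IsNoetherian.noetherian _)
  exact ⟨e1.trans e2⟩

end Groth.Agent.Lib.helper10.QFEpi
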