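import Mathlib
import Groth.Agent.Lib.helper10.QFEpi

/-!
# Ring-theoretic consequences of `Spec B → Spec B'` being an open immersion
-/

set_option autoImplicit false
universe u
open AlgebraicGeometry CategoryTheory

namespace Groth.Agent.Lib.helper10.QFOpen

open Groth.Agent.Lib.helper10.QFEpi

variable {B' B : Type u} [CommRing B'] [CommRing B] [Algebra B' B]

theorem flat_of_isOpenImmersion
    (h : IsOpenImmersion (Spec.map (CommRingCat.ofHom (algebraMap B' B)))) : Module.Flat B' B := by
  have h1 : Flat (Spec.map (CommRingCat.ofHom (algebraMap B' B))) := inferInstance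
  rw [Flat.SpecMap_iff] at h1
  exact RingHom.flat_algebraMap_iff.1 h1

theorem ringEpi_of_isOpenImmersion
    (h : IsOpenImmersion (Spec.map (CommRingCat.ofHom (algebraMap B' B)))) :
    RingEpi (algebraMap B' B) := by
  have hmono : Mono (Spec.map (CommRingCat.ofHom (algebraMap B' B))) := inferInstance
  intro Q _ g h' hgh
  have e : Spec.map (CommRingCat.ofHom g) ≫ Spec.map (CommRingCat.ofHom (algebraMap B' B)) =
      Spec.map (CommRingCat.ofHom h') ≫ Spec.map (CommRingCat.ofHom (algebraMap B' B)) := by
    rw [← Spec.map_comp, ← Spec.map_comp, ← CommRingCat.ofHom_comp, ← CommRingCat.ofHom_comp, hgh]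
  have e2 := (cancel_mono _).1 e
  have e3 := Spec.map_injective e2
  exact congrArg CommRingCat.Hom.hom e3

theorem finiteType_of_isOpenImmersion
    (h : IsOpenImmersion (Spec.map (CommRingCat.ofHom (algebraMap B' B)))) :
    Algebra.FiniteType B' B := by
  have h1 : LocallyOfFiniteType (Spec.map (CommRingCat.ofHom (algebraMap B' B))) := inferInstance
  rw [HasRingHomProperty.Spec_iff (P := @LocallyOfFiniteType)] at h1
  exact RingHom.finiteType_algebraMap.mp h1

theorem quasiFinite_of_isOpenImmersion
    (h : IsOpenImmersion (Spec.map (CommRingCat.ofHom (algebraMap B' B)))) :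
    Algebra.QuasiFinite B' B := by
  have h1 : LocallyQuasiFinite (Spec.map (CommRingCat.ofHom (algebraMap B' B))) := inferInstance
  rw [HasRingHomProperty.Spec_iff (P := @LocallyQuasiFinite)] at h1
  exact RingHom.quasiFinite_algebraMap.mp h1

end Groth.Agent.Lib.helper10.QFOpen
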