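import Mathlib
import Groth.Agent.S2069
import Groth.Agent.Lib.helper10.QFOpen

/-!
# Associated primes of `S ⊗[R] M` for a flat ring map `R → S` that is injective on spectra
-/

set_option autoImplicit false
universe u
open TensorProduct

namespace Groth.Agent.Lib.helper10.AssOpenImm

open AlgebraicGeometry CategoryTheory

theorem comap_injective_of_isOpenImmersion {B' B : Type u} [CommRing B'] [CommRing B] [Algebra B' B]
    (h : IsOpenImmersion (Spec.map (CommRingCat.ofHom (algebraMap B' B))))
    (q₁ q₂ : Ideal B) [q₁.IsPrime] [q₂.IsPrime]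
    (he : q₁.comap (algebraMap B' B) = q₂.comap (algebraMap B' B)) : q₁ = q₂ := by
  have hinj := (Scheme.Hom.isOpenEmbedding (Spec.map (CommRingCat.ofHom (algebraMap B' B)))).injective
  have h1 : (Spec.map (CommRingCat.ofHom (algebraMap B' B))) (⟨q₁, inferInstance⟩ : PrimeSpectrum B) =
      (Spec.map (CommRingCat.ofHom (algebraMap B' B))) (⟨q₂, inferInstance⟩ : PrimeSpectrum B) := by
    rw [Spec.map_apply, Spec.map_apply]
    exact PrimeSpectrum.ext he
  have h2 := hinj h1
  exact congrArg PrimeSpectrum.asIdeal h2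

variable {R S : Type u} [CommRing R] [CommRing S] [Algebra R S]

theorem mem_ass_quot_iff [IsNoetherianRing S] [Module.Flat R S]
    (hinj : ∀ (q₁ q₂ : Ideal S) [q₁.IsPrime] [q₂.IsPrime],
      q₁.comap (algebraMap R S) = q₂.comap (algebraMap R S) → q₁ = q₂)
    (p : Ideal R) [hp : p.IsPrime] (q : Ideal S) [hq : q.IsPrime] :
    q ∈ associatedPrimes S (S ⧸ p.map (algebraMap R S) • (⊤ : Submodule S S)) ↔
      q.comap (algebraMap R S) = p := by
  constructor
  · intro h
    rw [Groth.Agent.S2069.ass_quot_eq (S := S) (N := S) p] at h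
    exact Groth.Agent.S2069.comap_eq_of_mem_ass p q h
  · intro h
    apply Module.associatedPrimes.minimalPrimes_annihilator_subset_associatedPrimes
    have hann : Module.annihilator S (S ⧸ p.map (algebraMap R S) • (⊤ : Submodule S S)) =
        p.map (algebraMap R S) := by
      rw [show (p.map (algebraMap R S) • (⊤ : Submodule S S) : Submodule S S) =
        (p.map (algebraMap R S) : Ideal S) by rw [Ideal.smul_eq_mul, Ideal.mul_top]]
      exact Ideal.annihilator_quotient
    rw [hann]
    have hle : p.map (algebraMap R S) ≤ q := by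
      rw [Ideal.map_le_iff_le_comap, h]
    refine ⟨⟨hq, hle⟩, ?_⟩
    rintro q₁ ⟨hq₁, hle₁⟩ hq₁q
    have : q₁.comap (algebraMap R S) = q.comap (algebraMap R S) := by
      apply le_antisymm (Ideal.comap_mono hq₁q)
      rw [h, ← Ideal.map_le_iff_le_comap]
      exact hle₁
    exact (hinj q₁ q this).ge

/-- Associated primes of the base change of a finite module along a flat ring map that is injective
on spectra. -/
theorem ass_tensor_eq [IsNoetherianRing R] [IsNoetherianRing S] [Module.Flat R S]
    (hinj : ∀ (q₁ q₂ : Ideal S) [q₁.IsPrime] [q₂.IsPrime],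
      q₁.comap (algebraMap R S) = q₂.comap (algebraMap R S) → q₁ = q₂)
    (M : Type u) [AddCommGroup M] [Module R M] :
    associatedPrimes S (S ⊗[R] M) =
      {q : Ideal S | q.IsPrime ∧ q.comap (algebraMap R S) ∈ associatedPrimes R M} := by
  rw [Groth.Agent.S2069.result]
  ext q
  simp only [Set.mem_iUnion, Set.mem_ofPred_eq]
  constructor
  · rintro ⟨p, hp, hq⟩
    haveI : p.IsPrime := hp.isPrime
    haveI : q.IsPrime := IsAssociatedPrime.isPrime hq
    refine ⟨inferInstance, ?_⟩
    rw [(mem_ass_quot_iff hinj p q).1 hq]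
    exact hp
  · rintro ⟨hq, hp⟩
    haveI := hq
    haveI : (q.comap (algebraMap R S)).IsPrime := inferInstance
    exact ⟨_, hp, (mem_ass_quot_iff hinj _ q).2 rfl⟩

end Groth.Agent.Lib.helper10.AssOpenImm
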