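import Mathlib

/-!
# Base change of a retraction up to a scalar of the conormal sequence of a presentation
-/

set_option autoImplicit false

namespace Groth.Agent.Lib.helper10.BCRetract

open TensorProduct Algebra Algebra.Extension MvPolynomial

universe u

attribute [local instance] Algebra.TensorProduct.rightAlgebra

variable {A B : Type u} [CommRing A] [CommRing B] [Algebra A B] {ι σ : Type u}
  (P : Algebra.Presentation A B ι σ) (T : Type u) [CommRing T] [Algebra A T]

/-- The canonical hom of generators `P → P.baseChange T`. -/
noncomputable def tbGen : P.toGenerators.Hom (P.toGenerators.baseChange T) where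
  val i := X i
  aeval_val i := by
    rw [aeval_X]
    rfl

noncomputable def tb : P.toExtension.Hom (P.toGenerators.baseChange T).toExtension :=
  (tbGen P T).toExtensionHom

lemma tb_toAlgHom_X (i : ι) : (tb P T).toAlgHom (X i) = X i := by
  change (tbGen P T).toAlgHom (X i) = X i
  rw [Generators.Hom.toAlgHom, aeval_X]
  rfl

lemma tb_toAlgHom (x : P.Ring) : (tb P T).toAlgHom x = MvPolynomial.map (algebraMap A T) x := by
  change (tbGen P T).toAlgHom x = _
  rw [Generators.Hom.toAlgHom]
  induction x using MvPolynomial.induction_on with
  | C a => rw [aeval_C, map_C]; rfl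
  | add p q hp hq => rw [map_add, map_add, hp, hq]
  | mul_X p i hp => rw [map_mul, map_mul, hp, aeval_X, map_X]; rfl

theorem exists_retraction (r : P.toExtension.CotangentSpace →ₗ[B] P.toExtension.Cotangent)
    (b₀ : B) (hr : ∀ y, r (P.toExtension.cotangentComplex y) = b₀ • y) :
    ∃ r' : (P.toGenerators.baseChange T).toExtension.CotangentSpace →ₗ[T ⊗[A] B]
        (P.toGenerators.baseChange T).toExtension.Cotangent,
      ∀ y, r' ((P.toGenerators.baseChange T).toExtension.cotangentComplex y) =
        ((1 : T) ⊗ₜ[A] b₀) • y := by
  let Pn := P.baseChange T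
  let Q := (P.toGenerators.baseChange T).toExtension
  let f := tb P T
  let r' : Q.CotangentSpace →ₗ[T ⊗[A] B] Q.Cotangent :=
    (P.toGenerators.baseChange T).cotangentSpaceBasis.constr (T ⊗[A] B)
      (fun i => Cotangent.map f (r (P.toGenerators.cotangentSpaceBasis i)))
  refine ⟨r', ?_⟩
  have h1 : ∀ z, r' (CotangentSpace.map f z) = Cotangent.map f (r z) := by
    have : (r'.restrictScalars B) ∘ₗ CotangentSpace.map f = Cotangent.map f ∘ₗ r := by
      apply P.toGenerators.cotangentSpaceBasis.ext
      intro i
      simp only [LinearMap.coe_comp, LinearMap.coe_restrictScalars, Function.comp_apply]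
      have h2 : CotangentSpace.map f (P.toGenerators.cotangentSpaceBasis i) =
          (P.toGenerators.baseChange T).cotangentSpaceBasis i := by
        rw [Generators.cotangentSpaceBasis_apply, Generators.cotangentSpaceBasis_apply]
        refine (CotangentSpace.map_tmul f (1 : B) (X i : P.toExtension.Ring)).trans ?_
        rw [map_one, tb_toAlgHom_X]
        rfl
      rw [h2]
      exact Module.Basis.constr_basis _ _ _ i
    exact fun z => LinearMap.congr_fun this z
  have hspan := Cotangent.span_eq_top_of_span_eq_ker (P := Q) Pn.relation
    Pn.span_range_relation_eq_ker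
  have hmaps : r' ∘ₗ Q.cotangentComplex = ((1 : T) ⊗ₜ[A] b₀) • LinearMap.id := by
    apply LinearMap.ext_on_range hspan
    intro j
    have hrel : Pn.relation j = f.toAlgHom (P.relation j) := by
      rw [tb_toAlgHom]
      rfl
    have hy : (Cotangent.mk ⟨Pn.relation j, Pn.relation_mem_ker j⟩ : Q.Cotangent) =
        Cotangent.map f (Cotangent.mk ⟨P.relation j, P.relation_mem_ker j⟩) := by
      rw [Cotangent.map_mk]
      congr 1
      exact Subtype.ext hrel
    simp only [LinearMap.coe_comp, Function.comp_apply, LinearMap.smul_apply, LinearMap.id_apply]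
    rw [hy, ← CotangentSpace.map_cotangentComplex, h1, hr, map_smul]
    rw [← algebraMap_smul (T ⊗[A] B) b₀]
    rfl
  exact fun y => LinearMap.congr_fun hmaps y

end Groth.Agent.Lib.helper10.BCRetract
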