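import Mathlib

set_option maxHeartbeats 400000
set_option autoImplicit false

namespace H10S5213

open Polynomial

/-- A multilinear map with values in a submodule on tuples from a spanning set has all values in
the submodule. -/
lemma multilinear_mem_of_span {R M P ι : Type*} [CommRing R] [AddCommGroup M] [Module R M]
    [AddCommGroup P] [Module R P] [Fintype ι] [DecidableEq ι]
    (f : MultilinearMap R (fun _ : ι => M) P) (S : Set M) (hS : Submodule.span R S = ⊤)
    (Q : Submodule R P)
    (h : ∀ y : ι → M, (∀ i, y i ∈ S) → f y ∈ Q) : ∀ y, f y ∈ Q := by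
  have key : ∀ (T : Finset ι) (y : ι → M), (∀ i, i ∉ T → y i ∈ S) → f y ∈ Q := by
    intro T
    induction T using Finset.induction_on with
    | empty => intro y hy; exact h y (fun i => hy i (Finset.notMem_empty i))
    | insert k T hk ih =>
      intro y hy
      have hyk : y k ∈ Submodule.span R S := by rw [hS]; trivial
      have : f (Function.update y k (y k)) ∈ Q := by
        refine Submodule.span_induction (p := fun v _ => f (Function.update y k v) ∈ Q)
          ?_ ?_ ?_ ?_ hyk
        · intro v hv
          apply ih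
          intro i hi
          by_cases hik : i = k
          · subst hik; simpa using hv
          · rw [Function.update_of_ne hik]; exact hy i (by simp [hik, hi])
        · rw [f.map_update_zero]; exact Q.zero_mem
        · intro v w _ _ hv hw; rw [f.map_update_add]; exact Q.add_mem hv hw
        · intro a v _ hv; rw [f.map_update_smul]; exact Q.smul_mem a hv
      rwa [Function.update_eq_self] at this
  intro y
  exact key Finset.univ y (fun i hi => absurd (Finset.mem_univ i) hi)

lemma finite_bad {K : Type*} [Field K] {n : ℕ} (X Y : Matrix (Fin n) (Fin n) K)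
    (h : X.det ≠ 0 ∨ Y.det ≠ 0) :
    {t : K | (X + t • Y).det = 0}.Finite := by
  set P : K[X] := Matrix.det ((Polynomial.X : K[X]) • Y.map C + X.map C) with hP
  have hP0 : P ≠ 0 := by
    rcases h with h | h
    · intro h0
      apply h
      rw [← Polynomial.coeff_det_X_add_C_zero Y X, ← hP, h0, coeff_zero]
    · intro h0
      apply h
      have := Polynomial.coeff_det_X_add_C_card Y X
      rw [← hP, h0, coeff_zero] at this
      exact this.symm
  refine (Polynomial.finite_setOfPred_isRoot hP0).subset ?_
  intro t ht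
  simp only [Set.mem_ofPred_eq, IsRoot.def] at ht ⊢
  rw [hP, ← Polynomial.coe_evalRingHom, RingHom.map_det]
  convert ht using 2
  ext i j
  simp only [RingHom.mapMatrix_apply, Matrix.map_apply, Matrix.add_apply, Matrix.smul_apply,
    coe_evalRingHom, eval_add, eval_mul, eval_X, eval_C, smul_eq_mul]
  ring

section

variable {B A M : Type*} [CommRing B] [CommRing A] [IsLocalRing B] [Algebra B A]
  [AddCommGroup M] [Module A M] [Module B M] [IsScalarTower B A M]

omit [IsLocalRing B] in
lemma toMatrix_add_smul {n : ℕ} (e : Module.Basis (Fin n) A M) (X Y : Fin n → M) (b : B) :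
    e.toMatrix (fun i => X i + b • Y i) = e.toMatrix X + algebraMap B A b • e.toMatrix Y := by
  ext i j
  simp only [Module.Basis.toMatrix_apply, Matrix.add_apply, Matrix.smul_apply, smul_eq_mul]
  rw [← algebraMap_smul A b (Y j), map_add, map_smul]
  simp only [Finsupp.coe_add, Finsupp.coe_smul, Pi.add_apply, Pi.smul_apply, smul_eq_mul]

/-- the map from the residue field of `B` to `A ⧸ m`. -/
noncomputable def resMap (hBA : (IsLocalRing.maximalIdeal B).map (algebraMap B A) ≤ (⊥ : Ideal A).jacobson)
    (m : MaximalSpectrum A) : IsLocalRing.ResidueField B →+* A ⧸ m.asIdeal :=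
  Ideal.Quotient.lift (IsLocalRing.maximalIdeal B)
    ((Ideal.Quotient.mk m.asIdeal).comp (algebraMap B A)) (by
      intro a ha
      rw [RingHom.comp_apply, Ideal.Quotient.eq_zero_iff_mem]
      have h1 : algebraMap B A a ∈ (⊥ : Ideal A).jacobson := hBA (Ideal.mem_map_of_mem _ ha)
      exact (sInf_le (show m.asIdeal ∈ {J : Ideal A | ⊥ ≤ J ∧ J.IsMaximal} from
        ⟨bot_le, m.isMaximal⟩)) h1)

lemma resMap_residue (hBA : (IsLocalRing.maximalIdeal B).map (algebraMap B A) ≤ (⊥ : Ideal A).jacobson)
    (m : MaximalSpectrum A) (b : B) :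
    resMap hBA m (IsLocalRing.residue B b) = Ideal.Quotient.mk m.asIdeal (algebraMap B A b) := rfl

lemma combine [Infinite (IsLocalRing.ResidueField B)]
    (hBA : (IsLocalRing.maximalIdeal B).map (algebraMap B A) ≤ (⊥ : Ideal A).jacobson)
    {n : ℕ} (e : Module.Basis (Fin n) A M) (N : Submodule B M)
    (S : Finset (MaximalSpectrum A)) (X Y : Fin n → M) (hX : ∀ i, X i ∈ N) (hY : ∀ i, Y i ∈ N)
    (hgood : ∀ m ∈ S, e.det X ∉ m.asIdeal ∨ e.det Y ∉ m.asIdeal) :
    ∃ Z : Fin n → M, (∀ i, Z i ∈ N) ∧ ∀ m ∈ S, e.det Z ∉ m.asIdeal := by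
  classical
  let bad : MaximalSpectrum A → Set (IsLocalRing.ResidueField B) := fun m =>
    resMap hBA m ⁻¹' {t | ((e.toMatrix X).map (Ideal.Quotient.mk m.asIdeal)
      + t • (e.toMatrix Y).map (Ideal.Quotient.mk m.asIdeal)).det = 0}
  have hbadfin : ∀ m ∈ S, (bad m).Finite := by
    intro m hm
    have := m.isMaximal
    let _ : Field (A ⧸ m.asIdeal) := Ideal.Quotient.field m.asIdeal
    refine Set.Finite.preimage ((resMap hBA m).injective.injOn) ?_
    apply finite_bad
    have hdet : ∀ Z : Fin n → M, ((e.toMatrix Z).map (Ideal.Quotient.mk m.asIdeal)).det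
        = Ideal.Quotient.mk m.asIdeal (e.det Z) := by
      intro Z
      rw [Module.Basis.det_apply, RingHom.map_det, RingHom.mapMatrix_apply]
    rw [hdet, hdet]
    rcases hgood m hm with h | h
    · left; rwa [Ne, Ideal.Quotient.eq_zero_iff_mem]
    · right; rwa [Ne, Ideal.Quotient.eq_zero_iff_mem]
  have hfin : (⋃ m ∈ (S : Set (MaximalSpectrum A)), bad m).Finite :=
    Set.Finite.biUnion S.finite_toSet (fun m hm => hbadfin m hm)
  obtain ⟨t, ht⟩ := hfin.exists_notMem
  obtain ⟨b, rfl⟩ := IsLocalRing.residue_surjective t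
  refine ⟨fun i => X i + b • Y i, fun i => N.add_mem (hX i) (N.smul_mem b (hY i)), ?_⟩
  intro m hm hmem
  apply ht
  simp only [Set.mem_iUnion]
  refine ⟨m, hm, ?_⟩
  simp only [bad, Set.mem_preimage, Set.mem_ofPred_eq, resMap_residue]
  rw [← Ideal.Quotient.eq_zero_iff_mem, Module.Basis.det_apply, toMatrix_add_smul,
    RingHom.map_det, RingHom.mapMatrix_apply] at hmem
  rw [← hmem]
  refine congrArg Matrix.det ?_
  ext i j
  simp only [Matrix.map_apply, Matrix.add_apply, Matrix.smul_apply, smul_eq_mul, map_add, map_mul]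

theorem main [Infinite (IsLocalRing.ResidueField B)] [Finite (MaximalSpectrum A)]
    (hBA : (IsLocalRing.maximalIdeal B).map (algebraMap B A) ≤ (⊥ : Ideal A).jacobson)
    [Module.Free A M] [Module.Finite A M]
    (N : Submodule B M) (hN : Submodule.span A (N : Set M) = ⊤) :
    ∃ b : Module.Basis (Fin (Module.finrank A M)) A M, ∀ i, b i ∈ N := by
  classical
  rcases subsingleton_or_nontrivial A with hA | hA
  · have : Subsingleton M := Module.subsingleton A M
    let b : Module.Basis (Fin (Module.finrank A M)) A M :=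
      Module.Basis.ofRepr (LinearEquiv.ofSubsingleton M _)
    exact ⟨b, fun i => by rw [Subsingleton.elim (b i) 0]; exact N.zero_mem⟩
  set n := Module.finrank A M with hn
  let e : Module.Basis (Fin n) A M := Module.finBasis A M
  have step1 : ∀ m : Ideal A, m.IsMaximal → ∃ Y : Fin n → M, (∀ i, Y i ∈ N) ∧ e.det Y ∉ m := by
    intro m hm
    by_contra hcon
    have hcon' : ∀ Y : Fin n → M, (∀ i, Y i ∈ (N : Set M)) → e.det.toMultilinearMap Y ∈ m := by
      intro Y hY
      by_contra h
      exact hcon ⟨Y, hY, h⟩
    have := multilinear_mem_of_span e.det.toMultilinearMap (N : Set M) hN m hcon' e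
    rw [AlternatingMap.coe_multilinearMap, e.det_self] at this
    exact hm.ne_top ((Ideal.eq_top_iff_one m).2 this)
  have claim : ∀ S : Finset (MaximalSpectrum A), ∃ y : Fin n → M, (∀ i, y i ∈ N) ∧
      ∀ m ∈ S, e.det y ∉ m.asIdeal := by
    intro S
    induction S using Finset.induction_on with
    | empty => exact ⟨0, fun i => N.zero_mem, fun m hm => absurd hm (Finset.notMem_empty m)⟩
    | insert m S hm ih =>
      obtain ⟨X, hX, hXS⟩ := ih
      obtain ⟨Y, hY, hYm⟩ := step1 m.asIdeal m.isMaximal
      refine combine hBA e N (insert m S) X Y hX hY ?_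
      intro m' hm'
      rcases Finset.mem_insert.mp hm' with rfl | h
      · right; exact hYm
      · left; exact hXS m' h
  have := Fintype.ofFinite (MaximalSpectrum A)
  obtain ⟨y, hyN, hy⟩ := claim Finset.univ
  have hunit : IsUnit (e.det y) := by
    by_contra hnu
    obtain ⟨I, hI, hmem⟩ := exists_max_ideal_of_mem_nonunits (show e.det y ∈ nonunits A from hnu)
    exact hy ⟨I, hI⟩ (Finset.mem_univ _) hmem
  obtain ⟨hli, hsp⟩ := (Module.Basis.is_basis_iff_det e).2 hunit
  refine ⟨Module.Basis.mk hli hsp.ge, fun i => ?_⟩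
  rw [Module.Basis.mk_apply]
  exact hyN i

end

end H10S5213
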