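import Mathlib
import Groth.Agent.Lib.helper11.Big2

set_option autoImplicit false
set_option maxHeartbeats 800000

/-!
# Big projective modules: order ideals, split pairs, an ACC lemma
-/

namespace Groth.Agent.Lib.helper10.BigProjA

open Function

universe u

section Ord

variable (R : Type u) [CommRing R] {P : Type u} [AddCommGroup P] [Module R P]

/-- the order ideal of an element -/
def ord (p : P) : Ideal R := LinearMap.range (LinearMap.applyₗ p : (P →ₗ[R] R) →ₗ[R] R)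

variable {R}

theorem mem_ord {p : P} {a : R} : a ∈ ord R p ↔ ∃ φ : P →ₗ[R] R, φ p = a := Iff.rfl

theorem apply_mem_ord (φ : P →ₗ[R] R) (p : P) : φ p ∈ ord R p := ⟨φ, rfl⟩

theorem ord_add_le (p q : P) : ord R (p + q) ≤ ord R p ⊔ ord R q := by
  rintro _ ⟨φ, rfl⟩
  show φ (p + q) ∈ _
  rw [map_add]
  exact Submodule.add_mem_sup (apply_mem_ord φ p) (apply_mem_ord φ q)

theorem ord_map_le {Q : Type u} [AddCommGroup Q] [Module R Q] (f : P →ₗ[R] Q) (p : P) :
    ord R (f p) ≤ ord R p := by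
  rintro _ ⟨φ, rfl⟩
  exact ⟨φ ∘ₗ f, rfl⟩

/-- the order ideal of an element of a projective module is finitely generated -/
theorem ord_fg [Module.Projective R P] (p : P) : (ord R p).FG := by
  classical
  obtain ⟨sec, hsec⟩ := Module.projective_def'.mp ‹Module.Projective R P›
  refine ⟨(sec p).support.image (sec p), le_antisymm ?_ ?_⟩
  · rw [Ideal.span, Submodule.span_le]
    intro a ha
    simp only [Finset.coe_image, Set.mem_image, Finset.mem_coe] at ha
    obtain ⟨l, _, rfl⟩ := ha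
    exact ⟨Finsupp.lapply l ∘ₗ sec, rfl⟩
  · rintro _ ⟨φ, rfl⟩
    have h1 : p = Finsupp.linearCombination R id (sec p) := (LinearMap.congr_fun hsec p).symm
    have h2 : φ (Finsupp.linearCombination R id (sec p)) ∈
        Ideal.span (((sec p).support.image (sec p) : Finset R) : Set R) := by
      rw [Finsupp.linearCombination_apply, Finsupp.sum, map_sum]
      refine Ideal.sum_mem _ fun l hl => ?_
      rw [map_smul]
      refine Ideal.mul_mem_right _ _ (Ideal.subset_span ?_)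
      simp only [Finset.coe_image, Set.mem_image, Finset.mem_coe]
      exact ⟨l, hl, rfl⟩
    rw [← h1] at h2
    exact h2

/-- coordinates with respect to a dual basis generate the order ideal -/
theorem exists_coord_repr [Module.Projective R P] (p : P) :
    ∃ (m : ℕ) (c : Fin m → R) (q : Fin m → P), (∀ j, c j ∈ ord R p) ∧ p = ∑ j, c j • q j := by
  classical
  obtain ⟨sec, hsec⟩ := Module.projective_def'.mp ‹Module.Projective R P›
  have h1 : p = Finsupp.linearCombination R id (sec p) := (LinearMap.congr_fun hsec p).symm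
  let e := (sec p).support.equivFin
  refine ⟨(sec p).support.card, fun j => sec p (e.symm j), fun j => (e.symm j : P),
    fun j => ⟨Finsupp.lapply _ ∘ₗ sec, rfl⟩, ?_⟩
  conv_lhs => rw [h1, Finsupp.linearCombination_apply, Finsupp.sum]
  rw [← Finset.sum_coe_sort]
  exact (Fintype.sum_equiv e.symm _ _ fun j => rfl).symm

end Ord

section ACC

variable {R : Type u} [CommRing R]

/-- ACC for ideals between `J • 𝔠` and `𝔠`, for `𝔠` finitely generated and `R ⧸ J` noetherian. -/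
theorem exists_maximal_between (J 𝔠 : Ideal R) [IsNoetherian R (R ⧸ J)] (h𝔠 : 𝔠.FG)
    (𝒜 : Set (Ideal R)) (hne : 𝒜.Nonempty) (h𝒜 : ∀ 𝔞 ∈ 𝒜, J • 𝔠 ≤ 𝔞 ∧ 𝔞 ≤ 𝔠) :
    ∃ 𝔞 ∈ 𝒜, ∀ 𝔟 ∈ 𝒜, 𝔞 ≤ 𝔟 → 𝔟 = 𝔞 := by
  classical
  obtain ⟨r, c, hc⟩ := Submodule.fg_iff_exists_fin_generating_family.mp h𝔠
  let g : (Fin r → R) →ₗ[R] R := Fintype.linearCombination R c
  have hg : LinearMap.range g = 𝔠 := by
    rw [Fintype.range_linearCombination]; exact hc
  let f : (Fin r → R) →ₗ[R] (Fin r → R ⧸ J) :=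
    LinearMap.pi fun k => (Submodule.mkQ J) ∘ₗ LinearMap.proj k
  have hker : ∀ 𝔞 ∈ 𝒜, LinearMap.ker f ≤ Submodule.comap g 𝔞 := by
    intro 𝔞 h𝔞 a ha
    have ha' : ∀ k, a k ∈ J := by
      intro k
      have := congrFun (LinearMap.mem_ker.mp ha) k
      simp only [f, LinearMap.pi_apply, LinearMap.coe_comp, Function.comp_apply,
        LinearMap.proj_apply, Submodule.mkQ_apply, Pi.zero_apply] at this
      exact (Submodule.Quotient.mk_eq_zero J).mp this
    apply (h𝒜 𝔞 h𝔞).1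
    show g a ∈ J • 𝔠
    rw [Fintype.linearCombination_apply]
    refine Submodule.sum_mem _ fun k _ => ?_
    rw [smul_eq_mul]
    refine Submodule.smul_mem_smul (ha' k) ?_
    rw [← hc]
    exact Submodule.subset_span ⟨k, rfl⟩
  let 𝒮 : Set (Submodule R (Fin r → R ⧸ J)) := {N | ∃ 𝔞 ∈ 𝒜, N = (Submodule.comap g 𝔞).map f}
  obtain ⟨𝔞₀, h𝔞₀⟩ := hne
  have h𝒮 : 𝒮.Nonempty := ⟨_, 𝔞₀, h𝔞₀, rfl⟩
  obtain ⟨N₀, ⟨𝔞, h𝔞, rfl⟩, hmax⟩ := set_has_maximal_iff_noetherian.mpr
    (inferInstance : IsNoetherian R (Fin r → R ⧸ J)) 𝒮 h𝒮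
  refine ⟨𝔞, h𝔞, fun 𝔟 h𝔟 hle => ?_⟩
  have h1 : (Submodule.comap g 𝔞).map f ≤ (Submodule.comap g 𝔟).map f :=
    Submodule.map_mono (Submodule.comap_mono hle)
  have h2 : (Submodule.comap g 𝔟).map f = (Submodule.comap g 𝔞).map f := by
    by_contra hne'
    exact hmax _ ⟨𝔟, h𝔟, rfl⟩ (lt_of_le_of_ne h1 (Ne.symm hne'))
  have h3 : Submodule.comap g 𝔟 = Submodule.comap g 𝔞 := by
    have e1 := Submodule.comap_map_eq f (Submodule.comap g 𝔟)
    have e2 := Submodule.comap_map_eq f (Submodule.comap g 𝔞)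
    rw [sup_eq_left.mpr (hker 𝔟 h𝔟)] at e1
    rw [sup_eq_left.mpr (hker 𝔞 h𝔞)] at e2
    rw [← e1, ← e2, h2]
  have h4 : ∀ 𝔡 ∈ 𝒜, (Submodule.comap g 𝔡).map g = 𝔡 := by
    intro 𝔡 h𝔡
    rw [Submodule.map_comap_eq, hg]
    exact inf_eq_right.mpr (h𝒜 𝔡 h𝔡).2
  rw [← h4 𝔟 h𝔟, ← h4 𝔞 h𝔞, h3]

end ACC

section Loc

theorem finite_localized_of_equiv_prod {R : Type u} [CommRing R] (S : Submonoid R)
    {P W Q : Type u} [AddCommGroup P] [Module R P] [AddCommGroup W] [Module R W]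
    [AddCommGroup Q] [Module R Q] [Module.Finite R W] (e : P ≃ₗ[R] W × Q)
    (h : Module.Finite (Localization S) (LocalizedModule S Q)) :
    Module.Finite (Localization S) (LocalizedModule S P) := by
  let f₁ := LocalizedModule.mkLinearMap S W
  let f₂ := LocalizedModule.mkLinearMap S Q
  let F : P →ₗ[R] LocalizedModule S W × LocalizedModule S Q := (f₁.prodMap f₂) ∘ₗ e.toLinearMap
  haveI : IsLocalizedModule S F := IsLocalizedModule.of_linearEquiv_right S (f₁.prodMap f₂) e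
  let ε := IsLocalizedModule.iso S F
  let ε' := LinearEquiv.extendScalarsOfIsLocalization S (Localization S) ε
  exact Module.Finite.equiv ε'.symm

end Loc

end Groth.Agent.Lib.helper10.BigProjA
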