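import Mathlib
import Groth.Agent.Lib.helper10.BigProjA

set_option autoImplicit false
set_option maxHeartbeats 800000

/-!
# Big projective modules: split pairs
-/

namespace Groth.Agent.Lib.helper10.BigProjB

open Function
open Groth.Agent.Lib.helper10.BigProjA

universe u

/-- a split embedding of a finite free module -/
structure Split (R : Type u) [CommRing R] (P : Type u) [AddCommGroup P] [Module R P] where
  n : ℕ
  i : (Fin n → R) →ₗ[R] P
  r : P →ₗ[R] (Fin n → R)
  h : r ∘ₗ i = LinearMap.id

namespace Split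

variable {R : Type u} [CommRing R] {P : Type u} [AddCommGroup P] [Module R P] (d : Split R P)

theorem r_i (v : Fin d.n → R) : d.r (d.i v) = v := LinearMap.congr_fun d.h v

/-- the trivial split pair -/
def zero (R : Type u) [CommRing R] (P : Type u) [AddCommGroup P] [Module R P] : Split R P where
  n := 0
  i := 0
  r := 0
  h := by ext v j; exact Fin.elim0 j

/-- projection to the complement -/
def q : P →ₗ[R] LinearMap.ker d.r :=
  LinearMap.codRestrict _ (LinearMap.id - d.i ∘ₗ d.r) (by
    intro p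
    rw [LinearMap.mem_ker, LinearMap.sub_apply, map_sub, LinearMap.comp_apply, r_i]
    simp)

theorem q_coe (p : P) : (d.q p : P) = p - d.i (d.r p) := rfl

theorem q_of_mem (t : LinearMap.ker d.r) : d.q t = t := by
  apply Subtype.ext
  rw [q_coe, LinearMap.mem_ker.mp t.2, map_zero, sub_zero]

theorem q_i (v : Fin d.n → R) : d.q (d.i v) = 0 := by
  apply Subtype.ext
  rw [q_coe, r_i, sub_self]
  rfl

theorem r_q (p : P) : d.r (d.q p : P) = 0 := LinearMap.mem_ker.mp (d.q p).2

/-- the coordinate ideal of an element -/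
def coordIdeal (x : P) : Ideal R := Ideal.span (Set.range (d.r x))

theorem coordIdeal_le_ord (x : P) : d.coordIdeal x ≤ ord R x := by
  unfold coordIdeal
  rw [Ideal.span_le]
  rintro _ ⟨k, rfl⟩
  exact ⟨LinearMap.proj k ∘ₗ d.r, rfl⟩

theorem ord_i_le (v : Fin d.n → R) : ord R (d.i v) ≤ Ideal.span (Set.range v) := by
  rintro _ ⟨φ, rfl⟩
  show (φ ∘ₗ d.i) v ∈ _
  rw [LinearMap.pi_apply_eq_sum_univ (φ ∘ₗ d.i) v]
  refine Ideal.sum_mem _ fun k _ => ?_
  rw [smul_eq_mul]
  exact Ideal.mul_mem_right _ _ (Ideal.subset_span ⟨k, rfl⟩)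

theorem ord_le (x : P) : ord R x ≤ d.coordIdeal x ⊔ ord R (d.q x : P) := by
  have hx : x = d.i (d.r x) + (d.q x : P) := by rw [q_coe]; abel
  calc ord R x = ord R (d.i (d.r x) + (d.q x : P)) := by rw [← hx]
    _ ≤ ord R (d.i (d.r x)) ⊔ ord R (d.q x : P) := ord_add_le _ _
    _ ≤ _ := sup_le_sup_right (d.ord_i_le _) _

/-- the decomposition as a product -/
def equivProd : P ≃ₗ[R] (Fin d.n → R) × LinearMap.ker d.r where
  toFun p := (d.r p, d.q p)
  map_add' p p' := by rw [map_add, map_add]; rfl
  map_smul' c p := by rw [map_smul, map_smul]; rfl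
  invFun w := d.i w.1 + (w.2 : P)
  left_inv p := by
    show d.i (d.r p) + (d.q p : P) = p
    rw [q_coe]; abel
  right_inv w := by
    obtain ⟨v, t⟩ := w
    have ht : d.r (t : P) = 0 := LinearMap.mem_ker.mp t.2
    show (d.r (d.i v + (t : P)), d.q (d.i v + (t : P))) = (v, t)
    rw [map_add, map_add, r_i, ht, add_zero, q_i, q_of_mem, zero_add]

instance [Module.Projective R P] : Module.Projective R (LinearMap.ker d.r) :=
  Module.Projective.of_split (LinearMap.ker d.r).subtype d.q (by
    apply LinearMap.ext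
    intro t
    simp [q_of_mem])

theorem not_finite_ker
    (hP : ∀ (m : Ideal R) [m.IsMaximal],
      ¬ Module.Finite (Localization.AtPrime m) (LocalizedModule m.primeCompl P))
    (m : Ideal R) [m.IsMaximal] :
    ¬ Module.Finite (Localization.AtPrime m) (LocalizedModule m.primeCompl (LinearMap.ker d.r)) :=
  fun h => hP m (finite_localized_of_equiv_prod m.primeCompl d.equivProd h)

/-- extension by a unimodular element of the complement -/
def extend (t : LinearMap.ker d.r) (φ : LinearMap.ker d.r →ₗ[R] R) (hφ : φ t = 1) : Split R P where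
  n := d.n + 1
  i := (LinearMap.proj 0).smulRight (t : P) + d.i ∘ₗ (LinearMap.funLeft R R Fin.succ)
  r := LinearMap.pi fun j => Fin.cases (φ ∘ₗ d.q) (fun k => LinearMap.proj k ∘ₗ d.r) j
  h := by
    apply LinearMap.ext
    intro v
    funext j
    have ht : d.r (t : P) = 0 := LinearMap.mem_ker.mp t.2
    refine Fin.cases ?_ (fun k => ?_) j
    · simp only [LinearMap.coe_comp, Function.comp_apply, LinearMap.pi_apply, Fin.cases_zero,
        LinearMap.add_apply, LinearMap.smulRight_apply, LinearMap.proj_apply, map_add, map_smul,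
        q_i, q_of_mem, hφ, LinearMap.id_coe, id_eq, smul_eq_mul, mul_one, add_zero]
      rw [map_zero, add_zero]
    · simp only [LinearMap.coe_comp, Function.comp_apply, LinearMap.pi_apply, Fin.cases_succ,
        LinearMap.add_apply, LinearMap.smulRight_apply, LinearMap.proj_apply, map_add, map_smul,
        ht, r_i, smul_zero, zero_add, LinearMap.id_coe, id_eq, LinearMap.funLeft_apply]
      simp

theorem extend_r_zero (t : LinearMap.ker d.r) (φ : LinearMap.ker d.r →ₗ[R] R) (hφ : φ t = 1)
    (x : P) : (d.extend t φ hφ).r x (0 : Fin (d.n + 1)) = φ (d.q x) := rfl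

theorem extend_r_succ (t : LinearMap.ker d.r) (φ : LinearMap.ker d.r →ₗ[R] R) (hφ : φ t = 1)
    (x : P) (k : Fin d.n) : (d.extend t φ hφ).r x k.succ = d.r x k := rfl

theorem coordIdeal_le_extend (t : LinearMap.ker d.r) (φ : LinearMap.ker d.r →ₗ[R] R)
    (hφ : φ t = 1) (x : P) : d.coordIdeal x ≤ (d.extend t φ hφ).coordIdeal x := by
  unfold coordIdeal
  rw [Ideal.span_le]
  rintro _ ⟨k, rfl⟩
  exact Ideal.subset_span ⟨k.succ, rfl⟩

theorem mem_coordIdeal_extend (t : LinearMap.ker d.r) (φ : LinearMap.ker d.r →ₗ[R] R)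
    (hφ : φ t = 1) (x : P) : φ (d.q x) ∈ (d.extend t φ hφ).coordIdeal x :=
  Ideal.subset_span ⟨(0 : Fin (d.n + 1)), rfl⟩

/-- shearing by a map into the complement -/
def shear (θ : (Fin d.n → R) →ₗ[R] P) : Split R P where
  n := d.n
  i := d.i + (LinearMap.id - d.i ∘ₗ d.r) ∘ₗ θ
  r := d.r
  h := by
    apply LinearMap.ext
    intro v
    simp only [LinearMap.coe_comp, Function.comp_apply, LinearMap.add_apply, LinearMap.sub_apply,
      LinearMap.id_coe, id_eq, map_add, map_sub, r_i, sub_self, add_zero]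

theorem shear_i (θ : (Fin d.n → R) →ₗ[R] P) (v : Fin d.n → R) :
    (d.shear θ).i v = d.i v + (θ v - d.i (d.r (θ v))) := rfl

theorem isCompl : IsCompl (LinearMap.range d.i) (LinearMap.ker d.r) := by
  constructor
  · rw [Submodule.disjoint_def]
    rintro _ ⟨v, rfl⟩ hv
    rw [LinearMap.mem_ker, r_i] at hv
    rw [hv, map_zero]
  · rw [codisjoint_iff, eq_top_iff]
    intro p _
    have hp : p = d.i (d.r p) + (d.q p : P) := by rw [q_coe]; abel
    rw [hp]
    exact Submodule.add_mem_sup ⟨_, rfl⟩ (d.q p).2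

theorem i_injective : Injective d.i := by
  intro v w hvw
  rw [← d.r_i v, ← d.r_i w, hvw]

end Split

end Groth.Agent.Lib.helper10.BigProjB
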