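import Mathlib
import Groth.Agent.Lib.helper10.BigProjB
import Groth.Agent.Lib.helper11.Big2

set_option autoImplicit false
set_option maxHeartbeats 800000

/-!
# Big projective modules: every element lies in a finite free direct summand
-/

namespace Groth.Agent.Lib.helper10.BigProjC

open Function
open Groth.Agent.Lib.helper10.BigProjA Groth.Agent.Lib.helper10.BigProjB
open Groth.Agent.Lib.helper11

universe u

variable {R : Type u} [CommRing R] {P : Type u} [AddCommGroup P] [Module R P]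

/-- the shear making `x` lie in the image, provided the complement part has small order ideal -/
theorem exists_shear_mem [Module.Projective R P] (d : Split R P) (x : P)
    (h : ord R (d.q x : P) ≤ d.coordIdeal x) :
    ∃ θ : (Fin d.n → R) →ₗ[R] P, (d.shear θ).i (d.r x) = x := by
  classical
  obtain ⟨m, c, q', hc, hq⟩ := exists_coord_repr (R := R) (d.q x : P)
  have hc' : ∀ j, ∃ a : Fin d.n → R, ∑ k, a k * d.r x k = c j := by
    intro j
    have := h (hc j)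
    unfold Split.coordIdeal at this
    exact Ideal.mem_span_range_iff_exists_fun.mp this
  choose a ha using hc'
  let θ : (Fin d.n → R) →ₗ[R] P :=
    ∑ j, (∑ k, a j k • (LinearMap.proj k : (Fin d.n → R) →ₗ[R] R)).smulRight (q' j)
  have hθ : θ (d.r x) = (d.q x : P) := by
    rw [hq]
    simp only [θ, LinearMap.sum_apply, LinearMap.smulRight_apply, LinearMap.smul_apply,
      LinearMap.proj_apply, smul_eq_mul]
    refine Finset.sum_congr rfl fun j _ => ?_
    rw [ha j]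
  refine ⟨θ, ?_⟩
  rw [Split.shear_i, hθ, d.r_q, map_zero, sub_zero, Split.q_coe]
  abel

theorem exists_split_mem [IsNoetherianRing (R ⧸ (⊥ : Ideal R).jacobson)] [Module.Projective R P]
    (hP : ∀ (m : Ideal R) [m.IsMaximal],
      ¬ Module.Finite (Localization.AtPrime m) (LocalizedModule m.primeCompl P))
    (x : P) : ∃ d : Split R P, x ∈ LinearMap.range d.i := by
  classical
  set J : Ideal R := (⊥ : Ideal R).jacobson with hJ
  haveI : IsNoetherian R (R ⧸ J) := Big2.isNoetherian_of_ring_quot J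
  set 𝔠 : Ideal R := ord R x with h𝔠
  have h𝔠fg : 𝔠.FG := ord_fg x
  let 𝒜 : Set (Ideal R) := {𝔞 | ∃ d : Split R P, 𝔞 = d.coordIdeal x ⊔ J • 𝔠}
  have hne : 𝒜.Nonempty := ⟨_, Split.zero R P, rfl⟩
  have hJ𝔠 : J • 𝔠 ≤ 𝔠 := Submodule.smul_le_right
  have h𝒜 : ∀ 𝔞 ∈ 𝒜, J • 𝔠 ≤ 𝔞 ∧ 𝔞 ≤ 𝔠 := by
    rintro _ ⟨d, rfl⟩
    exact ⟨le_sup_right, sup_le (d.coordIdeal_le_ord x) hJ𝔠⟩
  obtain ⟨𝔞, ⟨d, rfl⟩, hmax⟩ := exists_maximal_between J 𝔠 h𝔠fg 𝒜 hne h𝒜
  set 𝔞 : Ideal R := d.coordIdeal x ⊔ J • 𝔠 with h𝔞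
  -- Claim 1
  have claim1 : ord R (d.q x : P) ≤ 𝔞 := by
    by_contra hcon
    obtain ⟨b, hb, hb'⟩ := SetLike.not_le_iff_exists.mp hcon
    obtain ⟨ψ, rfl⟩ := mem_ord.mp hb
    obtain ⟨t, -, φ₀, hφ₀⟩ := Big2.main R (LinearMap.ker d.r) (d.not_finite_ker hP) 0 ⊤ (by simp)
    rw [zero_add] at hφ₀
    set y : LinearMap.ker d.r := d.q x with hy
    let ψ' : LinearMap.ker d.r →ₗ[R] R := ψ ∘ₗ (LinearMap.ker d.r).subtype
    have hψ' : ψ' y ∉ 𝔞 := hb'
    obtain ⟨φ, hφt, hφy⟩ : ∃ φ : LinearMap.ker d.r →ₗ[R] R, φ t = 1 ∧ φ y ∉ 𝔞 := by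
      by_cases h0 : φ₀ y ∈ 𝔞
      · refine ⟨φ₀ + ψ' - ψ' t • φ₀, ?_, ?_⟩
        · simp only [LinearMap.add_apply, LinearMap.sub_apply, LinearMap.smul_apply, hφ₀,
            smul_eq_mul, mul_one]
          ring
        · intro hmem
          apply hψ'
          have : ψ' y = (φ₀ + ψ' - ψ' t • φ₀) y - φ₀ y + ψ' t * φ₀ y := by
            simp only [LinearMap.add_apply, LinearMap.sub_apply, LinearMap.smul_apply,
              smul_eq_mul]
            ring
          rw [this]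
          exact 𝔞.add_mem (𝔞.sub_mem hmem h0) (𝔞.mul_mem_left _ h0)
      · exact ⟨φ₀, hφ₀, h0⟩
    let d' := d.extend t φ hφt
    have hle : 𝔞 ≤ d'.coordIdeal x ⊔ J • 𝔠 :=
      sup_le_sup_right (d.coordIdeal_le_extend t φ hφt x) _
    have heq := hmax _ ⟨d', rfl⟩ hle
    apply hφy
    rw [← heq]
    exact Submodule.mem_sup_left (d.mem_coordIdeal_extend t φ hφt x)
  -- Claim 2
  have claim2 : 𝔠 ≤ d.coordIdeal x := by
    apply Submodule.le_of_le_smul_of_le_jacobson_bot h𝔠fg (le_refl J)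
    calc 𝔠 ≤ d.coordIdeal x ⊔ ord R (d.q x : P) := d.ord_le x
      _ ≤ d.coordIdeal x ⊔ 𝔞 := sup_le_sup_left claim1 _
      _ = d.coordIdeal x ⊔ J • 𝔠 := by rw [h𝔞, ← sup_assoc, sup_idem]
  have h3 : ord R (d.q x : P) ≤ d.coordIdeal x :=
    claim1.trans (sup_le le_rfl (hJ𝔠.trans claim2))
  obtain ⟨θ, hθ⟩ := exists_shear_mem d x h3
  exact ⟨d.shear θ, _, hθ⟩

end Groth.Agent.Lib.helper10.BigProjC
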