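import Mathlib
import Groth.Agent.Lib.helper10.BigProjC

set_option autoImplicit false
set_option maxHeartbeats 800000

/-!
# Big projective modules: countably generated ones are free
-/

namespace Groth.Agent.Lib.helper10.BigProjD

open Function
open Groth.Agent.Lib.helper10.BigProjA Groth.Agent.Lib.helper10.BigProjB
open Groth.Agent.Lib.helper10.BigProjC

universe u

variable {R : Type u} [CommRing R] {P : Type u} [AddCommGroup P] [Module R P]

/-- a biorthogonal set of pairs (vector, functional) -/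
structure Bi (T : Set (P × (P →ₗ[R] R))) : Prop where
  one : ∀ a ∈ T, a.2 a.1 = 1
  zero : ∀ a ∈ T, ∀ a' ∈ T, a ≠ a' → a.2 a'.1 = 0

theorem bi_empty : Bi (∅ : Set (P × (P →ₗ[R] R))) :=
  ⟨fun _ h => h.elim, fun _ h => h.elim⟩

theorem free_of_bi (U : Set (P × (P →ₗ[R] R))) (hU : Bi U)
    (hspan : Submodule.span R (Prod.fst '' U) = ⊤) : Module.Free R P := by
  classical
  let B : U → P := fun a => a.1.1
  have hli : LinearIndependent R B := by
    rw [linearIndependent_iff']
    intro s g hg i hi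
    have h1 := congrArg i.1.2 hg
    rw [map_sum, map_zero] at h1
    rw [Finset.sum_eq_single i] at h1
    · rw [map_smul, smul_eq_mul, hU.one i.1 i.2, mul_one] at h1
      exact h1
    · intro j _ hji
      rw [map_smul, smul_eq_mul, hU.zero i.1 i.2 j.1 j.2 (fun h => hji (Subtype.ext h.symm)),
        mul_zero]
    · intro h
      exact (h hi).elim
  have hrange : Set.range B = Prod.fst '' U := by
    ext p
    constructor
    · rintro ⟨a, rfl⟩
      exact ⟨a.1, a.2, rfl⟩
    · rintro ⟨a, ha, rfl⟩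
      exact ⟨⟨a, ha⟩, rfl⟩
  have hsp : ⊤ ≤ Submodule.span R (Set.range B) := by rw [hrange, hspan]
  exact Module.Free.of_basis (Module.Basis.mk hli hsp)

theorem exists_split_of_bi (T : Set (P × (P →ₗ[R] R))) (hfin : T.Finite) (hT : Bi T) :
    ∃ d : Split R P, (∀ a ∈ T, ∃ k, d.i (Pi.single k 1) = a.1 ∧ ∀ p, d.r p k = a.2 p) ∧
      ∀ v, d.i v ∈ Submodule.span R (Prod.fst '' T) := by
  classical
  haveI : Finite T := hfin
  let σ : Fin (Nat.card T) ≃ T := (Finite.equivFin T).symm
  have hσ : ∀ k k', (σ k).1.2 (σ k').1.1 = if k = k' then 1 else 0 := by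
    intro k k'
    split_ifs with h
    · rw [h]; exact hT.one _ (σ k').2
    · exact hT.zero _ (σ k).2 _ (σ k').2 (fun h' => h (σ.injective (Subtype.ext h')))
  let d : Split R P :=
    { n := Nat.card T
      i := Fintype.linearCombination R (fun k => (σ k).1.1)
      r := LinearMap.pi (fun k => (σ k).1.2)
      h := by
        apply LinearMap.ext
        intro v
        funext k
        simp only [LinearMap.coe_comp, Function.comp_apply, LinearMap.pi_apply,
          Fintype.linearCombination_apply, map_sum, map_smul, smul_eq_mul, hσ, LinearMap.id_coe,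
          id_eq]
        simp }
  refine ⟨d, ?_, ?_⟩
  · intro a ha
    obtain ⟨k₀, hk₀⟩ := σ.surjective ⟨a, ha⟩
    have h0 : a = (σ k₀).1 := by rw [hk₀]
    refine ⟨k₀, ?_, fun p => ?_⟩
    · show Fintype.linearCombination R (fun k => (σ k).1.1) (Pi.single k₀ 1) = _
      rw [Fintype.linearCombination_apply_single, one_smul, h0]
    · rw [h0]; rfl
  · intro v
    show Fintype.linearCombination R (fun k => (σ k).1.1) v ∈ _
    rw [Fintype.linearCombination_apply]
    refine Submodule.sum_mem _ fun k _ => Submodule.smul_mem _ _ (Submodule.subset_span ?_)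
    exact ⟨(σ k).1, (σ k).2, rfl⟩

theorem step [IsNoetherianRing (R ⧸ (⊥ : Ideal R).jacobson)] [Module.Projective R P]
    (hP : ∀ (m : Ideal R) [m.IsMaximal],
      ¬ Module.Finite (Localization.AtPrime m) (LocalizedModule m.primeCompl P))
    (T : Set (P × (P →ₗ[R] R))) (hfin : T.Finite) (hT : Bi T) (x : P) :
    ∃ T' : Set (P × (P →ₗ[R] R)), T ⊆ T' ∧ T'.Finite ∧ Bi T' ∧
      x ∈ Submodule.span R (Prod.fst '' T') := by
  classical
  obtain ⟨d, hd1, hd2⟩ := exists_split_of_bi T hfin hT
  obtain ⟨e, v, hv⟩ := exists_split_mem (P := LinearMap.ker d.r) (d.not_finite_ker hP) (d.q x)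
  let new : Fin e.n → P × (P →ₗ[R] R) := fun k =>
    ((e.i (Pi.single k 1) : P), LinearMap.proj k ∘ₗ e.r ∘ₗ d.q)
  have hnew1 : ∀ k, (new k).1 = (e.i (Pi.single k 1) : P) := fun k => rfl
  have hnew2 : ∀ k p, (new k).2 p = e.r (d.q p) k := fun k p => rfl
  -- values
  have hTn : ∀ a ∈ T, ∀ k, a.2 (new k).1 = 0 := by
    intro a ha k
    obtain ⟨k₀, -, h2⟩ := hd1 a ha
    rw [← h2, hnew1, LinearMap.mem_ker.mp (e.i (Pi.single k 1)).2]
    rfl
  have hnT : ∀ k, ∀ a ∈ T, (new k).2 a.1 = 0 := by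
    intro k a ha
    obtain ⟨k₀, h1, -⟩ := hd1 a ha
    rw [hnew2, ← h1, d.q_i, map_zero]
    rfl
  have hnn : ∀ k k', (new k).2 (new k').1 = if k = k' then 1 else 0 := by
    intro k k'
    rw [hnew2, hnew1, d.q_of_mem, e.r_i, Pi.single_apply]
  refine ⟨T ∪ Set.range new, Set.subset_union_left, hfin.union (Set.finite_range new), ⟨?_, ?_⟩, ?_⟩
  · rintro a (ha | ⟨k, rfl⟩)
    · exact hT.one a ha
    · rw [hnn, if_pos rfl]
  · rintro a (ha | ⟨k, rfl⟩) a' (ha' | ⟨k', rfl⟩) hne
    · exact hT.zero a ha a' ha' hne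
    · exact hTn a ha k'
    · exact hnT k a' ha'
    · rw [hnn, if_neg]
      rintro rfl
      exact hne rfl
  · have hx : x = d.i (d.r x) + (d.q x : P) := by rw [Split.q_coe]; abel
    rw [hx]
    apply Submodule.add_mem
    · exact Submodule.span_mono (Set.image_mono Set.subset_union_left) (hd2 _)
    · rw [← hv]
      have hv' : v = ∑ k, v k • (Pi.single k 1 : Fin e.n → R) := by
        funext k
        simp [Finset.sum_apply, Pi.single_apply]
      rw [hv', map_sum, Submodule.coe_sum]
      refine Submodule.sum_mem _ fun k _ => ?_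
      rw [map_smul, Submodule.coe_smul]
      refine Submodule.smul_mem _ _ (Submodule.subset_span ?_)
      exact ⟨new k, Or.inr ⟨k, rfl⟩, rfl⟩

theorem free [IsNoetherianRing (R ⧸ (⊥ : Ideal R).jacobson)] [Module.Projective R P]
    (hP : ∀ (m : Ideal R) [m.IsMaximal],
      ¬ Module.Finite (Localization.AtPrime m) (LocalizedModule m.primeCompl P))
    (hc : ∃ s : Set P, s.Countable ∧ Submodule.span R s = ⊤) : Module.Free R P := by
  classical
  obtain ⟨s, hs, hspan⟩ := hc
  have hs' : (insert (0 : P) s).Countable := hs.insert 0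
  obtain ⟨f, hf⟩ := hs'.exists_eq_range (Set.insert_nonempty 0 s)
  have key : ∀ (k : ℕ) (T : {T : Set (P × (P →ₗ[R] R)) // T.Finite ∧ Bi T}),
      ∃ T' : {T : Set (P × (P →ₗ[R] R)) // T.Finite ∧ Bi T},
        T.1 ⊆ T'.1 ∧ f k ∈ Submodule.span R (Prod.fst '' T'.1) := by
    intro k T
    obtain ⟨T', h1, h2, h3, h4⟩ := step hP T.1 T.2.1 T.2.2 (f k)
    exact ⟨⟨T', h2, h3⟩, h1, h4⟩
  choose g hg using key
  let C : ℕ → {T : Set (P × (P →ₗ[R] R)) // T.Finite ∧ Bi T} := fun k =>
    Nat.rec ⟨∅, Set.finite_empty, bi_empty⟩ (fun k T => g k T) k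
  have hC : ∀ k, C (k + 1) = g k (C k) := fun k => rfl
  have hmono : Monotone (fun k => (C k).1) :=
    monotone_nat_of_le_succ (fun k => by rw [hC]; exact (hg k (C k)).1)
  let U : Set (P × (P →ₗ[R] R)) := ⋃ k, (C k).1
  have hU : Bi U := by
    constructor
    · intro a ha
      obtain ⟨k, hk⟩ := Set.mem_iUnion.mp ha
      exact (C k).2.2.one a hk
    · intro a ha a' ha' hne
      obtain ⟨k, hk⟩ := Set.mem_iUnion.mp ha
      obtain ⟨k', hk'⟩ := Set.mem_iUnion.mp ha'
      exact (C (max k k')).2.2.zero a (hmono (le_max_left k k') hk) a'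
        (hmono (le_max_right k k') hk') hne
  refine free_of_bi U hU ?_
  rw [eq_top_iff, ← hspan, Submodule.span_le]
  intro p hp
  have hp' : p ∈ insert (0 : P) s := Set.mem_insert_of_mem _ hp
  rw [hf] at hp'
  obtain ⟨k, rfl⟩ := hp'
  have h1 := (hg k (C k)).2
  rw [← hC] at h1
  refine Submodule.span_mono ?_ h1
  exact Set.image_mono (Set.subset_iUnion (fun k => (C k).1) (k + 1))

end Groth.Agent.Lib.helper10.BigProjD
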