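import Mathlib

set_option autoImplicit false
set_option maxHeartbeats 800000

/-!
# Row reduction of polynomial matrices over a field
-/

namespace Groth.Agent.Lib.helper10.BirkhoffA

open Polynomial Matrix

variable {k : Type*} [Field k] {n : ℕ}

/-- the degree of row `i` -/
noncomputable def rdeg (Y : Matrix (Fin n) (Fin n) k[X]) (i : Fin n) : ℕ :=
  Finset.univ.sup (fun j => (Y i j).natDegree)

/-- the matrix of leading row coefficients -/
noncomputable def lead (Y : Matrix (Fin n) (Fin n) k[X]) : Matrix (Fin n) (Fin n) k :=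
  fun i j => (Y i j).coeff (rdeg Y i)

theorem natDegree_le_rdeg (Y : Matrix (Fin n) (Fin n) k[X]) (i j : Fin n) :
    (Y i j).natDegree ≤ rdeg Y i :=
  Finset.le_sup (f := fun j => (Y i j).natDegree) (Finset.mem_univ j)

theorem eq_zero_or_natDegree_lt {f : k[X]} {d : ℕ} (h1 : f.natDegree ≤ d) (h2 : f.coeff d = 0) :
    f = 0 ∨ f.natDegree < d := by
  by_cases hf : f = 0
  · exact Or.inl hf
  · right
    refine lt_of_le_of_ne h1 ?_
    intro h
    apply hf
    rw [← h] at h2
    exact leadingCoeff_eq_zero.mp h2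

/-- one step of the reduction -/
theorem exists_step (Y : Matrix (Fin n) (Fin n) k[X]) (hY : Y.det ≠ 0)
    (hl : ¬ IsUnit (lead Y)) :
    ∃ V : Matrix (Fin n) (Fin n) k[X], IsUnit V ∧
      ∑ i, rdeg (V * Y) i < ∑ i, rdeg Y i := by
  classical
  have hdet : (lead Y).det = 0 := by
    by_contra h
    exact hl ((Matrix.isUnit_iff_isUnit_det _).mpr (isUnit_iff_ne_zero.mpr h))
  obtain ⟨a, ha0, ha⟩ := Matrix.exists_vecMul_eq_zero_iff.mpr hdet
  have hne : (Finset.univ.filter (fun i => a i ≠ 0)).Nonempty := by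
    by_contra h
    rw [Finset.not_nonempty_iff_eq_empty, Finset.filter_eq_empty_iff] at h
    apply ha0
    funext i
    simpa using h (Finset.mem_univ i)
  obtain ⟨i₀, hi₀, hmax⟩ := Finset.exists_max_image _ (rdeg Y) hne
  rw [Finset.mem_filter] at hi₀
  set d₀ := rdeg Y i₀ with hd₀
  let v : Fin n → k[X] := fun j => C (a j) * X ^ (d₀ - rdeg Y j)
  let V : Matrix (Fin n) (Fin n) k[X] := (1 : Matrix (Fin n) (Fin n) k[X]).updateRow i₀ v
  have hv : v = ∑ j, v j • (1 : Matrix (Fin n) (Fin n) k[X]) j := by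
    funext l
    simp [Finset.sum_apply, Matrix.one_apply]
  have hVdet : V.det = C (a i₀) := by
    change ((1 : Matrix (Fin n) (Fin n) k[X]).updateRow i₀ v).det = _
    rw [hv, Matrix.det_updateRow_sum, Matrix.det_one, smul_eq_mul, mul_one]
    change C (a i₀) * X ^ (d₀ - rdeg Y i₀) = C (a i₀)
    rw [← hd₀, Nat.sub_self, pow_zero, mul_one]
  have hVunit : IsUnit V := by
    rw [Matrix.isUnit_iff_isUnit_det, hVdet]
    exact (isUnit_iff_ne_zero.mpr hi₀.2).map C
  have hVY : V * Y = Y.updateRow i₀ (v ᵥ* Y) := by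
    change ((1 : Matrix (Fin n) (Fin n) k[X]).updateRow i₀ v) * Y = _
    rw [Matrix.updateRow_mul, Matrix.one_mul]
  -- the new row
  have hnew : ∀ l, (v ᵥ* Y) l = 0 ∨ ((v ᵥ* Y) l).natDegree < d₀ := by
    intro l
    apply eq_zero_or_natDegree_lt
    · simp only [Matrix.vecMul, dotProduct]
      refine (natDegree_sum_le_of_forall_le _ _ ?_)
      intro j _
      by_cases hj : a j = 0
      · simp [v, hj]
      · have hjd : rdeg Y j ≤ d₀ := hmax j (Finset.mem_filter.mpr ⟨Finset.mem_univ j, hj⟩)
        calc (v j * Y j l).natDegree ≤ (v j).natDegree + (Y j l).natDegree := natDegree_mul_le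
          _ ≤ (d₀ - rdeg Y j) + rdeg Y j := by
            refine add_le_add ?_ (natDegree_le_rdeg Y j l)
            exact natDegree_C_mul_X_pow_le _ _
          _ = d₀ := Nat.sub_add_cancel hjd
    · simp only [Matrix.vecMul, dotProduct, finsetSum_coeff]
      have hl := congrFun ha l
      simp only [Matrix.vecMul, dotProduct, lead, Pi.zero_apply] at hl
      rw [← hl]
      refine Finset.sum_congr rfl fun j _ => ?_
      by_cases hj : a j = 0
      · simp [v, hj]
      · have hjd : rdeg Y j ≤ d₀ := hmax j (Finset.mem_filter.mpr ⟨Finset.mem_univ j, hj⟩)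
        simp only [v]
        generalize hm : d₀ - rdeg Y j = m
        have e : d₀ = rdeg Y j + m := by omega
        rw [mul_assoc, coeff_C_mul, mul_comm (X ^ _), e, coeff_mul_X_pow]
  have hd₀pos : 0 < d₀ := by
    by_contra h
    have h0 : d₀ = 0 := by omega
    have hrow : ∀ l, (V * Y) i₀ l = 0 := by
      intro l
      rw [hVY, Matrix.updateRow_self]
      rcases hnew l with h | h
      · exact h
      · omega
    have := Matrix.det_eq_zero_of_row_eq_zero i₀ hrow
    rw [Matrix.det_mul, hVdet] at this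
    rcases mul_eq_zero.mp this with h | h
    · exact hi₀.2 (C_eq_zero.mp h)
    · exact hY h
  refine ⟨V, hVunit, ?_⟩
  apply Finset.sum_lt_sum
  · intro i _
    by_cases hi : i = i₀
    · subst hi
      apply le_of_lt
      rw [rdeg, Finset.sup_lt_iff (by exact hd₀pos)]
      intro l _
      rw [hVY, Matrix.updateRow_self]
      rcases hnew l with h | h
      · rw [h, natDegree_zero]; exact hd₀pos
      · exact h
    · apply le_of_eq
      rw [rdeg, rdeg]
      congr 1
      funext l
      rw [hVY, Matrix.updateRow_ne hi]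
  · refine ⟨i₀, Finset.mem_univ _, ?_⟩
    rw [rdeg, Finset.sup_lt_iff (by exact hd₀pos)]
    intro l _
    rw [hVY, Matrix.updateRow_self]
    rcases hnew l with h | h
    · rw [h, natDegree_zero]; exact hd₀pos
    · exact h

/-- every polynomial matrix with nonzero determinant is row-equivalent to a row reduced one -/
theorem exists_row_reduced (Y : Matrix (Fin n) (Fin n) k[X]) (hY : Y.det ≠ 0) :
    ∃ U : Matrix (Fin n) (Fin n) k[X], IsUnit U ∧ IsUnit (lead (U * Y)) := by
  induction hs : ∑ i, rdeg Y i using Nat.strong_induction_on generalizing Y with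
  | _ s ih =>
    by_cases hl : IsUnit (lead Y)
    · exact ⟨1, isUnit_one, by rwa [Matrix.one_mul]⟩
    · obtain ⟨V, hV, hlt⟩ := exists_step Y hY hl
      have hdet : (V * Y).det ≠ 0 := by
        rw [Matrix.det_mul]
        refine mul_ne_zero ?_ hY
        exact ((Matrix.isUnit_iff_isUnit_det _).mp hV).ne_zero
      obtain ⟨U, hU, hUl⟩ := ih _ (hs ▸ hlt) (V * Y) hdet rfl
      exact ⟨U * V, hU.mul hV, by rwa [Matrix.mul_assoc]⟩

end Groth.Agent.Lib.helper10.BirkhoffA
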