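import Groth.Agent.Lib.helper10.BirkhoffA

set_option autoImplicit false
set_option maxHeartbeats 800000

/-!
# Birkhoff factorization of invertible Laurent polynomial matrices over a field
-/

namespace Groth.Agent.Lib.helper10.BirkhoffB

open Polynomial LaurentPolynomial Matrix Groth.Agent.Lib.helper10.BirkhoffA

variable {k : Type*} [Field k] {n : ℕ}

theorem toLaurent_reflect (N : ℕ) (f : k[X]) (hf : f.natDegree ≤ N) :
    toLaurent (reflect N f) = invert (toLaurent f) * T (N : ℤ) := by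
  refine induction_with_natDegree_le
    (fun f => toLaurent (reflect N f) = invert (toLaurent f) * T (N : ℤ)) N ?_ ?_ ?_ f hf
  · simp
  · intro m r _ hm
    rw [reflect_C_mul_X_pow, revAt_le hm, Polynomial.toLaurent_C_mul_X_pow,
      Polynomial.toLaurent_C_mul_X_pow, map_mul, invert_C, invert_T, mul_assoc, ← T_add,
      Nat.cast_sub hm]
    congr 2
    ring
  · intro f g _ _ hf hg
    rw [reflect_add, map_add, map_add, map_add, add_mul, hf, hg]

theorem isUnit_of_isUnit_toLaurent (f : k[X]) (h : IsUnit (toLaurent f)) (h0 : f.coeff 0 ≠ 0) :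
    IsUnit f := by
  obtain ⟨g, hg⟩ := h.exists_right_inv
  obtain ⟨s, h', hh'⟩ := g.exists_T_pow
  have e : f * h' = X ^ s := by
    apply Polynomial.toLaurent_injective
    rw [map_mul, hh', ← mul_assoc, hg, one_mul, Polynomial.toLaurent_X_pow]
  have hdvd : f ∣ X ^ s := ⟨h', e.symm⟩
  obtain ⟨i, _, hi⟩ := (dvd_prime_pow Polynomial.prime_X s).mp hdvd
  rcases Nat.eq_zero_or_pos i with hi0 | hi0
  · rw [hi0, pow_zero] at hi
    exact hi.symm.isUnit isUnit_one
  · exfalso
    apply h0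
    have : X ∣ f := (dvd_pow_self X hi0.ne').trans hi.symm.dvd
    exact Polynomial.X_dvd_iff.mp this

theorem exists_factor_of_reduced (Y : Matrix (Fin n) (Fin n) k[X]) (hl : IsUnit (lead Y))
    (hYL : IsUnit (Y.map toLaurent)) :
    ∃ Q : Matrix (Fin n) (Fin n) k[X], IsUnit Q ∧
      Y.map toLaurent = Matrix.diagonal (fun i => (T (rdeg Y i : ℤ) : k[T;T⁻¹])) *
        (Q.map toLaurent).map invert := by
  classical
  let Q : Matrix (Fin n) (Fin n) k[X] := fun i j => reflect (rdeg Y i) (Y i j)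
  have hEq : Y.map toLaurent = Matrix.diagonal (fun i => (T (rdeg Y i : ℤ) : k[T;T⁻¹])) *
      (Q.map toLaurent).map invert := by
    apply Matrix.ext
    intro i j
    rw [Matrix.diagonal_mul, Matrix.map_apply, Matrix.map_apply, Matrix.map_apply]
    change toLaurent (Y i j) = T (rdeg Y i : ℤ) * invert (toLaurent (reflect (rdeg Y i) (Y i j)))
    rw [toLaurent_reflect _ _ (natDegree_le_rdeg Y i j), map_mul, involutive_invert, invert_T,
      mul_comm, mul_assoc, ← T_add, neg_add_cancel, T_zero, mul_one]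
  refine ⟨Q, ?_, hEq⟩
  rw [Matrix.isUnit_iff_isUnit_det]
  apply isUnit_of_isUnit_toLaurent
  · have h1 : IsUnit (Y.map toLaurent).det := (Matrix.isUnit_iff_isUnit_det _).mp hYL
    rw [hEq, Matrix.det_mul] at h1
    have h2 := isUnit_of_mul_isUnit_right h1
    have h3 : ((Q.map toLaurent).map invert).det = invert (toLaurent Q.det) := by
      rw [← RingHom.mapMatrix_apply (toLaurent : k[X] →+* k[T;T⁻¹]),
        show ((toLaurent : k[X] →+* k[T;T⁻¹]).mapMatrix Q).map (invert : k[T;T⁻¹] → k[T;T⁻¹]) =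
          ((invert : k[T;T⁻¹] ≃ₐ[k] k[T;T⁻¹]) : k[T;T⁻¹] →+* k[T;T⁻¹]).mapMatrix
            ((toLaurent : k[X] →+* k[T;T⁻¹]).mapMatrix Q) from rfl,
        ← RingHom.map_det, ← RingHom.map_det]
      rfl
    rw [h3] at h2
    have h4 := h2.map (invert : k[T;T⁻¹] ≃ₐ[k] k[T;T⁻¹])
    rwa [involutive_invert] at h4
  · rw [Polynomial.coeff_zero_eq_eval_zero]
    have : Q.det.eval 0 = (lead Y).det := by
      change (evalRingHom (0 : k)) Q.det = _
      rw [RingHom.map_det]
      congr 1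
      apply Matrix.ext
      intro i j
      change (reflect (rdeg Y i) (Y i j)).eval 0 = (Y i j).coeff (rdeg Y i)
      rw [← Polynomial.coeff_zero_eq_eval_zero, coeff_reflect, revAt_le (Nat.zero_le _),
        Nat.sub_zero]
    rw [this]
    exact ((Matrix.isUnit_iff_isUnit_det _).mp hl).ne_zero

/-- clearing denominators -/
theorem exists_polynomial_scaling (A : Matrix (Fin n) (Fin n) k[T;T⁻¹]) :
    ∃ (N : ℕ) (Y : Matrix (Fin n) (Fin n) k[X]),
      Y.map toLaurent = (T (N : ℤ) : k[T;T⁻¹]) • A := by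
  choose m f hf using fun i j => (A i j).exists_T_pow
  let N : ℕ := Finset.univ.sup (fun i => Finset.univ.sup (fun j => m i j))
  have hN : ∀ i j, m i j ≤ N := fun i j =>
    (Finset.le_sup (f := fun j => m i j) (Finset.mem_univ j)).trans
      (Finset.le_sup (f := fun i => Finset.univ.sup (fun j => m i j)) (Finset.mem_univ i))
  refine ⟨N, fun i j => f i j * X ^ (N - m i j), ?_⟩
  apply Matrix.ext
  intro i j
  rw [Matrix.map_apply, Matrix.smul_apply, smul_eq_mul]
  rw [map_mul, hf, Polynomial.toLaurent_X_pow, mul_assoc, ← T_add, mul_comm]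
  congr 2
  have := hN i j
  push_cast [Nat.cast_sub this]
  ring

theorem birkhoff (A : Matrix (Fin n) (Fin n) k[T;T⁻¹]) (hA : IsUnit A) :
    ∃ (P Q : Matrix (Fin n) (Fin n) k[X]) (d : Fin n → ℤ),
      IsUnit P ∧ IsUnit Q ∧ Antitone d ∧
        A = P.map toLaurent * Matrix.diagonal (fun i => (T (d i) : k[T;T⁻¹])) *
          (Q.map toLaurent).map invert := by
  classical
  obtain ⟨N, Y₀, hY₀⟩ := exists_polynomial_scaling A
  have hTN : IsUnit ((T (N : ℤ) : k[T;T⁻¹]) • (1 : Matrix (Fin n) (Fin n) k[T;T⁻¹])) := by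
    rw [Matrix.isUnit_iff_isUnit_det, Matrix.det_smul, Matrix.det_one, mul_one]
    exact (isUnit_T _).pow _
  have hY₀L : IsUnit (Y₀.map toLaurent) := by
    rw [hY₀, show (T (N : ℤ) : k[T;T⁻¹]) • A = ((T (N : ℤ) : k[T;T⁻¹]) • (1 : Matrix (Fin n) (Fin n) k[T;T⁻¹])) * A by
      rw [Matrix.smul_mul, Matrix.one_mul]]
    exact hTN.mul hA
  have hY₀det : Y₀.det ≠ 0 := by
    intro h
    have h1 : IsUnit (Y₀.map toLaurent).det := (Matrix.isUnit_iff_isUnit_det _).mp hY₀L
    rw [← RingHom.mapMatrix_apply (toLaurent : k[X] →+* k[T;T⁻¹]), ← RingHom.map_det, h,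
      map_zero] at h1
    exact not_isUnit_zero h1
  obtain ⟨U, hU, hUl⟩ := exists_row_reduced Y₀ hY₀det
  have hUL : IsUnit (U.map toLaurent) := by
    rw [← RingHom.mapMatrix_apply (toLaurent : k[X] →+* k[T;T⁻¹])]
    exact hU.map _
  have hYL : IsUnit ((U * Y₀).map toLaurent) := by
    rw [Matrix.map_mul]
    exact hUL.mul hY₀L
  obtain ⟨Q, hQ, hEq⟩ := exists_factor_of_reduced (U * Y₀) hUl hYL
  -- the inverse of `U`
  obtain ⟨P, hUP, hPU⟩ : ∃ P : Matrix (Fin n) (Fin n) k[X], U * P = 1 ∧ P * U = 1 :=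
    ⟨↑(hU.unit⁻¹), hU.mul_val_inv, hU.val_inv_mul⟩
  have hP : IsUnit P := ⟨⟨P, U, hPU, hUP⟩, rfl⟩
  have hPL : P.map toLaurent * U.map toLaurent = 1 := by
    rw [← Matrix.map_mul, hPU]
    exact Matrix.map_one _ (map_zero _) (map_one _)
  set d' : Fin n → ℤ := fun i => (rdeg (U * Y₀) i : ℤ) - N with hd'
  have hA' : A = P.map toLaurent * Matrix.diagonal (fun i => (T (d' i) : k[T;T⁻¹])) *
      (Q.map toLaurent).map invert := by
    have h1 : U.map toLaurent * ((T (N : ℤ) : k[T;T⁻¹]) • A) =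
        Matrix.diagonal (fun i => (T (rdeg (U * Y₀) i : ℤ) : k[T;T⁻¹])) *
          (Q.map toLaurent).map invert := by
      rw [← hY₀, ← Matrix.map_mul, hEq]
    have h2 : (T (N : ℤ) : k[T;T⁻¹]) • A = P.map toLaurent *
        (Matrix.diagonal (fun i => (T (rdeg (U * Y₀) i : ℤ) : k[T;T⁻¹])) *
          (Q.map toLaurent).map invert) := by
      rw [← h1, ← Matrix.mul_assoc, hPL, Matrix.one_mul]
    have h3 : A = (T (-(N : ℤ)) : k[T;T⁻¹]) • ((T (N : ℤ) : k[T;T⁻¹]) • A) := by
      rw [smul_smul, ← T_add, neg_add_cancel, T_zero, one_smul]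
    rw [h3, h2, Matrix.mul_assoc, ← Matrix.mul_smul, ← Matrix.smul_mul]
    congr 2
    apply Matrix.ext
    intro i j
    rw [Matrix.smul_apply, Matrix.diagonal_apply, Matrix.diagonal_apply]
    split_ifs with h
    · rw [smul_eq_mul, ← T_add, hd']
      congr 1
      ring
    · rw [smul_zero]
  -- sorting
  let σ : Equiv.Perm (Fin n) := Tuple.sort (fun i => - d' i)
  have hmono : Monotone ((fun i => - d' i) ∘ σ) := Tuple.monotone_sort _
  refine ⟨P.submatrix id σ, Q.submatrix σ id, d' ∘ σ, ?_, ?_, ?_, ?_⟩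
  · exact (Matrix.isUnit_submatrix_equiv (Equiv.refl _) σ).mpr hP
  · exact (Matrix.isUnit_submatrix_equiv σ (Equiv.refl _)).mpr hQ
  · intro a b hab
    have := hmono hab
    simp only [Function.comp_apply, neg_le_neg_iff] at this
    exact this
  · rw [hA']
    have e1 : (P.submatrix id σ).map toLaurent = (P.map toLaurent).submatrix id σ := rfl
    have e2 : ((Q.submatrix σ id).map toLaurent).map invert =
        ((Q.map toLaurent).map invert).submatrix σ id := rfl
    have e3 : Matrix.diagonal (fun i => (T ((d' ∘ σ) i) : k[T;T⁻¹])) =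
        (Matrix.diagonal (fun i => (T (d' i) : k[T;T⁻¹]))).submatrix σ σ := by
      rw [Matrix.submatrix_diagonal_equiv]
      rfl
    rw [e1, e2, e3]
    rw [show (id : Fin n → Fin n) = ⇑(Equiv.refl (Fin n)) from rfl,
      Matrix.submatrix_mul_equiv, Matrix.submatrix_mul_equiv]
    rfl

end Groth.Agent.Lib.helper10.BirkhoffB
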