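import Mathlib

set_option maxHeartbeats 400000
set_option autoImplicit false
open scoped TensorProduct
universe u v

namespace Groth.Agent.Lib.helper10.C2Perm

variable {V : Type v} [AddCommGroup V] [Module (ZMod 2) V]

lemma add_self' (x : V) : x + x = 0 := by
  rw [← two_smul (ZMod 2) x]
  have : (2 : ZMod 2) = 0 := by decide
  rw [this, zero_smul]

lemma neg_eq' (x : V) : -x = x := by
  rw [neg_eq_iff_add_eq_zero]; exact add_self' x

/-- Structure of `𝔽₂[C₂]`-modules: an involution permutes a suitable basis. -/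
theorem exists_perm_basis [Module.Finite (ZMod 2) V] (σ : V →ₗ[ZMod 2] V)
    (hσ : ∀ v, σ (σ v) = v) :
    ∃ (n : ℕ) (B : Module.Basis (Fin n) (ZMod 2) V) (π : Fin n → Fin n),
      (∀ i, π (π i) = i) ∧ ∀ i, σ (B i) = B (π i) := by
  classical
  let N : V →ₗ[ZMod 2] V := σ + LinearMap.id
  have hN : ∀ v, N v = σ v + v := fun v => rfl
  have hNσ : ∀ v, N (σ v) = N v := by
    intro v; rw [hN, hN, hσ, add_comm]
  have hσfix : ∀ v, N v = 0 → σ v = v := by
    intro v hv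
    rw [hN] at hv
    exact (eq_neg_of_add_eq_zero_left hv).trans (neg_eq' v)
  obtain ⟨U, hU⟩ := exists_isCompl (LinearMap.ker N)
  obtain ⟨C', hC'⟩ := exists_isCompl (LinearMap.range N)
  let C : Submodule (ZMod 2) V := LinearMap.ker N ⊓ C'
  let Φ : (C × U × U) →ₗ[ZMod 2] V :=
    C.subtype.coprod (U.subtype.coprod (σ ∘ₗ U.subtype))
  have hΦ : ∀ (c : C) (u u' : U), Φ (c, u, u') = (c : V) + ((u : V) + σ (u' : V)) := by
    intro c u u'
    simp [Φ, LinearMap.coprod_apply]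
  have hRK : LinearMap.range N ≤ LinearMap.ker N := by
    rintro _ ⟨v, rfl⟩
    rw [LinearMap.mem_ker, hN, hN, map_add, hσ]
    have : v + σ v + (σ v + v) = (v + v) + (σ v + σ v) := by abel
    rw [this, add_self', add_self', add_zero]
  have hinj : Function.Injective Φ := by
    rw [injective_iff_map_eq_zero]
    rintro ⟨c, u, u'⟩ h
    rw [hΦ] at h
    have hc : N (c : V) = 0 := c.2.1
    have h1 : N ((u : V) + (u' : V)) = 0 := by
      have := congrArg N h
      rw [map_add, map_add, hc, zero_add, hNσ, map_zero] at this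
      rw [map_add]; exact this
    have h2 : (u : V) + (u' : V) = 0 := by
      have hmem : (u : V) + (u' : V) ∈ LinearMap.ker N ⊓ U := ⟨h1, U.add_mem u.2 u'.2⟩
      rw [hU.inf_eq_bot] at hmem
      exact hmem
    have h3 : (u' : V) = (u : V) := by
      rw [← neg_eq' (u : V)]
      exact eq_neg_of_add_eq_zero_right h2
    rw [h3] at h
    have h4 : (c : V) + N (u : V) = 0 := by
      rw [hN, add_comm (σ (u : V))]; exact h
    have h5 : (c : V) = N (u : V) := by
      rw [← neg_eq' (N (u : V))]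
      exact eq_neg_of_add_eq_zero_left h4
    have h6 : (c : V) = 0 := by
      have hmem : (c : V) ∈ LinearMap.range N ⊓ C' := ⟨h5 ▸ LinearMap.mem_range_self N _, c.2.2⟩
      rw [hC'.inf_eq_bot] at hmem
      exact hmem
    have h7 : (u : V) = 0 := by
      have hmem : (u : V) ∈ LinearMap.ker N ⊓ U := ⟨by show N (u : V) = 0; rw [← h5, h6], u.2⟩
      rw [hU.inf_eq_bot] at hmem
      exact hmem
    have h8 : (u' : V) = 0 := h3.trans h7
    ext
    · exact h6
    · exact h7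
    · exact h8
  have hsurj : Function.Surjective Φ := by
    intro v
    have hv : v ∈ LinearMap.ker N ⊔ U := by rw [hU.sup_eq_top]; trivial
    obtain ⟨k, hk, u, hu, rfl⟩ := Submodule.mem_sup.1 hv
    have hk' : k ∈ LinearMap.range N ⊔ C' := by rw [hC'.sup_eq_top]; trivial
    obtain ⟨r, hr, c', hc', rfl⟩ := Submodule.mem_sup.1 hk'
    obtain ⟨w, rfl⟩ := hr
    have hw : w ∈ LinearMap.ker N ⊔ U := by rw [hU.sup_eq_top]; trivial
    obtain ⟨k', hk2, u'', hu'', rfl⟩ := Submodule.mem_sup.1 hw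
    have hc'K : c' ∈ LinearMap.ker N := by
      have : c' = (N (k' + u'') + c') - N (k' + u'') := by abel
      rw [this]
      exact Submodule.sub_mem _ hk (hRK (LinearMap.mem_range_self N _))
    refine ⟨(⟨c', hc'K, hc'⟩, ⟨u + u'', U.add_mem hu hu''⟩, ⟨u'', hu''⟩), ?_⟩
    rw [hΦ]
    simp only
    rw [map_add, LinearMap.mem_ker.1 hk2, zero_add, hN]
    abel
  let e : (C × U × U) ≃ₗ[ZMod 2] V := LinearEquiv.ofBijective Φ ⟨hinj, hsurj⟩
  let bC := Module.Free.chooseBasis (ZMod 2) C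
  let bU := Module.Free.chooseBasis (ZMod 2) U
  let B₀ := (bC.prod (bU.prod bU)).map e
  let π₀ : Module.Free.ChooseBasisIndex (ZMod 2) C ⊕
      (Module.Free.ChooseBasisIndex (ZMod 2) U ⊕ Module.Free.ChooseBasisIndex (ZMod 2) U) →
      Module.Free.ChooseBasisIndex (ZMod 2) C ⊕
      (Module.Free.ChooseBasisIndex (ZMod 2) U ⊕ Module.Free.ChooseBasisIndex (ZMod 2) U) :=
    Sum.map id Sum.swap
  have hπ₀ : ∀ i, π₀ (π₀ i) = i := by
    rintro (i | i | i) <;> rfl
  have hB1 : ∀ i, B₀ (Sum.inl i) = (bC i : V) := by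
    intro i
    simp [B₀, e, hΦ, Module.Basis.prod_apply]
  have hB2 : ∀ j, B₀ (Sum.inr (Sum.inl j)) = (bU j : V) := by
    intro j
    simp [B₀, e, hΦ, Module.Basis.prod_apply]
  have hB3 : ∀ j, B₀ (Sum.inr (Sum.inr j)) = σ (bU j : V) := by
    intro j
    simp [B₀, e, hΦ, Module.Basis.prod_apply]
  have hσB : ∀ i, σ (B₀ i) = B₀ (π₀ i) := by
    rintro (i | j | j)
    · rw [hB1]
      show _ = B₀ (Sum.inl i)
      rw [hB1]
      exact hσfix _ (bC i).2.1
    · rw [hB2]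
      show _ = B₀ (Sum.inr (Sum.inr j))
      rw [hB3]
    · rw [hB3, hσ]
      show _ = B₀ (Sum.inr (Sum.inl j))
      rw [hB2]
  let eq := Fintype.equivFin (Module.Free.ChooseBasisIndex (ZMod 2) C ⊕
      (Module.Free.ChooseBasisIndex (ZMod 2) U ⊕ Module.Free.ChooseBasisIndex (ZMod 2) U))
  refine ⟨_, B₀.reindex eq, fun i => eq (π₀ (eq.symm i)), ?_, ?_⟩
  · intro i
    simp [hπ₀]
  · intro i
    rw [Module.Basis.reindex_apply, hσB, Module.Basis.reindex_apply, Equiv.symm_apply_apply]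


variable (V) in
abbrev Na : Submodule (ZMod 2) (V ⊗[ZMod 2] V) :=
  Submodule.span (ZMod 2) (Set.range fun v : V => v ⊗ₜ[ZMod 2] v)

variable (V) in
abbrev Ns : Submodule (ZMod 2) (V ⊗[ZMod 2] V) :=
  Submodule.span (ZMod 2) (Set.range fun p : V × V => p.1 ⊗ₜ[ZMod 2] p.2 + p.2 ⊗ₜ[ZMod 2] p.1)

lemma Ns_le_Na : Ns V ≤ Na V := by
  rw [Submodule.span_le]
  rintro _ ⟨⟨x, y⟩, rfl⟩
  have h : x ⊗ₜ[ZMod 2] y + y ⊗ₜ[ZMod 2] x =
      (x + y) ⊗ₜ[ZMod 2] (x + y) - x ⊗ₜ[ZMod 2] x - y ⊗ₜ[ZMod 2] y := by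
    simp only [TensorProduct.add_tmul, TensorProduct.tmul_add]
    abel
  simp only [SetLike.mem_coe]
  rw [h]
  exact Submodule.sub_mem _ (Submodule.sub_mem _ (Submodule.subset_span ⟨x + y, rfl⟩)
    (Submodule.subset_span ⟨x, rfl⟩)) (Submodule.subset_span ⟨y, rfl⟩)

lemma sq_mem (x : V) : x ⊗ₜ[ZMod 2] x ∈ Na V := Submodule.subset_span ⟨x, rfl⟩

lemma symm_mem (x y : V) : x ⊗ₜ[ZMod 2] y + y ⊗ₜ[ZMod 2] x ∈ Ns V :=
  Submodule.subset_span ⟨(x, y), rfl⟩

section part2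
variable {n : ℕ} (B : Module.Basis (Fin n) (ZMod 2) V)

noncomputable def cc (i j : Fin n) : V ⊗[ZMod 2] V →ₗ[ZMod 2] ZMod 2 :=
  (B.tensorProduct B).coord (i, j)

lemma cc_tmul (i j : Fin n) (x y : V) : cc B i j (x ⊗ₜ y) = B.repr x i * B.repr y j := by
  simp [cc, mul_comm]

noncomputable def W : Submodule (ZMod 2) (V ⊗[ZMod 2] V) := ⨅ i, LinearMap.ker (cc B i i)

lemma mem_W (z : V ⊗[ZMod 2] V) : z ∈ W B ↔ ∀ i, cc B i i z = 0 := by
  simp [W, Submodule.mem_iInf]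

lemma Ns_le_W : Ns V ≤ W B := by
  rw [Submodule.span_le]
  rintro _ ⟨⟨x, y⟩, rfl⟩
  rw [SetLike.mem_coe, mem_W]
  intro i
  rw [map_add, cc_tmul, cc_tmul, mul_comm (B.repr y i)]
  exact CharTwo.add_self_eq_zero _

lemma Na_symm (z : V ⊗[ZMod 2] V) (hz : z ∈ Na V) (i j : Fin n) :
    cc B i j z = cc B j i z := by
  induction hz using Submodule.span_induction with
  | mem z hz =>
    obtain ⟨v, rfl⟩ := hz
    rw [cc_tmul, cc_tmul, mul_comm]
  | zero => simp
  | add a c _ _ ha hc => rw [map_add, map_add, ha, hc]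
  | smul c a _ ha => rw [map_smul, map_smul, ha]

lemma cc_map (φ : V →ₗ[ZMod 2] V) (π : Fin n → Fin n) (hφ : ∀ i, φ (B i) = B (π i))
    (hπ : Function.Injective π) (i j : Fin n) (z : V ⊗[ZMod 2] V) :
    cc B (π i) (π j) (TensorProduct.map φ φ z) = cc B i j z := by
  have : (cc B (π i) (π j)) ∘ₗ (TensorProduct.map φ φ) = cc B i j := by
    apply (B.tensorProduct B).ext
    rintro ⟨k, l⟩
    simp only [LinearMap.comp_apply, Module.Basis.tensorProduct_apply, TensorProduct.map_tmul,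
      hφ, cc_tmul, Module.Basis.repr_self, Finsupp.single_apply, hπ.eq_iff]
  exact LinearMap.congr_fun this z

lemma W_stable (φ : V →ₗ[ZMod 2] V) (π : Fin n → Fin n) (hφ : ∀ i, φ (B i) = B (π i))
    (hπ : ∀ i, π (π i) = i) (z : V ⊗[ZMod 2] V) (hz : z ∈ W B) :
    TensorProduct.map φ φ z ∈ W B := by
  rw [mem_W] at hz ⊢
  intro j
  have hinj : Function.Injective π := Function.Involutive.injective hπ
  have := cc_map B φ π hφ hinj (π j) (π j) z
  rw [hπ j] at this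
  rw [this]
  exact hz (π j)

lemma inf_le : W B ⊓ Na V ≤ Ns V := by
  intro z hz
  have hsym := Na_symm B z hz.2
  have hdiag := (mem_W B z).1 hz.1
  have h1 : z = ∑ p : Fin n × Fin n, cc B p.1 p.2 z • (B p.1 ⊗ₜ[ZMod 2] B p.2) := by
    conv_lhs => rw [← (B.tensorProduct B).sum_repr z]
    refine Finset.sum_congr rfl fun p _ => ?_
    rcases p with ⟨i, j⟩
    simp [cc, Module.Basis.tensorProduct_apply]
  have h2 : ∀ p : Fin n × Fin n, cc B p.1 p.2 z • (B p.1 ⊗ₜ[ZMod 2] B p.2) =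
      (if p.1 < p.2 then cc B p.1 p.2 z • (B p.1 ⊗ₜ[ZMod 2] B p.2) else 0) +
      (if p.2 < p.1 then cc B p.1 p.2 z • (B p.1 ⊗ₜ[ZMod 2] B p.2) else 0) := by
    intro p
    rcases lt_trichotomy p.1 p.2 with h | h | h
    · rw [if_pos h, if_neg (not_lt_of_gt h), add_zero]
    · rw [h, hdiag, zero_smul, if_neg (lt_irrefl _), add_zero]
    · rw [if_pos h, if_neg (not_lt_of_gt h), zero_add]
  have h3 : ∑ p : Fin n × Fin n,
      (if p.2 < p.1 then cc B p.1 p.2 z • (B p.1 ⊗ₜ[ZMod 2] B p.2) else 0) =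
      ∑ p : Fin n × Fin n,
      (if p.1 < p.2 then cc B p.2 p.1 z • (B p.2 ⊗ₜ[ZMod 2] B p.1) else 0) := by
    rw [← Equiv.sum_comp (Equiv.prodComm (Fin n) (Fin n))]
    rfl
  rw [h1, Finset.sum_congr rfl (fun p _ => h2 p), Finset.sum_add_distrib, h3,
    ← Finset.sum_add_distrib]
  refine Submodule.sum_mem _ fun p _ => ?_
  by_cases h : p.1 < p.2
  · rw [if_pos h, if_pos h, hsym p.2 p.1, ← smul_add]
    exact Submodule.smul_mem _ _ (symm_mem _ _)
  · rw [if_neg h, if_neg h, add_zero]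
    exact Submodule.zero_mem _

lemma sup_top : W B ⊔ Na V = ⊤ := by
  rw [eq_top_iff]
  intro z _
  have hd : (∑ i, cc B i i z • (B i ⊗ₜ[ZMod 2] B i)) ∈ Na V :=
    Submodule.sum_mem _ fun i _ => Submodule.smul_mem _ _ (sq_mem _)
  have hzd : z - (∑ i, cc B i i z • (B i ⊗ₜ[ZMod 2] B i)) ∈ W B := by
    rw [mem_W]
    intro j
    rw [map_sub, map_sum]
    simp only [map_smul, cc_tmul, Module.Basis.repr_self, Finsupp.single_apply, smul_eq_mul]
    simp
  have : z = (z - (∑ i, cc B i i z • (B i ⊗ₜ[ZMod 2] B i))) +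
      (∑ i, cc B i i z • (B i ⊗ₜ[ZMod 2] B i)) := by abel
  rw [this]
  exact Submodule.add_mem_sup hzd hd

end part2

theorem main (G : Type u) [Group G] (hG : Nat.card G = 2) [Module.Finite (ZMod 2) V]
    (ρ : Representation (ZMod 2) G V) :
    ∃ W : Submodule (ZMod 2) (V ⊗[ZMod 2] V),
      (∀ g : G, ∀ w ∈ W, ρ.tprod ρ g w ∈ W) ∧ W ⊓ Na V = Ns V ∧ W ⊔ Na V = ⊤ := by
  obtain ⟨g₀, hg₀, huniq⟩ := (Nat.card_eq_two_iff' (1 : G)).1 hG
  have hsq : g₀ * g₀ = 1 := by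
    by_contra h
    have := huniq _ h
    exact hg₀ (by simpa using this)
  obtain ⟨n, B, π, hπ, hσB⟩ := exists_perm_basis (ρ g₀) (fun v => by
    rw [← Module.End.mul_apply, ← map_mul, hsq, map_one]; rfl)
  refine ⟨W B, ?_, le_antisymm (inf_le B) (le_inf (Ns_le_W B) Ns_le_Na), sup_top B⟩
  intro g w hw
  rw [Representation.tprod_apply]
  by_cases hg : g = 1
  · subst hg
    exact W_stable B (ρ 1) id (fun i => by rw [map_one]; rfl) (fun i => rfl) w hw
  · have := huniq g hg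
    subst this
    exact W_stable B (ρ g) π hσB hπ w hw

end Groth.Agent.Lib.helper10.C2Perm
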