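import Mathlib

/-!
# A local form of the Chase–Harrison–Rosenberg theorem

A finite group `G` acts on `R` with invariants `B`.  From an element `E : R ⊗[B] R` with
`φ₁ E = w` and `φ_h E = 0` for `h ≠ 1` (where `φ_g (a ⊗ b) = a * g • b`) we deduce that
`R ⊗[B] B_s` is flat and formally unramified over `B`, where `s` is the norm of `w`.
-/

set_option autoImplicit false
set_option linter.unusedSectionVars false

namespace Groth.Agent.Lib.helper10.CHR

open TensorProduct

variable {B R : Type*} [CommRing B] [CommRing R] [Algebra B R] {G : Type*} [Group G]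
  [MulSemiringAction G R] [SMulCommClass G B R]

/-- `a ⊗ b ↦ a * g • b` -/
noncomputable def phi (g : G) : R ⊗[B] R →ₐ[B] R :=
  Algebra.TensorProduct.lift (AlgHom.id B R) (MulSemiringAction.toAlgHom B R g)
    (fun _ _ => Commute.all _ _)

@[simp]
theorem phi_tmul (g : G) (a b : R) : phi (B := B) g (a ⊗ₜ b) = a * g • b := by
  simp [phi]

theorem exists_E_of_mem (g : G) {u : R}
    (hu : u ∈ Ideal.span {y : R | ∃ x : R, y = g • x - x}) :
    ∃ E : R ⊗[B] R, phi (1 : G) E = u ∧ phi g E = 0 := by
  induction hu using Submodule.span_induction with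
  | mem y hy =>
    obtain ⟨x, rfl⟩ := hy
    refine ⟨(g • x) ⊗ₜ 1 - 1 ⊗ₜ x, ?_, ?_⟩
    · simp [one_smul]
    · simp
  | zero => exact ⟨0, by simp, by simp⟩
  | add x y _ _ hx hy =>
    obtain ⟨E₁, h1, h2⟩ := hx
    obtain ⟨E₂, h3, h4⟩ := hy
    exact ⟨E₁ + E₂, by simp [h1, h3], by simp [h2, h4]⟩
  | smul r x _ hx =>
    obtain ⟨E, h1, h2⟩ := hx
    exact ⟨(r ⊗ₜ 1) * E, by simp [h1], by simp [h2]⟩

theorem exists_E [Fintype G] [DecidableEq G] (u : G → R)
    (hu : ∀ g, g ≠ 1 → u g ∈ Ideal.span {y : R | ∃ x : R, y = g • x - x}) :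
    ∃ E : R ⊗[B] R, phi (1 : G) E = ∏ g ∈ Finset.univ.erase (1 : G), u g ∧
      ∀ h : G, h ≠ 1 → phi h E = 0 := by
  have : ∀ g : G, ∃ E : R ⊗[B] R, g ≠ 1 → (phi (1 : G) E = u g ∧ phi g E = 0) := by
    intro g
    by_cases hg : g = 1
    · exact ⟨0, fun h => absurd hg h⟩
    · obtain ⟨E, h1, h2⟩ := exists_E_of_mem (B := B) g (hu g hg)
      exact ⟨E, fun _ => ⟨h1, h2⟩⟩
  choose E hE using this
  refine ⟨∏ g ∈ Finset.univ.erase (1 : G), E g, ?_, ?_⟩
  · rw [map_prod]
    refine Finset.prod_congr rfl fun g hg => ?_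
    exact (hE g (Finset.ne_of_mem_erase hg)).1
  · intro h hh
    rw [map_prod]
    exact Finset.prod_eq_zero (Finset.mem_erase.2 ⟨hh, Finset.mem_univ h⟩) (hE h hh).2

section Trace

variable [Fintype G] [Algebra.IsInvariant B R G] (hinj : Function.Injective (algebraMap B R))

theorem smul_sum_smul (h : G) (r : R) : h • ∑ g : G, g • r = ∑ g : G, g • r := by
  rw [Finset.smul_sum]
  simp only [← mul_smul]
  exact Fintype.sum_equiv (Equiv.mulLeft h) _ _ (fun g => rfl)

variable (B G) in
theorem exists_tr (r : R) : ∃ b : B, algebraMap B R b = ∑ g : G, g • r :=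
  Algebra.IsInvariant.isInvariant (A := B) (G := G) _ (fun h => smul_sum_smul h r)

include hinj in
variable (G) in
/-- The trace `R → B`. -/
noncomputable def tr : R →ₗ[B] B where
  toFun r := (exists_tr B G r).choose
  map_add' r r' := by
    apply hinj
    rw [map_add, (exists_tr B G r).choose_spec, (exists_tr B G r').choose_spec,
      (exists_tr B G (r + r')).choose_spec]
    simp [smul_add, Finset.sum_add_distrib]
  map_smul' b r := by
    apply hinj
    rw [RingHom.id_apply, smul_eq_mul, map_mul, (exists_tr B G r).choose_spec,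
      (exists_tr B G (b • r)).choose_spec, Finset.mul_sum]
    refine Finset.sum_congr rfl fun g _ => ?_
    rw [smul_comm, Algebra.smul_def]

theorem algebraMap_tr (r : R) : algebraMap B R (tr G hinj r) = ∑ g : G, g • r :=
  (exists_tr B G r).choose_spec

end Trace

section Identities

variable [Fintype G] [DecidableEq G] [Algebra.IsInvariant B R G]
  (hinj : Function.Injective (algebraMap B R))
  (S : Finset (R × R)) (w : R)
  (h1 : phi (B := B) (1 : G) (∑ i ∈ S, i.1 ⊗ₜ[B] i.2) = w)
  (hE : ∀ h : G, h ≠ 1 → phi (B := B) h (∑ i ∈ S, i.1 ⊗ₜ[B] i.2) = 0)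

include h1 hE in
theorem sum_tr_mul (r : R) :
    ∑ i ∈ S, algebraMap B R (tr G hinj (i.2 * r)) * i.1 = w * r := by
  have hphi : ∀ g : G, phi (B := B) g (∑ i ∈ S, i.1 ⊗ₜ[B] i.2) = ∑ i ∈ S, i.1 * g • i.2 := by
    intro g
    simp [map_sum]
  calc ∑ i ∈ S, algebraMap B R (tr G hinj (i.2 * r)) * i.1
      = ∑ i ∈ S, ∑ g : G, g • r * (i.1 * g • i.2) := by
        refine Finset.sum_congr rfl fun i _ => ?_
        rw [algebraMap_tr, Finset.sum_mul]
        refine Finset.sum_congr rfl fun g _ => ?_
        rw [smul_mul']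
        ring
    _ = ∑ g : G, g • r * phi (B := B) g (∑ i ∈ S, i.1 ⊗ₜ[B] i.2) := by
        rw [Finset.sum_comm]
        refine Finset.sum_congr rfl fun g _ => ?_
        rw [hphi, Finset.mul_sum]
    _ = (1 : G) • r * w := by
        rw [Finset.sum_eq_single (1 : G), h1]
        · intro g _ hg
          rw [hE g hg, mul_zero]
        · simp
    _ = w * r := by rw [one_smul, mul_comm]

include hinj h1 hE in
theorem one_tmul_mul (z : R ⊗[B] R) :
    ((1 : R) ⊗ₜ[B] w) * z = ∑ i ∈ S, ∑ g : G, (g • i.2 * phi (B := B) g z) ⊗ₜ[B] i.1 := by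
  induction z using TensorProduct.induction_on with
  | zero => simp
  | tmul a b =>
    rw [Algebra.TensorProduct.tmul_mul_tmul, one_mul, ← sum_tr_mul hinj S w h1 hE b,
      TensorProduct.tmul_sum]
    refine Finset.sum_congr rfl fun i _ => ?_
    rw [← Algebra.smul_def, TensorProduct.tmul_smul, TensorProduct.smul_tmul',
      Algebra.smul_def, algebraMap_tr, Finset.sum_mul, TensorProduct.sum_tmul]
    refine Finset.sum_congr rfl fun g _ => ?_
    rw [phi_tmul, smul_mul']
    congr 1
    ring
  | add x y hx hy =>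
    rw [mul_add, hx, hy, ← Finset.sum_add_distrib]
    refine Finset.sum_congr rfl fun i _ => ?_
    rw [← Finset.sum_add_distrib]
    refine Finset.sum_congr rfl fun g _ => ?_
    rw [map_add, mul_add, TensorProduct.add_tmul]

include hinj h1 hE in
theorem one_tmul_mul_eq_zero (z : R ⊗[B] R) (hz : ∀ g : G, phi (B := B) g z = 0) :
    ((1 : R) ⊗ₜ[B] w) * z = 0 := by
  rw [one_tmul_mul hinj S w h1 hE z]
  simp [hz]

include hinj h1 hE in
theorem flat_tensor_away (s : B) (w' : R) (hs : w * w' = algebraMap B R s) :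
    Module.Flat B (R ⊗[B] Localization.Away s) := by
  let α : R →ₗ[B] (S → B) :=
    LinearMap.pi (fun i => (tr G hinj).comp (LinearMap.mulLeft B i.1.2))
  let β : (S → B) →ₗ[B] R := ∑ i : S, (LinearMap.proj i).smulRight i.1.1
  have hβα : β ∘ₗ α = LinearMap.mulLeft B w := by
    ext r
    have := sum_tr_mul hinj S w h1 hE r
    rw [← Finset.sum_coe_sort] at this
    simp only [LinearMap.coe_comp, Function.comp_apply, LinearMap.mulLeft_apply, β, α,
      LinearMap.sum_apply, LinearMap.smulRight_apply, LinearMap.proj_apply,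
      LinearMap.pi_apply]
    rw [← this]
    refine Finset.sum_congr rfl fun i _ => ?_
    rw [Algebra.smul_def]
  have hmul : ∀ x : R ⊗[B] Localization.Away s,
      (LinearMap.mulLeft B w).rTensor (Localization.Away s) x = (w ⊗ₜ[B] 1) * x := by
    intro x
    induction x using TensorProduct.induction_on with
    | zero => simp
    | tmul r c => simp [Algebra.TensorProduct.tmul_mul_tmul]
    | add x y hx hy => rw [map_add, hx, hy, mul_add]
  have hunit : (w' ⊗ₜ[B] IsLocalization.Away.invSelf (S := Localization.Away s) s) *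
      (w ⊗ₜ[B] (1 : Localization.Away s)) = 1 := by
    rw [Algebra.TensorProduct.tmul_mul_tmul, mul_comm w' w, hs, mul_one,
      Algebra.algebraMap_eq_smul_one, TensorProduct.smul_tmul, Algebra.smul_def,
      IsLocalization.Away.mul_invSelf]
    rfl
  refine Module.Flat.of_retract (M := (S → B) ⊗[B] Localization.Away s)
    (α.rTensor (Localization.Away s))
    ((LinearMap.mulLeft B (w' ⊗ₜ[B] IsLocalization.Away.invSelf (S := Localization.Away s) s)).comp
      (β.rTensor (Localization.Away s))) ?_
  refine LinearMap.ext fun x => ?_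
  simp only [LinearMap.coe_comp, Function.comp_apply, LinearMap.id_coe, id_eq,
    LinearMap.mulLeft_apply]
  rw [← LinearMap.comp_apply, ← LinearMap.rTensor_comp, hβα, hmul, ← mul_assoc, hunit, one_mul]

include hinj h1 hE in
theorem sq_smul_D (r : R) : (w * w) • KaehlerDifferential.D B R r = 0 := by
  have hφ1 : ∀ z : R ⊗[B] R, Algebra.TensorProduct.lmul' B z = phi (B := B) (1 : G) z := by
    intro z
    induction z using TensorProduct.induction_on with
    | zero => simp
    | tmul a b => simp
    | add x y hx hy => rw [map_add, map_add, hx, hy]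
  have hδ := KaehlerDifferential.one_smul_sub_smul_one_mem_ideal B r
  have ha0 : ((1 : R) ⊗ₜ[B] w) * ((∑ i ∈ S, i.1 ⊗ₜ[B] i.2) * ((1 : R) ⊗ₜ[B] r - r ⊗ₜ[B] 1)) = 0 := by
    apply one_tmul_mul_eq_zero hinj S w h1 hE
    intro g
    rw [map_mul]
    by_cases hg : g = 1
    · subst hg
      simp
    · rw [hE g hg, zero_mul]
  have hmem : ((1 : R) ⊗ₜ[B] w) * (∑ i ∈ S, i.1 ⊗ₜ[B] i.2) - (w * w) ⊗ₜ[B] (1 : R) ∈
      KaehlerDifferential.ideal B R := by
    rw [KaehlerDifferential.ideal, RingHom.mem_ker, map_sub, map_mul, hφ1 (∑ i ∈ S, _), h1]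
    simp
  have e1 : (((1 : R) ⊗ₜ[B] w) * (∑ i ∈ S, i.1 ⊗ₜ[B] i.2)) • KaehlerDifferential.D B R r = 0 := by
    have : (((1 : R) ⊗ₜ[B] w) * (∑ i ∈ S, i.1 ⊗ₜ[B] i.2)) •
        (⟨(1 : R) ⊗ₜ[B] r - r ⊗ₜ[B] 1, hδ⟩ : KaehlerDifferential.ideal B R) = 0 := by
      apply Subtype.ext
      simp only [SetLike.val_smul, smul_eq_mul, ZeroMemClass.coe_zero]
      rw [mul_assoc]
      exact ha0
    rw [KaehlerDifferential.D_apply]
    refine ((KaehlerDifferential.ideal B R).toCotangent.map_smul _ _).symm.trans ?_
    rw [this]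
    exact map_zero _
  have e2 := Ideal.Cotangent.smul_eq_zero_of_mem hmem (KaehlerDifferential.D B R r)
  rw [sub_smul, sub_eq_zero] at e2
  rw [← algebraMap_smul (R ⊗[B] R) (w * w) (KaehlerDifferential.D B R r)]
  exact e2.symm.trans e1

include hinj h1 hE in
theorem sq_smul_kaehler (ω : Ω[R⁄B]) : (w * w) • ω = 0 := by
  have hω : ω ∈ Submodule.span R (Set.range (KaehlerDifferential.D B R)) := by
    rw [KaehlerDifferential.span_range_derivation]; trivial
  induction hω using Submodule.span_induction with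
  | mem x hx =>
    obtain ⟨r, rfl⟩ := hx
    exact sq_smul_D hinj S w h1 hE r
  | zero => simp
  | add x y _ _ hx hy => rw [smul_add, hx, hy, add_zero]
  | smul a x _ hx => rw [smul_comm, hx, smul_zero]

include hinj h1 hE in
theorem formallyUnramified_tensor_away (s : B) (w' : R) (hs : w * w' = algebraMap B R s) :
    Algebra.FormallyUnramified B (R ⊗[B] Localization.Away s) := by
  rw [Algebra.formallyUnramified_iff]
  rw [IsLocalizedModule.subsingleton_iff (Algebra.algebraMapSubmonoid R (Submonoid.powers s))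
    (KaehlerDifferential.map B B R (R ⊗[B] Localization.Away s))]
  intro ω
  refine ⟨algebraMap B R (s * s), Algebra.mem_algebraMapSubmonoid_of_mem
    (⟨s * s, ⟨2, pow_two s⟩⟩ : Submonoid.powers s), ?_⟩
  rw [map_mul, ← hs]
  have : w * w' * (w * w') = (w' * w') * (w * w) := by ring
  rw [this, mul_smul, sq_smul_kaehler hinj S w h1 hE ω, smul_zero]

end Identities

section Main

open scoped Pointwise

theorem mem_stabilizer_of_forall_sub_mem (m : Ideal R) (g : G) (h : ∀ y : R, g • y - y ∈ m) :
    g ∈ MulAction.stabilizer G m := by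
  rw [MulAction.mem_stabilizer_iff]
  ext x
  rw [Ideal.mem_pointwise_smul_iff_inv_smul_mem]
  have h' := h (g⁻¹ • x)
  rw [smul_inv_smul] at h'
  constructor
  · intro hx
    have := m.add_mem h' hx
    rwa [sub_add_cancel] at this
  · intro hx
    have := m.sub_mem hx h'
    rwa [sub_sub_cancel] at this

theorem exists_u [Finite G] (m : Ideal R) [m.IsPrime] (hstab : MulAction.stabilizer G m = ⊥)
    (g : G) (hg : g ≠ 1) :
    ∃ u ∈ Ideal.span {y : R | ∃ x : R, y = g • x - x}, ∀ h : G, h • u ∉ m := by
  classical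
  have := Fintype.ofFinite G
  by_contra hcon
  push Not at hcon
  have hsub : ((Ideal.span {y : R | ∃ x : R, y = g • x - x} : Ideal R) : Set R) ⊆
      ⋃ h ∈ ((Finset.univ : Finset G) : Set G),
        (Ideal.comap (MulSemiringAction.toRingHom G R h) m : Ideal R) := by
    intro u hu
    obtain ⟨h, hh⟩ := hcon u hu
    simp only [Set.mem_iUnion]
    exact ⟨h, Finset.mem_coe.2 (Finset.mem_univ h), hh⟩
  rw [Ideal.subset_union_prime (1 : G) (1 : G)
    (fun h _ _ _ => Ideal.comap_isPrime _ _)] at hsub
  obtain ⟨h, -, hle⟩ := hsub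
  have hmem : h * g * h⁻¹ ∈ MulAction.stabilizer G m := by
    apply mem_stabilizer_of_forall_sub_mem
    intro y
    have h2 : g • (h⁻¹ • y) - h⁻¹ • y ∈ Ideal.span {y : R | ∃ x : R, y = g • x - x} :=
      Ideal.subset_span ⟨_, rfl⟩
    have h3 := hle h2
    rw [Ideal.mem_comap, MulSemiringAction.toRingHom_apply, smul_sub, smul_inv_smul] at h3
    rwa [mul_smul, mul_smul]
  rw [hstab, Subgroup.mem_bot] at hmem
  apply hg
  have : g = h⁻¹ * (h * g * h⁻¹) * h := by group
  rw [this, hmem]
  group

theorem isEtaleAt_of_stabilizer_eq_bot [Finite G] [Algebra.IsInvariant B R G]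
    [Algebra.FinitePresentation B R]
    (hinj : Function.Injective (algebraMap B R)) (m : Ideal R) [m.IsPrime]
    (hstab : MulAction.stabilizer G m = ⊥) : Algebra.IsEtaleAt B m := by
  classical
  have := Fintype.ofFinite G
  choose! u hu hum using fun g (hg : g ≠ 1) => exists_u m hstab g hg
  have hwm : ∀ h : G, h • (∏ g ∈ Finset.univ.erase (1 : G), u g) ∉ m := by
    intro h
    rw [Finset.smul_prod', Ideal.IsPrime.prod_mem_iff]
    rintro ⟨g, hg, hgm⟩
    exact hum g (Finset.ne_of_mem_erase hg) h hgm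
  generalize hw : ∏ g ∈ Finset.univ.erase (1 : G), u g = w at hwm
  obtain ⟨s, hs⟩ : ∃ s : B, algebraMap B R s = ∏ h : G, h • w := by
    refine Algebra.IsInvariant.isInvariant (A := B) (G := G) _ (fun g => ?_)
    rw [Finset.smul_prod']
    simp only [← mul_smul]
    exact Fintype.prod_equiv (Equiv.mulLeft g) _ _ (fun g => rfl)
  have hsm : algebraMap B R s ∉ m := by
    rw [hs, Ideal.IsPrime.prod_mem_iff]
    rintro ⟨h, -, hh⟩
    exact hwm h hh
  have hs' : w * ∏ h ∈ Finset.univ.erase (1 : G), h • w = algebraMap B R s := by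
    rw [hs, ← Finset.mul_prod_erase Finset.univ (fun h : G => h • w) (Finset.mem_univ 1),
      one_smul]
  obtain ⟨E, hE1, hEh⟩ := exists_E (B := B) u hu
  rw [hw] at hE1
  obtain ⟨S, rfl⟩ := TensorProduct.exists_finset E
  have hflat := flat_tensor_away hinj S w hE1 hEh s _ hs'
  have hunr := formallyUnramified_tensor_away hinj S w hE1 hEh s _ hs'
  have hfp : Algebra.FinitePresentation B (R ⊗[B] Localization.Away s) :=
    Algebra.FinitePresentation.trans B R _
  have het : Algebra.Etale B (R ⊗[B] Localization.Away s) :=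
    Algebra.Etale.of_formallyUnramified_of_flat
  have hloc : IsLocalization.Away (algebraMap B R s) (R ⊗[B] Localization.Away s) := by
    have := IsLocalization.tensor (S := R) (A := Localization.Away s) (Submonoid.powers s)
    rwa [Algebra.algebraMapSubmonoid, Submonoid.map_powers] at this
  let e : (R ⊗[B] Localization.Away s) ≃ₐ[R] Localization.Away (algebraMap B R s) :=
    IsLocalization.algEquiv (Submonoid.powers (algebraMap B R s)) _ _
  have hfe : Algebra.FormallyEtale B (Localization.Away (algebraMap B R s)) :=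
    Algebra.FormallyEtale.of_equiv (e.restrictScalars B)
  exact (Algebra.basicOpen_subset_etaleLocus_iff (R := B) (f := algebraMap B R s)).mpr hfe
    (show (⟨m, inferInstance⟩ : PrimeSpectrum R) ∈ PrimeSpectrum.basicOpen _ from hsm)

theorem stabilizer_eq_bot_of_formallyUnramified [IsDomain R] [IsNoetherianRing R]
    [FaithfulSMul G R] (m : Ideal R) [m.IsPrime]
    [Algebra.FormallyUnramified B (Localization.AtPrime m)]
    (hres : ∀ r : R, ∃ b : B, r - algebraMap B R b ∈ m) : MulAction.stabilizer G m = ⊥ := by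
  rw [eq_bot_iff]
  intro g hg
  rw [Subgroup.mem_bot]
  rw [MulAction.mem_stabilizer_iff] at hg
  have hcomap : m = Ideal.comap (MulSemiringAction.toRingHom G R g) m := by
    ext x
    rw [Ideal.mem_comap, MulSemiringAction.toRingHom_apply]
    conv_rhs => rw [← hg]
    rw [Ideal.smul_mem_pointwise_smul_iff]
  let gr : Localization.AtPrime m →+* Localization.AtPrime m :=
    Localization.localRingHom m m (MulSemiringAction.toRingHom G R g) hcomap
  have hgr : ∀ r : R, gr (algebraMap R _ r) = algebraMap R _ (g • r) := fun r =>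
    Localization.localRingHom_to_map _ _ _ hcomap r
  let ga : Localization.AtPrime m →ₐ[B] Localization.AtPrime m :=
    { gr with
      commutes' := fun b => by
        show gr (algebraMap B (Localization.AtPrime m) b) = _
        rw [IsScalarTower.algebraMap_apply B R (Localization.AtPrime m), hgr, smul_algebraMap] }
  have hsub : ∀ r : R, g • r - r ∈ m := by
    intro r
    obtain ⟨b, hb⟩ := hres r
    have h1 : g • (r - algebraMap B R b) ∈ m := by
      have := hcomap ▸ hb
      rwa [Ideal.mem_comap, MulSemiringAction.toRingHom_apply] at this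
    have := m.sub_mem h1 hb
    rwa [smul_sub, smul_algebraMap, sub_sub_sub_cancel_right] at this
  have key : ga = AlgHom.id B (Localization.AtPrime m) := by
    refine Algebra.FormallyUnramified.ext_of_iInf
      (I := IsLocalRing.maximalIdeal (Localization.AtPrime m))
      (Ideal.iInf_pow_eq_bot_of_isLocalRing _ Ideal.IsPrime.ne_top') (fun x => ?_)
    have hhom : (Ideal.Quotient.mk (IsLocalRing.maximalIdeal (Localization.AtPrime m))).comp gr =
        Ideal.Quotient.mk (IsLocalRing.maximalIdeal (Localization.AtPrime m)) := by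
      refine IsLocalization.ringHom_ext m.primeCompl (RingHom.ext fun r => ?_)
      simp only [RingHom.coe_comp, Function.comp_apply]
      rw [hgr, Ideal.Quotient.eq, ← map_sub, IsLocalization.AtPrime.to_map_mem_maximal_iff _ m]
      exact hsub r
    exact RingHom.congr_fun hhom x
  have hall : ∀ r : R, g • r = (1 : G) • r := by
    intro r
    rw [one_smul]
    apply IsLocalization.injective (Localization.AtPrime m) m.primeCompl_le_nonZeroDivisors
    rw [← hgr]
    exact AlgHom.congr_fun key (algebraMap R _ r)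
  exact FaithfulSMul.eq_of_smul_eq_smul hall

end Main

end Groth.Agent.Lib.helper10.CHR
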