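import Mathlib

set_option autoImplicit false

/-!
# Lower convex hull chains (gift wrapping) and a quadrature inequality

Used for S12549: for points `(x i, p i)`, `i ≤ n`, with `x` strictly increasing and `p` antitone,
`p n = 0`, the lower convex hull chain `l` has trapezoid area `< 2 D ∑ p i`, as soon as the
numbers `F k = D (k x_k - ∑_{i<k} x_i) - x_k^2/2` are `≥ ε > 0` for `1 ≤ k ≤ n`.
-/

namespace Groth.Agent.Lib.helper10.ChainHull

open Finset

noncomputable section

/-- area functional on lists with a cost function -/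
def area (φ : ℕ → ℕ → ℝ) : List ℕ → ℝ
  | [] => 0
  | [_] => 0
  | a :: b :: l => φ a b + area φ (b :: l)

/-- `l` is a strictly increasing chain from `a` to `n`. -/
inductive IsCh (n : ℕ) : ℕ → List ℕ → Prop
  | last : IsCh n n [n]
  | cons (a b : ℕ) (l : List ℕ) : a < b → IsCh n b l → IsCh n a (a :: l)

lemma IsCh.exists_cons {n a : ℕ} {l : List ℕ} (h : IsCh n a l) : ∃ l', l = a :: l' := by
  cases h with
  | last => exact ⟨[], rfl⟩
  | cons a b l hab hl => exact ⟨l, rfl⟩

lemma area_cons (φ : ℕ → ℕ → ℝ) {n a b : ℕ} {l : List ℕ} (h : IsCh n b l) :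
    area φ (a :: l) = φ a b + area φ l := by
  obtain ⟨l', rfl⟩ := h.exists_cons
  rfl

lemma IsCh.le {n a : ℕ} {l : List ℕ} (h : IsCh n a l) : a ≤ n := by
  induction h with
  | last => exact le_rfl
  | cons a b l hab _ ih => exact hab.le.trans ih

lemma IsCh.lb {n a : ℕ} {l : List ℕ} (h : IsCh n a l) : ∀ y ∈ l, a ≤ y := by
  induction h with
  | last => intro y hy; simp at hy; omega
  | cons a b l hab _ ih =>
    intro y hy
    rcases List.mem_cons.1 hy with rfl | hy
    · exact le_rfl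
    · exact hab.le.trans (ih y hy)

lemma IsCh.pairwise {n a : ℕ} {l : List ℕ} (h : IsCh n a l) : l.Pairwise (· < ·) := by
  induction h with
  | last => simp
  | cons a b l hab hl ih =>
    refine List.pairwise_cons.2 ⟨fun y hy => lt_of_lt_of_le hab (hl.lb y hy), ih⟩

lemma IsCh.ub {n a : ℕ} {l : List ℕ} (h : IsCh n a l) : ∀ y ∈ l, y ≤ n := by
  induction h with
  | last => intro y hy; simp at hy; omega
  | cons a b l hab hl ih =>
    intro y hy
    rcases List.mem_cons.1 hy with rfl | hy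
    · exact hab.le.trans hl.le
    · exact ih y hy

lemma IsCh.getLast {n a : ℕ} {l : List ℕ} (h : IsCh n a l) (hne : l ≠ []) : l.getLast hne = n := by
  induction h with
  | last => rfl
  | cons a b l hab hl ih =>
    obtain ⟨l', rfl⟩ := hl.exists_cons
    rw [List.getLast_cons (by simp)]
    exact ih (by simp)

section hull

variable (n : ℕ) (x p : ℕ → ℝ) (D ε : ℝ)

/-- `G k = D k - x k` -/
def G (k : ℕ) : ℝ := D * k - x k

/-- `F k = D (k x_k - ∑_{i<k} x_i) - x_k^2/2` -/
def F (k : ℕ) : ℝ := D * (k * x k - ∑ i ∈ range k, x i) - (x k) ^ 2 / 2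

/-- trapezoid cost (twice the area) -/
def cost (a b : ℕ) : ℝ := (x b - x a) * (p a + p b)

/-- the potential -/
def Psi (a : ℕ) (l : List ℕ) : ℝ :=
  D * ∑ i ∈ Ico a n, p i - area (cost x p) l / 2 + G x D a * p a

variable {n x p D ε}

lemma seg_lemma (hD : 0 ≤ D) {a b : ℕ} (hab : a < b) (τ : ℝ)
    (hτ : τ * (x b - x a) = p a - p b)
    (hk : ∀ k, a < k → k < b → p a - τ * (x k - x a) ≤ p k) :
    τ * (F x D b - F x D a) ≤
      D * ∑ i ∈ Ico a b, p i - cost x p a b / 2 + G x D a * p a - G x D b * p b := by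
  have h1 : ∑ i ∈ Ico a b, (p a - τ * (x i - x a)) ≤ ∑ i ∈ Ico a b, p i := by
    refine Finset.sum_le_sum fun k hk' => ?_
    rcases Finset.mem_Ico.1 hk' with ⟨h1, h2⟩
    rcases eq_or_lt_of_le h1 with rfl | h1
    · simp
    · exact hk k h1 h2
  have h2 : ∑ i ∈ Ico a b, (p a - τ * (x i - x a))
      = ((b : ℝ) - a) * (p a + τ * x a) - τ * ∑ i ∈ Ico a b, x i := by
    simp only [Finset.sum_sub_distrib, Finset.sum_const, Nat.card_Ico, nsmul_eq_mul,
      ← Finset.mul_sum, mul_sub]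
    rw [Nat.cast_sub hab.le]
    ring
  have h3 : ∑ i ∈ range b, x i = ∑ i ∈ range a, x i + ∑ i ∈ Ico a b, x i :=
    (Finset.sum_range_add_sum_Ico x hab.le).symm
  rw [h2] at h1
  have h4 := mul_le_mul_of_nonneg_left h1 hD
  simp only [F, G, cost, h3]
  have key : D * (((b : ℝ) - a) * (p a + τ * x a) - τ * ∑ i ∈ Ico a b, x i)
      - (x b - x a) * (p a + p b) / 2 + (D * a - x a) * p a - (D * b - x b) * p b
      = τ * (D * (b * x b - (∑ i ∈ range a, x i + ∑ i ∈ Ico a b, x i)) - (x b) ^ 2 / 2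
        - (D * (a * x a - ∑ i ∈ range a, x i) - (x a) ^ 2 / 2)) := by
    linear_combination (-(D * b) + (x a + x b) / 2) * hτ
  linarith

theorem exists_hull (hD : 0 ≤ D)
    (hx : ∀ a b, a < b → b ≤ n → x a < x b)
    (hp : ∀ a b, a ≤ b → b ≤ n → p b ≤ p a) (hpn : p n = 0)
    (hF : ∀ k, 1 ≤ k → k ≤ n → ε ≤ F x D k) :
    ∀ a, a ≤ n → ∃ (l : List ℕ) (M : ℝ), IsCh n a l ∧ 0 ≤ M ∧
      (∀ k, a < k → k ≤ n → p a - M * (x k - x a) ≤ p k) ∧
      (M = 0 ∨ ∃ b, a < b ∧ b ≤ n ∧ p b = p a - M * (x b - x a)) ∧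
      M * (ε - F x D a) ≤ Psi n x p D a l := by
  intro a
  induction' hk : n - a using Nat.strong_induction_on with k ih generalizing a
  intro han
  rcases eq_or_lt_of_le han with rfl | han'
  · refine ⟨[a], 0, IsCh.last, le_rfl, ?_, Or.inl rfl, ?_⟩
    · intro k h1 h2; omega
    · simp [Psi, area, hpn]
  -- choose the steepest segment
  obtain ⟨b, hb, hbmax⟩ := Finset.exists_max_image (Ioc a n)
    (fun b => (p a - p b) / (x b - x a)) ⟨n, Finset.mem_Ioc.2 ⟨han', le_rfl⟩⟩
  rcases Finset.mem_Ioc.1 hb with ⟨hab, hbn⟩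
  set τ := (p a - p b) / (x b - x a) with hτdef
  have hxab : 0 < x b - x a := sub_pos.2 (hx a b hab hbn)
  have hτ : τ * (x b - x a) = p a - p b := by
    rw [hτdef, div_mul_cancel₀ _ hxab.ne']
  have hτ0 : 0 ≤ τ := div_nonneg (sub_nonneg.2 (hp a b hab.le hbn)) hxab.le
  have hall : ∀ k, a < k → k ≤ n → p a - τ * (x k - x a) ≤ p k := by
    intro k h1 h2
    have := hbmax k (Finset.mem_Ioc.2 ⟨h1, h2⟩)
    have hxk : 0 < x k - x a := sub_pos.2 (hx a k h1 h2)
    have h3 : (p a - p k) / (x k - x a) ≤ τ := this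
    rw [div_le_iff₀ hxk] at h3
    linarith
  obtain ⟨l', M', hl', hM'0, hM'all, hM'att, hM'Psi⟩ := ih (n - b) (by omega) b rfl hbn
  have hM'τ : M' ≤ τ := by
    rcases hM'att with h0 | ⟨b', hbb', hb'n, hpb'⟩
    · rw [h0]; exact hτ0
    · have h1 := hall b' (hab.trans hbb') hb'n
      have hxb' : 0 < x b' - x b := sub_pos.2 (hx b b' hbb' hb'n)
      by_contra hlt
      push Not at hlt
      have : τ * (x b' - x b) < M' * (x b' - x b) := mul_lt_mul_of_pos_right hlt hxb'
      nlinarith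
  have hb1 : 1 ≤ b := by omega
  have hFb : ε - F x D b ≤ 0 := sub_nonpos.2 (hF b hb1 hbn)
  refine ⟨a :: l', τ, IsCh.cons a b l' hab hl', hτ0, hall, Or.inr ⟨b, hab, hbn, by linarith⟩, ?_⟩
  have hseg := seg_lemma hD hab τ hτ (fun k h1 h2 => hall k h1 (h2.le.trans hbn))
  have hsplit : ∑ i ∈ Ico a n, p i = ∑ i ∈ Ico a b, p i + ∑ i ∈ Ico b n, p i :=
    (Finset.sum_Ico_consecutive p hab.le hbn).symm
  have hPsi : Psi n x p D a (a :: l') =
      (D * ∑ i ∈ Ico a b, p i - cost x p a b / 2 + G x D a * p a - G x D b * p b)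
        + Psi n x p D b l' := by
    simp only [Psi, area_cons _ hl', hsplit]
    ring
  rw [hPsi]
  have h5 : τ * (ε - F x D b) ≤ M' * (ε - F x D b) :=
    mul_le_mul_of_nonpos_right hM'τ hFb
  nlinarith

/-- the main inequality: there is a chain from `0` to `n` whose doubled area is `< 2 D ∑ p`. -/
theorem exists_chain_area_lt (hn : 0 < n) (hD : 0 ≤ D) (hε : 0 < ε)
    (hx : ∀ a b, a < b → b ≤ n → x a < x b) (hx0 : x 0 = 0)
    (hp : ∀ a b, a ≤ b → b ≤ n → p b ≤ p a) (hpn : p n = 0) (hp0 : 0 < p 0)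
    (hF : ∀ k, 1 ≤ k → k ≤ n → ε ≤ F x D k) :
    ∃ l : List ℕ, IsCh n 0 l ∧ area (cost x p) l < 2 * D * ∑ i ∈ Ico 0 n, p i := by
  obtain ⟨l, M, hl, hM0, hMall, -, hPsi⟩ := exists_hull hD hx hp hpn hF 0 (Nat.zero_le n)
  refine ⟨l, hl, ?_⟩
  have hM : 0 < M := by
    have h1 := hMall n hn le_rfl
    rw [hpn, hx0, sub_zero] at h1
    have hxn : 0 < x n := by
      have := hx 0 n hn le_rfl
      rwa [hx0] at this
    by_contra hle
    push Not at hle
    have : M = 0 := le_antisymm hle hM0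
    rw [this] at h1
    linarith
  have hF0 : F x D 0 = 0 := by simp [F, hx0]
  have hG0 : G x D 0 = 0 := by simp [G, hx0]
  rw [hF0, sub_zero] at hPsi
  simp only [Psi, hG0, zero_mul, add_zero] at hPsi
  have : 0 < M * ε := mul_pos hM hε
  linarith

end hull

section compare

variable {n : ℕ} (r δ : ℕ → ℝ)

lemma area_delta_ge (hr : ∀ a b, a ≤ b → b ≤ n → r b ≤ r a)
    (hδ : ∀ a, a ≤ n → 0 ≤ δ a) (hδn : δ n = 0) {a : ℕ} {l : List ℕ} (h : IsCh n a l) :
    -2 * δ a * r a ≤ area (fun a b => (δ b - δ a) * (r a + r b)) l := by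
  induction h with
  | last => simp [area, hδn]
  | cons a b l hab hl ih =>
    rw [area_cons _ hl]
    have h1 := hr a b hab.le hl.le
    have h2 := hδ a (hab.le.trans hl.le)
    have h3 := hδ b hl.le
    nlinarith

lemma area_add (φ ψ : ℕ → ℕ → ℝ) (l : List ℕ) :
    area (fun a b => φ a b + ψ a b) l = area φ l + area ψ l := by
  induction l with
  | nil => simp [area]
  | cons a l ih =>
    cases l with
    | nil => simp [area]
    | cons b l =>
      simp only [area] at ih ⊢
      rw [ih]; ring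

lemma area_congr {φ ψ : ℕ → ℕ → ℝ} (h : ∀ a b, φ a b = ψ a b) (l : List ℕ) :
    area φ l = area ψ l := by
  have : φ = ψ := by funext a b; exact h a b
  rw [this]

lemma area_const_shift (x r : ℕ → ℝ) (c : ℝ) {a : ℕ} {l : List ℕ} (h : IsCh n a l) :
    area (fun a b => (x b - x a) * (r a + r b)) l
      = area (fun a b => (x b - x a) * ((r a - c) + (r b - c))) l + 2 * c * (x n - x a) := by
  induction h with
  | last => simp [area]
  | cons a b l hab hl ih =>
    rw [area_cons _ hl, area_cons _ hl, ih]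
    ring

end compare

/-- conversion of a list chain to a sum over `Fin`. -/
lemma sum_fin_eq_area (φ : ℕ → ℕ → ℝ) :
    ∀ (l : List ℕ) (μ : ℕ) (h : l.length = μ + 1),
      ∑ j : Fin μ, φ (l[(j : ℕ)]'(by have := j.2; omega)) (l[(j : ℕ) + 1]'(by have := j.2; omega))
        = area φ l := by
  intro l
  induction l with
  | nil => intro μ h; simp at h
  | cons a l ih =>
    intro μ h
    cases l with
    | nil =>
      have : μ = 0 := by simpa using h.symm
      subst this
      simp [area]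
    | cons b l =>
      obtain ⟨μ', rfl⟩ : ∃ μ', μ = μ' + 1 := ⟨μ - 1, by simp at h; omega⟩
      rw [Fin.sum_univ_succ]
      have := ih μ' (by simpa using h)
      simp only [area]
      rw [← this]
      simp

end

end Groth.Agent.Lib.helper10.ChainHull
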