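import Groth.Agent.Lib.helper10.ChainHull

set_option autoImplicit false

/-!
# S12549: the specific abscissae `x i = i` (`i ≤ n - g`), `i + g` (`i > n - g`)
-/

namespace Groth.Agent.Lib.helper10.ChainHull

open Finset

/-- the extremal abscissae -/
noncomputable def xs (m g : ℕ) (i : ℕ) : ℝ := if i ≤ m then (i : ℝ) else (i : ℝ) + g

lemma sum_xs_low (m g : ℕ) : ∀ k, k ≤ m + 1 → ∑ i ∈ range k, xs m g i = (k : ℝ) * (k - 1) / 2 := by
  intro k
  induction k with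
  | zero => intro _; simp
  | succ k ih =>
    intro hk
    rw [Finset.sum_range_succ, ih (by omega)]
    have : xs m g k = k := by simp [xs, show k ≤ m by omega]
    rw [this]; push_cast; ring

lemma sum_xs_high (m g : ℕ) : ∀ j, ∑ i ∈ range (m + 1 + j), xs m g i
    = ((m : ℝ) + 1 + j) * (m + j) / 2 + g * j := by
  intro j
  induction j with
  | zero =>
    rw [add_zero, sum_xs_low m g (m + 1) le_rfl]; push_cast; ring
  | succ j ih =>
    rw [← add_assoc, Finset.sum_range_succ, ih]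
    have : xs m g (m + 1 + j) = ((m : ℝ) + 1 + j) + g := by
      simp [xs, show ¬ (m + 1 + j ≤ m) by omega]
    rw [this]; push_cast; ring

lemma F_xs_ge (m g : ℕ) (hg : 1 ≤ g) (hgm : g ≤ m) (k : ℕ) (hk1 : 1 ≤ k) (hkn : k ≤ m + g) :
    1 / (2 * (((m + g : ℕ) : ℝ) + 1)) ≤
      F (xs m g) ((((m + g : ℕ) : ℝ) + g) / (((m + g : ℕ) : ℝ) + 1)) k := by
  have hn1 : (0 : ℝ) < ((m + g : ℕ) : ℝ) + 1 := by positivity
  rw [div_le_iff₀ (by positivity)]
  have hgR : (1 : ℝ) ≤ g := by exact_mod_cast hg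
  have hgmR : (g : ℝ) ≤ m := by exact_mod_cast hgm
  have hkR : (1 : ℝ) ≤ k := by exact_mod_cast hk1
  by_cases hkm : k ≤ m
  · have hx : xs m g k = k := by simp [xs, hkm]
    have hs := sum_xs_low m g k (by omega)
    simp only [F, hx, hs]
    have e1 : ((k : ℝ) * k - k * (k - 1) / 2) = k * (k + 1) / 2 := by ring
    rw [e1]
    have e2 : ((((m + g : ℕ) : ℝ) + g) / (((m + g : ℕ) : ℝ) + 1) * ((k : ℝ) * (k + 1) / 2)
        - (k : ℝ) ^ 2 / 2) * (2 * (((m + g : ℕ) : ℝ) + 1))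
        = (((m + g : ℕ) : ℝ) + g) * (k * (k + 1)) - (((m + g : ℕ) : ℝ) + 1) * k ^ 2 := by
      field_simp
    rw [e2]
    push_cast
    nlinarith [mul_nonneg (sub_nonneg.2 hgR) (mul_nonneg (by linarith : (0:ℝ) ≤ k) (by linarith : (0:ℝ) ≤ k)),
      mul_nonneg (by linarith : (0:ℝ) ≤ (m : ℝ) + g + g) (by linarith : (0:ℝ) ≤ (k : ℝ) - 1)]
  · obtain ⟨j, rfl⟩ : ∃ j, k = m + 1 + j := ⟨k - (m + 1), by omega⟩
    have hjg : j + 1 ≤ g := by omega
    have hjR : (j : ℝ) + 1 ≤ g := by exact_mod_cast hjg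
    have hj0 : (0 : ℝ) ≤ j := by positivity
    have hx : xs m g (m + 1 + j) = ((m : ℝ) + 1 + j) + g := by
      simp [xs, show ¬ (m + 1 + j ≤ m) by omega]
    have hs := sum_xs_high m g j
    simp only [F, hx, hs]
    push_cast
    have e2 : (((m : ℝ) + g + g) / ((m : ℝ) + g + 1) *
        (((m : ℝ) + 1 + j) * ((m : ℝ) + 1 + j + g) - (((m : ℝ) + 1 + j) * (m + j) / 2 + g * j))
        - ((m : ℝ) + 1 + j + g) ^ 2 / 2) * (2 * ((m : ℝ) + g + 1))
        = ((m : ℝ) + g + g) * (2 * (((m : ℝ) + 1 + j) * ((m : ℝ) + 1 + j + g))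
            - ((m : ℝ) + 1 + j) * (m + j) - 2 * (g * j))
          - ((m : ℝ) + g + 1) * ((m : ℝ) + 1 + j + g) ^ 2 := by
      have : (m : ℝ) + g + 1 ≠ 0 := by positivity
      field_simp
      ring
    rw [e2]
    -- f(k) = f(n) + (n - k) * bracket
    have e3 : ((m : ℝ) + g + g) * (2 * (((m : ℝ) + 1 + j) * ((m : ℝ) + 1 + j + g))
            - ((m : ℝ) + 1 + j) * (m + j) - 2 * (g * j))
          - ((m : ℝ) + g + 1) * ((m : ℝ) + 1 + j + g) ^ 2
        = ((m : ℝ) + 2 * g) * g * (m - g + 1)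
          + ((g : ℝ) - 1 - j) * ((2 * g * (m + g) - (m + g) + g)
              - (g - 1) * ((m + 1 + j) + (m + g))) := by ring
    rw [e3]
    have h1 : (1 : ℝ) ≤ ((m : ℝ) + 2 * g) * g * (m - g + 1) := by
      have a1 : (1 : ℝ) ≤ (m : ℝ) + 2 * g := by linarith
      have a2 : (1 : ℝ) ≤ (m : ℝ) - g + 1 := by linarith
      have a3 : (1 : ℝ) ≤ ((m : ℝ) + 2 * g) * g := by nlinarith
      nlinarith
    have h2 : (0 : ℝ) ≤ (2 * (g : ℝ) * (m + g) - (m + g) + g)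
        - (g - 1) * ((m + 1 + j) + (m + g)) := by
      nlinarith [mul_nonneg (sub_nonneg.2 hgR) (by linarith : (0 : ℝ) ≤ (g : ℝ) - 1 - j)]
    have h3 : (0 : ℝ) ≤ (g : ℝ) - 1 - j := by linarith
    nlinarith [mul_nonneg h3 h2]

end Groth.Agent.Lib.helper10.ChainHull
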