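import Groth.Agent.Lib.helper10.ChainHullB

set_option autoImplicit false

namespace Groth.Agent.Lib.helper10.ChainHull

open Finset

theorem main (n g : ℕ) (hg : 1 ≤ g) (hn : 2 * g ≤ n)
    (e : Fin (n + 1) → ℕ) (he0 : e 0 = 0) (hen : e (Fin.last n) = n + g) (hmono : Monotone e)
    (hle : ∀ i : Fin (n + 1), (i : ℕ) ≤ n - g → e i ≤ (i : ℕ))
    (hle' : ∀ i : Fin (n + 1), e i ≤ (i : ℕ) + g)
    (r : Fin (n + 1) → ℝ) (hanti : Antitone r) (hsum : ∑ i, r i = 0) (hr : r ≠ 0) :
    ∃ (μ : ℕ) (c : Fin (μ + 1) → Fin (n + 1)), StrictMono c ∧ c 0 = 0 ∧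
      c (Fin.last μ) = Fin.last n ∧
      ∑ j : Fin μ, ((e (c j.succ) : ℝ) - (e (c j.castSucc) : ℝ))
        * (r (c j.succ) + r (c j.castSucc)) < 0 := by
  classical
  obtain ⟨m, rfl⟩ : ∃ m, n = m + g := ⟨n - g, by omega⟩
  have hgm : g ≤ m := by omega
  have hmg : m + g - g = m := by omega
  rw [hmg] at hle
  -- extensions to ℕ
  let r' : ℕ → ℝ := fun i => if h : i < (m + g) + 1 then r ⟨i, h⟩ else 0
  let e' : ℕ → ℝ := fun i => if h : i < (m + g) + 1 then (e ⟨i, h⟩ : ℝ) else 0
  have hr' : ∀ i : Fin ((m + g) + 1), r' i = r i := fun i => by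
    have := i.2
    simp only [r', this, dif_pos]
  have he' : ∀ i : Fin ((m + g) + 1), e' i = (e i : ℝ) := fun i => by
    have := i.2
    simp only [e', this, dif_pos]
  have hr'anti : ∀ a b, a ≤ b → b ≤ (m + g) → r' b ≤ r' a := by
    intro a b hab hb
    have ha : a < (m + g) + 1 := by omega
    have hb' : b < (m + g) + 1 := by omega
    simp only [r', ha, hb', dif_pos]
    exact hanti (by simpa using hab)
  have hsum' : ∑ i ∈ range ((m + g) + 1), r' i = 0 := by
    rw [← Fin.sum_univ_eq_sum_range]
    simp only [hr']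
    exact hsum
  -- p
  let p : ℕ → ℝ := fun i => r' i - r' (m + g)
  have hp : ∀ a b, a ≤ b → b ≤ (m + g) → p b ≤ p a := by
    intro a b hab hb
    have := hr'anti a b hab hb
    simp only [p]; linarith
  have hpn : p (m + g) = 0 := by simp [p]
  have hnpos : 0 < (m + g) := by omega
  have hp0 : 0 < p 0 := by
    have h0 : 0 ≤ p 0 := by
      have := hp 0 (m + g) (Nat.zero_le _) le_rfl
      rwa [hpn] at this
    rcases eq_or_lt_of_le h0 with h | h
    · exfalso
      -- all r' equal
      have hall : ∀ i, i ≤ (m + g) → r' i = r' (m + g) := by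
        intro i hi
        have h1 := hr'anti 0 i (Nat.zero_le _) hi
        have h2 := hr'anti i (m + g) hi le_rfl
        have h3 : r' 0 = r' (m + g) := by simp only [p] at h; linarith
        linarith
      have h4 : ∑ i ∈ range ((m + g) + 1), r' i = ((m + g) + 1 : ℕ) * r' (m + g) := by
        rw [Finset.sum_congr rfl (fun i hi => hall i (by have := Finset.mem_range.1 hi; omega))]
        simp
      rw [hsum'] at h4
      have h5 : r' (m + g) = 0 := by
        have : (((m + g) + 1 : ℕ) : ℝ) ≠ 0 := by positivity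
        rcases mul_eq_zero.1 h4.symm with h | h
        · exact absurd h this
        · exact h
      apply hr
      funext i
      have := hall i (by have := i.2; omega)
      rw [hr' i] at this
      rw [this, h5]; rfl
    · exact h
  -- data
  set D : ℝ := (((m + g : ℕ) : ℝ) + g) / (((m + g : ℕ) : ℝ) + 1) with hD
  have hD0 : 0 ≤ D := by positivity
  have hxmono : ∀ a b, a < b → b ≤ (m + g) → xs m g a < xs m g b := by
    intro a b hab _
    have habR : (a : ℝ) < b := by exact_mod_cast hab
    have hg0 : (0 : ℝ) ≤ g := by positivity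
    simp only [xs]
    split_ifs with h1 h2 h2
    · exact habR
    · linarith
    · exfalso; omega
    · linarith
  have hx0 : xs m g 0 = 0 := by simp [xs]
  have hxn : xs m g (m + g) = (m + g) + g := by
    simp [xs, show ¬ ((m + g) ≤ m) by omega]
  obtain ⟨l, hl, harea⟩ := exists_chain_area_lt (n := m + g) (x := xs m g) (p := p) (D := D)
    (ε := 1 / (2 * (((m + g : ℕ) : ℝ) + 1))) hnpos hD0 (by positivity) hxmono hx0 hp hpn hp0
    (fun k hk1 hkn => F_xs_ge m g hg hgm k hk1 hkn)
  -- sum of p
  have hsump : ∑ i ∈ Ico 0 (m + g), p i = -(((m + g) : ℝ) + 1) * r' (m + g) := by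
    have h1 : ∑ i ∈ range ((m + g) + 1), r' i = ∑ i ∈ range (m + g), r' i + r' (m + g) := Finset.sum_range_succ _ _
    rw [hsum'] at h1
    simp only [p, Finset.sum_sub_distrib, Finset.sum_const, Nat.Ico_zero_eq_range,
      Finset.card_range, nsmul_eq_mul]
    push_cast
    linarith
  -- area with r'
  have hshift := area_const_shift (n := m + g) (xs m g) r' (r' (m + g)) hl
  have hAx : area (fun a b => (xs m g b - xs m g a) * (r' a + r' b)) l < 0 := by
    rw [hshift]
    have e1 : area (fun a b => (xs m g b - xs m g a) * (r' a - r' (m + g) + (r' b - r' (m + g)))) l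
        = area (cost (xs m g) p) l := rfl
    rw [e1, hx0, hxn, sub_zero]
    rw [hsump] at harea
    have hDn : D * (((m + g) : ℝ) + 1) = ((m + g) : ℝ) + g := by
      rw [hD]
      have : ((m + g : ℕ) : ℝ) + 1 ≠ 0 := by positivity
      field_simp
      push_cast
      ring
    have e2 : 2 * D * (-(((m : ℝ) + g) + 1) * r' (m + g))
        = -2 * r' (m + g) * ((m : ℝ) + g + g) := by
      rw [← hDn]; ring
    rw [e2] at harea
    linarith
  -- compare e' with xs
  let δ : ℕ → ℝ := fun i => xs m g i - e' i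
  have hδ : ∀ a, a ≤ (m + g) → 0 ≤ δ a := by
    intro a ha
    have ha' : a < (m + g) + 1 := by omega
    simp only [δ, e', ha', dif_pos, xs]
    split_ifs with h1
    · have := hle ⟨a, ha'⟩ h1
      have h2 : ((e ⟨a, ha'⟩ : ℕ) : ℝ) ≤ (a : ℝ) := by exact_mod_cast this
      linarith
    · have := hle' ⟨a, ha'⟩
      have h2 : ((e ⟨a, ha'⟩ : ℕ) : ℝ) ≤ (a : ℝ) + g := by exact_mod_cast this
      linarith
  have hδn : δ (m + g) = 0 := by
    have hn' : (m + g) < (m + g) + 1 := by omega
    simp only [δ, hxn, e', hn', dif_pos]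
    have : (⟨(m + g), hn'⟩ : Fin ((m + g) + 1)) = Fin.last (m + g) := rfl
    rw [this, hen]; push_cast; ring
  have hδ0 : δ 0 = 0 := by
    have h0' : 0 < (m + g) + 1 := by omega
    simp only [δ, hx0, e', h0', dif_pos]
    have : (⟨0, h0'⟩ : Fin ((m + g) + 1)) = 0 := rfl
    rw [this, he0]; simp
  have hdel := area_delta_ge (n := m + g) r' δ hr'anti hδ hδn hl
  rw [hδ0] at hdel
  have hAe : area (fun a b => (e' b - e' a) * (r' b + r' a)) l < 0 := by
    have e1 : area (fun a b => (xs m g b - xs m g a) * (r' a + r' b)) l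
        = area (fun a b => (e' b - e' a) * (r' b + r' a)) l
          + area (fun a b => (δ b - δ a) * (r' a + r' b)) l := by
      rw [← area_add]
      apply area_congr
      intro a b
      simp only [δ]; ring
    rw [e1] at hAx
    linarith
  -- conversion
  obtain ⟨l', rfl⟩ := hl.exists_cons
  set L := 0 :: l' with hL
  have hlen : L.length = l'.length + 1 := by simp [hL]
  refine ⟨l'.length, fun j => ⟨L[(j : ℕ)]'(by have := j.2; omega), ?_⟩, ?_, ?_, ?_, ?_⟩
  · have := hl.ub (L[(j : ℕ)]'(by have := j.2; omega)) (List.getElem_mem _)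
    omega
  · intro i j hij
    have hpw := hl.pairwise
    rw [List.pairwise_iff_getElem] at hpw
    have := hpw i j (by have := i.2; omega) (by have := j.2; omega) hij
    exact this
  · apply Fin.ext
    simp [hL]
  · apply Fin.ext
    have h1 := hl.getLast (by simp [hL])
    rw [List.getLast_eq_getElem] at h1
    simp only [Fin.val_last]
    have : L.length - 1 = l'.length := by omega
    simp only [this] at h1
    exact h1
  · have hconv := sum_fin_eq_area (fun a b => (e' b - e' a) * (r' b + r' a)) L l'.length hlen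
    rw [← hconv] at hAe
    refine lt_of_eq_of_lt ?_ hAe
    refine Finset.sum_congr rfl fun j _ => ?_
    simp only [← he', ← hr', Fin.val_succ, Fin.val_castSucc]
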