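import Mathlib

set_option autoImplicit false

/-!
# ℓ-torsion of the cokernel of an intersection-type matrix

`A` symmetric integer matrix with non-negative off-diagonal entries, `A m = 0`, `m > 0`, connected.
Over a field `F` in which the non-zero entries of `A` and the `m i` stay non-zero, the kernel of `A`
has dimension at most `e - n + 2` (`e` the number of edges); this is proved through the incidence
matrix `D` of the graph (`m_i (A x)_i = -(Dᵀ C D (x/m))_i`).
-/

namespace Groth.Agent.Lib.helper10.CokerTors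

open Finset Matrix Module

variable {n : ℕ}

/-- the edges `i < j`, `A i j > 0`. -/
abbrev Edge (A : Matrix (Fin n) (Fin n) ℤ) := {p : Fin n × Fin n // p.1 < p.2 ∧ 0 < A p.1 p.2}

variable {F : Type*} [Field F]

/-- incidence matrix -/
def D (F : Type*) [Field F] (A : Matrix (Fin n) (Fin n) ℤ) : Matrix (Edge A) (Fin n) F :=
  fun p k => (if k = p.1.1 then 1 else 0) - (if k = p.1.2 then 1 else 0)

lemma D_mulVec (A : Matrix (Fin n) (Fin n) ℤ) (u : Fin n → F) (p : Edge A) :
    ((D F A) *ᵥ u) p = u p.1.1 - u p.1.2 := by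
  simp [D, mulVec, dotProduct, sub_mul]

lemma sum_edge (A : Matrix (Fin n) (Fin n) ℤ) (w : Fin n → Fin n → F)
    (hanti : ∀ i j, w j i = - w i j)
    (hdiag : ∀ i, w i i = 0) (hsupp : ∀ i j, i < j → ¬ 0 < A i j → w i j = 0) (k : Fin n) :
    ∑ p : Edge A, (D F A) p k * w p.1.1 p.1.2 = ∑ j, w k j := by
  have h1 : ∑ p : Edge A, (D F A) p k * w p.1.1 p.1.2 =
      ∑ q : Fin n × Fin n, if q.1 < q.2 then
        ((if k = q.1 then (1 : F) else 0) - (if k = q.2 then 1 else 0)) * w q.1 q.2 else 0 := by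
    have hs := Finset.sum_subtype (univ.filter fun q : Fin n × Fin n => q.1 < q.2 ∧ 0 < A q.1 q.2)
      (p := fun q : Fin n × Fin n => q.1 < q.2 ∧ 0 < A q.1 q.2)
      (F := (inferInstance : Fintype (Edge A))) (fun q => by simp)
      (fun q => ((if k = q.1 then (1 : F) else 0) - (if k = q.2 then 1 else 0)) * w q.1 q.2)
    show ∑ p : Edge A, ((if k = p.1.1 then (1 : F) else 0) - (if k = p.1.2 then 1 else 0))
      * w p.1.1 p.1.2 = _
    rw [← hs]
    rw [Finset.sum_filter]
    refine Finset.sum_congr rfl fun q _ => ?_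
    by_cases h : q.1 < q.2
    · by_cases h' : 0 < A q.1 q.2
      · simp [h, h']
      · simp [h, h', hsupp _ _ h h']
    · simp [h]
  rw [h1, Fintype.sum_prod_type]
  have h2 : ∀ i j : Fin n, (if i < j then
      ((if k = i then (1 : F) else 0) - (if k = j then 1 else 0)) * w i j else 0)
      = (if k = i then (if i < j then w i j else 0) else 0)
        - (if k = j then (if i < j then w i j else 0) else 0) := by
    intro i j
    split_ifs <;> simp
  simp only [h2, Finset.sum_sub_distrib]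
  have h3 : ∑ i : Fin n, ∑ j : Fin n, (if k = i then (if i < j then w i j else 0) else 0)
      = ∑ j : Fin n, if k < j then w k j else 0 := by
    rw [Finset.sum_comm]
    refine Finset.sum_congr rfl fun j _ => ?_
    rw [Finset.sum_ite_eq]
    simp
  have h4 : ∑ i : Fin n, ∑ j : Fin n, (if k = j then (if i < j then w i j else 0) else 0)
      = ∑ j : Fin n, if j < k then w j k else 0 := by
    refine Finset.sum_congr rfl fun j _ => ?_
    rw [Finset.sum_ite_eq]
    simp
  rw [h3, h4, ← Finset.sum_sub_distrib]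
  refine Finset.sum_congr rfl fun j _ => ?_
  rcases lt_trichotomy k j with h | h | h
  · simp [h, not_lt.2 h.le]
  · subst h
    simp [hdiag]
  · simp [h, not_lt.2 h.le, hanti j k]

/-- connectedness: a function constant along edges is constant -/
lemma const_of_edge (A : Matrix (Fin n) (Fin n) ℤ) (hsymm : A.IsSymm)
    (hA : ∀ i j, i ≠ j → 0 ≤ A i j)
    (hconn : ∀ I : Finset (Fin n), I.Nonempty → I ≠ univ → ∃ i ∈ I, ∃ j ∉ I, A i j ≠ 0)
    {X : Type*} (u : Fin n → X) (hu : ∀ p : Edge A, u p.1.1 = u p.1.2) (i₀ i : Fin n) :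
    u i = u i₀ := by
  classical
  by_contra hne
  have hI : (univ.filter fun i => u i = u i₀) ≠ univ := by
    intro h
    have : i ∈ univ.filter fun i => u i = u i₀ := by rw [h]; exact mem_univ _
    exact hne (mem_filter.1 this).2
  obtain ⟨a, ha, b, hb, hab⟩ := hconn _ ⟨i₀, by simp⟩ hI
  have ha' : u a = u i₀ := (mem_filter.1 ha).2
  have hb' : ¬ u b = u i₀ := fun h => hb (mem_filter.2 ⟨mem_univ _, h⟩)
  have hne' : a ≠ b := by
    rintro rfl
    exact hb' ha'
  have hpos : 0 < A a b := lt_of_le_of_ne (hA a b hne') (Ne.symm hab)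
  rcases lt_or_gt_of_ne hne' with h | h
  · have := hu ⟨(a, b), h, hpos⟩
    exact hb' (this ▸ ha')
  · have hpos' : 0 < A b a := by
      have : A b a = A a b := hsymm.apply a b
      rw [this]; exact hpos
    have := hu ⟨(b, a), h, hpos'⟩
    exact hb' (this.trans ha')

section dim

variable (A : Matrix (Fin n) (Fin n) ℤ) (m : Fin n → ℤ)

/-- the auxiliary linear map `x ↦ (a_ij (m_j x_i - m_i x_j))_{(i,j) ∈ E}` -/
def psi (F : Type*) [Field F] : (Fin n → F) →ₗ[F] (Edge A → F) where
  toFun x p := (A p.1.1 p.1.2 : F) * ((m p.1.2 : F) * x p.1.1 - (m p.1.1 : F) * x p.1.2)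
  map_add' x y := by
    ext p
    simp only [Pi.add_apply]
    ring
  map_smul' c x := by
    ext p
    simp only [Pi.smul_apply, smul_eq_mul, RingHom.id_apply]
    ring

variable {A m}

lemma cast_mulVec_m (hAm : A.mulVec m = 0) (k : Fin n) :
    ∑ j, (A k j : F) * (m j : F) = 0 := by
  have := congrFun hAm k
  simp only [mulVec, dotProduct, Pi.zero_apply] at this
  have h2 := congrArg (Int.cast : ℤ → F) this
  simpa using h2

lemma psi_mem (hsymm : A.IsSymm) (hA : ∀ i j, i ≠ j → 0 ≤ A i j) (hAm : A.mulVec m = 0)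
    (x : Fin n → F) (hx : ∀ k, ∑ j, (A k j : F) * x j = 0) :
    (D F A)ᵀ *ᵥ (psi A m F x) = 0 := by
  funext k
  simp only [mulVec, dotProduct, transpose_apply, Pi.zero_apply]
  have := sum_edge (F := F) A (fun i j => (A i j : F) * ((m j : F) * x i - (m i : F) * x j))
    (fun i j => by
      have : A j i = A i j := hsymm.apply i j
      simp only [this]; ring)
    (fun i => by ring)
    (fun i j hij hn => by
      have : A i j = 0 := le_antisymm (not_lt.1 hn) (hA i j hij.ne)
      simp [this]) k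
  simp only [psi, LinearMap.coe_mk, AddHom.coe_mk]
  rw [this]
  have e1 : ∀ j, (A k j : F) * ((m j : F) * x k - (m k : F) * x j)
      = x k * ((A k j : F) * (m j : F)) - (m k : F) * ((A k j : F) * x j) := fun j => by ring
  simp only [e1, Finset.sum_sub_distrib, ← Finset.mul_sum, cast_mulVec_m (F := F) hAm k, hx k,
    mul_zero, sub_zero]

lemma ker_psi (hsymm : A.IsSymm) (hA : ∀ i j, i ≠ j → 0 ≤ A i j)
    (hconn : ∀ I : Finset (Fin n), I.Nonempty → I ≠ univ → ∃ i ∈ I, ∃ j ∉ I, A i j ≠ 0)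
    (hA0 : ∀ i j, A i j ≠ 0 → (A i j : F) ≠ 0) (hm0 : ∀ i, (m i : F) ≠ 0)
    (x : Fin n → F) (hx : psi A m F x = 0) :
    x ∈ Submodule.span F {(fun i => (m i : F) : Fin n → F)} := by
  rcases isEmpty_or_nonempty (Fin n) with hn | ⟨⟨i₀⟩⟩
  · have : x = 0 := Subsingleton.elim _ _
    rw [this]; exact Submodule.zero_mem _
  have hu : ∀ p : Edge A, x p.1.1 / (m p.1.1 : F) = x p.1.2 / (m p.1.2 : F) := by
    intro p
    have h1 := congrFun hx p
    simp only [psi, LinearMap.coe_mk, AddHom.coe_mk, Pi.zero_apply] at h1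
    have h2 : (A p.1.1 p.1.2 : F) ≠ 0 := hA0 _ _ p.2.2.ne'
    have h3 := (mul_eq_zero.1 h1).resolve_left h2
    rw [div_eq_div_iff (hm0 _) (hm0 _)]
    linear_combination h3
  have hc := const_of_edge A hsymm hA hconn (fun i => x i / (m i : F)) hu i₀
  rw [Submodule.mem_span_singleton]
  refine ⟨x i₀ / (m i₀ : F), ?_⟩
  funext i
  have := hc i
  simp only [Pi.smul_apply, smul_eq_mul]
  rw [← this]
  field_simp [hm0 i]

theorem finrank_ker_le (hsymm : A.IsSymm) (hA : ∀ i j, i ≠ j → 0 ≤ A i j)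
    (hAm : A.mulVec m = 0)
    (hconn : ∀ I : Finset (Fin n), I.Nonempty → I ≠ univ → ∃ i ∈ I, ∃ j ∉ I, A i j ≠ 0)
    (hA0 : ∀ i j, A i j ≠ 0 → (A i j : F) ≠ 0) (hm0 : ∀ i, (m i : F) ≠ 0) (hn : 0 < n) :
    finrank F (LinearMap.ker (A.map (Int.castRingHom F)).mulVecLin) + n
      ≤ Fintype.card (Edge A) + 2 := by
  classical
  set K := LinearMap.ker (A.map (Int.castRingHom F)).mulVecLin with hK
  have hKmem : ∀ x, x ∈ K ↔ ∀ k, ∑ j, (A k j : F) * x j = 0 := by
    intro x
    rw [hK, LinearMap.mem_ker, mulVecLin_apply]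
    constructor
    · intro h k
      have := congrFun h k
      simpa [mulVec, dotProduct] using this
    · intro h
      funext k
      simpa [mulVec, dotProduct] using h k
  set g := (psi A m F).domRestrict K with hg
  have e1 := LinearMap.finrank_range_add_finrank_ker g
  -- range g ≤ ker Dᵀ
  have h1 : LinearMap.range g ≤ LinearMap.ker ((D F A)ᵀ).mulVecLin := by
    rintro _ ⟨x, rfl⟩
    rw [LinearMap.mem_ker, mulVecLin_apply]
    exact psi_mem hsymm hA hAm x.1 ((hKmem _).1 x.2)
  have h1' := Submodule.finrank_mono h1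
  have e2 := LinearMap.finrank_range_add_finrank_ker ((D F A)ᵀ).mulVecLin
  have e3 := LinearMap.finrank_range_add_finrank_ker ((D F A)).mulVecLin
  have e4 : finrank F (LinearMap.range ((D F A)ᵀ).mulVecLin)
      = finrank F (LinearMap.range ((D F A)).mulVecLin) := Matrix.rank_transpose (D F A)
  rw [Module.finrank_fintype_fun_eq_card] at e2 e3
  rw [Fintype.card_fin] at e3
  -- ker D ≤ span {1}
  have h5 : finrank F (LinearMap.ker ((D F A)).mulVecLin) ≤ 1 := by
    have hle : LinearMap.ker ((D F A)).mulVecLin ≤ Submodule.span F {(fun _ => 1 : Fin n → F)} := by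
      intro u hu
      rw [LinearMap.mem_ker, mulVecLin_apply] at hu
      have hu' : ∀ p : Edge A, u p.1.1 = u p.1.2 := by
        intro p
        have := congrFun hu p
        rw [D_mulVec] at this
        exact sub_eq_zero.1 this
      have hc := const_of_edge A hsymm hA hconn u hu' ⟨0, hn⟩
      rw [Submodule.mem_span_singleton]
      refine ⟨u ⟨0, hn⟩, ?_⟩
      funext i
      simp [hc i]
    refine (Submodule.finrank_mono hle).trans ?_
    refine (finrank_span_le_card _).trans ?_
    simp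
  -- ker g small
  have h6 : finrank F (LinearMap.ker g) ≤ 1 := by
    rw [← Submodule.finrank_map_subtype_eq K (LinearMap.ker g)]
    have hle : (LinearMap.ker g).map K.subtype
        ≤ Submodule.span F {(fun i => (m i : F) : Fin n → F)} := by
      rintro _ ⟨x, hx, rfl⟩
      rw [SetLike.mem_coe, LinearMap.mem_ker] at hx
      exact ker_psi hsymm hA hconn hA0 hm0 x.1 hx
    refine (Submodule.finrank_mono hle).trans ?_
    refine (finrank_span_le_card _).trans ?_
    simp
  omega

end dim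

theorem card_torsion_le (A : Matrix (Fin n) (Fin n) ℤ)
    (m : Fin n → ℤ) (hsymm : A.IsSymm) (hA : ∀ i j, i ≠ j → 0 ≤ A i j) (hm : ∀ i, 0 < m i)
    (hAm : A.mulVec m = 0)
    (hconn : ∀ I : Finset (Fin n), I.Nonempty → I ≠ univ → ∃ i ∈ I, ∃ j ∉ I, A i j ≠ 0)
    (ℓ : ℕ) (hℓ : ℓ.Prime) (hℓA : ∀ i j, A i j ≠ 0 → ¬ ((ℓ : ℤ) ∣ A i j))
    (hℓm : ∀ i, ¬ ((ℓ : ℤ) ∣ m i)) :
    Nat.card (Submodule.torsionBy ℤ ((Fin n → ℤ) ⧸ LinearMap.range (Matrix.mulVecLin A)) (ℓ : ℤ))
      ≤ ℓ ^ ((univ.filter fun p : Fin n × Fin n => p.1 < p.2 ∧ 0 < A p.1 p.2).card + 1 - n) := by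
  classical
  haveI : Fact ℓ.Prime := ⟨hℓ⟩
  have hℓpos : 0 < ℓ := hℓ.pos
  rcases Nat.eq_zero_or_pos n with hn | hn
  · subst hn
    haveI : Subsingleton ((Fin 0 → ℤ) ⧸ LinearMap.range (Matrix.mulVecLin A)) :=
      ⟨fun a b => by
        obtain ⟨a, rfl⟩ := Submodule.Quotient.mk_surjective _ a
        obtain ⟨b, rfl⟩ := Submodule.Quotient.mk_surjective _ b
        rw [Subsingleton.elim a b]⟩
    rw [Nat.card_unique]
    exact Nat.one_le_pow _ _ hℓpos
  let F := ZMod ℓ
  have hA0 : ∀ i j, A i j ≠ 0 → ((A i j : ℤ) : F) ≠ 0 := by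
    intro i j h h0
    exact hℓA i j h ((ZMod.intCast_zmod_eq_zero_iff_dvd _ _).1 h0)
  have hm0 : ∀ i, ((m i : ℤ) : F) ≠ 0 := by
    intro i h0
    exact hℓm i ((ZMod.intCast_zmod_eq_zero_iff_dvd _ _).1 h0)
  have hdim := finrank_ker_le (F := F) hsymm hA hAm hconn hA0 hm0 hn
  have hcardE : Fintype.card (Edge A)
      = (univ.filter fun p : Fin n × Fin n => p.1 < p.2 ∧ 0 < A p.1 p.2).card := by
    rw [Fintype.card_subtype]
  rw [hcardE] at hdim
  set K := LinearMap.ker (A.map (Int.castRingHom F)).mulVecLin with hK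
  set T := Submodule.torsionBy ℤ ((Fin n → ℤ) ⧸ LinearMap.range (Matrix.mulVecLin A)) (ℓ : ℤ)
    with hT
  -- choice of representatives
  have hex : ∀ t : T, ∃ x y : Fin n → ℤ,
      Submodule.Quotient.mk x = t.1 ∧ A *ᵥ y = (ℓ : ℤ) • x := by
    intro t
    obtain ⟨x, hx⟩ := Submodule.Quotient.mk_surjective _ t.1
    have h1 : (ℓ : ℤ) • t.1 = 0 := (Submodule.mem_torsionBy_iff _ _).1 t.2
    rw [← hx, ← Submodule.Quotient.mk_smul, Submodule.Quotient.mk_eq_zero] at h1
    obtain ⟨y, hy⟩ := h1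
    exact ⟨x, y, hx, hy⟩
  choose xs ys hxs hys using hex
  let mb : Fin n → F := fun i => ((m i : ℤ) : F)
  have hmbK : mb ∈ K := by
    rw [hK, LinearMap.mem_ker, mulVecLin_apply]
    funext k
    have := RingHom.map_mulVec (Int.castRingHom F) A m k
    rw [hAm] at this
    simp only [Pi.zero_apply, map_zero] at this
    exact this.symm
  have hyK : ∀ t : T, (fun i => ((ys t i : ℤ) : F)) ∈ K := by
    intro t
    rw [hK, LinearMap.mem_ker, mulVecLin_apply]
    funext k
    have := RingHom.map_mulVec (Int.castRingHom F) A (ys t) k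
    rw [hys t] at this
    have h0 : (Int.castRingHom F) (((ℓ : ℤ) • xs t) k) = 0 := by
      simp
    rw [h0] at this
    exact this.symm
  let f : T × F → K := fun ts =>
    ⟨(fun i => ((ys ts.1 i : ℤ) : F)) + ts.2 • mb, K.add_mem (hyK ts.1) (K.smul_mem _ hmbK)⟩
  have hf : Function.Injective f := by
    rintro ⟨t, s⟩ ⟨t', s'⟩ h
    have h1 : (fun i => ((ys t i : ℤ) : F)) + s • mb = (fun i => ((ys t' i : ℤ) : F)) + s' • mb :=
      congrArg Subtype.val h
    obtain ⟨r, hr⟩ := ZMod.intCast_surjective (s' - s)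
    have h2 : ∀ i, (ℓ : ℤ) ∣ ys t i - ys t' i - r * m i := by
      intro i
      rw [← ZMod.intCast_zmod_eq_zero_iff_dvd]
      have := congrFun h1 i
      simp only [Pi.add_apply, Pi.smul_apply, smul_eq_mul, mb] at this
      push_cast
      rw [hr]
      linear_combination this
    choose z hz using h2
    have h3 : ys t - ys t' = r • m + (ℓ : ℤ) • z := by
      funext i
      simp only [Pi.sub_apply, Pi.add_apply, Pi.smul_apply, smul_eq_mul]
      linarith [hz i]
    have h4 : (ℓ : ℤ) • (xs t - xs t') = (ℓ : ℤ) • (A *ᵥ z) := by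
      rw [smul_sub, ← hys t, ← hys t', ← mulVec_sub, h3, mulVec_add, mulVec_smul, hAm, smul_zero,
        zero_add, mulVec_smul]
    have h5 : xs t - xs t' = A *ᵥ z := by
      funext i
      have := congrFun h4 i
      simp only [Pi.smul_apply, smul_eq_mul] at this
      exact mul_left_cancel₀ (by exact_mod_cast hℓpos.ne') this
    have h6 : t = t' := by
      apply Subtype.ext
      rw [← hxs t, ← hxs t', ← sub_eq_zero, ← Submodule.Quotient.mk_sub,
        Submodule.Quotient.mk_eq_zero, h5]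
      exact ⟨z, rfl⟩
    subst h6
    have h7 : s • mb = s' • mb := add_left_cancel h1
    have h8 := congrFun h7 ⟨0, hn⟩
    simp only [Pi.smul_apply, smul_eq_mul] at h8
    have h9 : s = s' := mul_right_cancel₀ (hm0 _) h8
    rw [h9]
  have hcard := Nat.card_le_card_of_injective f hf
  rw [Nat.card_prod, Module.natCard_eq_pow_finrank (K := F) (V := K), Nat.card_zmod] at hcard
  obtain ⟨d, hd⟩ : ∃ d, d = finrank F K := ⟨_, rfl⟩
  rw [← hd] at hcard hdim
  rcases Nat.eq_zero_or_pos (Nat.card T) with h0 | h0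
  · rw [h0]; exact Nat.zero_le _
  have hd1 : 1 ≤ d := by
    by_contra hlt
    have : d = 0 := by omega
    rw [this, pow_zero] at hcard
    have : 2 ≤ ℓ := hℓ.two_le
    nlinarith
  obtain ⟨d', rfl⟩ : ∃ d', d = d' + 1 := ⟨d - 1, by omega⟩
  rw [pow_succ] at hcard
  have h10 : Nat.card T ≤ ℓ ^ d' := Nat.le_of_mul_le_mul_right hcard hℓpos
  refine h10.trans (Nat.pow_le_pow_right hℓpos ?_)
  omega

end Groth.Agent.Lib.helper10.CokerTors
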