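import Mathlib

set_option maxHeartbeats 400000
set_option autoImplicit false
universe u
open Submodule

namespace H10S6329

section General

variable {B : Type*} [Ring B] {X : Type*} [AddCommGroup X] [Module B X]

theorem length_succ_of_covBy {P P' : Submodule B X} (h : P ⋖ P') :
    Module.length B P' = Module.length B P + 1 := by
  have hs : IsSimpleModule B (P' ⧸ Submodule.comap P'.subtype P) :=
    (covBy_iff_quot_is_simple h.le).1 h
  have hex : Function.Exact (Submodule.inclusion h.le) (Submodule.comap P'.subtype P).mkQ := by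
    rw [LinearMap.exact_iff, Submodule.ker_mkQ, Submodule.range_inclusion]
  rw [Module.length_eq_add_of_exact (Submodule.inclusion h.le) (Submodule.comap P'.subtype P).mkQ
    (Submodule.inclusion_injective h.le) (Submodule.mkQ_surjective _) hex,
    Module.length_eq_one_iff.2 hs]

end General

variable {R : Type u} [CommRing R] {M : Type u} [AddCommGroup M] [Module R M]

theorem colon_isMaximal {N N' : Submodule R M} (h : N ⋖ N') :
    (N.colon (N' : Set M)).IsMaximal := by
  have hs : IsSimpleModule R (N' ⧸ Submodule.comap N'.subtype N) :=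
    (covBy_iff_quot_is_simple h.le).1 h
  have hmax := IsSimpleModule.annihilator_isMaximal (R := R)
    (M := N' ⧸ Submodule.comap N'.subtype N)
  have e : Module.annihilator R (N' ⧸ Submodule.comap N'.subtype N) = N.colon (N' : Set M) := by
    ext r
    rw [Module.mem_annihilator, Submodule.mem_colon]
    constructor
    · intro hr y hy
      have := hr (Submodule.Quotient.mk ⟨y, hy⟩)
      rw [← Submodule.Quotient.mk_smul, Submodule.Quotient.mk_eq_zero] at this
      exact this
    · intro hr q
      obtain ⟨y, rfl⟩ := Submodule.Quotient.mk_surjective _ q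
      rw [← Submodule.Quotient.mk_smul, Submodule.Quotient.mk_eq_zero]
      exact hr y.1 y.2
  rwa [e] at hmax

variable (m : Ideal R) [hm : m.IsMaximal]

/-- localized submodule -/
noncomputable abbrev L (N : Submodule R M) :
    Submodule (Localization.AtPrime m) (LocalizedModule m.primeCompl M) :=
  N.localized' (Localization.AtPrime m) m.primeCompl (LocalizedModule.mkLinearMap m.primeCompl M)

theorem L_mono {N N' : Submodule R M} (h : N ≤ N') : L m N ≤ L m N' :=
  (Submodule.localized'gi (Localization.AtPrime m) m.primeCompl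
    (LocalizedModule.mkLinearMap m.primeCompl M)).gc.monotone_l h

theorem L_eq_of_colon_ne {N N' : Submodule R M} (h : N ⋖ N')
    (hc : N.colon (N' : Set M) ≠ m) : L m N = L m N' := by
  refine le_antisymm (L_mono m h.le) ?_
  have hmax := colon_isMaximal h
  have hnle : ¬ N.colon (N' : Set M) ≤ m := by
    intro hle
    exact hc (hmax.eq_of_le hm.ne_top hle)
  obtain ⟨x, hxc, hxm⟩ := SetLike.not_le_iff_exists.1 hnle
  refine Submodule.localized'_le_localized'_of_smul_le (Localization.AtPrime m) m.primeCompl
    (LocalizedModule.mkLinearMap m.primeCompl M) (⟨x, hxm⟩ : m.primeCompl) ?_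
  rintro _ ⟨a, ha, rfl⟩
  exact (Submodule.mem_colon.1 hxc) a ha

theorem L_covBy_of_colon_eq {N N' : Submodule R M} (h : N ⋖ N')
    (hc : N.colon (N' : Set M) = m) : L m N ⋖ L m N' := by
  have gc := (Submodule.localized'gi (Localization.AtPrime m) m.primeCompl
    (LocalizedModule.mkLinearMap m.primeCompl M)).gc
  have hne : ¬ L m N' ≤ L m N := by
    intro hle
    obtain ⟨n, hnN', hnN⟩ := SetLike.exists_of_lt h.lt
    have h1 : LocalizedModule.mkLinearMap m.primeCompl M n ∈ L m N' :=
      ⟨n, hnN', 1, IsLocalizedModule.mk'_one _ _ n⟩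
    obtain ⟨n₀, hn₀, s, hs⟩ := hle h1
    rw [IsLocalizedModule.mk'_eq_iff] at hs
    -- mk n₀ = s • mk n
    have h2 : LocalizedModule.mkLinearMap m.primeCompl M n₀ =
        LocalizedModule.mkLinearMap m.primeCompl M (s • n) := by
      rw [hs, Submonoid.smul_def, Submonoid.smul_def, LinearMap.map_smul]
    obtain ⟨t, ht⟩ := (IsLocalizedModule.eq_iff_exists m.primeCompl
      (LocalizedModule.mkLinearMap m.primeCompl M)).1 h2
    have h3 : ((t : R) * (s : R)) • n ∈ N := by
      rw [mul_smul]
      have : t • n₀ ∈ N := N.smul_mem (t : R) hn₀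
      rw [ht] at this
      exact this
    have hJ : m ≤ N.colon ({n} : Set M) := by
      rw [← hc]
      exact Submodule.colon_mono le_rfl (Set.singleton_subset_iff.2 hnN')
    have hJtop : N.colon ({n} : Set M) = ⊤ := by
      by_contra hne
      have := hm.eq_of_le hne hJ
      have hts' : (t : R) * (s : R) ∈ N.colon ({n} : Set M) :=
        Submodule.mem_colon_singleton.2 h3
      have hts : (t : R) * (s : R) ∈ m := this ▸ hts'
      exact (m.primeCompl.mul_mem t.2 s.2) hts
    have h1n : (1 : R) ∈ N.colon ({n} : Set M) := hJtop ▸ Submodule.mem_top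
    rw [Submodule.mem_colon_singleton, one_smul] at h1n
    exact hnN h1n
  have hlt : L m N < L m N' := lt_of_le_not_ge (L_mono m h.le) hne
  refine ⟨hlt, ?_⟩
  intro P hNP hPN'
  let P' : Submodule R M :=
    Submodule.comap (LocalizedModule.mkLinearMap m.primeCompl M) (P.restrictScalars R) ⊓ N'
  have h1 : N ≤ P' := le_inf (gc.le_u hNP.le) h.le
  have h2 : P' ≤ N' := inf_le_right
  rcases h.eq_or_eq h1 h2 with e | e
  · -- P' = N ⇒ P ≤ L N
    apply hNP.not_ge
    intro y hy
    obtain ⟨n, hn, s, rfl⟩ := hPN'.le hy
    refine ⟨n, ?_, s, rfl⟩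
    rw [← e]
    refine ⟨?_, hn⟩
    show LocalizedModule.mkLinearMap m.primeCompl M n ∈ P.restrictScalars R
    rw [← IsLocalizedModule.mk'_cancel' (LocalizedModule.mkLinearMap m.primeCompl M) n s]
    exact (P.restrictScalars R).smul_mem (s : R) hy
  · -- P' = N' ⇒ L N' ≤ P
    apply hPN'.not_ge
    apply gc.l_le
    intro y hy
    have : y ∈ P' := e ▸ hy
    exact this.1


section Chain

variable (f : ℕ → Submodule R M) (n : ℕ) (hf : ∀ k < n, f k ⋖ f (k + 1))

open Classical in
/-- indicator of the `k`-th factor being `R/m` -/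
noncomputable def c (k : ℕ) : ℕ := if (f k).colon (f (k + 1) : Set M) = m then 1 else 0

include hf in
theorem length_chain (k : ℕ) (hk : k ≤ n) :
    Module.length (Localization.AtPrime m) (L m (f k)) =
      Module.length (Localization.AtPrime m) (L m (f 0)) +
        ((∑ j ∈ Finset.range k, c m f j : ℕ) : ℕ∞) := by
  induction k with
  | zero => simp
  | succ k ih =>
    have hk' : k < n := hk
    rw [Finset.sum_range_succ, Nat.cast_add, ← add_assoc, ← ih hk'.le]
    by_cases hc : (f k).colon (f (k + 1) : Set M) = m
    · rw [length_succ_of_covBy (L_covBy_of_colon_eq m (hf k hk') hc)]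
      simp [c, hc]
    · rw [← L_eq_of_colon_ne m (hf k hk') hc]
      simp [c, hc]

end Chain

theorem main (s : CompositionSeries (Submodule R M)) (h0 : s.head = ⊥) (h1 : s.last = ⊤) :
    ((Finset.univ.filter fun i : Fin s.length =>
      (s i.castSucc).colon (s i.succ : Set M) = m).card : ℕ∞) =
      Module.length (Localization.AtPrime m) (LocalizedModule m.primeCompl M) := by
  classical
  let f : ℕ → Submodule R M := fun k => s ⟨min k s.length, by omega⟩
  have hfc : ∀ i : Fin s.length, f i.val = s i.castSucc := by
    intro i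
    exact congrArg s (Fin.ext (by simp))
  have hfs : ∀ i : Fin s.length, f (i.val + 1) = s i.succ := by
    intro i
    exact congrArg s (Fin.ext (by simp))
  have hf : ∀ k < s.length, f k ⋖ f (k + 1) := by
    intro k hk
    have := s.step ⟨k, hk⟩
    rw [← hfc ⟨k, hk⟩, ← hfs ⟨k, hk⟩] at this
    exact this
  have key := length_chain m f s.length hf s.length le_rfl
  have e0 : f 0 = ⊥ := by
    rw [← h0]
    exact congrArg s (Fin.ext (by simp))
  have e1 : f s.length = ⊤ := by
    rw [← h1]
    exact congrArg s (Fin.ext (by simp))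
  rw [e0, e1] at key
  unfold L at key
  rw [Submodule.localized'_bot, Submodule.localized'_top, Module.length_bot, zero_add,
    Module.length_top] at key
  rw [key, Finset.card_filter, Finset.sum_range]
  congr 1
  refine Finset.sum_congr rfl fun i _ => ?_
  simp only [c]
  rw [hfc i, hfs i]

end H10S6329
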