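import Mathlib
import Groth.Agent.Lib.Helper2.HomAR

set_option autoImplicit false
set_option maxHeartbeats 1600000

/-!
# Flatness of complete modules with flat truncations (Stacks 0912, equational form)
-/

namespace Groth.Agent.Lib.helper10.ComplFlat

open Groth.Agent.Lib.Helper2.HomAR

universe u v

variable {A : Type u} [CommRing A] (J : Ideal A) {N : Type v} [AddCommGroup N] [Module A N]

/-- all coordinates lie in `J^n N` -/
def Small (n : ℕ) {l : ℕ} (x : Fin l → N) : Prop := ∀ i, x i ∈ (J ^ n • ⊤ : Submodule A N)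

variable {J}

theorem Small.mono {m n l : ℕ} {x : Fin l → N} (h : m ≤ n) (hx : Small J n x) : Small J m x :=
  fun i => Submodule.smul_mono_left (Ideal.pow_le_pow_right h) (hx i)

theorem Small.add {n l : ℕ} {x y : Fin l → N} (hx : Small J n x) (hy : Small J n y) :
    Small J n (x + y) := fun i => Submodule.add_mem _ (hx i) (hy i)

theorem Small.sub {n l : ℕ} {x y : Fin l → N} (hx : Small J n x) (hy : Small J n y) :
    Small J n (x - y) := fun i => Submodule.sub_mem _ (hx i) (hy i)

/-- the action of a matrix (given by its columns `κ t`) on vectors with entries in `N` -/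
noncomputable def act {s l : ℕ} (κ : Fin s → Fin l → A) : (Fin s → N) →ₗ[A] (Fin l → N) :=
  LinearMap.pi fun i => ∑ t, κ t i • LinearMap.proj t

theorem act_apply {s l : ℕ} (κ : Fin s → Fin l → A) (z : Fin s → N) (i : Fin l) :
    act κ z i = ∑ t, κ t i • z t := by
  simp [act, LinearMap.sum_apply]

theorem Small.act {n s l : ℕ} (κ : Fin s → Fin l → A) {z : Fin s → N} (hz : Small J n z) :
    Small J n (act κ z) := by
  intro i
  rw [act_apply]
  exact Submodule.sum_mem _ fun t _ => Submodule.smul_mem _ _ (hz t)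

/-- composition of matrix actions -/
theorem act_act {s m l : ℕ} (g : Fin m → Fin l → A) (κ : Fin s → Fin m → A) (z : Fin s → N) :
    act g (act κ z) = act (fun t i => ∑ μ, κ t μ * g μ i) z := by
  funext i
  simp only [act_apply, Finset.smul_sum, Finset.sum_smul, smul_smul]
  rw [Finset.sum_comm]
  refine Finset.sum_congr rfl fun t _ => Finset.sum_congr rfl fun μ _ => ?_
  rw [mul_comm]

/-- conversion to a fixed generating family -/
theorem exists_act_eq {k m l : ℕ} (g : Fin m → Fin l → A) (κ : Fin k → Fin l → A)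
    (hκ : ∀ t, κ t ∈ Submodule.span A (Set.range g)) (z : Fin k → N) :
    ∃ y : Fin m → N, act κ z = act g y := by
  have h1 : ∀ t, ∃ r : Fin m → A, ∑ μ, r μ • g μ = κ t := fun t =>
    (Submodule.mem_span_range_iff_exists_fun A).mp (hκ t)
  choose r hr using h1
  refine ⟨act (fun t μ => r t μ) z, ?_⟩
  rw [act_act]
  have hk : κ = fun t i => ∑ μ, r t μ * g μ i := by
    funext t i
    rw [← hr t]
    simp [Finset.sum_apply]
  rw [← hk]

variable (J)

/-- **Artin–Rees** for a row vector. -/
theorem AR_row [IsNoetherianRing A] {l : ℕ} (a : Fin l → A) :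
    ∃ c : ℕ, ∀ (n : ℕ) (w : Fin l → A), ∑ i, a i * w i ∈ J ^ (n + c) →
      ∃ w' : Fin l → A, (∀ i, w' i ∈ J ^ n) ∧ ∑ i, a i * w' i = ∑ i, a i * w i := by
  let φ : (Fin l → A) →ₗ[A] A := Fintype.linearCombination A a
  have hφ : ∀ w, φ w = ∑ i, a i * w i := by
    intro w
    rw [Fintype.linearCombination_apply]
    exact Finset.sum_congr rfl fun i _ => by rw [smul_eq_mul, mul_comm]
  obtain ⟨c, hc⟩ := Ideal.exists_pow_inf_eq_pow_smul J (LinearMap.range φ)
  refine ⟨c, fun n w hw => ?_⟩
  have h1 : φ w ∈ J ^ (n + c) • (⊤ : Submodule A A) ⊓ LinearMap.range φ := by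
    refine ⟨?_, LinearMap.mem_range_self _ _⟩
    rw [smul_eq_mul, Ideal.mul_top, hφ]
    exact hw
  rw [hc _ (by omega)] at h1
  have h2 : φ w ∈ (J ^ n • (⊤ : Submodule A (Fin l → A))).map φ := by
    rw [Submodule.map_smul'', Submodule.map_top]
    exact Submodule.smul_mono (Ideal.pow_le_pow_right (by omega)) inf_le_right h1
  obtain ⟨w', hw', hww'⟩ := h2
  refine ⟨w', fun i => ?_, by rw [← hφ, ← hφ, hww']⟩
  have := apply_mem_smul_top _ w' hw' i
  rwa [smul_eq_mul, Ideal.mul_top] at this

/-- the hypothesis: approximate triviality of relations modulo `J^n` -/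
def HypE (N : Type v) [AddCommGroup N] [Module A N] : Prop :=
  ∀ (n l : ℕ) (a : Fin l → A) (x : Fin l → N),
    ∑ i, a i • x i ∈ (J ^ n • ⊤ : Submodule A N) →
    ∃ (k : ℕ) (b : Fin l → Fin k → A) (y : Fin k → N),
      (∀ i, x i - ∑ j, b i j • y j ∈ (J ^ n • ⊤ : Submodule A N)) ∧
        ∀ j, ∑ i, a i * b i j ∈ J ^ n

variable {J}

/-- **Lemma S**: single row. -/
theorem row_step [IsNoetherianRing A] (hE : HypE J N) {l : ℕ} (a : Fin l → A) :
    ∃ c : ℕ, ∀ (n : ℕ) (x : Fin l → N),
      ∑ i, a i • x i ∈ (J ^ (n + c) • ⊤ : Submodule A N) →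
      ∃ (k : ℕ) (κ : Fin k → Fin l → A) (z : Fin k → N),
        (∀ t, ∑ i, a i * κ t i = 0) ∧ Small J n (x - act κ z) := by
  obtain ⟨c, hc⟩ := AR_row J a
  refine ⟨c, fun n x hx => ?_⟩
  obtain ⟨k, b, y, hb1, hb2⟩ := hE (n + c) l a x hx
  have h1 : ∀ j, ∃ w' : Fin l → A, (∀ i, w' i ∈ J ^ n) ∧
      ∑ i, a i * w' i = ∑ i, a i * b i j := fun j => hc n (fun i => b i j) (hb2 j)
  choose w' hw'1 hw'2 using h1
  refine ⟨k, fun j i => b i j - w' j i, y, fun j => ?_, fun i => ?_⟩
  · simp only [mul_sub, Finset.sum_sub_distrib, hw'2 j, sub_self]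
  · rw [Pi.sub_apply, act_apply]
    have : x i - ∑ t, (b i t - w' t i) • y t =
        (x i - ∑ j, b i j • y j) + ∑ t, w' t i • y t := by
      simp only [sub_smul, Finset.sum_sub_distrib]
      abel
    rw [this]
    refine Submodule.add_mem _ ?_ ?_
    · exact Submodule.smul_mono_left (Ideal.pow_le_pow_right (Nat.le_add_right n c)) (hb1 i)
    · exact Submodule.sum_mem _ fun t _ =>
        Submodule.smul_mem_smul (hw'1 t i) Submodule.mem_top

/-- the syzygies of a row -/
def rowSyz {l : ℕ} (a : Fin l → A) : Submodule A (Fin l → A) where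
  carrier := {v | ∑ i, a i * v i = 0}
  add_mem' := by
    intro v w hv hw
    simp only [Set.mem_ofPred_eq, Pi.add_apply, mul_add, Finset.sum_add_distrib] at hv hw ⊢
    rw [hv, hw, add_zero]
  zero_mem' := by simp
  smul_mem' := by
    intro r v hv
    simp only [Set.mem_ofPred_eq, Pi.smul_apply, smul_eq_mul] at hv ⊢
    have : ∑ i, a i * (r * v i) = r * ∑ i, a i * v i := by
      rw [Finset.mul_sum]
      exact Finset.sum_congr rfl fun i _ => by ring
    rw [this, hv, mul_zero]

theorem mem_rowSyz {l : ℕ} (a : Fin l → A) (v : Fin l → A) :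
    v ∈ rowSyz a ↔ ∑ i, a i * v i = 0 := Iff.rfl

theorem exists_gen [IsNoetherianRing A] {l : ℕ} (a : Fin l → A) :
    ∃ (m : ℕ) (g : Fin m → Fin l → A), Submodule.span A (Set.range g) = rowSyz a :=
  Submodule.fg_iff_exists_fin_generating_family.mp (IsNoetherian.noetherian (rowSyz a))

/-- **Lemma S'**: several rows. -/
theorem rows_step [IsNoetherianRing A] (hE : HypE J N) :
    ∀ (r l : ℕ) (a : Fin r → Fin l → A), ∃ c : ℕ, ∀ (n : ℕ) (x : Fin l → N),
      (∀ ρ, ∑ i, a ρ i • x i ∈ (J ^ (n + c) • ⊤ : Submodule A N)) →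
      ∃ (k : ℕ) (κ : Fin k → Fin l → A) (z : Fin k → N),
        (∀ t ρ, ∑ i, a ρ i * κ t i = 0) ∧ Small J n (x - act κ z) := by
  intro r
  induction r with
  | zero =>
    intro l a
    refine ⟨0, fun n x _ => ⟨l, fun t i => if t = i then 1 else 0, x, fun t ρ => ρ.elim0, ?_⟩⟩
    have : act (fun t i : Fin l => if t = i then (1 : A) else 0) x = x := by
      funext i
      rw [act_apply]
      simp
    rw [this, sub_self]
    intro i
    exact Submodule.zero_mem _
  | succ r ih =>
    intro l a
    obtain ⟨c₁, hc₁⟩ := row_step hE (a 0)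
    obtain ⟨m, g, hg⟩ := exists_gen (a 0)
    have hgmem : ∀ μ, ∑ i, a 0 i * g μ i = 0 := by
      intro μ
      have : g μ ∈ rowSyz (a 0) := by
        rw [← hg]; exact Submodule.subset_span ⟨μ, rfl⟩
      exact this
    obtain ⟨c', hc'⟩ := ih m (fun ρ μ => ∑ i, a ρ.succ i * g μ i)
    refine ⟨c₁ + c', fun n x hx => ?_⟩
    -- first row
    have h0 : ∑ i, a 0 i • x i ∈ (J ^ (n + c' + c₁) • ⊤ : Submodule A N) := by
      have := hx 0
      rwa [show n + (c₁ + c') = n + c' + c₁ by omega] at this
    obtain ⟨k₁, κ₁, z₁, hκ₁, hs₁⟩ := hc₁ (n + c') x h0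
    obtain ⟨y, hy⟩ := exists_act_eq g κ₁ (fun t => by rw [hg]; exact hκ₁ t) z₁
    rw [hy] at hs₁
    -- the remaining rows applied to `y`
    have hrows : ∀ ρ : Fin r, ∑ μ, (∑ i, a ρ.succ i * g μ i) • y μ ∈
        (J ^ (n + c') • ⊤ : Submodule A N) := by
      intro ρ
      have e1 : ∑ μ, (∑ i, a ρ.succ i * g μ i) • y μ = ∑ i, a ρ.succ i • (act g y) i := by
        simp only [act_apply, Finset.smul_sum, Finset.sum_smul, smul_smul]
        rw [Finset.sum_comm]
      have e2 : ∑ i, a ρ.succ i • (act g y) i =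
          ∑ i, a ρ.succ i • x i - ∑ i, a ρ.succ i • (x - act g y) i := by
        rw [← Finset.sum_sub_distrib]
        refine Finset.sum_congr rfl fun i _ => ?_
        rw [Pi.sub_apply, smul_sub, sub_sub_cancel]
      rw [e1, e2]
      refine Submodule.sub_mem _ ?_ ?_
      · exact Submodule.smul_mono_left (Ideal.pow_le_pow_right (by omega)) (hx ρ.succ)
      · exact Submodule.sum_mem _ fun i _ => Submodule.smul_mem _ _ (hs₁ i)
    obtain ⟨k', κ', z', hκ', hs'⟩ := hc' n y hrows
    refine ⟨k', fun t i => ∑ μ, κ' t μ * g μ i, z', fun t ρ => ?_, ?_⟩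
    · refine Fin.cases ?_ (fun ρ' => ?_) ρ
      · have : ∑ i, a 0 i * ∑ μ, κ' t μ * g μ i = ∑ μ, κ' t μ * ∑ i, a 0 i * g μ i := by
          simp only [Finset.mul_sum]
          rw [Finset.sum_comm]
          exact Finset.sum_congr rfl fun μ _ => Finset.sum_congr rfl fun i _ => by ring
        rw [this]
        exact Finset.sum_eq_zero fun μ _ => by rw [hgmem μ, mul_zero]
      · have : ∑ i, a ρ'.succ i * ∑ μ, κ' t μ * g μ i =
            ∑ μ, (∑ i, a ρ'.succ i * g μ i) * κ' t μ := by
          simp only [Finset.mul_sum, Finset.sum_mul]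
          rw [Finset.sum_comm]
          exact Finset.sum_congr rfl fun μ _ => Finset.sum_congr rfl fun i _ => by ring
        rw [this]
        exact hκ' t ρ'
    · rw [← act_act]
      have : x - act g (act κ' z') = (x - act g y) + act g (y - act κ' z') := by
        rw [map_sub]; abel
      rw [this]
      exact (hs₁.mono (Nat.le_add_right n c')).add (hs'.act g)

/-- **Closedness** of the image of a matrix acting on a complete module. -/
theorem closed [IsNoetherianRing A] [IsHausdorff J N] [IsPrecomplete J N] (hE : HypE J N)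
    {s l : ℕ} (g : Fin s → Fin l → A) (x : Fin l → N)
    (hx : ∀ n, ∃ z : Fin s → N, Small J n (x - act g z)) : ∃ z : Fin s → N, x = act g z := by
  obtain ⟨c, hc⟩ := rows_step hE l s (fun ρ t => g t ρ)
  choose zz hzz using hx
  -- the inductive step
  have hnext : ∀ (n : ℕ) (zp : Fin s → N), Small J (n + c) (x - act g zp) →
      ∃ z : Fin s → N, Small J (n + 1 + c) (x - act g z) ∧ Small J n (z - zp) := by
    intro n zp hzp
    set w := zz (n + 1 + c) - zp with hw
    have hrows : ∀ ρ, ∑ t, g t ρ • w t ∈ (J ^ (n + c) • ⊤ : Submodule A N) := by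
      intro ρ
      have e1 : ∑ t, g t ρ • w t = (act g w) ρ := by rw [act_apply]
      have e2 : act g w = (x - act g zp) - (x - act g (zz (n + 1 + c))) := by
        rw [hw, map_sub]; abel
      rw [e1, e2]
      exact (hzp.sub ((hzz (n + 1 + c)).mono (by omega))) ρ
    obtain ⟨k, κ, ζ, hκ, hsm⟩ := hc n w hrows
    have hzero : act g (act κ ζ) = 0 := by
      rw [act_act]
      funext i
      rw [act_apply]
      refine Finset.sum_eq_zero fun t _ => ?_
      have := hκ t i
      have e : ∑ μ, κ t μ * g μ i = ∑ μ, g μ i * κ t μ :=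
        Finset.sum_congr rfl fun μ _ => mul_comm _ _
      rw [e, this, zero_smul]
    refine ⟨zz (n + 1 + c) - act κ ζ, ?_, ?_⟩
    · rw [map_sub, hzero, sub_zero]
      exact hzz (n + 1 + c)
    · have : zz (n + 1 + c) - act κ ζ - zp = w - act κ ζ := by rw [hw]; abel
      rw [this]
      exact hsm
  choose! next hnext1 hnext2 using hnext
  let seq : ℕ → (Fin s → N) := fun n => Nat.rec (zz c) (fun n zp => next n zp) n
  have hseq0 : seq 0 = zz c := rfl
  have hseqS : ∀ n, seq (n + 1) = next n (seq n) := fun n => rfl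
  have hP : ∀ n, Small J (n + c) (x - act g (seq n)) := by
    intro n
    induction n with
    | zero => rw [hseq0, zero_add]; exact hzz c
    | succ n ih => rw [hseqS]; exact hnext1 n (seq n) ih
  have hstep : ∀ n, Small J n (seq (n + 1) - seq n) := by
    intro n
    rw [hseqS]
    exact hnext2 n (seq n) (hP n)
  have hcauchy : ∀ m n, m ≤ n → Small J m (seq n - seq m) := by
    intro m n hmn
    induction n, hmn using Nat.le_induction with
    | base => rw [sub_self]; intro i; exact Submodule.zero_mem _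
    | succ n hmn ih =>
      have : seq (n + 1) - seq m = (seq (n + 1) - seq n) + (seq n - seq m) := by abel
      rw [this]
      exact ((hstep n).mono hmn).add ih
  -- limits
  have hlim : ∀ t, ∃ L : N, ∀ n, seq n t ≡ L [SMOD (J ^ n • ⊤ : Submodule A N)] := by
    intro t
    apply IsPrecomplete.prec'
    intro m n hmn
    rw [SModEq.sub_mem]
    have := hcauchy m n hmn t
    rw [Pi.sub_apply] at this
    have h2 : seq m t - seq n t = -(seq n t - seq m t) := by abel
    rw [h2]
    exact Submodule.neg_mem _ this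
  choose L hL using hlim
  have hLs : ∀ n, Small J n (seq n - L) := by
    intro n t
    rw [Pi.sub_apply]
    exact SModEq.sub_mem.mp (hL t n)
  refine ⟨L, ?_⟩
  funext i
  rw [← sub_eq_zero]
  apply IsHausdorff.haus' (I := J)
  intro n
  rw [SModEq.sub_mem, sub_zero]
  have : x - act g L = (x - act g (seq n)) + act g (seq n - L) := by
    rw [map_sub]; abel
  have h3 : Small J n (x - act g L) := by
    rw [this]
    exact ((hP n).mono (Nat.le_add_right n c)).add ((hLs n).act g)
  exact h3 i

/-- **Main theorem**: a complete separated module over a Noetherian ring whose relations are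
approximately trivial modulo every power of `J` is flat. -/
theorem flat_of_complete [IsNoetherianRing A] [IsHausdorff J N] [IsPrecomplete J N]
    (hE : HypE J N) : Module.Flat A N := by
  apply Module.Flat.of_forall_isTrivialRelation
  intro l f x hrel
  obtain ⟨c, hc⟩ := row_step hE f
  obtain ⟨s, g, hg⟩ := exists_gen f
  have hgmem : ∀ μ, ∑ i, f i * g μ i = 0 := by
    intro μ
    have : g μ ∈ rowSyz f := by
      rw [← hg]; exact Submodule.subset_span ⟨μ, rfl⟩
    exact this
  have happrox : ∀ n, ∃ z : Fin s → N, Small J n (x - act g z) := by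
    intro n
    obtain ⟨k, κ, z, h1, h2⟩ := hc n x (by rw [hrel]; exact Submodule.zero_mem _)
    obtain ⟨y, hy⟩ := exists_act_eq g κ (fun t => by rw [hg]; exact h1 t) z
    exact ⟨y, by rwa [← hy]⟩
  obtain ⟨z, hz⟩ := closed hE g x happrox
  refine ⟨s, fun i t => g t i, z, fun i => ?_, fun t => hgmem t⟩
  rw [hz, act_apply]

end Groth.Agent.Lib.helper10.ComplFlat
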