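import Mathlib
import Groth.Agent.Lib.Helper17.LocalFlat

set_option autoImplicit false
set_option maxHeartbeats 800000

open TensorProduct Function

namespace Groth.Agent.Lib.helper10.PowGood

open Groth.Agent.Lib.Helper17.LocalFlat

universe u v w

variable {R : Type u} [CommRing R] (M : Type v) [AddCommGroup M] [Module R M] {I : Ideal R}

/-- **Lemma P**: if `M/IM` is flat over `R/I` and `I ⊗ M → M` is injective, then for every
submodule `N' ≤ N` containing `I^n N` the map `N' ⊗ M → N ⊗ M` is injective. -/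
theorem good_of_pow_smul_le [Module.Flat (R ⧸ I) ((R ⧸ I) ⊗[R] M)]
    (hIM : Injective (I.subtype.rTensor M))
    (N : Type w) [AddCommGroup N] [Module R N]
    (N' : Submodule R N) (n : ℕ) (hN' : I ^ n • (⊤ : Submodule R N) ≤ N') :
    Injective (N'.subtype.rTensor M) := by
  have key : ∀ k, Injective ((N' ⊔ I ^ k • (⊤ : Submodule R N)).subtype.rTensor M) := by
    intro k
    induction k with
    | zero =>
      have h0 : N' ⊔ I ^ 0 • (⊤ : Submodule R N) = ⊤ := by
        rw [pow_zero, Ideal.one_eq_top, Submodule.top_smul, sup_top_eq]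
      have : ∀ P : Submodule R N, P = ⊤ → Injective (P.subtype.rTensor M) := by
        rintro _ rfl
        have : (⊤ : Submodule R N).subtype = (Submodule.topEquiv (R := R) (M := N)).toLinearMap := by
          ext x; rfl
        rw [this]
        exact (LinearEquiv.rTensor M (Submodule.topEquiv (R := R) (M := N))).injective
      exact this _ h0
    | succ k ih =>
      have hle : N' ⊔ I ^ (k + 1) • (⊤ : Submodule R N) ≤ N' ⊔ I ^ k • (⊤ : Submodule R N) :=
        sup_le_sup_left (Submodule.smul_mono_left (Ideal.pow_le_pow_right (Nat.le_succ k))) _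
      refine good_trans_sub M _ _ hle ih ?_
      apply good_of_smul_le M hIM
      rw [Submodule.smul_le]
      intro a ha x _
      show ((a • x : ↥(N' ⊔ I ^ k • (⊤ : Submodule R N))) : N) ∈ N' ⊔ I ^ (k + 1) • ⊤
      obtain ⟨y, hy, z, hz, hyz⟩ := Submodule.mem_sup.1 x.2
      rw [Submodule.coe_smul, ← hyz, smul_add]
      refine Submodule.add_mem_sup (N'.smul_mem a hy) ?_
      rw [pow_succ', mul_smul]
      exact Submodule.smul_mem_smul ha hz
  have := key n
  rwa [sup_eq_left.mpr hN'] at this

/-- **Lemma Q**: approximate triviality of relations modulo `I^n`. -/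
theorem exists_trivial_mod_pow [Module.Flat (R ⧸ I) ((R ⧸ I) ⊗[R] M)]
    (hIM : Injective (I.subtype.rTensor M)) (n : ℕ) {l : ℕ} (a : Fin l → R) (x : Fin l → M)
    (hax : ∑ i, a i • x i ∈ (I ^ n • ⊤ : Submodule R M)) :
    ∃ (k : ℕ) (b : Fin l → Fin k → R) (y : Fin k → M),
      (∀ i, x i = ∑ j, b i j • y j) ∧ ∀ j, ∑ i, a i * b i j ∈ I ^ n := by
  set m : Fin l → (R ⧸ I ^ n) := fun i => Ideal.Quotient.mk (I ^ n) (a i) with hm
  have hinj : Injective (LinearMap.rTensor M (Submodule.span R (Set.range m)).subtype) := by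
    apply good_of_pow_smul_le M hIM (R ⧸ I ^ n) _ n
    intro z hz
    have : z = 0 := by
      refine Submodule.smul_induction_on hz ?_ ?_
      · intro r hr y _
        obtain ⟨y, rfl⟩ := Ideal.Quotient.mk_surjective y
        rw [← Ideal.Quotient.mk_eq_mk, ← Submodule.Quotient.mk_smul, Ideal.Quotient.mk_eq_mk,
          Ideal.Quotient.eq_zero_iff_mem, smul_eq_mul]
        exact Ideal.mul_mem_right _ _ hr
      · intro y z hy hz
        rw [hy, hz, add_zero]
    rw [this]
    exact Submodule.zero_mem _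
  have hzero : ∑ i, m i ⊗ₜ[R] x i = (0 : (R ⧸ I ^ n) ⊗[R] M) := by
    have h1 : ∀ i, m i ⊗ₜ[R] x i = (1 : R ⧸ I ^ n) ⊗ₜ[R] (a i • x i) := by
      intro i
      rw [TensorProduct.tmul_smul, TensorProduct.smul_tmul']
      congr 1
      rw [hm]
      simp only [Algebra.smul_def, mul_one]
      rfl
    simp only [h1]
    rw [← TensorProduct.tmul_sum]
    -- `1 ⊗ z = 0` for `z ∈ I^n M`
    refine Submodule.smul_induction_on hax ?_ ?_
    · intro r hr y _
      rw [TensorProduct.tmul_smul, TensorProduct.smul_tmul']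
      have : r • (1 : R ⧸ I ^ n) = 0 := by
        rw [Algebra.smul_def, mul_one]
        exact Ideal.Quotient.eq_zero_iff_mem.mpr hr
      rw [this, TensorProduct.zero_tmul]
    · intro y z hy hz
      rw [TensorProduct.tmul_add, hy, hz, add_zero]
  obtain ⟨k, b, y, h1, h2⟩ :=
    TensorProduct.vanishesTrivially_of_sum_tmul_eq_zero_of_rTensor_injective (hm := hinj) (hmn := hzero)
  refine ⟨k, b, y, h1, fun j => ?_⟩
  have := h2 j
  rw [← Ideal.Quotient.eq_zero_iff_mem, map_sum]
  rw [← this]
  refine Finset.sum_congr rfl fun i _ => ?_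
  rw [hm, map_mul, Algebra.smul_def, mul_comm]
  rfl

end Groth.Agent.Lib.helper10.PowGood
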