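import Mathlib
import Groth.Agent.Lib.helper10.PowGood
import Groth.Agent.Lib.helper10.ComplFlat

set_option autoImplicit false
set_option maxHeartbeats 800000

/-!
# Approximate triviality of relations for a "dense" map `M → N` over `R → A`
-/

namespace Groth.Agent.Lib.helper10.ComplFlatApp

open TensorProduct Function
open Groth.Agent.Lib.helper10

universe u v

/-- If `M/IM` is `R/I`-flat with `I ⊗ M → M` injective, and `R → A`, `M → N` are dense with
respect to the `I`-adic filtrations (and `M → N` reflects the filtration), then `N` satisfies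
`HypE`. -/
theorem hypE_of_dense {R : Type u} [CommRing R] {I : Ideal R} (M : Type v) [AddCommGroup M]
    [Module R M] [Module.Flat (R ⧸ I) ((R ⧸ I) ⊗[R] M)]
    (hIM : Injective (I.subtype.rTensor M))
    {A : Type u} [CommRing A] [Algebra R A] {N : Type v} [AddCommGroup N] [Module A N]
    [Module R N] [IsScalarTower R A N] (ι : M →ₗ[R] N)
    (ha : ∀ (n : ℕ) (a : A), ∃ a' : R, a - algebraMap R A a' ∈ (I.map (algebraMap R A)) ^ n)
    (hx : ∀ (n : ℕ) (x : N), ∃ x' : M,
      x - ι x' ∈ ((I.map (algebraMap R A)) ^ n • ⊤ : Submodule A N))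
    (hc : ∀ (n : ℕ) (m : M), ι m ∈ ((I.map (algebraMap R A)) ^ n • ⊤ : Submodule A N) →
      m ∈ (I ^ n • ⊤ : Submodule R M)) :
    ComplFlat.HypE (I.map (algebraMap R A)) N := by
  intro n l a x hax
  choose a' ha' using fun i => ha n (a i)
  choose x' hx' using fun i => hx n (x i)
  have h1 : ∑ i, a' i • x' i ∈ (I ^ n • ⊤ : Submodule R M) := by
    apply hc
    have e : ι (∑ i, a' i • x' i) = ∑ i, a i • x i -
        (∑ i, (a i - algebraMap R A (a' i)) • x i +
          ∑ i, algebraMap R A (a' i) • (x i - ι (x' i))) := by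
      simp only [map_sum, map_smul, sub_smul, smul_sub, Finset.sum_sub_distrib, algebraMap_smul]
      abel
    rw [e]
    refine Submodule.sub_mem _ hax (Submodule.add_mem _ (Submodule.sum_mem _ fun i _ => ?_)
      (Submodule.sum_mem _ fun i _ => ?_))
    · exact Submodule.smul_mem_smul (ha' i) Submodule.mem_top
    · exact Submodule.smul_mem _ _ (hx' i)
  obtain ⟨k, b, y, hb, hab⟩ := PowGood.exists_trivial_mod_pow M hIM n a' x' h1
  refine ⟨k, fun i j => algebraMap R A (b i j), fun j => ι (y j), fun i => ?_, fun j => ?_⟩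
  · have : ∑ j, algebraMap R A (b i j) • ι (y j) = ι (x' i) := by
      rw [hb i]; simp [map_sum, algebraMap_smul]
    rw [this]; exact hx' i
  · have e : ∑ i, a i * algebraMap R A (b i j) =
        ∑ i, (a i - algebraMap R A (a' i)) * algebraMap R A (b i j) +
          algebraMap R A (∑ i, a' i * b i j) := by
      simp [map_sum, sub_mul, Finset.sum_sub_distrib]
    rw [e]
    refine Ideal.add_mem _ (Ideal.sum_mem _ fun i _ => Ideal.mul_mem_right _ _ (ha' i)) ?_
    rw [← Ideal.map_pow]
    exact Ideal.mem_map_of_mem _ (hab j)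

end Groth.Agent.Lib.helper10.ComplFlatApp
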