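import Mathlib.RingTheory.MvPolynomial.Homogeneous
import Mathlib.RingTheory.Polynomial.Basic
import Mathlib.RingTheory.AdicCompletion.Basic
import Mathlib.RingTheory.Noetherian.Basic
import Mathlib.RingTheory.Finiteness.Cardinality

set_option autoImplicit false

namespace Groth.Agent.Lib.helper10.CompleteNoeth

open MvPolynomial

section Poly

variable {R : Type*} [CommRing R] {σ : Type*}

lemma eval_mem_pow_succ {r : ℕ} (f : Fin r → R) {n : ℕ} (p : MvPolynomial (Fin r) R)
    (hp : p.IsHomogeneous n) (hc : ∀ d, coeff d p ∈ Ideal.span (Set.range f)) :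
    eval f p ∈ Ideal.span (Set.range f) ^ (n + 1) := by
  rw [eval_eq]
  refine Ideal.sum_mem _ fun d hd => ?_
  rw [pow_succ']
  refine Ideal.mul_mem_mul (hc d) ?_
  have hdeg : d.degree = n := by
    by_contra hne
    exact (mem_support_iff.1 hd) (hp.coeff_eq_zero hne)
  rw [Ideal.mem_span_pow_iff_exists_isHomogeneous]
  refine ⟨monomial d 1, isHomogeneous_monomial 1 hdeg, ?_⟩
  rw [eval_monomial, one_mul]
  rfl

lemma homogeneousComponent_map {S : Type*} [CommRing S] (g : R →+* S) (n : ℕ)
    (p : MvPolynomial σ R) :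
    homogeneousComponent n (map g p) = map g (homogeneousComponent n p) := by
  ext d
  rw [coeff_homogeneousComponent, coeff_map, coeff_map, coeff_homogeneousComponent]
  split_ifs <;> simp

lemma exists_homogeneous_lift {S : Type*} [CommRing S] (g : R →+* S)
    (hg : Function.Surjective g) {m : ℕ} (h : MvPolynomial σ S) (hh : h.IsHomogeneous m) :
    ∃ p : MvPolynomial σ R, p.IsHomogeneous m ∧ map g p = h := by
  obtain ⟨p₀, hp₀⟩ := map_surjective g hg h
  refine ⟨homogeneousComponent m p₀, homogeneousComponent_isHomogeneous m p₀, ?_⟩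
  rw [← homogeneousComponent_map, hp₀, homogeneousComponent_eq_self hh]

attribute [local instance] MvPolynomial.gradedAlgebra in
lemma homogeneousComponent_mul_of_isHomogeneous (q j : MvPolynomial σ R) {d : ℕ}
    (hj : j.IsHomogeneous d) (n : ℕ) :
    homogeneousComponent n (q * j) =
      if d ≤ n then homogeneousComponent (n - d) q * j else 0 := by
  have key : ∀ (φ : MvPolynomial σ R) (i : ℕ),
      (DirectSum.decompose (homogeneousSubmodule σ R) φ i : MvPolynomial σ R) =
        homogeneousComponent i φ := fun φ i => decomposition.decompose'_apply φ i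
  have := DirectSum.coe_decompose_mul_of_right_mem (homogeneousSubmodule σ R) (a := q) n
    ((mem_homogeneousSubmodule d j).2 hj)
  rw [key, key] at this
  exact this

end Poly

section Main

variable {R : Type*} [CommRing R]

/-- Stacks 05GH, complete case. -/
theorem isNoetherianRing_of_isAdicComplete (I : Ideal R) (hI : I.FG) [IsAdicComplete I R]
    [IsNoetherianRing (R ⧸ I)] : IsNoetherianRing R := by
  classical
  obtain ⟨r, f, hf⟩ := (Submodule.fg_iff_exists_fin_generating_family).1 hI
  have hfI : Ideal.span (Set.range f) = I := hf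
  rw [isNoetherianRing_iff_ideal_fg]
  intro 𝔞
  set q : R →+* R ⧸ I := Ideal.Quotient.mk I with hq
  have hqs : Function.Surjective q := Ideal.Quotient.mk_surjective
  -- the generating set of leading forms
  set S : Set (MvPolynomial (Fin r) (R ⧸ I)) :=
    {h | ∃ (n : ℕ) (p : MvPolynomial (Fin r) R), p.IsHomogeneous n ∧ map q p = h ∧ eval f p ∈ 𝔞}
    with hS
  have hfg : (Ideal.span S).FG := IsNoetherian.noetherian _
  obtain ⟨T, hTS, hT⟩ := (Submodule.fg_span_iff_fg_span_finset_subset S).1 hfg
  have hex : ∀ h, h ∈ S → ∃ (n : ℕ) (p : MvPolynomial (Fin r) R),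
      p.IsHomogeneous n ∧ map q p = h ∧ eval f p ∈ 𝔞 := fun h hh => hh
  choose! dg pt hpt using hex
  -- the candidate generators
  set a : MvPolynomial (Fin r) (R ⧸ I) → R := fun h => eval f (pt h) with ha
  have ha𝔞 : ∀ h ∈ T, a h ∈ 𝔞 := fun h hh => (hpt h (hTS hh)).2.2
  -- key step
  have KS : ∀ (n : ℕ) (x : R), x ∈ 𝔞 → x ∈ I ^ n →
      ∃ c : MvPolynomial (Fin r) (R ⧸ I) → R, (∀ h ∈ T, c h ∈ I ^ (n - dg h)) ∧
        x - ∑ h ∈ T, c h * a h ∈ I ^ (n + 1) := by
    intro n x hx𝔞 hxn
    rw [← hfI, Ideal.mem_span_pow_iff_exists_isHomogeneous] at hxn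
    obtain ⟨p, hp, hpx⟩ := hxn
    have hmem : map q p ∈ Ideal.span S := Ideal.subset_span ⟨n, p, hp, rfl, hpx ▸ hx𝔞⟩
    have hmem' : map q p ∈ Submodule.span (MvPolynomial (Fin r) (R ⧸ I))
        (T : Set (MvPolynomial (Fin r) (R ⧸ I))) := by
      rw [← hT]; exact hmem
    obtain ⟨w, -, hw⟩ := Submodule.mem_span_finset.1 hmem'
    -- homogeneous lifts of the coefficients
    have hlift : ∀ h ∈ T, ∃ qt : MvPolynomial (Fin r) R, qt.IsHomogeneous (n - dg h) ∧
        map q qt = homogeneousComponent (n - dg h) (w h) :=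
      fun h _ => exists_homogeneous_lift q hqs _ (homogeneousComponent_isHomogeneous _ _)
    choose! qt hqt using hlift
    set T' := T.filter (fun h => dg h ≤ n) with hT'
    set Dt : MvPolynomial (Fin r) R := p - ∑ h ∈ T', qt h * pt h with hDt
    have hDhom : Dt.IsHomogeneous n := by
      refine hp.sub (IsHomogeneous.sum _ _ _ fun h hh => ?_)
      rw [hT', Finset.mem_filter] at hh
      have := (hqt h hh.1).1.mul (hpt h (hTS hh.1)).1
      rwa [Nat.sub_add_cancel hh.2] at this
    have hDred : map q Dt = 0 := by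
      rw [hDt, map_sub, map_sum, sub_eq_zero]
      have h1 : map q p = homogeneousComponent n (map q p) :=
        (homogeneousComponent_eq_self (hp.map q)).symm
      rw [h1, ← hw, map_sum]
      rw [hT', Finset.sum_filter]
      refine Finset.sum_congr rfl fun h hh => ?_
      rw [smul_eq_mul, homogeneousComponent_mul_of_isHomogeneous (w h) h
        (by have := (hpt h (hTS hh)).1.map q; rwa [(hpt h (hTS hh)).2.1] at this) n]
      split_ifs with hle
      · rw [map_mul, (hqt h hh).2, (hpt h (hTS hh)).2.1]
      · rfl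
    have hDc : ∀ d, coeff d Dt ∈ Ideal.span (Set.range f) := by
      intro d
      rw [hfI, ← Ideal.Quotient.eq_zero_iff_mem]
      have := congrArg (coeff d) hDred
      rwa [coeff_map, coeff_zero] at this
    have hDev := eval_mem_pow_succ f Dt hDhom hDc
    rw [hfI] at hDev
    refine ⟨fun h => if dg h ≤ n then eval f (qt h) else 0, fun h hh => ?_, ?_⟩
    · beta_reduce
      split_ifs with hle
      · rw [← hfI, Ideal.mem_span_pow_iff_exists_isHomogeneous]
        exact ⟨qt h, (hqt h hh).1, rfl⟩
      · exact zero_mem _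
    · have : x - ∑ h ∈ T, (if dg h ≤ n then eval f (qt h) else 0) * a h = eval f Dt := by
        rw [hDt, map_sub, map_sum, hpx, hT', Finset.sum_filter]
        congr 1
        refine Finset.sum_congr rfl fun h _ => ?_
        split_ifs with hle
        · rw [map_mul]
        · rw [zero_mul]
      rw [this]; exact hDev
  choose! cf hcf using KS
  -- show `𝔞` is generated by the `a h`
  refine ⟨T.image a, le_antisymm ?_ ?_⟩
  · rw [Submodule.span_le]
    intro y hy
    rw [Finset.coe_image] at hy
    obtain ⟨h, hh, rfl⟩ := hy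
    exact ha𝔞 h hh
  · intro x hx
    -- the sequence
    let xs : ℕ → R := fun n => Nat.rec x (fun n y => y - ∑ h ∈ T, cf n y h * a h) n
    have hxs0 : xs 0 = x := rfl
    have hxsS : ∀ n, xs (n + 1) = xs n - ∑ h ∈ T, cf n (xs n) h * a h := fun n => rfl
    have hinv : ∀ n, xs n ∈ 𝔞 ∧ xs n ∈ I ^ n := by
      intro n
      induction n with
      | zero => exact ⟨hx, by rw [pow_zero, Ideal.one_eq_top]; trivial⟩
      | succ n ih =>
        refine ⟨?_, ?_⟩
        · rw [hxsS]
          exact sub_mem ih.1 (Ideal.sum_mem _ fun h hh => Ideal.mul_mem_left _ _ (ha𝔞 h hh))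
        · rw [hxsS]; exact (hcf n (xs n) ih.1 ih.2).2
    have hcs : ∀ n, ∀ h ∈ T, cf n (xs n) h ∈ I ^ (n - dg h) := fun n =>
      (hcf n (xs n) (hinv n).1 (hinv n).2).1
    let Sm : ℕ → MvPolynomial (Fin r) (R ⧸ I) → R := fun N h => ∑ n ∈ Finset.range N, cf n (xs n) h
    have hxsSm : ∀ N, xs N = x - ∑ h ∈ T, Sm N h * a h := by
      intro N
      induction N with
      | zero => simp [Sm, hxs0]
      | succ N ih =>
        have : ∀ h, Sm (N + 1) h = Sm N h + cf N (xs N) h := fun h => Finset.sum_range_succ _ _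
        rw [hxsS]
        simp_rw [this, add_mul, Finset.sum_add_distrib]
        rw [ih]
        ring
    set D := T.sup dg with hD
    have hdgD : ∀ h ∈ T, dg h ≤ D := fun h hh => Finset.le_sup hh
    have hSmdiff : ∀ N k, ∀ h ∈ T, Sm (N + k) h - Sm N h ∈ I ^ (N - dg h) := by
      intro N k h hh
      induction k with
      | zero => simp
      | succ k ih =>
        have : Sm (N + (k + 1)) h - Sm N h = (Sm (N + k) h - Sm N h) + cf (N + k) (xs (N + k)) h := by
          have : Sm (N + (k + 1)) h = Sm (N + k) h + cf (N + k) (xs (N + k)) h :=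
            Finset.sum_range_succ _ _
          rw [this]; ring
        rw [this]
        refine add_mem ih (Ideal.pow_le_pow_right ?_ (hcs (N + k) h hh))
        omega
    have hlim : ∀ h ∈ T, ∃ C : R, ∀ m, Sm (m + D) h - C ∈ I ^ m := by
      intro h hh
      have hprec : IsPrecomplete I R := inferInstance
      obtain ⟨C, hC⟩ := hprec.prec (f := fun m => Sm (m + D) h) (by
        intro m m' hmm'
        obtain ⟨k, rfl⟩ := Nat.exists_eq_add_of_le hmm'
        rw [SModEq.sub_mem, smul_eq_mul, Ideal.mul_top]
        have h1 := hSmdiff (m + D) k h hh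
        have h2 : I ^ (m + D - dg h) ≤ I ^ m := Ideal.pow_le_pow_right (by have := hdgD h hh; omega)
        have h3 : m + k + D = m + D + k := by omega
        rw [← neg_sub, h3]
        exact neg_mem (h2 h1))
      refine ⟨C, fun m => ?_⟩
      have := hC m
      rwa [SModEq.sub_mem, smul_eq_mul, Ideal.mul_top] at this
    choose! C hC using hlim
    have hzero : x - ∑ h ∈ T, C h * a h = 0 := by
      apply IsHausdorff.haus (inferInstance : IsHausdorff I R)
      intro m
      rw [SModEq.sub_mem, sub_zero, smul_eq_mul, Ideal.mul_top]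
      have h1 : x - ∑ h ∈ T, C h * a h =
          xs (m + D) + ∑ h ∈ T, (Sm (m + D) h - C h) * a h := by
        rw [hxsSm (m + D)]
        simp_rw [sub_mul, Finset.sum_sub_distrib]
        ring
      rw [h1]
      refine add_mem (Ideal.pow_le_pow_right (Nat.le_add_right _ _) (hinv (m + D)).2) ?_
      exact Ideal.sum_mem _ fun h hh => Ideal.mul_mem_right _ _ (hC h hh m)
    rw [sub_eq_zero] at hzero
    rw [hzero]
    refine Submodule.sum_mem _ fun h hh => ?_
    rw [← smul_eq_mul]
    exact Submodule.smul_mem _ _ (Submodule.subset_span (Finset.mem_image_of_mem a hh))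

end Main

end Groth.Agent.Lib.helper10.CompleteNoeth
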