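import Mathlib

set_option autoImplicit false
universe u

namespace H10S14680

variable (A : Type u) [CommRing A] [IsNoetherianRing A]

/-- an element of a finite module vanishing in all completions at maximal ideals is zero -/
theorem eq_zero_of_forall_of_eq_zero (M : Type u) [AddCommGroup M] [Module A M] [Module.Finite A M]
    (x : M) (h : ∀ (m : Ideal A) [m.IsMaximal], AdicCompletion.of m M x = 0) : x = 0 := by
  by_contra hx
  -- annihilator of x is a proper ideal
  have hann : (Submodule.span A {x}).annihilator ≠ ⊤ := by
    intro htop
    apply hx
    have : (1 : A) ∈ (Submodule.span A {x}).annihilator := htop ▸ Submodule.mem_top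
    rw [Submodule.mem_annihilator_span_singleton] at this
    simpa using this
  obtain ⟨m, hm, hle⟩ := Ideal.exists_le_maximal _ hann
  have h0 := h m
  have hmem : x ∈ ⨅ i : ℕ, (m ^ i • ⊤ : Submodule A M) := by
    rw [Submodule.mem_iInf]
    intro n
    have := congrArg (AdicCompletion.eval m M n) h0
    rw [AdicCompletion.eval_of, map_zero, Submodule.mkQ_apply, Submodule.Quotient.mk_eq_zero] at this
    exact this
  rw [Ideal.mem_iInf_smul_pow_eq_bot_iff] at hmem
  obtain ⟨⟨r, hr⟩, hrx⟩ := hmem
  have h1 : (1 - r) ∈ (Submodule.span A {x}).annihilator := by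
    rw [Submodule.mem_annihilator_span_singleton, sub_smul, one_smul]
    simp only at hrx
    rw [hrx, sub_self]
  have h2 : (1 - r) ∈ m := hle h1
  have : (1 : A) ∈ m := by
    have := m.add_mem h2 hr
    simpa using this
  exact hm.ne_top ((Ideal.eq_top_iff_one m).2 this)

end H10S14680

namespace H10S14680

variable (A : Type u) [CommRing A] [IsNoetherianRing A]
    (M' M M'' : Type u) [AddCommGroup M'] [Module A M'] [AddCommGroup M] [Module A M] [AddCommGroup M''] [Module A M'']
    [Module.Finite A M'] [Module.Finite A M] [Module.Finite A M''] (f : M' →ₗ[A] M) (g : M →ₗ[A] M'')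

theorem main :
    (Function.Injective f ∧ Function.Exact f g ∧ Function.Surjective g) ↔
      ∀ (m : Ideal A) [m.IsMaximal],
        Function.Injective (AdicCompletion.map m f) ∧ Function.Exact (AdicCompletion.map m f) (AdicCompletion.map m g) ∧
          Function.Surjective (AdicCompletion.map m g) := by
  constructor
  · rintro ⟨hf, hfg, hg⟩ m _
    exact ⟨AdicCompletion.map_injective m hf, AdicCompletion.map_exact hf hfg hg,
      AdicCompletion.map_surjective m hg⟩
  · intro h
    have hinj : Function.Injective f := by
      rw [injective_iff_map_eq_zero]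
      intro x hx
      apply eq_zero_of_forall_of_eq_zero A M' x
      intro m _
      apply (h m).1
      rw [AdicCompletion.map_of, hx, map_zero, map_zero]
    have hcomp : ∀ x, g (f x) = 0 := by
      intro x
      apply eq_zero_of_forall_of_eq_zero A M'' _
      intro m _
      rw [← AdicCompletion.map_of, ← AdicCompletion.map_of]
      exact (h m).2.1.apply_apply_eq_zero _
    -- the quotient N = M / range f
    let N := M ⧸ LinearMap.range f
    let π : M →ₗ[A] N := (LinearMap.range f).mkQ
    have hπ : Function.Surjective π := Submodule.mkQ_surjective _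
    have hfπ : Function.Exact f π := LinearMap.exact_map_mkQ_range f
    let gbar : N →ₗ[A] M'' := (LinearMap.range f).liftQ g (by
      rintro _ ⟨x, rfl⟩
      exact hcomp x)
    have hgbar : gbar ∘ₗ π = g := Submodule.liftQ_mkQ _ _ _
    have hexact : Function.Exact f g := by
      intro y
      constructor
      · intro hy
        -- π y = 0
        have hπy : π y = 0 := by
          apply eq_zero_of_forall_of_eq_zero A N _
          intro m _
          -- gbar-hat is injective on the image
          have hex := AdicCompletion.map_exact (I := m) hinj hfπ hπ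
          -- (of y) ∈ ker ĝ = range f̂
          have h1 : AdicCompletion.map m g (AdicCompletion.of m M y) = 0 := by
            rw [AdicCompletion.map_of, hy, map_zero]
          obtain ⟨z, hz⟩ := ((h m).2.1 _).1 h1
          rw [← AdicCompletion.map_of, ← hz]
          exact hex.apply_apply_eq_zero z
        exact (hfπ y).1 hπy
      · rintro ⟨x, rfl⟩
        exact hcomp x
    have hsurj : Function.Surjective g := by
      -- cokernel
      let C := M'' ⧸ LinearMap.range g
      let ρ : M'' →ₗ[A] C := (LinearMap.range g).mkQ
      have hρ : Function.Surjective ρ := Submodule.mkQ_surjective _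
      have hρg : ρ ∘ₗ g = 0 := by
        ext x
        show (LinearMap.range g).mkQ (g x) = 0
        rw [Submodule.mkQ_apply, Submodule.Quotient.mk_eq_zero]
        exact ⟨x, rfl⟩
      have hC : ∀ c : C, c = 0 := by
        intro c
        apply eq_zero_of_forall_of_eq_zero A C c
        intro m _
        obtain ⟨y, rfl⟩ := hρ c
        obtain ⟨z, hz⟩ := (h m).2.2 (AdicCompletion.of m M'' y)
        rw [← AdicCompletion.map_of, ← hz]
        have := AdicCompletion.map_comp_apply m g ρ z
        rw [this, hρg, AdicCompletion.map_zero, LinearMap.zero_apply]
      intro y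
      have := hC (ρ y)
      rw [Submodule.mkQ_apply, Submodule.Quotient.mk_eq_zero] at this
      exact this
    exact ⟨hinj, hexact, hsurj⟩

end H10S14680
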