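import Mathlib

/-!
# Descending a retraction "up to `θ₀`" of a conormal sequence to the special fibre
-/

set_option autoImplicit false

namespace Groth.Agent.Lib.helper10.CotRetract

open TensorProduct Algebra Algebra.Extension

universe u

attribute [local instance] Algebra.TensorProduct.rightAlgebra

variable {k Λ B₀ S : Type u} [Field k] [CommRing Λ] [Algebra k Λ] [CommRing B₀] [Algebra k B₀]
  [CommRing S] [Algebra Λ S] [Algebra k S] [IsScalarTower k Λ S] [Algebra B₀ S]
  [IsScalarTower k B₀ S]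
  (P₀ : Extension.{u} k B₀) (Q : Extension.{u} Λ S)
  [Algebra S (Λ ⊗[k] B₀)] [IsScalarTower Λ S (Λ ⊗[k] B₀)] [IsScalarTower B₀ S (Λ ⊗[k] B₀)]

theorem exists_retraction
    (α₁ : P₀.Hom Q) (β : Q.Hom (P₀.baseChange (T := Λ)))
    (r : Q.CotangentSpace →ₗ[S] Q.Cotangent) (θ₀ : Λ)
    (hr : ∀ y, r (Q.cotangentComplex y) = (algebraMap Λ S θ₀) • y)
    (c : Λ →ₗ[k] k) (hc : c θ₀ = 1) :
    ∃ l : P₀.CotangentSpace →ₗ[B₀] P₀.Cotangent, l ∘ₗ P₀.cotangentComplex = LinearMap.id := by
  let P₀' := P₀.baseChange (T := Λ)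
  let α : P₀.Hom P₀' := P₀.toBaseChange Λ
  let a := Cotangent.map α₁
  let aL := CotangentSpace.map α₁
  let bb := Cotangent.map β
  let lam := (β.comp α₁).sub α
  have hhom : ∀ x, bb (a x) = Cotangent.map α x + lam (P₀.cotangentComplex x) := by
    intro x
    have h1 := LinearMap.congr_fun (Cotangent.map_sub_map (β.comp α₁) α) x
    have h2 := LinearMap.congr_fun (Cotangent.map_comp _ α₁ β) x
    simp only [LinearMap.sub_apply, LinearMap.coe_comp, Function.comp_apply,
      LinearMap.coe_restrictScalars] at h1 h2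
    rw [← h1, ← h2]
    abel
  -- the map `G`
  have hG : ∀ x, bb (r (aL (P₀.cotangentComplex x))) - θ₀ • lam (P₀.cotangentComplex x) =
      θ₀ • Cotangent.map α x := by
    intro x
    rw [CotangentSpace.map_cotangentComplex, hr, map_smul, hhom, algebraMap_smul, smul_add]
    abel
  -- the coefficient map
  let θiso := P₀.tensorCotangentOfFlat Λ
  let χ₀ : Λ ⊗[k] P₀.Cotangent →ₗ[k] P₀.Cotangent :=
    (TensorProduct.lid k P₀.Cotangent).toLinearMap ∘ₗ (c.rTensor P₀.Cotangent)
  have hχ₀ : ∀ t x, χ₀ (t ⊗ₜ x) = c t • x := by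
    intro t x
    simp [χ₀]
  let Rb : B₀ → (Λ ⊗[k] P₀.Cotangent →ₗ[k] Λ ⊗[k] P₀.Cotangent) := fun b =>
    LinearMap.lTensor Λ ((LinearMap.lsmul B₀ P₀.Cotangent b).restrictScalars k)
  have hRb1 : ∀ b w, θiso (Rb b w) = b • θiso w := by
    intro b w
    induction w using TensorProduct.induction_on with
    | zero => simp
    | add x y hx hy => rw [map_add, map_add, hx, hy, map_add, smul_add]
    | tmul t x =>
      simp only [Rb, LinearMap.lTensor_tmul, LinearMap.coe_restrictScalars, LinearMap.lsmul_apply]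
      rw [Extension.tensorCotangentOfFlat_tmul, Extension.tensorCotangentOfFlat_tmul, map_smul,
        ← algebraMap_smul (Λ ⊗[k] B₀) t, ← algebraMap_smul (Λ ⊗[k] B₀) b,
        ← algebraMap_smul (Λ ⊗[k] B₀) t, ← algebraMap_smul (Λ ⊗[k] B₀) b, smul_smul, smul_smul,
        mul_comm]
  have hRb2 : ∀ b w, χ₀ (Rb b w) = b • χ₀ w := by
    intro b w
    induction w using TensorProduct.induction_on with
    | zero => simp
    | add x y hx hy => rw [map_add, map_add, hx, hy, map_add, smul_add]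
    | tmul t x =>
      simp only [Rb, LinearMap.lTensor_tmul, LinearMap.coe_restrictScalars, LinearMap.lsmul_apply]
      rw [hχ₀, hχ₀, smul_comm]
  let χ : P₀'.Cotangent →ₗ[B₀] P₀.Cotangent :=
    { toFun := fun y => χ₀ (θiso.symm y)
      map_add' := fun y z => by rw [map_add, map_add]
      map_smul' := fun b y => by
        obtain ⟨w, rfl⟩ := θiso.surjective y
        rw [← hRb1, LinearEquiv.symm_apply_apply, LinearEquiv.symm_apply_apply, hRb2]
        rfl }
  have hχ : ∀ x, χ (θ₀ • Cotangent.map α x) = x := by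
    intro x
    have : θ₀ • Cotangent.map α x = θiso (θ₀ ⊗ₜ x) := by
      rw [Extension.tensorCotangentOfFlat_tmul]
    rw [this]
    change χ₀ (θiso.symm (θiso (θ₀ ⊗ₜ x))) = x
    rw [LinearEquiv.symm_apply_apply, hχ₀, hc, one_smul]
  -- assemble
  let F : P₀.CotangentSpace →ₗ[B₀] P₀'.Cotangent :=
    (bb.restrictScalars B₀) ∘ₗ (r.restrictScalars B₀) ∘ₗ aL
  let θlam : P₀.CotangentSpace →ₗ[B₀] P₀'.Cotangent :=
    { toFun := fun z => θ₀ • lam z
      map_add' := fun y z => by rw [map_add, smul_add]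
      map_smul' := fun b y => by
        rw [map_smul, RingHom.id_apply, ← algebraMap_smul (Λ ⊗[k] B₀) θ₀,
          ← algebraMap_smul (Λ ⊗[k] B₀) b, ← algebraMap_smul (Λ ⊗[k] B₀) θ₀,
          ← algebraMap_smul (Λ ⊗[k] B₀) b, smul_smul, smul_smul, mul_comm] }
  refine ⟨χ ∘ₗ (F - θlam), ?_⟩
  ext x
  simp only [LinearMap.coe_comp, Function.comp_apply, LinearMap.sub_apply, LinearMap.id_apply]
  change χ (bb (r (aL (P₀.cotangentComplex x))) - θ₀ • lam (P₀.cotangentComplex x)) = x
  rw [hG, hχ]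

end Groth.Agent.Lib.helper10.CotRetract
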