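import Mathlib

set_option autoImplicit false
universe u
open scoped TensorProduct
open MvPolynomial

namespace H10S12091

variable (A : Type u) [CommRing A] (M : Type u) [AddCommGroup M] [Module A M] (m : ℕ) (x : Fin m → M)

/-- the linear form attached to a coefficient vector -/
noncomputable def ell : (Fin m → A) →ₗ[A] MvPolynomial (Fin m) A where
  toFun c := ∑ j, C (c j) * X j
  map_add' c d := by simp [add_mul, Finset.sum_add_distrib]
  map_smul' a c := by
    simp only [Pi.smul_apply, smul_eq_mul, map_mul, RingHom.id_apply, Finset.smul_sum]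
    refine Finset.sum_congr rfl fun j _ => ?_
    rw [MvPolynomial.smul_eq_C_mul, mul_assoc]

lemma ell_apply (c : Fin m → A) : ell A m c = ∑ j, C (c j) * X j := rfl

lemma ell_single (j : Fin m) : ell A m (Pi.single j 1) = X j := by
  classical
  rw [ell_apply, Finset.sum_eq_single j]
  · simp
  · intro i _ hij
    simp [Pi.single_eq_of_ne hij]
  · intro h; exact absurd (Finset.mem_univ j) h

variable {A M m}
variable (G : Algebra.Generators A (SymmetricAlgebra A M) (Fin m))
  (hG : ∀ j, G.val j = SymmetricAlgebra.ι A M (x j))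

include hG in
lemma algebraMap_ell (c : Fin m → A) :
    algebraMap G.Ring (SymmetricAlgebra A M) (ell A m c) =
      SymmetricAlgebra.ι A M (Fintype.linearCombination A x c) := by
  rw [Algebra.Generators.algebraMap_apply, ell_apply, map_sum, Fintype.linearCombination_apply,
    map_sum]
  refine Finset.sum_congr rfl fun j _ => ?_
  rw [map_mul, aeval_C, aeval_X, hG, map_smul, Algebra.smul_def]

include hG in
lemma ell_mem_ker (k : LinearMap.ker (Fintype.linearCombination A x)) :
    ell A m (k : Fin m → A) ∈ G.toExtension.ker := by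
  have h1 : algebraMap G.Ring (SymmetricAlgebra A M) (ell A m (k : Fin m → A)) = 0 := by
    rw [algebraMap_ell x G hG, LinearMap.mem_ker.1 k.2, map_zero]
  exact h1

end H10S12091

namespace H10S12091

open Algebra.Extension

variable {A : Type u} [CommRing A] {M : Type u} [AddCommGroup M] [Module A M] {m : ℕ} (x : Fin m → M)
variable (G : Algebra.Generators A (SymmetricAlgebra A M) (Fin m))
  (hG : ∀ j, G.val j = SymmetricAlgebra.ι A M (x j))

noncomputable def f0 : LinearMap.ker (Fintype.linearCombination A x) →ₗ[A] G.toExtension.Cotangent where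
  toFun k := Cotangent.mk ⟨ell A m (k : Fin m → A), ell_mem_ker x G hG k⟩
  map_add' k k' := by
    rw [← map_add]
    congr 1
    apply Subtype.ext
    show ell A m ((k + k' : LinearMap.ker (Fintype.linearCombination A x)) : Fin m → A) =
      ell A m (k : Fin m → A) + ell A m (k' : Fin m → A)
    rw [Submodule.coe_add, map_add]
  map_smul' a k := by
    rw [RingHom.id_apply, ← algebraMap_smul G.toExtension.Ring a (Cotangent.mk _), ← map_smul]
    congr 1
    apply Subtype.ext
    show ell A m ((a • k : LinearMap.ker (Fintype.linearCombination A x)) : Fin m → A) =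
      algebraMap A (MvPolynomial (Fin m) A) a * ell A m (k : Fin m → A)
    rw [Submodule.coe_smul, map_smul, Algebra.smul_def]

noncomputable def e : SymmetricAlgebra A M ⊗[A] (LinearMap.ker (Fintype.linearCombination A x)) →ₗ[SymmetricAlgebra A M]
    G.toExtension.Cotangent :=
  LinearMap.liftBaseChange (SymmetricAlgebra A M) (f0 x G hG)

lemma e_one_tmul (k : LinearMap.ker (Fintype.linearCombination A x)) :
    e x G hG (1 ⊗ₜ k) = Cotangent.mk ⟨ell A m (k : Fin m → A), ell_mem_ker x G hG k⟩ := by
  simp [e, f0]

end H10S12091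

namespace H10S12091

open Algebra.Extension

variable {A : Type u} [CommRing A] {M : Type u} [AddCommGroup M] [Module A M] {m : ℕ} (x : Fin m → M)
variable (G : Algebra.Generators A (SymmetricAlgebra A M) (Fin m))
  (hG : ∀ j, G.val j = SymmetricAlgebra.ι A M (x j))

/-- ideal generated by the `K`-linear forms -/
noncomputable def L : Ideal (MvPolynomial (Fin m) A) :=
  Ideal.span (Set.range fun k : LinearMap.ker (Fintype.linearCombination A x) => ell A m (k : Fin m → A))

include hG in
theorem ker_le_L (hx : Function.Surjective (Fintype.linearCombination A x)) :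
    G.toExtension.ker ≤ L x := by
  set lc := Fintype.linearCombination A x with hlc
  let φ₀ : (Fin m → A) →ₗ[A] MvPolynomial (Fin m) A ⧸ L x :=
    (Ideal.Quotient.mkₐ A (L x)).toLinearMap ∘ₗ ell A m
  have hφ₀ : LinearMap.ker lc ≤ LinearMap.ker φ₀ := by
    intro c hc
    rw [LinearMap.mem_ker]
    show Ideal.Quotient.mk (L x) (ell A m c) = 0
    rw [Ideal.Quotient.eq_zero_iff_mem]
    exact Ideal.subset_span ⟨⟨c, hc⟩, rfl⟩
  let g : M →ₗ[A] MvPolynomial (Fin m) A ⧸ L x :=
    (LinearMap.ker lc).liftQ φ₀ hφ₀ ∘ₗ (lc.quotKerEquivOfSurjective hx).symm.toLinearMap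
  have hg : ∀ c, g (lc c) = Ideal.Quotient.mk (L x) (ell A m c) := by
    intro c
    have : (lc.quotKerEquivOfSurjective hx).symm (lc c) = Submodule.Quotient.mk c := by
      rw [LinearEquiv.symm_apply_eq]
      rfl
    show (LinearMap.ker lc).liftQ φ₀ hφ₀ ((lc.quotKerEquivOfSurjective hx).symm (lc c)) = _
    rw [this, Submodule.liftQ_apply]
    rfl
  let β : SymmetricAlgebra A M →ₐ[A] MvPolynomial (Fin m) A ⧸ L x := SymmetricAlgebra.lift g
  have hβ : ∀ p : MvPolynomial (Fin m) A,
      β (algebraMap G.Ring (SymmetricAlgebra A M) p) = Ideal.Quotient.mk (L x) p := by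
    have : β.comp (IsScalarTower.toAlgHom A G.Ring (SymmetricAlgebra A M)) =
        Ideal.Quotient.mkₐ A (L x) := by
      apply MvPolynomial.algHom_ext
      intro j
      show β (algebraMap G.Ring (SymmetricAlgebra A M) (X j)) = Ideal.Quotient.mk (L x) (X j)
      rw [Algebra.Generators.algebraMap_apply, aeval_X, hG]
      have h1 : β (SymmetricAlgebra.ι A M (x j)) = g (x j) := SymmetricAlgebra.lift_ι_apply g (x j)
      have h2 : x j = lc (Pi.single j 1) := by
        rw [hlc, Fintype.linearCombination_apply_single, one_smul]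
      rw [h1, h2, hg, ell_single]
    intro p
    exact AlgHom.congr_fun this p
  intro p hp
  have hp0 : algebraMap G.Ring (SymmetricAlgebra A M) p = 0 := hp
  have := hβ p
  rw [hp0, map_zero] at this
  exact Ideal.Quotient.eq_zero_iff_mem.1 this.symm

end H10S12091

namespace H10S12091

open Algebra.Extension

variable {A : Type u} [CommRing A] {M : Type u} [AddCommGroup M] [Module A M] {m : ℕ} (x : Fin m → M)
variable (G : Algebra.Generators A (SymmetricAlgebra A M) (Fin m))
  (hG : ∀ j, G.val j = SymmetricAlgebra.ι A M (x j))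

lemma mem_of_eq' {R N : Type*} [Semiring R] [AddCommMonoid N] [Module R N] {S : Submodule R N} {a b : N}
    (h : a = b) (hb : b ∈ S) : a ∈ S := h ▸ hb

lemma mk_zero' (h0 : (0 : G.toExtension.Ring) ∈ G.toExtension.ker) :
    (Cotangent.mk ⟨0, h0⟩ : G.toExtension.Cotangent) = 0 := by
  have : (⟨0, h0⟩ : G.toExtension.ker) = 0 := rfl
  rw [this, map_zero]

lemma mk_add' (p q : G.toExtension.Ring) (hp : p ∈ G.toExtension.ker) (hq : q ∈ G.toExtension.ker)
    (hpq : p + q ∈ G.toExtension.ker) :
    (Cotangent.mk ⟨p + q, hpq⟩ : G.toExtension.Cotangent) = Cotangent.mk ⟨p, hp⟩ + Cotangent.mk ⟨q, hq⟩ := by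
  rw [← map_add]
  rfl

lemma mk_smul' (a p : G.toExtension.Ring) (hp : p ∈ G.toExtension.ker)
    (hap : a • p ∈ G.toExtension.ker) :
    (Cotangent.mk ⟨a • p, hap⟩ : G.toExtension.Cotangent) =
      algebraMap G.toExtension.Ring (SymmetricAlgebra A M) a • Cotangent.mk ⟨p, hp⟩ := by
  rw [algebraMap_smul, ← map_smul]
  rfl

theorem e_surjective (hx : Function.Surjective (Fintype.linearCombination A x)) :
    Function.Surjective (e x G hG) := by
  have hLker : L x ≤ G.toExtension.ker := by
    rw [L, Ideal.span_le]
    rintro _ ⟨k, rfl⟩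
    exact ell_mem_ker x G hG k
  have key : ∀ p ∈ L x, ∀ hp : p ∈ G.toExtension.ker,
      Cotangent.mk ⟨p, hp⟩ ∈ LinearMap.range (e x G hG) := by
    intro p hpL
    induction hpL using Submodule.span_induction with
    | mem p hp =>
      obtain ⟨k, rfl⟩ := hp
      intro hp'
      exact ⟨1 ⊗ₜ k, e_one_tmul x G hG k⟩
    | zero =>
      intro hp'
      exact mem_of_eq' (mk_zero' G hp') (Submodule.zero_mem _)
    | add p q hp hq ihp ihq =>
      intro hpq
      have hp' := hLker hp
      have hq' := hLker hq
      exact mem_of_eq' (mk_add' G p q hp' hq' hpq) (Submodule.add_mem _ (ihp hp') (ihq hq'))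
    | smul a p hp ihp =>
      intro hap
      have hp' := hLker hp
      exact mem_of_eq' (mk_smul' G a p hp' hap) (Submodule.smul_mem _ _ (ihp hp'))
  intro y
  obtain ⟨⟨p, hp⟩, rfl⟩ := Cotangent.mk_surjective y
  exact key p (ker_le_L x G hG hx hp) hp

end H10S12091

namespace H10S12091

open Algebra.Extension

variable {A : Type u} [CommRing A] {M : Type u} [AddCommGroup M] [Module A M] {m : ℕ} (x : Fin m → M)
variable (G : Algebra.Generators A (SymmetricAlgebra A M) (Fin m))
  (hG : ∀ j, G.val j = SymmetricAlgebra.ι A M (x j))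

lemma pderiv_ell (c : Fin m → A) (j : Fin m) : pderiv j (ell A m c) = C (c j) := by
  classical
  rw [ell_apply, map_sum, Finset.sum_eq_single j]
  · rw [pderiv_C_mul, pderiv_X_self]
    simp
  · intro i _ hij
    rw [pderiv_C_mul, pderiv_X_of_ne hij]
    simp
  · intro h; exact absurd (Finset.mem_univ j) h

theorem e_injective (hx : Function.Surjective (Fintype.linearCombination A x)) [Module.Projective A M] :
    Function.Injective (e x G hG) := by
  classical
  set lc := Fintype.linearCombination A x with hlc
  obtain ⟨s, hs⟩ := Module.projective_lifting_property lc LinearMap.id hx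
  have hs' : ∀ y, lc (s y) = y := fun y => LinearMap.congr_fun hs y
  let q : (Fin m → A) →ₗ[A] LinearMap.ker lc :=
    LinearMap.codRestrict (LinearMap.ker lc) (LinearMap.id - s ∘ₗ lc) (fun c => by
      rw [LinearMap.mem_ker]
      simp [hs'])
  have hq : ∀ k : LinearMap.ker lc, q k = k := by
    intro k
    apply Subtype.ext
    have hk : lc (k : Fin m → A) = 0 := LinearMap.mem_ker.1 k.2
    simp [q, hk]
  let b := G.cotangentSpaceBasis
  let f : Fin m → SymmetricAlgebra A M ⊗[A] LinearMap.ker lc :=
    fun j => (1 : SymmetricAlgebra A M) ⊗ₜ[A] q (Pi.single j 1)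
  let r : G.toExtension.CotangentSpace →ₗ[SymmetricAlgebra A M]
      SymmetricAlgebra A M ⊗[A] LinearMap.ker lc := b.constr (SymmetricAlgebra A M) f
  have hone : ∀ k : LinearMap.ker lc,
      r (G.toExtension.cotangentComplex (e x G hG (1 ⊗ₜ k))) = 1 ⊗ₜ k := by
    intro k
    rw [e_one_tmul, cotangentComplex_mk, Module.Basis.constr_apply_fintype]
    have h1 : ∀ j, b.equivFun ((1 : SymmetricAlgebra A M) ⊗ₜ[G.toExtension.Ring]
        (KaehlerDifferential.D A G.toExtension.Ring) (ell A m (k : Fin m → A))) j =
        algebraMap A (SymmetricAlgebra A M) ((k : Fin m → A) j) := by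
      intro j
      rw [Module.Basis.equivFun_apply]
      have := G.cotangentSpaceBasis_repr_one_tmul (ell A m (k : Fin m → A)) j
      rw [pderiv_ell, aeval_C] at this
      exact this
    simp only [h1, f, algebraMap_smul, ← TensorProduct.tmul_smul, ← map_smul]
    rw [← TensorProduct.tmul_sum, ← map_sum]
    have h2 : (∑ j, (k : Fin m → A) j • (Pi.single j (1 : A) : Fin m → A)) = (k : Fin m → A) := by
      funext i
      simp [Finset.sum_apply, Pi.single_apply]
    rw [h2, hq]
  have hcomp : ∀ z, r (G.toExtension.cotangentComplex (e x G hG z)) = z := by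
    intro z
    induction z using TensorProduct.induction_on with
    | zero => simp
    | add z w hz hw => rw [map_add, map_add, map_add, hz, hw]
    | tmul c k =>
      have : c ⊗ₜ[A] k = c • ((1 : SymmetricAlgebra A M) ⊗ₜ[A] k) := by
        rw [TensorProduct.smul_tmul', smul_eq_mul, mul_one]
      rw [this, map_smul, map_smul, map_smul, hone]
  exact Function.LeftInverse.injective (g := fun y => r (G.toExtension.cotangentComplex y)) hcomp

include hG in
theorem main (hx : Function.Surjective (Fintype.linearCombination A x)) :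
    ∃ e : SymmetricAlgebra A M ⊗[A] (LinearMap.ker (Fintype.linearCombination A x)) →ₗ[SymmetricAlgebra A M]
        G.toExtension.Cotangent,
      (∀ (k : LinearMap.ker (Fintype.linearCombination A x))
        (hk : (∑ j, C ((k : Fin m → A) j) * X j : MvPolynomial (Fin m) A) ∈ G.toExtension.ker),
        e (1 ⊗ₜ k) = Algebra.Extension.Cotangent.mk ⟨_, hk⟩) ∧
      Function.Surjective e ∧ (Module.Projective A M → Function.Bijective e) := by
  refine ⟨e x G hG, ?_, e_surjective x G hG hx, fun hproj => ⟨e_injective x G hG hx, e_surjective x G hG hx⟩⟩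
  intro k hk
  exact e_one_tmul x G hG k

end H10S12091
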