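import Groth.Agent.Lib.Helper12.HensFCC
import Groth.Agent.Lib.Helper5.ComplIso
import Mathlib

set_option autoImplicit false
set_option linter.style.haveILetI false
set_option linter.unusedVariables false
set_option linter.unusedSectionVars false

universe u

namespace Groth.Agent.Lib.helper10.CplTensor

open IsLocalRing TensorProduct

/-- completion of a local ring -/
abbrev Cpl (A : Type u) [CommRing A] [IsLocalRing A] : Type u :=
  AdicCompletion (maximalIdeal A) A

variable (A B : Type u) [CommRing A] [CommRing B] [IsNoetherianRing A]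
  [IsLocalRing A] [IsLocalRing B] [Algebra A B] [IsLocalHom (algebraMap A B)]

local notation "Ahat" => AdicCompletion (maximalIdeal A) A

/-- `m_A^n` maps into `m_B^n` -/
lemma algebraMap_mem_pow {n : ℕ} {a : A} (ha : a ∈ maximalIdeal A ^ n) :
    algebraMap A B a ∈ maximalIdeal B ^ n := by
  have h1 : (maximalIdeal A).map (algebraMap A B) ≤ maximalIdeal B :=
    ((local_hom_TFAE (algebraMap A B)).out 0 2).1 ‹IsLocalHom (algebraMap A B)›
  have h2 : (maximalIdeal A ^ n).map (algebraMap A B) ≤ maximalIdeal B ^ n := by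
    rw [Ideal.map_pow]; exact Ideal.pow_right_mono h1 n
  exact h2 (Ideal.mem_map_of_mem _ ha)

/-- elements of `B ⊗ Â` are approximated by elements of `B` -/
theorem exists_sub_mem (n : ℕ) (x : B ⊗[A] Ahat) :
    ∃ b : B, x - algebraMap B (B ⊗[A] Ahat) b ∈
      (maximalIdeal B ^ n).map (algebraMap B (B ⊗[A] Ahat)) := by
  induction x using TensorProduct.induction_on with
  | zero => exact ⟨0, by rw [map_zero, sub_zero]; exact Ideal.zero_mem _⟩
  | add x y hx hy =>
    obtain ⟨b₁, h₁⟩ := hx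
    obtain ⟨b₂, h₂⟩ := hy
    refine ⟨b₁ + b₂, ?_⟩
    have : x + y - algebraMap B (B ⊗[A] Ahat) (b₁ + b₂) =
        (x - algebraMap B (B ⊗[A] Ahat) b₁) + (y - algebraMap B (B ⊗[A] Ahat) b₂) := by
      rw [map_add]; ring
    rw [this]
    exact Ideal.add_mem _ h₁ h₂
  | tmul b₀ z =>
    obtain ⟨-, -, hs⟩ := Groth.Agent.Lib.Helper12.HensFC.level_hat A
    obtain ⟨a, ha⟩ := hs n z
    rw [Groth.Agent.Lib.Helper12.HensFC.maximalIdeal_pow_hat] at ha
    refine ⟨a • b₀, ?_⟩
    have key : ∀ y ∈ (maximalIdeal A ^ n).map (algebraMap A Ahat),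
        b₀ ⊗ₜ[A] y ∈ (maximalIdeal B ^ n).map (algebraMap B (B ⊗[A] Ahat)) := by
      intro y hy
      refine Submodule.span_induction ?_ ?_ ?_ ?_ hy
      · rintro _ ⟨c, hc, rfl⟩
        have : b₀ ⊗ₜ[A] (algebraMap A Ahat c) = algebraMap B (B ⊗[A] Ahat) (c • b₀) := by
          rw [Algebra.TensorProduct.algebraMap_apply, Algebra.algebraMap_self, RingHom.id_apply,
            Algebra.algebraMap_eq_smul_one, TensorProduct.tmul_smul, TensorProduct.smul_tmul']
        rw [this]
        apply Ideal.mem_map_of_mem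
        rw [Algebra.smul_def]
        exact Ideal.mul_mem_right _ _ (algebraMap_mem_pow A B hc)
      · rw [TensorProduct.tmul_zero]; exact Ideal.zero_mem _
      · intro y₁ y₂ _ _ h₁ h₂
        rw [TensorProduct.tmul_add]; exact Ideal.add_mem _ h₁ h₂
      · intro w y₁ _ h₁
        have : b₀ ⊗ₜ[A] (w • y₁) = ((1 : B) ⊗ₜ[A] w) * (b₀ ⊗ₜ[A] y₁) := by
          rw [Algebra.TensorProduct.tmul_mul_tmul, one_mul, smul_eq_mul]
        rw [this]
        exact Ideal.mul_mem_left _ _ h₁
    have h3 : b₀ ⊗ₜ[A] z - algebraMap B (B ⊗[A] Ahat) (a • b₀) =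
        b₀ ⊗ₜ[A] (z - algebraMap A Ahat a) := by
      rw [TensorProduct.tmul_sub, Algebra.TensorProduct.algebraMap_apply, Algebra.algebraMap_self,
        RingHom.id_apply, Algebra.algebraMap_eq_smul_one (A := Ahat), TensorProduct.tmul_smul,
        TensorProduct.smul_tmul']
    rw [h3]
    exact key _ ha

instance : Module.FaithfullyFlat A Ahat := Module.FaithfullyFlat.of_flat_of_isLocalHom

/-- contraction of the extension of `m_B^n` -/
theorem mem_pow_of_algebraMap_mem (n : ℕ) (b : B)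
    (hb : algebraMap B (B ⊗[A] Ahat) b ∈ (maximalIdeal B ^ n).map (algebraMap B (B ⊗[A] Ahat))) :
    b ∈ maximalIdeal B ^ n := by
  have h := Ideal.comap_map_eq_self_of_faithfullyFlat (B := B ⊗[A] Ahat) (maximalIdeal B ^ n)
  rw [← h]
  exact hb

/-- the extension of `m_B` is maximal -/
theorem isMaximal_map :
    ((maximalIdeal B).map (algebraMap B (B ⊗[A] Ahat))).IsMaximal := by
  rw [Ideal.isMaximal_iff]
  constructor
  · intro h1
    have : (1 : B) ∈ maximalIdeal B := by
      have h := mem_pow_of_algebraMap_mem A B 1 1 (by rw [pow_one, map_one]; exact h1)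
      rwa [pow_one] at h
    exact (Ideal.ne_top_iff_one _).1 (Ideal.IsPrime.ne_top inferInstance) this
  · intro J x hJ hx hxJ
    obtain ⟨b, hb⟩ := exists_sub_mem A B 1 x
    rw [pow_one] at hb
    have hbu : IsUnit b := by
      by_contra hnu
      have hbm : b ∈ maximalIdeal B := (IsLocalRing.mem_maximalIdeal b).2 hnu
      apply hx
      have := Ideal.add_mem _ hb (Ideal.mem_map_of_mem (algebraMap B (B ⊗[A] Ahat)) hbm)
      rwa [sub_add_cancel] at this
    have hbJ : algebraMap B (B ⊗[A] Ahat) b ∈ J := by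
      have : algebraMap B (B ⊗[A] Ahat) b = x - (x - algebraMap B (B ⊗[A] Ahat) b) := by ring
      rw [this]
      exact Ideal.sub_mem _ hxJ (hJ hb)
    have hu : IsUnit (algebraMap B (B ⊗[A] Ahat) b) := hbu.map _
    have := Ideal.eq_top_of_isUnit_mem _ hbJ hu
    rw [this]; trivial

variable {A B}

/-- the main isomorphism -/
theorem nonempty_cpl_equiv (n' : Ideal (B ⊗[A] Ahat)) [n'.IsPrime]
    (h1 : n'.comap (algebraMap B (B ⊗[A] Ahat)) = maximalIdeal B) :
    Nonempty (Cpl B ≃+* Cpl (Localization.AtPrime n')) := by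
  set 𝔫 := (maximalIdeal B).map (algebraMap B (B ⊗[A] Ahat)) with h𝔫
  have hmax : 𝔫.IsMaximal := isMaximal_map A B
  have hle : 𝔫 ≤ n' := by
    rw [h𝔫, Ideal.map_le_iff_le_comap, h1]
  have heq : n' = 𝔫 := (hmax.eq_of_le (Ideal.IsPrime.ne_top inferInstance) hle).symm
  have hpow : ∀ n, (maximalIdeal B ^ n).map (algebraMap B (B ⊗[A] Ahat)) = 𝔫 ^ n := fun n =>
    Ideal.map_pow _ _ _
  -- units modulo powers
  have hU : ∀ (s : B ⊗[A] Ahat), s ∉ n' → ∀ n : ℕ, ∃ t, s * t - 1 ∈ 𝔫 ^ n := by
    intro s hs n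
    rw [heq] at hs
    have hsup : 𝔫 ⊔ Ideal.span {s} = ⊤ := by
      by_contra hne
      have h2 : 𝔫 = 𝔫 ⊔ Ideal.span {s} := hmax.eq_of_le hne le_sup_left
      apply hs
      rw [h2]
      exact (le_sup_right : Ideal.span {s} ≤ 𝔫 ⊔ Ideal.span {s}) (Ideal.mem_span_singleton_self s)
    have hsup' : 𝔫 ^ n ⊔ Ideal.span {s} = ⊤ := Ideal.pow_sup_eq_top hsup
    have h1mem : (1 : B ⊗[A] Ahat) ∈ 𝔫 ^ n ⊔ Ideal.span {s} := by rw [hsup']; trivial
    obtain ⟨u, hu, v, hv, huv⟩ := Submodule.mem_sup.1 h1mem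
    obtain ⟨t, rfl⟩ := Ideal.mem_span_singleton'.1 hv
    refine ⟨t, ?_⟩
    have : s * t - 1 = -u := by rw [← huv]; ring
    rw [this]
    exact Ideal.neg_mem_iff _ |>.2 hu
  -- the maximal ideal of the localization
  have hmR : ∀ n, maximalIdeal (Localization.AtPrime n') ^ n =
      (𝔫 ^ n).map (algebraMap (B ⊗[A] Ahat) (Localization.AtPrime n')) := by
    intro n
    rw [Ideal.map_pow, ← heq, Localization.AtPrime.map_eq_maximalIdeal]
  have halg : ∀ b : B, algebraMap B (Localization.AtPrime n') b =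
      algebraMap (B ⊗[A] Ahat) (Localization.AtPrime n') (algebraMap B (B ⊗[A] Ahat) b) :=
    fun b => IsScalarTower.algebraMap_apply B (B ⊗[A] Ahat) (Localization.AtPrime n') b
  have hc1 : ∀ n, maximalIdeal B ^ n ≤ (maximalIdeal (Localization.AtPrime n') ^ n).comap
      (Algebra.ofId B (Localization.AtPrime n')) := by
    intro n b hb
    rw [Ideal.mem_comap, hmR]
    change algebraMap B (Localization.AtPrime n') b ∈ _
    rw [halg]
    apply Ideal.mem_map_of_mem
    rw [← hpow]
    exact Ideal.mem_map_of_mem _ hb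
  have hc2 : ∀ n (b : B), Algebra.ofId B (Localization.AtPrime n') b ∈
      maximalIdeal (Localization.AtPrime n') ^ n → b ∈ maximalIdeal B ^ n := by
    intro n b hb
    change algebraMap B (Localization.AtPrime n') b ∈ _ at hb
    rw [hmR, halg, IsLocalization.mem_map_algebraMap_iff n'.primeCompl] at hb
    obtain ⟨⟨c, s⟩, hcs⟩ := hb
    rw [← map_mul, IsLocalization.eq_iff_exists n'.primeCompl] at hcs
    obtain ⟨s', hs'⟩ := hcs
    have hss : (s' : B ⊗[A] Ahat) * s ∉ n' := fun h =>
      ((Ideal.IsPrime.mem_or_mem inferInstance h).elim s'.2 s.2)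
    obtain ⟨t, ht⟩ := hU _ hss n
    have hmem : algebraMap B (B ⊗[A] Ahat) b ∈ 𝔫 ^ n := by
      have e1 : algebraMap B (B ⊗[A] Ahat) b =
          t * ((s' : B ⊗[A] Ahat) * (c : B ⊗[A] Ahat)) -
            algebraMap B (B ⊗[A] Ahat) b * ((s' : B ⊗[A] Ahat) * s * t - 1) := by
        rw [← hs']; ring
      rw [e1]
      exact Ideal.sub_mem _ (Ideal.mul_mem_left _ _ (Ideal.mul_mem_left _ _ c.2))
        (Ideal.mul_mem_left _ _ ht)
    rw [← hpow] at hmem
    exact mem_pow_of_algebraMap_mem A B n b hmem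
  have hc3 : ∀ n (r : Localization.AtPrime n'), ∃ b : B,
      r - Algebra.ofId B (Localization.AtPrime n') b ∈
        maximalIdeal (Localization.AtPrime n') ^ n := by
    intro n r
    obtain ⟨b', s, rfl⟩ := IsLocalization.exists_mk'_eq n'.primeCompl r
    obtain ⟨t, ht⟩ := hU s s.2 n
    obtain ⟨b, hb⟩ := exists_sub_mem A B n (b' * t)
    rw [hpow] at hb
    refine ⟨b, ?_⟩
    change IsLocalization.mk' (Localization.AtPrime n') b' s -
      algebraMap B (Localization.AtPrime n') b ∈ _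
    rw [hmR, halg]
    have e1 : IsLocalization.mk' (Localization.AtPrime n') b' s -
        algebraMap (B ⊗[A] Ahat) (Localization.AtPrime n') (algebraMap B (B ⊗[A] Ahat) b) =
        algebraMap (B ⊗[A] Ahat) (Localization.AtPrime n') (b' * t - algebraMap B (B ⊗[A] Ahat) b) -
          IsLocalization.mk' (Localization.AtPrime n') b' s *
            algebraMap (B ⊗[A] Ahat) (Localization.AtPrime n') ((s : B ⊗[A] Ahat) * t - 1) := by
      have hmk : IsLocalization.mk' (Localization.AtPrime n') b' s *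
          algebraMap (B ⊗[A] Ahat) (Localization.AtPrime n') (s : B ⊗[A] Ahat) =
          algebraMap (B ⊗[A] Ahat) (Localization.AtPrime n') b' := IsLocalization.mk'_spec _ _ _
      rw [map_sub, map_sub, map_mul, map_mul, map_one, ← hmk]
      ring
    rw [e1]
    exact Ideal.sub_mem _
      (Ideal.mem_map_of_mem (algebraMap (B ⊗[A] Ahat) (Localization.AtPrime n')) hb)
      (Ideal.mul_mem_left _ _
        (Ideal.mem_map_of_mem (algebraMap (B ⊗[A] Ahat) (Localization.AtPrime n')) ht))
  obtain ⟨E⟩ := Groth.Agent.Lib.Helper5.ComplIso.complEquiv (R := B) (P := B)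
    (S := Localization.AtPrime n')
    (Algebra.ofId B (Localization.AtPrime n')) (maximalIdeal B)
    (maximalIdeal (Localization.AtPrime n')) hc1 hc2 hc3
  exact ⟨E.toRingEquiv⟩

end Groth.Agent.Lib.helper10.CplTensor
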