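import Mathlib

/-!
# Curvilinear jets and smoothness

`Q k l = k[X] ⧸ (X ^ l)`; evaluation of polynomials of order `r` at jets of the form
`x * (v + x * b)`; the presentation `k[y] ⧸ (y) ^ l ≃ A ⧸ m ^ l` when curvilinear jets lift.
-/

set_option autoImplicit false
set_option linter.unusedSectionVars false

open Polynomial

namespace Groth.Agent.Lib.helper10.CurvJets

universe u

section Jet

variable (k : Type u) [Field k]

/-- the jet ring -/
abbrev Q (l : ℕ) : Type u := k[X] ⧸ Ideal.span {(X : k[X]) ^ l}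

/-- the class of `X` -/
noncomputable def x (l : ℕ) : Q k l := Ideal.Quotient.mk _ X

theorem x_pow_self (l : ℕ) : (x k l) ^ l = 0 := by
  rw [x, ← map_pow, Ideal.Quotient.eq_zero_iff_mem]
  exact Ideal.subset_span rfl

theorem x_pow_eq_zero {l n : ℕ} (h : l ≤ n) : (x k l) ^ n = 0 := by
  obtain ⟨d, rfl⟩ := Nat.exists_eq_add_of_le h
  rw [pow_add, x_pow_self, zero_mul]

theorem mem_span_x_of_isNilpotent {l : ℕ} (hl : 1 ≤ l) {z : Q k l} (hz : IsNilpotent z) :
    z ∈ Ideal.span {x k l} := by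
  obtain ⟨p, rfl⟩ := Ideal.Quotient.mk_surjective z
  obtain ⟨N, hN⟩ := hz
  rw [← map_pow, Ideal.Quotient.eq_zero_iff_mem, Ideal.mem_span_singleton] at hN
  have h1 : (X : k[X]) ∣ p ^ N := dvd_trans (dvd_pow_self X (by omega)) hN
  have h2 : (X : k[X]) ∣ p := Polynomial.prime_X.dvd_of_dvd_pow h1
  obtain ⟨q, rfl⟩ := h2
  rw [map_mul]
  exact Ideal.mul_mem_right _ _ (Ideal.subset_span rfl)

theorem x_pow_mul_algebraMap_ne_zero (r : ℕ) {c : k} (hc : c ≠ 0) :
    (x k (r + 1)) ^ r * algebraMap k (Q k (r + 1)) c ≠ 0 := by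
  intro h
  have h1 : (x k (r + 1)) ^ r * algebraMap k (Q k (r + 1)) c =
      Ideal.Quotient.mk _ ((X : k[X]) ^ r * Polynomial.C c) := by
    rw [map_mul, map_pow]
    rfl
  rw [h1, Ideal.Quotient.eq_zero_iff_mem, Ideal.mem_span_singleton,
    Polynomial.X_pow_dvd_iff] at h
  have := h r (Nat.lt_succ_self r)
  rw [Polynomial.coeff_X_pow_mul', if_pos le_rfl, Nat.sub_self, Polynomial.coeff_C_zero] at this
  exact hc this

/-- the truncation map -/
noncomputable abbrev trunc (l : ℕ) : Q k (l + 1) →ₐ[k] Q k l :=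
  Ideal.Quotient.factorₐ k
    (Ideal.span_singleton_le_span_singleton.mpr (pow_dvd_pow (X : k[X]) (Nat.le_succ l)))

theorem trunc_x (l : ℕ) : trunc k l (x k (l + 1)) = x k l := rfl

theorem trunc_surjective (l : ℕ) : Function.Surjective (trunc k l) := by
  intro z
  obtain ⟨p, rfl⟩ := Ideal.Quotient.mk_surjective z
  exact ⟨Ideal.Quotient.mk _ p, rfl⟩

theorem ker_trunc (l : ℕ) {z : Q k (l + 1)} (hz : trunc k l z = 0) :
    ∃ d, z = (x k (l + 1)) ^ l * d := by
  obtain ⟨p, rfl⟩ := Ideal.Quotient.mk_surjective z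
  have h1 : Ideal.Quotient.mk (Ideal.span {(X : k[X]) ^ l}) p = 0 := hz
  rw [Ideal.Quotient.eq_zero_iff_mem, Ideal.mem_span_singleton] at h1
  obtain ⟨q, rfl⟩ := h1
  exact ⟨Ideal.Quotient.mk _ q, by rw [map_mul, map_pow]; rfl⟩

end Jet

section Eval

open MvPolynomial

variable {k : Type u} [Field k]

theorem aeval_mul_of_isHomogeneous {σ : Type*} {Qr : Type*} [CommRing Qr]
    [Algebra k Qr] {P : MvPolynomial σ k} {r : ℕ} (hP : P.IsHomogeneous r) (z : Qr)
    (w : σ → Qr) :
    MvPolynomial.aeval (fun i => z * w i) P = z ^ r * MvPolynomial.aeval w P := by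
  rw [MvPolynomial.aeval_def, MvPolynomial.eval₂_eq, MvPolynomial.aeval_def,
    MvPolynomial.eval₂_eq, Finset.mul_sum]
  refine Finset.sum_congr rfl fun d hd => ?_
  have hdeg : ∑ i ∈ d.support, d i = r := by
    have := hP (MvPolynomial.mem_support_iff.mp hd)
    simpa [Finsupp.weight_apply, Finsupp.sum] using this
  simp_rw [mul_pow]
  rw [Finset.prod_mul_distrib, Finset.prod_pow_eq_pow_sum, hdeg]
  ring

theorem sub_homogeneousComponent_mem {e r : ℕ} (F : MvPolynomial (Fin e) k)
    (hF : F ∈ MvPolynomial.idealOfVars (Fin e) k ^ r) :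
    F - MvPolynomial.homogeneousComponent r F ∈ MvPolynomial.idealOfVars (Fin e) k ^ (r + 1) := by
  rw [MvPolynomial.mem_pow_idealOfVars_iff'] at hF ⊢
  intro d hd
  rw [MvPolynomial.coeff_sub, MvPolynomial.coeff_homogeneousComponent]
  by_cases h : Finsupp.degree d = r
  · rw [if_pos h, sub_self]
  · rw [if_neg h, sub_zero]
    exact hF d (by omega)

theorem aeval_jet {e r : ℕ} {Qr : Type*} [CommRing Qr] [Algebra k Qr] (z : Qr)
    (hz : z ^ (r + 1) = 0) (v : Fin e → k) (b : Fin e → Qr) (F : MvPolynomial (Fin e) k)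
    (hF : F ∈ MvPolynomial.idealOfVars (Fin e) k ^ r) :
    MvPolynomial.aeval (fun i => z * (algebraMap k Qr (v i) + z * b i)) F =
      z ^ r * algebraMap k Qr
        (MvPolynomial.eval v (MvPolynomial.homogeneousComponent r F)) := by
  set w : Fin e → Qr := fun i => algebraMap k Qr (v i) + z * b i with hw
  set Φ : MvPolynomial (Fin e) k →ₐ[k] Qr := MvPolynomial.aeval (fun i => z * w i) with hΦ
  have hkill : ∀ G ∈ MvPolynomial.idealOfVars (Fin e) k ^ (r + 1), Φ G = 0 := by
    intro G hG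
    have h1 : Ideal.map Φ.toRingHom (MvPolynomial.idealOfVars (Fin e) k) ≤ Ideal.span {z} := by
      rw [Ideal.map_span, Ideal.span_le]
      rintro _ ⟨_, ⟨i, rfl⟩, rfl⟩
      show Φ (MvPolynomial.X i) ∈ Ideal.span {z}
      rw [hΦ, MvPolynomial.aeval_X]
      exact Ideal.mul_mem_right _ _ (Ideal.subset_span rfl)
    have h2 : Φ.toRingHom G ∈ Ideal.map Φ.toRingHom
        (MvPolynomial.idealOfVars (Fin e) k ^ (r + 1)) := Ideal.mem_map_of_mem _ hG
    rw [Ideal.map_pow] at h2
    have h3 := Ideal.pow_right_mono h1 (r + 1) h2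
    rw [Ideal.span_singleton_pow, hz, Ideal.span_singleton_eq_bot.mpr rfl] at h3
    exact h3
  have h1 : Φ F = Φ (MvPolynomial.homogeneousComponent r F) := by
    have := hkill _ (sub_homogeneousComponent_mem F hF)
    rwa [map_sub, sub_eq_zero] at this
  have h2 : Φ (MvPolynomial.homogeneousComponent r F) =
      z ^ r * MvPolynomial.aeval w (MvPolynomial.homogeneousComponent r F) :=
    aeval_mul_of_isHomogeneous (MvPolynomial.homogeneousComponent_isHomogeneous r F) z w
  have h3 : MvPolynomial.aeval w (MvPolynomial.homogeneousComponent r F) -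
      algebraMap k Qr (MvPolynomial.eval v (MvPolynomial.homogeneousComponent r F)) ∈
      Ideal.span {z} := by
    rw [← Ideal.Quotient.eq]
    have e1 : Ideal.Quotient.mk (Ideal.span {z})
        (MvPolynomial.aeval w (MvPolynomial.homogeneousComponent r F)) =
        MvPolynomial.aeval (fun i => Ideal.Quotient.mk (Ideal.span {z}) (w i))
          (MvPolynomial.homogeneousComponent r F) :=
      MvPolynomial.comp_aeval_apply w (Ideal.Quotient.mkₐ k (Ideal.span {z})) _
    have e2 : (fun i => Ideal.Quotient.mk (Ideal.span {z}) (w i)) =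
        fun i => algebraMap k (Qr ⧸ Ideal.span {z}) (v i) := by
      funext i
      rw [hw]
      simp only [map_add, map_mul]
      have hz0 : Ideal.Quotient.mk (Ideal.span {z}) z = 0 :=
        Ideal.Quotient.eq_zero_iff_mem.mpr (Ideal.subset_span rfl)
      rw [hz0, zero_mul, add_zero]
      rfl
    rw [e1, e2]
    have e3 := MvPolynomial.aeval_algebraMap_apply (B := Qr ⧸ Ideal.span {z}) v
      (MvPolynomial.homogeneousComponent r F)
    have e4 : MvPolynomial.aeval v (MvPolynomial.homogeneousComponent r F) =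
        MvPolynomial.eval v (MvPolynomial.homogeneousComponent r F) := rfl
    rw [e4] at e3
    exact e3
  obtain ⟨u, hu⟩ := Ideal.mem_span_singleton'.mp h3
  rw [h1, h2]
  have h4 : MvPolynomial.aeval w (MvPolynomial.homogeneousComponent r F) =
      algebraMap k Qr (MvPolynomial.eval v (MvPolynomial.homogeneousComponent r F)) + u * z := by
    rw [hu]; ring
  rw [h4, mul_add]
  have h5 : z ^ r * (u * z) = u * z ^ (r + 1) := by ring
  rw [h5, hz, mul_zero, add_zero]

end Eval

section Main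

open MvPolynomial

variable {k : Type u} [Field k] {A : Type u} [CommRing A] [Algebra k A] (m : Ideal A)
  [hm : m.IsMaximal] (hres : Function.Surjective (algebraMap k (A ⧸ m)))
  {e : ℕ} (a : Fin e → A) (ha : ∀ i, a i ∈ m)
  (hspan : ∀ μ ∈ m, ∃ c : Fin e → k, μ - ∑ i, c i • a i ∈ m ^ 2)
  (hindep : ∀ c : Fin e → k, ∑ i, c i • a i ∈ m ^ 2 → c = 0)

include ha in
theorem rho_mem (l : ℕ) {F : MvPolynomial (Fin e) k}
    (hF : F ∈ MvPolynomial.idealOfVars (Fin e) k ^ l) : MvPolynomial.aeval a F ∈ m ^ l := by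
  have h1 : Ideal.map (MvPolynomial.aeval a : MvPolynomial (Fin e) k →ₐ[k] A).toRingHom
      (MvPolynomial.idealOfVars (Fin e) k) ≤ m := by
    rw [Ideal.map_span, Ideal.span_le]
    rintro _ ⟨_, ⟨i, rfl⟩, rfl⟩
    show MvPolynomial.aeval a (MvPolynomial.X i) ∈ m
    rw [MvPolynomial.aeval_X]
    exact ha i
  have h2 : (MvPolynomial.aeval a : MvPolynomial (Fin e) k →ₐ[k] A).toRingHom F ∈
      Ideal.map (MvPolynomial.aeval a : MvPolynomial (Fin e) k →ₐ[k] A).toRingHom
        (MvPolynomial.idealOfVars (Fin e) k ^ l) := Ideal.mem_map_of_mem _ hF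
  rw [Ideal.map_pow] at h2
  exact Ideal.pow_right_mono h1 l h2

include hres ha hspan in
theorem approx (l : ℕ) : ∀ b ∈ m ^ l, ∃ G ∈ MvPolynomial.idealOfVars (Fin e) k ^ l,
    b - MvPolynomial.aeval a G ∈ m ^ (l + 1) := by
  induction l with
  | zero =>
    intro b _
    obtain ⟨c, hc⟩ := hres (Ideal.Quotient.mk m b)
    refine ⟨MvPolynomial.C c, by simp, ?_⟩
    rw [zero_add, pow_one, MvPolynomial.aeval_C, ← Ideal.Quotient.eq, ← hc]
    rfl
  | succ l ih =>
    intro b hb
    rw [pow_succ] at hb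
    refine Submodule.mul_induction_on hb ?_ ?_
    · intro p hp μ hμ
      obtain ⟨G, hG, hpG⟩ := ih p hp
      obtain ⟨c, hc⟩ := hspan μ hμ
      let L : MvPolynomial (Fin e) k := ∑ i, MvPolynomial.C (c i) * MvPolynomial.X i
      have hL : L ∈ MvPolynomial.idealOfVars (Fin e) k := by
        refine Ideal.sum_mem _ fun i _ => Ideal.mul_mem_left _ _ (Ideal.subset_span ⟨i, rfl⟩)
      have hLa : MvPolynomial.aeval a L = ∑ i, c i • a i := by
        simp only [L, map_sum, map_mul, MvPolynomial.aeval_C, MvPolynomial.aeval_X,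
          Algebra.smul_def]
      refine ⟨G * L, ?_, ?_⟩
      · rw [pow_succ]
        exact Ideal.mul_mem_mul hG hL
      · have hGa : MvPolynomial.aeval a G ∈ m ^ l := rho_mem m a ha l hG
        have hLm : MvPolynomial.aeval a L ∈ m := by
          have := rho_mem m a ha 1 (by rwa [pow_one])
          rwa [pow_one] at this
        have e1 : p * μ - MvPolynomial.aeval a (G * L) =
            (p - MvPolynomial.aeval a G) * μ +
              MvPolynomial.aeval a G * (μ - MvPolynomial.aeval a L) := by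
          rw [map_mul]; ring
        rw [e1]
        refine Ideal.add_mem _ ?_ ?_
        · have := Ideal.mul_mem_mul hpG hμ
          rwa [← pow_succ] at this
        · have := Ideal.mul_mem_mul hGa (hLa ▸ hc)
          rwa [← pow_add] at this
    · intro b₁ b₂ ⟨G₁, hG₁, h₁⟩ ⟨G₂, hG₂, h₂⟩
      refine ⟨G₁ + G₂, Ideal.add_mem _ hG₁ hG₂, ?_⟩
      have : b₁ + b₂ - MvPolynomial.aeval a (G₁ + G₂) =
          (b₁ - MvPolynomial.aeval a G₁) + (b₂ - MvPolynomial.aeval a G₂) := by
        rw [map_add]; ring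
      rw [this]
      exact Ideal.add_mem _ h₁ h₂

include hres ha hspan in
theorem exists_rep (l : ℕ) (b : A) :
    ∃ G : MvPolynomial (Fin e) k, b - MvPolynomial.aeval a G ∈ m ^ l := by
  induction l with
  | zero => exact ⟨0, by simp⟩
  | succ l ih =>
    obtain ⟨G, hG⟩ := ih
    obtain ⟨G', -, hG'⟩ := approx m hres a ha hspan l _ hG
    refine ⟨G + G', ?_⟩
    have : b - MvPolynomial.aeval a (G + G') =
        b - MvPolynomial.aeval a G - MvPolynomial.aeval a G' := by
      rw [map_add]; ring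
    rw [this]
    exact hG'

theorem eq_single_of_degree_eq_one {e : ℕ} (d : Fin e →₀ ℕ) (hd : Finsupp.degree d = 1) :
    ∃ i, d = Finsupp.single i 1 := by
  have hne : d ≠ 0 := by
    rintro rfl
    simp at hd
  obtain ⟨i, hi⟩ := Finsupp.ne_iff.mp hne
  have hi' : d i ≠ 0 := by simpa using hi
  have hle : Finsupp.single i 1 ≤ d := by
    rw [Finsupp.single_le_iff]
    omega
  refine ⟨i, ?_⟩
  have h1 : d = Finsupp.single i 1 + (d - Finsupp.single i 1) := (add_tsub_cancel_of_le hle).symm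
  have h2 : Finsupp.degree (d - Finsupp.single i 1) = 0 := by
    have := congrArg Finsupp.degree h1
    rw [map_add, Finsupp.degree_single, hd] at this
    omega
  rw [Finsupp.degree_eq_zero_iff] at h2
  rw [h2, add_zero] at h1
  exact h1

theorem eq_sum_of_isHomogeneous_one {e : ℕ} (P : MvPolynomial (Fin e) k)
    (hP : P.IsHomogeneous 1) :
    P = ∑ i, MvPolynomial.C (MvPolynomial.coeff (Finsupp.single i 1) P) * MvPolynomial.X i := by
  classical
  ext d
  rw [MvPolynomial.coeff_sum]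
  simp only [MvPolynomial.coeff_C_mul, MvPolynomial.coeff_X]
  by_cases hd : Finsupp.degree d = 1
  · obtain ⟨j, rfl⟩ := eq_single_of_degree_eq_one d hd
    rw [Finset.sum_eq_single j]
    · rw [if_pos rfl, mul_one]
    · intro i _ hij
      rw [if_neg, mul_zero]
      intro h
      exact hij (Finsupp.single_left_injective one_ne_zero h)
    · intro h
      exact absurd (Finset.mem_univ j) h
  · have h0 : MvPolynomial.coeff d P = 0 := by
      by_contra hne
      have := hP hne
      apply hd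
      rw [Finsupp.degree_eq_weight_one]
      exact this
    rw [h0]
    symm
    refine Finset.sum_eq_zero fun i _ => ?_
    rw [if_neg, mul_zero]
    intro h
    apply hd
    rw [← h, Finsupp.degree_single]

include hres ha hindep in
theorem ker_two {F : MvPolynomial (Fin e) k} (hF : MvPolynomial.aeval a F ∈ m ^ 2) :
    F ∈ MvPolynomial.idealOfVars (Fin e) k ^ 2 := by
  have h0 : F - MvPolynomial.homogeneousComponent 0 F ∈
      MvPolynomial.idealOfVars (Fin e) k ^ 1 :=
    sub_homogeneousComponent_mem F (by simp)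
  have h1 := sub_homogeneousComponent_mem _ h0
  set F₀ := MvPolynomial.homogeneousComponent 0 F with hF₀
  set F₁ := MvPolynomial.homogeneousComponent 1 (F - F₀) with hF₁
  have hF₁h : F₁.IsHomogeneous 1 := MvPolynomial.homogeneousComponent_isHomogeneous 1 _
  have hrest : MvPolynomial.aeval a (F - F₀ - F₁) ∈ m ^ 2 := rho_mem m a ha 2 h1
  have hF₁m : MvPolynomial.aeval a F₁ ∈ m := by
    have : F₁ ∈ MvPolynomial.idealOfVars (Fin e) k ^ 1 := by
      rw [MvPolynomial.mem_pow_idealOfVars_iff']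
      intro d hd
      rw [hF₁, MvPolynomial.coeff_homogeneousComponent, if_neg (by omega)]
    have := rho_mem m a ha 1 this
    rwa [pow_one] at this
  have hsum : MvPolynomial.aeval a F₀ + MvPolynomial.aeval a F₁ ∈ m ^ 2 := by
    have : MvPolynomial.aeval a F₀ + MvPolynomial.aeval a F₁ =
        MvPolynomial.aeval a F - MvPolynomial.aeval a (F - F₀ - F₁) := by
      simp only [map_sub]; ring
    rw [this]
    exact Ideal.sub_mem _ hF hrest
  have hF₀C : F₀ = MvPolynomial.C (MvPolynomial.coeff 0 F) :=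
    MvPolynomial.homogeneousComponent_zero F
  have hc0 : MvPolynomial.coeff 0 F = 0 := by
    by_contra hne
    have h2 : MvPolynomial.aeval a F₀ ∈ m := by
      have := Ideal.pow_le_self (two_ne_zero) hsum
      have h3 := m.sub_mem this hF₁m
      rwa [add_sub_cancel_right] at h3
    rw [hF₀C, MvPolynomial.aeval_C] at h2
    have hu : IsUnit (algebraMap k A (MvPolynomial.coeff 0 F)) :=
      (IsUnit.mk0 _ hne).map (algebraMap k A)
    exact hm.ne_top (Ideal.eq_top_of_isUnit_mem _ h2 hu)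
  have hF₀0 : F₀ = 0 := by rw [hF₀C, hc0, map_zero]
  rw [hF₀0, map_zero, zero_add] at hsum
  have hF₁0 : F₁ = 0 := by
    rw [eq_sum_of_isHomogeneous_one F₁ hF₁h]
    have hc : (fun i => MvPolynomial.coeff (Finsupp.single i 1) F₁) = 0 := by
      apply hindep
      have : MvPolynomial.aeval a F₁ =
          ∑ i, MvPolynomial.coeff (Finsupp.single i 1) F₁ • a i := by
        conv_lhs => rw [eq_sum_of_isHomogeneous_one F₁ hF₁h]
        simp only [map_sum, map_mul, MvPolynomial.aeval_C, MvPolynomial.aeval_X,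
          Algebra.smul_def]
      rw [← this]
      exact hsum
    refine Finset.sum_eq_zero fun i _ => ?_
    have := congrFun hc i
    simp only [Pi.zero_apply] at this
    rw [this, map_zero, zero_mul]
  have : F = F - F₀ - F₁ := by rw [hF₀0, hF₁0, sub_zero, sub_zero]
  rw [this]
  exact h1

/-- the comparison map `k[y] ⧸ (y)^l → A ⧸ m^l` -/
noncomputable def rhoBar (l : ℕ) :
    (MvPolynomial (Fin e) k ⧸ MvPolynomial.idealOfVars (Fin e) k ^ l) →ₐ[k] A ⧸ m ^ l :=
  Ideal.Quotient.liftₐ _ ((Ideal.Quotient.mkₐ k (m ^ l)).comp (MvPolynomial.aeval a))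
    (fun F hF => by
      show Ideal.Quotient.mk (m ^ l) (MvPolynomial.aeval a F) = 0
      exact Ideal.Quotient.eq_zero_iff_mem.mpr (rho_mem m a ha l hF))

theorem rhoBar_mk (l : ℕ) (F : MvPolynomial (Fin e) k) :
    rhoBar (k := k) m a ha l (Ideal.Quotient.mk _ F) =
      Ideal.Quotient.mk (m ^ l) (MvPolynomial.aeval a F) := rfl

include hres hspan in
theorem rhoBar_bijective (l : ℕ)
    (hK : ∀ F : MvPolynomial (Fin e) k, MvPolynomial.aeval a F ∈ m ^ l →
      F ∈ MvPolynomial.idealOfVars (Fin e) k ^ l) :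
    Function.Bijective (rhoBar (k := k) m a ha l) := by
  constructor
  · rw [injective_iff_map_eq_zero]
    intro z hz
    obtain ⟨F, rfl⟩ := Ideal.Quotient.mk_surjective z
    rw [rhoBar_mk, Ideal.Quotient.eq_zero_iff_mem] at hz
    exact Ideal.Quotient.eq_zero_iff_mem.mpr (hK F hz)
  · intro z
    obtain ⟨b, rfl⟩ := Ideal.Quotient.mk_surjective z
    obtain ⟨G, hG⟩ := exists_rep m hres a ha hspan l b
    refine ⟨Ideal.Quotient.mk _ G, ?_⟩
    rw [rhoBar_mk]
    exact (Ideal.Quotient.eq.mpr hG).symm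

include hres ha hspan hindep in
theorem exists_jet_two (v : Fin e → k) :
    ∃ φ : A →ₐ[k] Q k 2, (∀ i, φ (a i) = x k 2 * (algebraMap k (Q k 2) (v i) + x k 2 * 0)) ∧
      ∀ μ ∈ m, IsNilpotent (φ μ) := by
  let E := AlgEquiv.ofBijective (rhoBar (k := k) m a ha 2)
    (rhoBar_bijective m hres a ha hspan 2 (fun F hF => ker_two m hres a ha hindep hF))
  let θ : MvPolynomial (Fin e) k →ₐ[k] Q k 2 :=
    MvPolynomial.aeval (fun i => x k 2 * (algebraMap k (Q k 2) (v i) + x k 2 * 0))
  have hθ : ∀ F ∈ MvPolynomial.idealOfVars (Fin e) k ^ 2, θ F = 0 := by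
    intro F hF
    have := aeval_jet (x k 2) (by rw [x_pow_self]) v (fun _ => 0) F
      (Ideal.pow_le_pow_right (by omega : 1 ≤ 2) hF)
    have h2 : MvPolynomial.homogeneousComponent 1 F = 0 := by
      ext d
      rw [MvPolynomial.coeff_homogeneousComponent, MvPolynomial.coeff_zero]
      split_ifs with h
      · exact (MvPolynomial.mem_pow_idealOfVars_iff' 2 F).mp hF d (by omega)
      · rfl
    rw [h2, map_zero, map_zero, mul_zero] at this
    simpa [θ] using this
  let θbar := Ideal.Quotient.liftₐ (MvPolynomial.idealOfVars (Fin e) k ^ 2) θ hθ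
  refine ⟨θbar.comp (E.symm.toAlgHom.comp (Ideal.Quotient.mkₐ k (m ^ 2))), ?_, ?_⟩
  · intro i
    have h1 : E.symm (Ideal.Quotient.mk (m ^ 2) (a i)) =
        Ideal.Quotient.mk _ (MvPolynomial.X i) := by
      rw [AlgEquiv.symm_apply_eq]
      show _ = rhoBar (k := k) m a ha 2 (Ideal.Quotient.mk _ (MvPolynomial.X i))
      rw [rhoBar_mk, MvPolynomial.aeval_X]
    show θbar (E.symm (Ideal.Quotient.mk (m ^ 2) (a i))) = _
    rw [h1]
    show θ (MvPolynomial.X i) = _
    rw [MvPolynomial.aeval_X]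
  · intro μ hμ
    refine ⟨2, ?_⟩
    rw [← map_pow]
    have : Ideal.Quotient.mkₐ k (m ^ 2) (μ ^ 2) = 0 :=
      Ideal.Quotient.eq_zero_iff_mem.mpr (Ideal.pow_mem_pow hμ 2)
    show θbar (E.symm (Ideal.Quotient.mkₐ k (m ^ 2) (μ ^ 2))) = 0
    rw [this, map_zero, map_zero]

/-- the lifting hypothesis for curvilinear jets -/
def JetsLift (k : Type u) [Field k] {A : Type u} [CommRing A] [Algebra k A] (m : Ideal A) : Prop :=
  ∀ l : ℕ, 1 ≤ l → ∀ φ : A →ₐ[k] Q k l, (∀ b ∈ m, IsNilpotent (φ b)) →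
    ∃ ψ : A →ₐ[k] Q k (l + 1), (trunc k l).comp ψ = φ

include hres ha hspan hindep in
theorem exists_jet_ge_two (H : JetsLift k m) (v : Fin e → k) (j : ℕ) (hj : 2 ≤ j) :
    ∃ φ : A →ₐ[k] Q k j, (∃ b : Fin e → Q k j,
      ∀ i, φ (a i) = x k j * (algebraMap k (Q k j) (v i) + x k j * b i)) ∧
      ∀ μ ∈ m, IsNilpotent (φ μ) := by
  induction j, hj using Nat.le_induction with
  | base =>
    obtain ⟨φ, h1, h2⟩ := exists_jet_two m hres a ha hspan hindep v
    exact ⟨φ, ⟨fun _ => 0, h1⟩, h2⟩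
  | succ j hj ih =>
    obtain ⟨φ, ⟨b, hb⟩, hnil⟩ := ih
    obtain ⟨ψ, hψ⟩ := H j (by omega) φ hnil
    have hψ' : ∀ y, trunc k j (ψ y) = φ y := fun y => AlgHom.congr_fun hψ y
    choose b' hb' using fun i => trunc_surjective k j (b i)
    have hd : ∀ i, ∃ d, ψ (a i) - x k (j + 1) * (algebraMap k (Q k (j + 1)) (v i) +
        x k (j + 1) * b' i) = (x k (j + 1)) ^ j * d := by
      intro i
      apply ker_trunc
      rw [map_sub, hψ', hb i, map_mul, map_add, map_mul, trunc_x, hb' i, AlgHom.commutes,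
        sub_self]
    choose d hd using hd
    refine ⟨ψ, ⟨fun i => b' i + (x k (j + 1)) ^ (j - 2) * d i, fun i => ?_⟩, ?_⟩
    · have h1 := hd i
      rw [sub_eq_iff_eq_add] at h1
      rw [h1]
      have h2 : (x k (j + 1)) ^ j = x k (j + 1) * (x k (j + 1) * (x k (j + 1)) ^ (j - 2)) := by
        rw [← pow_succ', ← pow_succ']
        congr 1
        omega
      rw [h2]
      ring
    · intro μ hμ
      obtain ⟨N, hN⟩ := hnil μ hμ
      have h1 : trunc k j (ψ μ ^ N) = 0 := by rw [map_pow, hψ', hN]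
      obtain ⟨d', hd'⟩ := ker_trunc k j h1
      refine ⟨N * 2, ?_⟩
      rw [pow_mul, hd', mul_pow, ← pow_mul, x_pow_eq_zero k (by nlinarith), zero_mul]

include hres ha hspan hindep in
theorem exists_jet (H : JetsLift k m) (v : Fin e → k) (j : ℕ) (hj : 1 ≤ j) :
    ∃ φ : A →ₐ[k] Q k j, (∃ b : Fin e → Q k j,
      ∀ i, φ (a i) = x k j * (algebraMap k (Q k j) (v i) + x k j * b i)) ∧
      ∀ μ ∈ m, IsNilpotent (φ μ) := by
  rcases Nat.lt_or_ge j 2 with h | h
  · obtain rfl : j = 1 := by omega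
    obtain ⟨φ, ⟨b, hb⟩, hnil⟩ := exists_jet_ge_two m hres a ha hspan hindep H v 2 le_rfl
    refine ⟨(trunc k 1).comp φ, ⟨fun i => trunc k 1 (b i), fun i => ?_⟩, ?_⟩
    · show trunc k 1 (φ (a i)) = _
      rw [hb i, map_mul, map_add, map_mul, trunc_x, AlgHom.commutes]
    · intro μ hμ
      exact (hnil μ hμ).map (trunc k 1)
  · exact exists_jet_ge_two m hres a ha hspan hindep H v j h

include hres ha hspan hindep in
theorem ker_of_jets [Infinite k] (H : JetsLift k m) (l : ℕ) {F : MvPolynomial (Fin e) k}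
    (hF : MvPolynomial.aeval a F ∈ m ^ l) : F ∈ MvPolynomial.idealOfVars (Fin e) k ^ l := by
  classical
  by_contra hFn
  have hex : ∃ n, F ∉ MvPolynomial.idealOfVars (Fin e) k ^ n := ⟨l, hFn⟩
  have hn0 : Nat.find hex ≠ 0 := by
    intro h0
    have := Nat.find_spec hex
    rw [h0, pow_zero, Ideal.one_eq_top] at this
    exact this trivial
  obtain ⟨r, hr⟩ := Nat.exists_eq_succ_of_ne_zero hn0
  have hFr : F ∈ MvPolynomial.idealOfVars (Fin e) k ^ r := by
    by_contra h
    have := Nat.find_min' hex h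
    omega
  have hFr1 : F ∉ MvPolynomial.idealOfVars (Fin e) k ^ (r + 1) := by
    have := Nat.find_spec hex
    rwa [hr] at this
  have hrl : r + 1 ≤ l := by
    have := Nat.find_min' hex hFn
    omega
  have hcomp : MvPolynomial.homogeneousComponent r F ≠ 0 := by
    intro h0
    have := sub_homogeneousComponent_mem F hFr
    rw [h0, sub_zero] at this
    exact hFr1 this
  obtain ⟨v, hv⟩ : ∃ v : Fin e → k,
      MvPolynomial.eval v (MvPolynomial.homogeneousComponent r F) ≠ 0 := by
    by_contra hall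
    push Not at hall
    exact hcomp ((MvPolynomial.homogeneousComponent_isHomogeneous r F).eq_zero_of_forall_eval_eq_zero
      hall)
  obtain ⟨φ, ⟨b, hb⟩, hnil⟩ := exists_jet m hres a ha hspan hindep H v (r + 1) (by omega)
  have h1 : φ (MvPolynomial.aeval a F) = 0 := by
    have hle : Ideal.map φ.toRingHom m ≤ Ideal.span {x k (r + 1)} := by
      rw [Ideal.map_le_iff_le_comap]
      intro μ hμ
      exact mem_span_x_of_isNilpotent k (by omega) (hnil μ hμ)
    have h2 : φ.toRingHom (MvPolynomial.aeval a F) ∈ Ideal.map φ.toRingHom (m ^ (r + 1)) :=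
      Ideal.mem_map_of_mem _ (Ideal.pow_le_pow_right hrl hF)
    rw [Ideal.map_pow] at h2
    have h3 := Ideal.pow_right_mono hle (r + 1) h2
    rw [Ideal.span_singleton_pow, x_pow_self, Ideal.span_singleton_eq_bot.mpr rfl] at h3
    exact h3
  have h2 : φ (MvPolynomial.aeval a F) = MvPolynomial.aeval (fun i => φ (a i)) F :=
    MvPolynomial.comp_aeval_apply a φ F
  have h3 : (fun i => φ (a i)) = fun i => x k (r + 1) *
      (algebraMap k (Q k (r + 1)) (v i) + x k (r + 1) * b i) := funext hb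
  rw [h2, h3, aeval_jet (x k (r + 1)) (x_pow_self k (r + 1)) v b F hFr] at h1
  exact x_pow_mul_algebraMap_ne_zero k r hv h1

theorem exists_pow_maximalIdeal_eq_bot (B : Type*) [CommRing B] [IsLocalRing B]
    [IsArtinianRing B] : ∃ N : ℕ, IsLocalRing.maximalIdeal B ^ N = ⊥ := by
  have h := IsArtinianRing.isNilpotent_jacobson_bot (R := B)
  rw [IsLocalRing.jacobson_eq_maximalIdeal ⊥ bot_ne_top] at h
  obtain ⟨N, hN⟩ := h
  exact ⟨N, hN⟩

include hres ha hspan hindep in
theorem exists_lift_of_jets [Infinite k] (H : JetsLift k m) {B' B : Type u} [CommRing B']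
    [CommRing B] [IsLocalRing B'] [IsLocalRing B] [IsArtinianRing B'] [IsArtinianRing B]
    [Algebra k B'] [Algebra k B] (π : B' →ₐ[k] B) (hπ : Function.Surjective π)
    (g : A →ₐ[k] B) (hg : (IsLocalRing.maximalIdeal B).comap g = m) :
    ∃ g' : A →ₐ[k] B', π.comp g' = g := by
  obtain ⟨N₁, hN₁⟩ := exists_pow_maximalIdeal_eq_bot B'
  obtain ⟨N₂, hN₂⟩ := exists_pow_maximalIdeal_eq_bot B
  set N := N₁ + N₂ with hN
  choose c hc using fun i => hπ (g (a i))
  have hgm : ∀ μ ∈ m, g μ ∈ IsLocalRing.maximalIdeal B := by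
    intro μ hμ
    rw [← hg] at hμ
    exact hμ
  have hcm : ∀ i, c i ∈ IsLocalRing.maximalIdeal B' := by
    intro i
    rw [IsLocalRing.mem_maximalIdeal, mem_nonunits_iff]
    intro hu
    have h1 := hu.map π
    rw [hc i] at h1
    exact (IsLocalRing.mem_maximalIdeal _).mp (hgm _ (ha i)) h1
  let θ : MvPolynomial (Fin e) k →ₐ[k] B' := MvPolynomial.aeval c
  have hθ : ∀ F ∈ MvPolynomial.idealOfVars (Fin e) k ^ N, θ F = 0 := by
    intro F hF
    have h1 : Ideal.map θ.toRingHom (MvPolynomial.idealOfVars (Fin e) k) ≤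
        IsLocalRing.maximalIdeal B' := by
      rw [Ideal.map_span, Ideal.span_le]
      rintro _ ⟨_, ⟨i, rfl⟩, rfl⟩
      show θ (MvPolynomial.X i) ∈ IsLocalRing.maximalIdeal B'
      rw [MvPolynomial.aeval_X]
      exact hcm i
    have h2 : θ.toRingHom F ∈ Ideal.map θ.toRingHom
        (MvPolynomial.idealOfVars (Fin e) k ^ N) := Ideal.mem_map_of_mem _ hF
    rw [Ideal.map_pow] at h2
    have h3 := Ideal.pow_le_pow_right (Nat.le_add_right N₁ N₂) (Ideal.pow_right_mono h1 N h2)
    rw [hN₁] at h3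
    exact h3
  have hgN : ∀ b ∈ m ^ N, g b = 0 := by
    intro b hb
    have h1 : Ideal.map g.toRingHom m ≤ IsLocalRing.maximalIdeal B := by
      rw [Ideal.map_le_iff_le_comap]
      exact fun μ hμ => hgm μ hμ
    have h2 : g.toRingHom b ∈ Ideal.map g.toRingHom (m ^ N) := Ideal.mem_map_of_mem _ hb
    rw [Ideal.map_pow] at h2
    have h3 := Ideal.pow_le_pow_right (Nat.le_add_left N₂ N₁) (Ideal.pow_right_mono h1 N h2)
    rw [hN₂] at h3
    exact h3
  let E := AlgEquiv.ofBijective (rhoBar (k := k) m a ha N)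
    (rhoBar_bijective m hres a ha hspan N
      (fun F hF => ker_of_jets m hres a ha hspan hindep H N hF))
  let θbar := Ideal.Quotient.liftₐ (MvPolynomial.idealOfVars (Fin e) k ^ N) θ hθ
  let gbar := Ideal.Quotient.liftₐ (m ^ N) g hgN
  have hcomp : π.comp θbar = gbar.comp (rhoBar (k := k) m a ha N) := by
    apply Ideal.Quotient.algHom_ext
    apply MvPolynomial.algHom_ext
    intro i
    show π (θ (MvPolynomial.X i)) = gbar (rhoBar (k := k) m a ha N (Ideal.Quotient.mk _ (MvPolynomial.X i)))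
    rw [rhoBar_mk, MvPolynomial.aeval_X, MvPolynomial.aeval_X, hc i]
    rfl
  refine ⟨θbar.comp (E.symm.toAlgHom.comp (Ideal.Quotient.mkₐ k (m ^ N))), ?_⟩
  refine AlgHom.ext fun b => ?_
  show π (θbar (E.symm (Ideal.Quotient.mk (m ^ N) b))) = g b
  have h1 := AlgHom.congr_fun hcomp (E.symm (Ideal.Quotient.mk (m ^ N) b))
  have h2 : rhoBar (k := k) m a ha N (E.symm (Ideal.Quotient.mk (m ^ N) b)) =
      Ideal.Quotient.mk (m ^ N) b := E.apply_symm_apply _
  show (π.comp θbar) _ = _
  rw [h1]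
  show gbar (rhoBar (k := k) m a ha N (E.symm (Ideal.Quotient.mk (m ^ N) b))) = g b
  rw [h2]
  rfl

end Main

end Groth.Agent.Lib.helper10.CurvJets
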