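import Mathlib

set_option autoImplicit false
universe u

namespace Groth.Agent.Lib.helper10.Curvi

variable {k B : Type*} [Field k] [CommRing B] [Algebra k B]

/-- abstract hypotheses on `B = k[t]/(t^n)`. -/
structure Hyp (t : B) (ε : B →ₐ[k] k) (n : ℕ) : Prop where
  decomp : ∀ b : B, ∃ b', b = algebraMap k B (ε b) + t * b'
  pow_zero : t ^ n = 0
  pow_ne : ∀ i < n, t ^ i ≠ 0
  eps_t : ε t = 0

variable {t : B} {ε : B →ₐ[k] k} {n : ℕ}

lemma Hyp.isUnit_iff (h : Hyp t ε n) (b : B) : IsUnit b ↔ ε b ≠ 0 := by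
  constructor
  · intro hb
    exact (hb.map ε).ne_zero
  · intro hb
    obtain ⟨b', hb'⟩ := h.decomp b
    rw [hb']
    apply IsNilpotent.isUnit_add_left_of_commute
    · exact ⟨n, by rw [mul_pow, h.pow_zero, zero_mul]⟩
    · exact (IsUnit.mk0 _ hb).map (algebraMap k B)
    · exact Commute.all _ _

lemma Hyp.eps_pow_mul (h : Hyp t ε n) {i : ℕ} (hi : 1 ≤ i) (c : B) : ε (t ^ i * c) = 0 := by
  rw [map_mul, map_pow, h.eps_t, zero_pow (by omega), zero_mul]

lemma Hyp.pow_mul_unit_ne_zero (h : Hyp t ε n) {i : ℕ} (hi : i < n) {u : B} (hu : IsUnit u) :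
    t ^ i * u ≠ 0 := by
  intro h0
  exact h.pow_ne i hi ((hu.mul_left_eq_zero).mp h0)

/-- every nonzero element is `t^i * unit`. -/
lemma Hyp.exists_repr (h : Hyp t ε n) {b : B} (hb : b ≠ 0) :
    ∃ i, i < n ∧ ∃ u, IsUnit u ∧ b = t ^ i * u := by
  have key : ∀ m, ∀ b : B, (∃ i, i < m ∧ ∃ u, IsUnit u ∧ b = t ^ i * u) ∨ ∃ c, b = t ^ m * c := by
    intro m
    induction m with
    | zero => intro b; exact Or.inr ⟨b, by simp⟩
    | succ m ih =>
      intro b
      rcases ih b with ⟨i, hi, u, hu, hbu⟩ | ⟨c, hc⟩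
      · exact Or.inl ⟨i, by omega, u, hu, hbu⟩
      · by_cases hεc : ε c = 0
        · obtain ⟨c', hc'⟩ := h.decomp c
          rw [hεc, map_zero, zero_add] at hc'
          exact Or.inr ⟨c', by rw [hc, hc']; ring⟩
        · exact Or.inl ⟨m, by omega, c, (h.isUnit_iff c).mpr hεc, hc⟩
  rcases key n b with hleft | ⟨c, hc⟩
  · exact hleft
  · exact absurd (by rw [hc, h.pow_zero, zero_mul]) hb

/-- if `t^i * u = t^j * c` with `u` a unit and `i < n` then `j ≤ i`. -/
lemma Hyp.le_of_eq (h : Hyp t ε n) {i j : ℕ} (hi : i < n) {u c : B} (hu : IsUnit u)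
    (he : t ^ i * u = t ^ j * c) : j ≤ i := by
  by_contra hlt
  push Not at hlt
  have h1 : t ^ i * (u - t ^ (j - i) * c) = 0 := by
    have : t ^ j = t ^ i * t ^ (j - i) := by rw [← pow_add]; congr 1; omega
    rw [mul_sub, he, this]; ring
  have hunit : IsUnit (u - t ^ (j - i) * c) := by
    rw [h.isUnit_iff, map_sub, h.eps_pow_mul (by omega), sub_zero]
    exact (h.isUnit_iff u).mp hu
  exact h.pow_mul_unit_ne_zero hi hunit h1

lemma Hyp.eq_of_eq (h : Hyp t ε n) {i j : ℕ} (hi : i < n) {u u' : B} (hu : IsUnit u)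
    (hu' : IsUnit u') (he : t ^ i * u = t ^ j * u') : i = j := by
  have h1 : j ≤ i := h.le_of_eq hi hu he
  have h2 : i ≤ j := h.le_of_eq (by omega) hu' he.symm
  omega

end Groth.Agent.Lib.helper10.Curvi
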