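import Groth.Agent.Lib.helper10.CurviA

set_option autoImplicit false
universe u

namespace Groth.Agent.Lib.helper10.Curvi

open Polynomial

variable {k B : Type*} [Field k] [CommRing B] [Algebra k B] {t : B} {ε : B →ₐ[k] k} {n : ℕ}

/-- generation by one element of the augmentation ideal gives a truncated polynomial algebra. -/
lemma exists_equiv_of_gen (h : Hyp t ε n) (A : Subalgebra k B) (s : B) (hs : s ∈ A)
    (hεs : ε s = 0) (hgen : ∀ a ∈ A, a ∈ Algebra.adjoin k {s}) :
    ∃ m : ℕ, Nonempty (A ≃ₐ[k] (Polynomial k ⧸ Ideal.span {(X : Polynomial k) ^ m})) := by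
  have hsn : s ^ n = 0 := by
    obtain ⟨s', hs'⟩ := h.decomp s
    rw [hεs, map_zero, zero_add] at hs'
    rw [hs', mul_pow, h.pow_zero, zero_mul]
  classical
  have hex : ∃ i, s ^ i = 0 := ⟨n, hsn⟩
  obtain ⟨m, hm_def⟩ : ∃ m, m = Nat.find hex := ⟨_, rfl⟩
  have hm : s ^ m = 0 := by rw [hm_def]; exact Nat.find_spec hex
  have hmin : ∀ i, s ^ i = 0 → m ≤ i := fun i hi => by rw [hm_def]; exact Nat.find_min' hex hi
  obtain ⟨φ, hφ_def⟩ : ∃ φ : Polynomial k →ₐ[k] A, φ = aeval (⟨s, hs⟩ : A) := ⟨_, rfl⟩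
  have hφ : ∀ P, ((φ P : A) : B) = aeval s P := by
    intro P
    rw [hφ_def]
    exact (Polynomial.aeval_algHom_apply A.val (⟨s, hs⟩ : A) P).symm
  have hsurj : Function.Surjective φ := by
    rintro ⟨a, ha⟩
    have := hgen a ha
    rw [Algebra.adjoin_singleton_eq_range_aeval] at this
    obtain ⟨P, hP⟩ := this
    exact ⟨P, Subtype.ext (by rw [hφ]; exact hP)⟩
  have hker : RingHom.ker φ = Ideal.span {(X : Polynomial k) ^ m} := by
    apply le_antisymm
    · intro P hP
      rw [RingHom.mem_ker] at hP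
      have hP' : aeval s P = 0 := by rw [← hφ, hP]; rfl
      rw [Ideal.mem_span_singleton]
      by_cases hP0 : P = 0
      · rw [hP0]; exact dvd_zero _
      obtain ⟨Q, hPQ, hQ⟩ := Polynomial.exists_eq_pow_rootMultiplicity_mul_and_not_dvd P hP0 0
      rw [map_zero, sub_zero] at hPQ hQ
      have hQ0 : Q.coeff 0 ≠ 0 := fun h0 => hQ (Polynomial.X_dvd_iff.mpr h0)
      have hunit : IsUnit (aeval s Q) := by
        rw [h.isUnit_iff, ← Polynomial.aeval_algHom_apply, hεs, ← Polynomial.coeff_zero_eq_aeval_zero]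
        exact hQ0
      have h1 : s ^ (P.rootMultiplicity 0) * aeval s Q = 0 := by
        rw [← hP']
        conv_rhs => rw [hPQ]
        rw [map_mul, map_pow, aeval_X]
      have h2 : s ^ (P.rootMultiplicity 0) = 0 := (hunit.mul_left_eq_zero).mp h1
      rw [hPQ]
      exact Dvd.dvd.mul_right (pow_dvd_pow X (hmin _ h2)) _
    · rw [Ideal.span_le, Set.singleton_subset_iff, SetLike.mem_coe, RingHom.mem_ker]
      apply Subtype.ext
      rw [hφ, map_pow, aeval_X, hm]; rfl
  refine ⟨m, ⟨?_⟩⟩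
  exact ((Ideal.quotientEquivAlgOfEq k hker).symm.trans
    (Ideal.quotientKerAlgEquivOfSurjective hsurj)).symm

end Groth.Agent.Lib.helper10.Curvi
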