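import Groth.Agent.Lib.helper10.CurviB

set_option autoImplicit false
universe u

namespace Groth.Agent.Lib.helper10.Curvi

open Polynomial

variable {k B : Type*} [Field k] [CommRing B] [Algebra k B] {t : B} {ε : B →ₐ[k] k} {n : ℕ}

/-- one-term relations. -/
lemma flat_one (A : Subalgebra k B) [Module.Flat A B] (a : A) (b : B) (hab : (a : B) * b = 0) :
    ∃ (N : ℕ) (α : Fin N → A) (z : Fin N → B), b = ∑ l, (α l : B) * z l ∧ ∀ l, a * α l = 0 := by
  have hrel : ∑ i : Fin 1, (![a] i) • (![b] i) = 0 := by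
    rw [Fin.sum_univ_one]
    simp only [Matrix.cons_val_zero, Subalgebra.smul_def, smul_eq_mul]
    exact hab
  have htr : Module.IsTrivialRelation ![a] ![b] :=
    Module.Flat.isTrivialRelation_of_sum_smul_eq_zero hrel
  obtain ⟨N, α, z, hz, hα⟩ := htr
  refine ⟨N, α 0, z, ?_, ?_⟩
  · have h := hz 0
    simp only [Matrix.cons_val_zero, Subalgebra.smul_def, smul_eq_mul] at h
    exact h
  · intro l
    have h := hα l
    rw [Fin.sum_univ_one] at h
    simpa using h

/-- two-term relations. -/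
lemma flat_two (A : Subalgebra k B) [Module.Flat A B] (a₁ a₂ : A) (b₁ b₂ : B)
    (hab : (a₁ : B) * b₁ + (a₂ : B) * b₂ = 0) :
    ∃ (N : ℕ) (α β : Fin N → A) (z : Fin N → B), b₁ = ∑ l, (α l : B) * z l ∧
      b₂ = ∑ l, (β l : B) * z l ∧ ∀ l, a₁ * α l + a₂ * β l = 0 := by
  have hrel : ∑ i : Fin 2, (![a₁, a₂] i) • (![b₁, b₂] i) = 0 := by
    rw [Fin.sum_univ_two]
    simp only [Matrix.cons_val_zero, Matrix.cons_val_one, Subalgebra.smul_def, smul_eq_mul]
    exact hab
  have htr : Module.IsTrivialRelation ![a₁, a₂] ![b₁, b₂] :=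
    Module.Flat.isTrivialRelation_of_sum_smul_eq_zero hrel
  obtain ⟨N, α, z, hz, hα⟩ := htr
  refine ⟨N, α 0, α 1, z, ?_, ?_, ?_⟩
  · have h := hz 0
    simp only [Matrix.cons_val_zero, Subalgebra.smul_def, smul_eq_mul] at h
    exact h
  · have h := hz 1
    simp only [Matrix.cons_val_one, Subalgebra.smul_def, smul_eq_mul] at h
    exact h
  · intro l
    have h := hα l
    rw [Fin.sum_univ_two] at h
    simpa using h

/-- the divisibility claim. -/
lemma dvd_order (h : Hyp t ε n) (A : Subalgebra k B) [Module.Flat A B]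
    (e : ℕ) (he1 : 1 ≤ e) (s us : B) (hs : s ∈ A) (hus : IsUnit us) (hs_eq : s = t ^ e * us)
    (hmin : ∀ a ∈ A, ε a = 0 → ∀ i u, IsUnit u → a = t ^ i * u → i < n → e ≤ i)
    (a : B) (ha : a ∈ A) (j : ℕ) (ua : B) (hua : IsUnit ua) (ha_eq : a = t ^ j * ua)
    (hjn : j < n) (hj1 : 1 ≤ j) : e ∣ j := by
  have hεa : ε a = 0 := by rw [ha_eq]; exact h.eps_pow_mul hj1 ua
  have ha0 : a ≠ 0 := by rw [ha_eq]; exact h.pow_mul_unit_ne_zero hjn hua
  have hej : e ≤ j := hmin a ha hεa j ua hua ha_eq hjn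
  -- every element of the augmentation ideal of `A` is divisible by `t^e`
  have hdiv : ∀ c ∈ A, ε c = 0 → ∃ d, c = t ^ e * d := by
    intro c hc hεc
    by_cases hc0 : c = 0
    · exact ⟨0, by rw [hc0, mul_zero]⟩
    obtain ⟨i, hi, u, hu, hcu⟩ := h.exists_repr hc0
    have := hmin c hc hεc i u hu hcu hi
    refine ⟨t ^ (i - e) * u, ?_⟩
    rw [hcu, ← mul_assoc, ← pow_add]
    congr 2; omega
  by_contra hndvd
  obtain ⟨q, r, hq_def, hr_def⟩ : ∃ q r, q = j / e ∧ r = j % e := ⟨_, _, rfl, rfl⟩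
  have hjqr : j = q * e + r := by rw [hq_def, hr_def]; exact (Nat.div_add_mod' j e).symm
  have hre : r < e := by rw [hr_def]; exact Nat.mod_lt _ (by omega)
  have hr0 : 1 ≤ r := by
    by_contra hr
    have : r = 0 := by omega
    apply hndvd
    rw [hjqr, this, add_zero]
    exact Dvd.intro_left q rfl
  -- (i) `e ≤ n - j`
  have h_i : e ≤ n - j := by
    have hrel : ((⟨a, ha⟩ : A) : B) * t ^ (n - j) = 0 := by
      show a * t ^ (n - j) = 0
      rw [ha_eq, mul_right_comm, ← pow_add]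
      have : j + (n - j) = n := by omega
      rw [this, h.pow_zero, zero_mul]
    obtain ⟨N, α, z, hz, hα⟩ := flat_one A ⟨a, ha⟩ (t ^ (n - j)) hrel
    have hαdiv : ∀ l, ∃ d, ((α l : A) : B) = t ^ e * d := by
      intro l
      apply hdiv _ (α l).2
      by_contra hne
      have hunit : IsUnit ((α l : A) : B) := (h.isUnit_iff _).mpr hne
      have h1 := congrArg (fun x : A => (x : B)) (hα l)
      simp only [Subalgebra.coe_mul, Subalgebra.coe_zero] at h1
      exact ha0 ((hunit.mul_left_eq_zero).mp h1)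
    choose d hd using hαdiv
    have h2 : t ^ (n - j) * 1 = t ^ e * ∑ l, d l * z l := by
      rw [mul_one, Finset.mul_sum]
      conv_lhs => rw [hz]
      apply Finset.sum_congr rfl
      intro l _
      rw [hd l]; ring
    exact h.le_of_eq (by omega) isUnit_one h2
  have h_ii : (q + 1) * e < n := by
    have : (q + 1) * e = q * e + e := by ring
    omega
  -- (iii) the two-term relation
  obtain ⟨ua', hua'⟩ := hua.exists_right_inv
  obtain ⟨b₁, hb₁_def⟩ : ∃ b₁, b₁ = t ^ (e - r) * ua' * us ^ (q + 1) := ⟨_, rfl⟩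
  have hab₁ : a * b₁ = s ^ (q + 1) := by
    rw [ha_eq, hb₁_def, hs_eq, mul_pow, ← pow_mul]
    have h1 : t ^ j * ua * (t ^ (e - r) * ua' * us ^ (q + 1)) =
        t ^ (j + (e - r)) * (ua * ua') * us ^ (q + 1) := by rw [pow_add]; ring
    rw [h1, hua', mul_one]
    congr 2
    have : e * (q + 1) = q * e + e := by ring
    omega
  have hrel2 : ((⟨a, ha⟩ : A) : B) * b₁ +
      ((-(⟨s, hs⟩ : A) ^ (q + 1) : A) : B) * 1 = 0 := by
    show a * b₁ + ((-(⟨s, hs⟩ : A) ^ (q + 1) : A) : B) * 1 = 0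
    have : ((-(⟨s, hs⟩ : A) ^ (q + 1) : A) : B) = -s ^ (q + 1) := by
      simp
    rw [this, hab₁]; ring
  obtain ⟨N, α, β, z, hz1, hz2, hαβ⟩ := flat_two A ⟨a, ha⟩ (-(⟨s, hs⟩ : A) ^ (q + 1)) b₁ 1 hrel2
  -- some `β l` is a unit
  have hexu : ∃ l, ε ((β l : A) : B) ≠ 0 := by
    by_contra hall
    push Not at hall
    have := congrArg ε hz2
    rw [map_one, map_sum] at this
    have h0 : ∑ l, ε (((β l : A) : B) * z l) = 0 := by
      apply Finset.sum_eq_zero
      intro l _
      rw [map_mul, hall l, zero_mul]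
    rw [h0] at this
    exact one_ne_zero this
  obtain ⟨l, hl⟩ := hexu
  have hβu : IsUnit ((β l : A) : B) := (h.isUnit_iff _).mpr hl
  have hrel3 : a * ((α l : A) : B) = s ^ (q + 1) * ((β l : A) : B) := by
    have h1 := congrArg (fun x : A => (x : B)) (hαβ l)
    simp only [Subalgebra.coe_mul, Subalgebra.coe_zero, Subalgebra.coe_add, Subalgebra.coe_neg,
      Subalgebra.coe_pow] at h1
    linear_combination h1
  have hrhs : s ^ (q + 1) * ((β l : A) : B) =
      t ^ ((q + 1) * e) * (us ^ (q + 1) * ((β l : A) : B)) := by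
    rw [hs_eq, mul_pow, ← pow_mul, mul_comm e (q + 1)]; ring
  have hunit2 : IsUnit (us ^ (q + 1) * ((β l : A) : B)) := (hus.pow _).mul hβu
  have hα0 : ((α l : A) : B) ≠ 0 := by
    intro h0
    rw [h0, mul_zero, hrhs] at hrel3
    exact h.pow_mul_unit_ne_zero h_ii hunit2 hrel3.symm
  obtain ⟨i, hi, u₀, hu₀, hαu⟩ := h.exists_repr hα0
  have hlhs : a * ((α l : A) : B) = t ^ (j + i) * (ua * u₀) := by
    rw [ha_eq, hαu, pow_add]; ring
  have hexp : (q + 1) * e = j + i := by
    apply h.eq_of_eq h_ii hunit2 (hua.mul hu₀)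
    rw [← hrhs, ← hrel3, hlhs]
  have hie : i < e := by
    have : (q + 1) * e = q * e + e := by ring
    omega
  have hi1 : 1 ≤ i := by
    have : (q + 1) * e = q * e + e := by ring
    omega
  have hεα : ε ((α l : A) : B) = 0 := by rw [hαu]; exact h.eps_pow_mul hi1 u₀
  have := hmin _ (α l).2 hεα i u₀ hu₀ hαu hi
  omega

end Groth.Agent.Lib.helper10.Curvi
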