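import Groth.Agent.Lib.helper10.CurviC

set_option autoImplicit false
universe u

namespace Groth.Agent.Lib.helper10.Curvi

open Polynomial

section abstract

variable {k B : Type*} [Field k] [CommRing B] [Algebra k B] {t : B} {ε : B →ₐ[k] k} {n : ℕ}

theorem main (h : Hyp t ε n) (A : Subalgebra k B) [Module.Flat A B] :
    ∃ m : ℕ, Nonempty (A ≃ₐ[k] (Polynomial k ⧸ Ideal.span {(X : Polynomial k) ^ m})) := by
  by_cases hm : ∀ a ∈ A, ε a = 0 → a = 0
  · -- `A = k`
    apply exists_equiv_of_gen h A 0 (Subalgebra.zero_mem A) (map_zero ε)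
    intro a ha
    have h1 : a - algebraMap k B (ε a) ∈ A := Subalgebra.sub_mem A ha (Subalgebra.algebraMap_mem A _)
    have h2 : ε (a - algebraMap k B (ε a)) = 0 := by
      rw [map_sub, AlgHom.commutes]
      simp
    have h3 := hm _ h1 h2
    have h4 : a = algebraMap k B (ε a) := by rw [← sub_eq_zero]; exact h3
    rw [h4]
    exact Subalgebra.algebraMap_mem _ _
  · push Not at hm
    obtain ⟨a₀, ha₀, hεa₀, ha₀0⟩ := hm
    classical
    have hex : ∃ i, ∃ a ∈ A, ε a = 0 ∧ ∃ u, IsUnit u ∧ a = t ^ i * u ∧ i < n := by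
      obtain ⟨i, hi, u, hu, hau⟩ := h.exists_repr ha₀0
      exact ⟨i, a₀, ha₀, hεa₀, u, hu, hau, hi⟩
    obtain ⟨e, he_def⟩ : ∃ e, e = Nat.find hex := ⟨_, rfl⟩
    have hspec := Nat.find_spec hex
    rw [← he_def] at hspec
    obtain ⟨s, hs, hεs, us, hus, hs_eq, hen⟩ := hspec
    have hmin : ∀ a ∈ A, ε a = 0 → ∀ i u, IsUnit u → a = t ^ i * u → i < n → e ≤ i := by
      intro a ha hεa i u hu hau hi
      rw [he_def]
      exact Nat.find_min' hex ⟨a, ha, hεa, u, hu, hau, hi⟩
    have he1 : 1 ≤ e := by
      by_contra he0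
      have : e = 0 := by omega
      rw [this, pow_zero, one_mul] at hs_eq
      rw [hs_eq] at hεs
      exact (h.isUnit_iff us).mp hus hεs
    have hεus : ε us ≠ 0 := (h.isUnit_iff us).mp hus
    apply exists_equiv_of_gen h A s hs hεs
    -- generation
    have key : ∀ d j, n ≤ j + d → ∀ a ∈ A, (∃ c, a = t ^ j * c) → a ∈ Algebra.adjoin k {s} := by
      intro d
      induction d with
      | zero =>
        intro j hj a ha hc
        obtain ⟨c, hc⟩ := hc
        have : t ^ j = 0 := by
          have : j = n + (j - n) := by omega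
          rw [this, pow_add, h.pow_zero, zero_mul]
        rw [hc, this, zero_mul]
        exact Subalgebra.zero_mem _
      | succ d ih =>
        intro j hj a ha hc
        obtain ⟨c, hc⟩ := hc
        by_cases ha0 : a = 0
        · rw [ha0]; exact Subalgebra.zero_mem _
        obtain ⟨i, hi, u, hu, hau⟩ := h.exists_repr ha0
        have hji : j ≤ i := h.le_of_eq hi hu (hau.symm.trans hc)
        rcases Nat.lt_or_ge j i with hlt | hge
        · apply ih (j + 1) (by omega) a ha
          refine ⟨t ^ (i - j - 1) * u, ?_⟩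
          rw [hau, ← mul_assoc, ← pow_add]
          congr 2; omega
        · have hij : i = j := by omega
          subst hij
          rcases Nat.eq_zero_or_pos i with hi0 | hipos
          · -- `i = 0`
            have h1 : a - algebraMap k B (ε a) ∈ A :=
              Subalgebra.sub_mem A ha (Subalgebra.algebraMap_mem A _)
            obtain ⟨b', hb'⟩ := h.decomp a
            have h2 : a - algebraMap k B (ε a) ∈ Algebra.adjoin k {s} := by
              apply ih 1 (by omega) _ h1
              exact ⟨b', by rw [pow_one]; rw [sub_eq_iff_eq_add']; exact hb'⟩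
            have := Subalgebra.add_mem _ h2 (Subalgebra.algebraMap_mem (Algebra.adjoin k {s}) (ε a))
            rwa [sub_add_cancel] at this
          · -- `i ≥ 1`
            obtain ⟨q, hq⟩ := dvd_order h A e he1 s us hs hus hs_eq hmin a ha i u hu hau hi hipos
            obtain ⟨c₀, hc₀⟩ : ∃ c₀ : k, c₀ = ε u / (ε us) ^ q := ⟨_, rfl⟩
            have hsq : s ^ q = t ^ i * us ^ q := by
              rw [hs_eq, mul_pow, ← pow_mul, hq]
            have h1 : a - c₀ • s ^ q ∈ A :=
              Subalgebra.sub_mem A ha (Subalgebra.smul_mem A (Subalgebra.pow_mem A hs q) c₀)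
            have hε0 : ε (u - c₀ • us ^ q) = 0 := by
              rw [map_sub, map_smul, map_pow, hc₀, smul_eq_mul,
                div_mul_cancel₀ _ (pow_ne_zero _ hεus), sub_self]
            obtain ⟨w, hw⟩ := h.decomp (u - c₀ • us ^ q)
            rw [hε0, map_zero, zero_add] at hw
            have h2 : a - c₀ • s ^ q ∈ Algebra.adjoin k {s} := by
              apply ih (i + 1) (by omega) _ h1
              refine ⟨w, ?_⟩
              rw [hau, hsq, pow_succ, mul_assoc, ← hw]
              rw [mul_sub, mul_smul_comm]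
            have h3 : c₀ • s ^ q ∈ Algebra.adjoin k {s} :=
              Subalgebra.smul_mem _ (Subalgebra.pow_mem _ (Algebra.self_mem_adjoin_singleton k s) q) c₀
            have := Subalgebra.add_mem _ h2 h3
            rwa [sub_add_cancel] at this
    intro a ha
    exact key n 0 (by omega) a ha ⟨a, by rw [pow_zero, one_mul]⟩

end abstract

section concrete

variable (k : Type u) [Field k] (n : ℕ)

/-- the augmentation of `k[t]/(t^n)`, `n ≥ 1`. -/
noncomputable def epsQ (hn : 0 < n) :
    (Polynomial k ⧸ Ideal.span {(X : Polynomial k) ^ n}) →ₐ[k] k :=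
  Ideal.Quotient.liftₐ _ (aeval (0 : k)) (by
    intro P hP
    obtain ⟨Q, rfl⟩ := Ideal.mem_span_singleton'.mp hP
    rw [map_mul, map_pow, aeval_X, zero_pow (by omega), mul_zero])

lemma epsQ_mk (hn : 0 < n) (P : Polynomial k) :
    epsQ k n hn (Ideal.Quotient.mk _ P) = P.coeff 0 := by
  show aeval (0 : k) P = _
  rw [← Polynomial.coeff_zero_eq_aeval_zero]

lemma hypQ (hn : 0 < n) :
    Hyp (Ideal.Quotient.mk (Ideal.span {(X : Polynomial k) ^ n}) X) (epsQ k n hn) n where
  decomp := by
    intro b
    obtain ⟨P, rfl⟩ := Ideal.Quotient.mk_surjective b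
    refine ⟨Ideal.Quotient.mk _ P.divX, ?_⟩
    rw [epsQ_mk, ← map_mul]
    have : algebraMap k (Polynomial k ⧸ Ideal.span {(X : Polynomial k) ^ n}) (P.coeff 0) =
        Ideal.Quotient.mk _ (C (P.coeff 0)) := rfl
    rw [this, ← map_add]
    congr 1
    conv_lhs => rw [← Polynomial.divX_mul_X_add P]
    ring
  pow_zero := by
    rw [← map_pow, Ideal.Quotient.eq_zero_iff_mem]
    exact Ideal.mem_span_singleton_self _
  pow_ne := by
    intro i hi h0
    rw [← map_pow, Ideal.Quotient.eq_zero_iff_mem, Ideal.mem_span_singleton] at h0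
    have := (pow_dvd_pow_iff (Polynomial.X_ne_zero) (Polynomial.not_isUnit_X)).mp h0
    omega
  eps_t := by
    rw [epsQ_mk]; simp

theorem curvilinear (hn : 0 < n)
    (A : Subalgebra k (Polynomial k ⧸ Ideal.span {(X : Polynomial k) ^ n}))
    [Module.Flat A (Polynomial k ⧸ Ideal.span {(X : Polynomial k) ^ n})] :
    ∃ m : ℕ, Nonempty (A ≃ₐ[k] (Polynomial k ⧸ Ideal.span {(X : Polynomial k) ^ m})) :=
  main (hypQ k n hn) A

end concrete

end Groth.Agent.Lib.helper10.Curvi
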