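import Mathlib

set_option autoImplicit false
set_option maxHeartbeats 800000

open groupCohomology CategoryTheory

namespace Groth.Agent.Lib.helper10.CycH1

universe u

variable {k G : Type u} [CommRing k] [Group G] (A : Rep.{u} k G) (g : G)

/-- partial norms `1 + σ + ... + σ^(i-1)` -/
noncomputable def S (i : ℕ) : A.V →ₗ[k] A.V := ∑ j ∈ Finset.range i, (A.ρ g) ^ j

theorem S_add (i i' : ℕ) (y : A.V) :
    S A g (i + i') y = S A g i y + ((A.ρ g) ^ i) (S A g i' y) := by
  have : S A g (i + i') = S A g i + (A.ρ g) ^ i * S A g i' := by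
    simp only [S]
    rw [Finset.sum_range_add, Finset.mul_sum]
    congr 1
    refine Finset.sum_congr rfl fun j _ => ?_
    rw [pow_add]
  rw [this, LinearMap.add_apply, Module.End.mul_apply]

theorem S_zero (y : A.V) : S A g 0 y = 0 := by simp [S]

theorem S_one (y : A.V) : S A g 1 y = y := by simp [S]

variable (p : ℕ)

theorem S_add_mul (y : A.V) (hy : S A g p y = 0) (i q : ℕ) :
    S A g (i + p * q) y = S A g i y := by
  induction q with
  | zero => simp
  | succ q ih =>
    rw [Nat.mul_succ, ← add_assoc, S_add, hy, map_zero, add_zero, ih]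

theorem S_congr (y : A.V) (hy : S A g p y = 0) {i i' : ℕ} (h : i ≡ i' [MOD p]) :
    S A g i y = S A g i' y := by
  have h1 : S A g i y = S A g (i % p) y := by
    conv_lhs => rw [← Nat.mod_add_div i p]
    exact S_add_mul A g p y hy _ _
  have h2 : S A g i' y = S A g (i' % p) y := by
    conv_lhs => rw [← Nat.mod_add_div i' p]
    exact S_add_mul A g p y hy _ _
  rw [h1, h2, h]

variable (hp : 0 < p) (hgp : orderOf g = p) (hg : ∀ x : G, x ∈ Subgroup.zpowers g)

include hp hgp hg in
theorem exists_pow_eq (x : G) : ∃ i : ℕ, g ^ i = x := by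
  have hfin : IsOfFinOrder g := by
    rw [← orderOf_pos_iff, hgp]; exact hp
  have := (hfin.mem_powers_iff_mem_zpowers).mpr (hg x)
  exact (Submonoid.mem_powers_iff _ _).mp this

/-- a discrete logarithm -/
noncomputable def lg (x : G) : ℕ := Classical.choose (exists_pow_eq g p hp hgp hg x)

theorem pow_lg (x : G) : g ^ lg g p hp hgp hg x = x :=
  Classical.choose_spec (exists_pow_eq g p hp hgp hg x)

theorem rho_pow (i : ℕ) : (A.ρ g) ^ i = A.ρ (g ^ i) := by
  rw [map_pow]

/-- the cocycle attached to an element of the kernel of the norm -/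
noncomputable def cocycleOf (y : LinearMap.ker (S A g p)) : cocycles₁ A :=
  ⟨fun x => S A g (lg g p hp hgp hg x) y.1, by
    rw [mem_cocycles₁_iff]
    intro x x'
    have hy : S A g p y.1 = 0 := y.2
    have h1 : lg g p hp hgp hg (x * x') ≡ lg g p hp hgp hg x + lg g p hp hgp hg x' [MOD p] := by
      have := (pow_eq_pow_iff_modEq (x := g) (n := lg g p hp hgp hg (x * x'))
        (m := lg g p hp hgp hg x + lg g p hp hgp hg x')).mp (by rw [pow_add, pow_lg, pow_lg, pow_lg])
      rwa [hgp] at this
    rw [S_congr A g p y.1 hy h1, S_add, rho_pow, pow_lg, add_comm]⟩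

theorem cocycleOf_apply (y : LinearMap.ker (S A g p)) (x : G) :
    cocycleOf A g p hp hgp hg y x = S A g (lg g p hp hgp hg x) y.1 := rfl

theorem cocycleOf_gen (y : LinearMap.ker (S A g p)) :
    cocycleOf A g p hp hgp hg y g = y.1 := by
  rw [cocycleOf_apply]
  have h1 : lg g p hp hgp hg g ≡ 1 [MOD p] := by
    have := (pow_eq_pow_iff_modEq (x := g) (n := lg g p hp hgp hg g) (m := 1)).mp
      (by rw [pow_lg, pow_one])
    rwa [hgp] at this
  rw [S_congr A g p y.1 y.2 h1, S_one]

/-- value of a cocycle on powers of the generator -/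
theorem cocycle_pow (f : cocycles₁ A) (i : ℕ) : f (g ^ i) = S A g i (f g) := by
  induction i with
  | zero => simp [S_zero]
  | succ i ih =>
    have h := (mem_cocycles₁_iff (A := A) f).1 f.2 (g ^ i) g
    rw [pow_succ]
    have h' : f (g ^ i * g) = (A.ρ (g ^ i)) (f g) + f (g ^ i) := h
    rw [h', ih, S_add, S_one, rho_pow, add_comm]

include hgp in
theorem cocycle_gen_mem (f : cocycles₁ A) : f g ∈ LinearMap.ker (S A g p) := by
  rw [LinearMap.mem_ker, ← cocycle_pow, ← hgp, pow_orderOf_eq_one]
  exact cocycles₁_map_one f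

theorem cocycle_eq (f : cocycles₁ A) :
    cocycleOf A g p hp hgp hg ⟨f g, cocycle_gen_mem A g p hgp f⟩ = f := by
  apply cocycles₁_ext
  intro x
  rw [cocycleOf_apply]
  simp only
  rw [← cocycle_pow, pow_lg]

/-- `cocycleOf` as a linear map -/
noncomputable def psi : LinearMap.ker (S A g p) →ₗ[k] cocycles₁ A where
  toFun := cocycleOf A g p hp hgp hg
  map_add' y y' := by
    apply cocycles₁_ext
    intro x
    change cocycleOf A g p hp hgp hg (y + y') x =
      cocycleOf A g p hp hgp hg y x + cocycleOf A g p hp hgp hg y' x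
    simp only [cocycleOf_apply, Submodule.coe_add, map_add]
  map_smul' r y := by
    apply cocycles₁_ext
    intro x
    change cocycleOf A g p hp hgp hg (r • y) x = r • cocycleOf A g p hp hgp hg y x
    simp only [cocycleOf_apply, Submodule.coe_smul, map_smul]

/-- the projection `ker N → H¹` -/
noncomputable def pi' : LinearMap.ker (S A g p) →ₗ[k] H1 A :=
  (H1π A).hom ∘ₗ psi A g p hp hgp hg

theorem pi'_apply (y : LinearMap.ker (S A g p)) :
    pi' A g p hp hgp hg y = H1π A (cocycleOf A g p hp hgp hg y) := rfl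

theorem pi'_surjective : Function.Surjective (pi' A g p hp hgp hg) := by
  intro z
  induction z using H1_induction_on with
  | h f =>
    exact ⟨⟨f g, cocycle_gen_mem A g p hgp f⟩, by rw [pi'_apply, cocycle_eq]⟩

theorem pi'_eq_zero_iff (y : LinearMap.ker (S A g p)) :
    pi' A g p hp hgp hg y = 0 ↔ y.1 ∈ LinearMap.range (A.ρ g - 1) := by
  rw [pi'_apply, H1π_eq_zero_iff]
  constructor
  · rintro ⟨m, hm⟩
    refine ⟨m, ?_⟩
    have := congrFun hm g
    rw [cocycleOf_gen A g p hp hgp hg y] at this
    rw [← this]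
    simp [d₀₁]
  · rintro ⟨m, hm⟩
    refine ⟨m, ?_⟩
    -- two cocycles agreeing at `g` are equal
    have hc : (d₀₁ A).hom m ∈ cocycles₁ A := d₀₁_apply_mem_cocycles₁ m
    set f : cocycles₁ A := ⟨(d₀₁ A).hom m, hc⟩ with hf
    have h1 : f g = y.1 := by
      rw [← hm]
      simp [hf, d₀₁]
    have h2 := cocycle_eq A g p hp hgp hg f
    have h3 : (⟨f g, cocycle_gen_mem A g p hgp f⟩ : LinearMap.ker (S A g p)) = y :=
      Subtype.ext h1
    rw [h3] at h2
    rw [h2]
    rfl

/-- naturality -/
theorem pi'_natural {B : Rep.{u} k G} (φ : A ⟶ B) (y : LinearMap.ker (S A g p))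
    (hy : φ.hom y.1 ∈ LinearMap.ker (S B g p)) :
    ((groupCohomology.functor k G 1).map φ).hom (pi' A g p hp hgp hg y) =
      pi' B g p hp hgp hg ⟨φ.hom y.1, hy⟩ := by
  rw [pi'_apply, pi'_apply]
  have h1 := H1π_comp_map_apply (MonoidHom.id G) φ (cocycleOf A g p hp hgp hg y)
  rw [groupCohomology.functor_map]
  refine h1.trans ?_
  congr 1
  apply cocycles₁_ext
  intro x
  rw [cocycleOf_apply]
  simp only
  have h2 : ∀ (i : ℕ) (z : A.V), φ.hom (S A g i z) = S B g i (φ.hom z) := by
    intro i z
    simp only [S, LinearMap.sum_apply, map_sum]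
    refine Finset.sum_congr rfl fun j _ => ?_
    rw [rho_pow, rho_pow, Rep.hom_comm_apply]
  rw [← h2]
  rfl

end Groth.Agent.Lib.helper10.CycH1
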