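import Mathlib

set_option autoImplicit false
universe u v

namespace Groth.Agent.Lib.helper10.CycleSp

open SimpleGraph Finset

variable {V : Type u} [Fintype V] [DecidableEq V] {A : Type v} [AddCommGroup A]

/-- vertex sums of an edge labelling (graph independent form). -/
def bd : (Sym2 V → A) →+ (V → A) where
  toFun x v := ∑ w, x s(v, w)
  map_zero' := by ext v; simp
  map_add' x y := by ext v; simp [Finset.sum_add_distrib]

lemma bd_apply (x : Sym2 V → A) (v : V) : bd x v = ∑ w, x s(v, w) := rfl

lemma bd_single {a b : V} (hab : a ≠ b) (t : A) :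
    bd (Pi.single s(a, b) t : Sym2 V → A) = Pi.single a t + Pi.single b t := by
  ext v
  rw [bd_apply]
  simp only [Pi.single_apply, Pi.add_apply]
  by_cases hva : v = a
  · subst hva
    have : ∀ w, (s(v, w) = s(v, b)) ↔ w = b := fun w => by
      rw [Sym2.eq_iff]; constructor
      · rintro (⟨-, h⟩ | ⟨h, -⟩)
        · exact h
        · exact absurd h hab
      · intro h; exact Or.inl ⟨rfl, h⟩
    simp [this, hab]
  · by_cases hvb : v = b
    · subst hvb
      have : ∀ w, (s(v, w) = s(a, v)) ↔ w = a := fun w => by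
        rw [Sym2.eq_iff]; constructor
        · rintro (⟨h, -⟩ | ⟨-, h⟩)
          · exact absurd h hva
          · exact h
        · intro h; exact Or.inr ⟨rfl, h⟩
      simp [this, hva]
    · have : ∀ w, ¬ (s(v, w) = s(a, b)) := fun w => by
        rw [Sym2.eq_iff]; rintro (⟨h, -⟩ | ⟨h, -⟩)
        · exact hva h
        · exact hvb h
      simp [this, hva, hvb]

variable (A) in
/-- the cycle space: labellings supported on edges with zero vertex sums. -/
def cyc (G : SimpleGraph V) : AddSubgroup (Sym2 V → A) where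
  carrier := {x | (∀ e, e ∉ G.edgeSet → x e = 0) ∧ bd x = 0}
  zero_mem' := ⟨fun _ _ => rfl, map_zero _⟩
  add_mem' := fun {x y} hx hy => ⟨fun e he => by simp [hx.1 e he, hy.1 e he],
    by rw [map_add, hx.2, hy.2, add_zero]⟩
  neg_mem' := fun {x} hx => ⟨fun e he => by simp [hx.1 e he], by rw [map_neg, hx.2, neg_zero]⟩

lemma mem_cyc {G : SimpleGraph V} {x : Sym2 V → A} :
    x ∈ cyc A G ↔ (∀ e, e ∉ G.edgeSet → x e = 0) ∧ bd x = 0 := Iff.rfl

/-- alternating sum of edge indicators along a walk. -/
def altSum {G : SimpleGraph V} (t : A) {u v : V} : G.Walk u v → (Sym2 V → A)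
  | .nil => 0
  | .cons (v := w) _ p => Pi.single s(u, w) t - altSum t p

lemma altSum_apply_of_notMem {G : SimpleGraph V} (t : A) {u v : V} (p : G.Walk u v) (e : Sym2 V)
    (he : e ∉ p.edges) : altSum t p e = 0 := by
  induction p with
  | nil => rfl
  | cons h p ih =>
    rw [Walk.edges_cons, List.mem_cons, not_or] at he
    simp only [altSum, Pi.sub_apply]
    rw [ih he.2, Pi.single_eq_of_ne he.1, sub_zero]

lemma altSum_add {G : SimpleGraph V} (t t' : A) {u v : V} (p : G.Walk u v) :
    altSum (t + t') p = altSum t p + altSum t' p := by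
  induction p with
  | nil => simp [altSum]
  | cons h p ih =>
    simp only [altSum, ih, Pi.single_add]
    abel

lemma altSum_zero {G : SimpleGraph V} {u v : V} (p : G.Walk u v) :
    altSum (0 : A) p = 0 := by
  induction p with
  | nil => simp [altSum]
  | cons h p ih =>
    simp only [altSum, ih, Pi.single_zero, sub_zero]

lemma bd_altSum {G : SimpleGraph V} (t : A) {u v : V} (p : G.Walk u v) :
    bd (altSum t p) = Pi.single u t - ((-1 : ℤ) ^ p.length) • (Pi.single v t : V → A) := by
  induction p with
  | nil => simp [altSum]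
  | cons h p ih =>
    simp only [altSum, map_sub, Walk.length_cons]
    rw [bd_single h.ne, ih, pow_succ]
    simp only [mul_neg, mul_one, neg_smul]
    abel

lemma neg_one_pow_length {G : SimpleGraph V} (c : V → Bool)
    (hbip : ∀ v w, G.Adj v w → c v ≠ c w) {u v : V} (p : G.Walk u v) :
    (-1 : ℤ) ^ p.length = if c u = c v then 1 else -1 := by
  induction p with
  | nil => simp
  | @cons a b d h p ih =>
    rw [Walk.length_cons, pow_succ, ih]
    have := hbip _ _ h
    revert this
    generalize c a = x
    generalize c b = y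
    generalize c d = z
    cases x <;> cases y <;> cases z <;> simp


lemma eq_zero_of_bridge_aux (G : SimpleGraph V) (c : V → Bool)
    (hbip : ∀ v w, G.Adj v w → c v ≠ c w) (z : Sym2 V → A) (hz : z ∈ cyc A G) {a b : V}
    (hab : G.Adj a b) (hbr : ¬ (G.deleteEdges {s(a, b)}).Reachable a b) (hca : c a = true) :
    z s(a, b) = 0 := by
  classical
  obtain ⟨hz0, hz1⟩ := hz
  have hcb : c b = false := by
    have := hbip a b hab
    rw [hca] at this
    cases h : c b
    · rfl
    · exact absurd h.symm this
  obtain ⟨ψ, hψ⟩ : ∃ ψ : V → Prop, ψ = fun w => (G.deleteEdges {s(a, b)}).Reachable a w :=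
    ⟨_, rfl⟩
  have hψa : ψ a := by rw [hψ]
  have hψb : ¬ ψ b := by rw [hψ]; exact hbr
  have hψadj : ∀ v w, (G.deleteEdges {s(a, b)}).Adj v w → (ψ v ↔ ψ w) := by
    intro v w hadj'
    rw [hψ]
    exact ⟨fun h => h.trans hadj'.reachable, fun h => h.trans hadj'.symm.reachable⟩
  clear hψ
  have hsame : ∀ v w, c v = c w → z s(v, w) = 0 := fun v w h =>
    hz0 _ (fun hadj => hbip v w hadj h)
  have hbd : ∀ v, ∑ w, z s(v, w) = 0 := fun v => congrFun hz1 v
  have S1 : ∑ v, ∑ w, (if (c v = true ∧ c w = false) ∧ ψ v then z s(v, w) else 0) = 0 := by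
    apply Finset.sum_eq_zero; intro v _
    by_cases hv : c v = true ∧ ψ v
    · refine (Finset.sum_congr rfl ?_).trans (hbd v); intro w _
      by_cases hw : c w = false
      · rw [if_pos ⟨⟨hv.1, hw⟩, hv.2⟩]
      · rw [if_neg (fun h => hw h.1.2), hsame v w (by rw [hv.1]; simpa using hw)]
    · apply Finset.sum_eq_zero; intro w _; rw [if_neg (fun h => hv ⟨h.1.1, h.2⟩)]
  have S2 : ∑ v, ∑ w, (if (c v = true ∧ c w = false) ∧ ψ w then z s(v, w) else 0) = 0 := by
    rw [Finset.sum_comm]
    apply Finset.sum_eq_zero; intro w _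
    by_cases hw : c w = false ∧ ψ w
    · refine (Finset.sum_congr rfl ?_).trans (hbd w); intro v _
      rw [Sym2.eq_swap (a := w)]
      by_cases hv : c v = true
      · rw [if_pos ⟨⟨hv, hw.1⟩, hw.2⟩]
      · rw [if_neg (fun h => hv h.1.1), hsame v w (by rw [hw.1]; simpa using hv)]
    · apply Finset.sum_eq_zero; intro v _; rw [if_neg (fun h => hw ⟨h.1.2, h.2⟩)]
  have key : ∀ v w, ((if (c v = true ∧ c w = false) ∧ ψ v then z s(v, w) else 0) -
      (if (c v = true ∧ c w = false) ∧ ψ w then z s(v, w) else 0)) =
      if v = a then (if w = b then z s(a, b) else 0) else 0 := by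
    intro v w
    by_cases hvw : v = a ∧ w = b
    · obtain ⟨rfl, rfl⟩ := hvw
      rw [if_pos ⟨⟨hca, hcb⟩, hψa⟩, if_neg (fun h => hψb h.2), sub_zero, if_pos rfl, if_pos rfl]
    · have hR : (if v = a then (if w = b then z s(a, b) else 0) else 0) = 0 := by
        by_cases h1 : v = a
        · rw [if_pos h1, if_neg (fun h2 => hvw ⟨h1, h2⟩)]
        · rw [if_neg h1]
      rw [hR]
      by_cases hP : c v = true ∧ c w = false
      · by_cases hadj : G.Adj v w
        · have hne : s(v, w) ≠ s(a, b) := by
            intro h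
            rcases Sym2.eq_iff.mp h with h | h
            · exact hvw h
            · rw [h.1, hcb] at hP; exact absurd hP.1 (by simp)
          have hadj' : (G.deleteEdges {s(a, b)}).Adj v w := by
            rw [deleteEdges_adj]; exact ⟨hadj, by simpa using hne⟩
          have hiff : ψ v ↔ ψ w := hψadj v w hadj'
          by_cases hv : ψ v
          · rw [if_pos ⟨hP, hv⟩, if_pos ⟨hP, hiff.mp hv⟩, sub_self]
          · rw [if_neg (fun h => hv h.2), if_neg (fun h => hv (hiff.mpr h.2)), sub_self]
        · have : z s(v, w) = 0 := hz0 _ hadj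
          simp [this]
      · rw [if_neg (fun h => hP h.1), if_neg (fun h => hP h.1), sub_self]
  have S3 : ∑ v, ∑ w, ((if (c v = true ∧ c w = false) ∧ ψ v then z s(v, w) else 0) -
      (if (c v = true ∧ c w = false) ∧ ψ w then z s(v, w) else 0)) = z s(a, b) := by
    simp only [key]
    simp
  simp only [Finset.sum_sub_distrib] at S3
  rw [S1, S2, sub_zero] at S3
  exact S3.symm

lemma eq_zero_of_isBridge (G : SimpleGraph V) (c : V → Bool)
    (hbip : ∀ v w, G.Adj v w → c v ≠ c w) (z : Sym2 V → A) (hz : z ∈ cyc A G) {a b : V}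
    (hab : G.Adj a b) (hbr : G.IsBridge s(a, b)) : z s(a, b) = 0 := by
  rw [isBridge_iff] at hbr
  by_cases hca : c a = true
  · exact eq_zero_of_bridge_aux G c hbip z hz hab hbr hca
  · have hcb : c b = true := by
      have := hbip a b hab
      cases h : c b
      · exfalso; apply this; rw [h]; simpa using hca
      · rfl
    rw [Sym2.eq_swap]
    refine eq_zero_of_bridge_aux G c hbip z hz hab.symm ?_ hcb
    rw [Sym2.eq_swap]
    exact fun h => hbr h.symm


theorem main (c : V → Bool) (n : ℕ) : ∀ (G : SimpleGraph V), G.Connected →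
    (∀ v w, G.Adj v w → c v ≠ c w) → Nat.card G.edgeSet + 1 = Nat.card V + n →
    ∃ f : (Fin n → A) →+ (Sym2 V → A), Function.Injective f ∧
      Set.range f = (cyc A G : Set (Sym2 V → A)) := by
  induction n with
  | zero =>
    intro G hconn hbip hn
    have htree : G.IsTree := isTree_iff_connected_and_card.mpr ⟨hconn, by simpa using hn⟩
    have hbr := isAcyclic_iff_forall_adj_isBridge.mp htree.isAcyclic
    refine ⟨0, fun x y _ => funext fun i => i.elim0, ?_⟩
    ext x
    simp only [Set.mem_range, AddMonoidHom.zero_apply, SetLike.mem_coe]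
    constructor
    · rintro ⟨_, rfl⟩; exact zero_mem _
    · intro hx
      refine ⟨0, ?_⟩
      symm
      funext e
      induction e with
      | h a b =>
        by_cases hadj : G.Adj a b
        · exact eq_zero_of_isBridge G c hbip x hx hadj (hbr hadj)
        · exact hx.1 _ hadj
  | succ n ih =>
    intro G hconn hbip hn
    have hnt : ¬ G.IsTree := fun h => by
      have := (isTree_iff_connected_and_card.mp h).2
      omega
    have hna : ¬ G.IsAcyclic := fun h => hnt ⟨hconn, h⟩
    rw [isAcyclic_iff_forall_adj_isBridge] at hna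
    push Not at hna
    obtain ⟨a, b, hab, hbr⟩ := hna
    have hconn' := hconn.connected_delete_edge_of_not_isBridge hbr
    obtain ⟨G', hG'⟩ : ∃ G' : SimpleGraph V, G' = G.deleteEdges {s(a, b)} := ⟨_, rfl⟩
    rw [← hG'] at hconn'
    have hle : G' ≤ G := hG' ▸ deleteEdges_le _
    have hedge : G'.edgeSet = G.edgeSet \ {s(a, b)} := by rw [hG', edgeSet_deleteEdges]
    have hbip' : ∀ v w, G'.Adj v w → c v ≠ c w := fun v w h => hbip v w (hle h)
    have hcard : Nat.card G'.edgeSet + 1 = Nat.card G.edgeSet := by
      rw [hedge, Nat.card_coe_set_eq, Nat.card_coe_set_eq]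
      exact Set.ncard_diff_singleton_add_one (G.mem_edgeSet.mpr hab) (Set.toFinite _)
    obtain ⟨f', hf'inj, hf'range⟩ := ih G' hconn' hbip' (by omega)
    obtain ⟨p⟩ := hconn'.preconnected a b
    have hlen : (-1 : ℤ) ^ p.length = -1 := by
      rw [neg_one_pow_length c hbip' p, if_neg (hbip a b hab)]
    let Z : A →+ (Sym2 V → A) :=
      { toFun := fun t => Pi.single s(a, b) t - altSum t p
        map_zero' := by simp [altSum_zero]
        map_add' := fun t t' => by rw [altSum_add, Pi.single_add]; abel }
    have hZdef : ∀ t, Z t = Pi.single s(a, b) t - altSum t p := fun t => rfl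
    have hZe : ∀ t, Z t s(a, b) = t := by
      intro t
      rw [hZdef, Pi.sub_apply, Pi.single_eq_same, altSum_apply_of_notMem, sub_zero]
      intro hmem
      have := p.edges_subset_edgeSet hmem
      rw [hedge] at this
      exact this.2 rfl
    have hZmem : ∀ t, Z t ∈ cyc A G := by
      intro t
      refine ⟨fun e he => ?_, ?_⟩
      · rw [hZdef, Pi.sub_apply,
          Pi.single_eq_of_ne (fun h => he (by rw [h]; exact G.mem_edgeSet.mpr hab)),
          altSum_apply_of_notMem, sub_zero]
        exact fun hmem => he (edgeSet_mono hle (p.edges_subset_edgeSet hmem))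
      · rw [hZdef, map_sub, bd_single hab.ne, bd_altSum, hlen]; simp
    have hsub : ∀ x, x ∈ cyc A G' → x ∈ cyc A G := fun x hx =>
      ⟨fun e he => hx.1 e (fun h => he (edgeSet_mono hle h)), hx.2⟩
    have hf'mem : ∀ t, f' t ∈ cyc A G' := fun t => by
      have : f' t ∈ Set.range f' := ⟨t, rfl⟩
      rw [hf'range] at this; exact this
    let f : (Fin (n + 1) → A) →+ (Sym2 V → A) :=
      { toFun := fun t => f' (Fin.tail t) + Z (t 0)
        map_zero' := by
          have : Fin.tail (0 : Fin (n + 1) → A) = 0 := rfl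
          rw [this, map_zero, Pi.zero_apply, map_zero, add_zero]
        map_add' := fun t t' => by
          have : Fin.tail (t + t') = Fin.tail t + Fin.tail t' := rfl
          rw [this, map_add, Pi.add_apply, map_add]; abel }
    have hfdef : ∀ t, f t = f' (Fin.tail t) + Z (t 0) := fun t => rfl
    refine ⟨f, ?_, ?_⟩
    · rw [injective_iff_map_eq_zero]
      intro t ht
      rw [hfdef] at ht
      have h0 : t 0 = 0 := by
        have := congrFun ht s(a, b)
        rw [Pi.add_apply, hZe, (hf'mem _).1 s(a, b) (by rw [hedge]; exact fun h => h.2 rfl),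
          zero_add] at this
        exact this
      rw [h0, map_zero, add_zero] at ht
      have h1 : Fin.tail t = 0 := hf'inj (by rw [ht, map_zero])
      funext i
      refine Fin.cases h0 (fun j => ?_) i
      exact congrFun h1 j
    · ext x
      constructor
      · rintro ⟨t, rfl⟩
        rw [hfdef]
        exact add_mem (hsub _ (hf'mem _)) (hZmem _)
      · intro hx
        have hx' : x - Z (x s(a, b)) ∈ cyc A G' := by
          have h1 : x - Z (x s(a, b)) ∈ cyc A G := sub_mem hx (hZmem _)
          refine ⟨fun e he => ?_, h1.2⟩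
          by_cases hes : e = s(a, b)
          · subst hes; rw [Pi.sub_apply, hZe, sub_self]
          · exact h1.1 e (fun h => he (by rw [hedge]; exact ⟨h, hes⟩))
        have : x - Z (x s(a, b)) ∈ Set.range f' := by rw [hf'range]; exact hx'
        obtain ⟨t', ht'⟩ := this
        refine ⟨Fin.cons (x s(a, b)) t', ?_⟩
        rw [hfdef, Fin.tail_cons, Fin.cons_zero, ht']; abel

/-- conversion from the incidence-finset form of vertex sums. -/
lemma sum_incidenceFinset (G : SimpleGraph V) [DecidableRel G.Adj] (x : Sym2 V → A)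
    (hx : ∀ e, e ∉ G.edgeSet → x e = 0) (v : V) :
    ∑ e ∈ G.incidenceFinset v, x e = bd x v := by
  rw [bd_apply]
  have himg : G.incidenceFinset v = (Finset.univ.filter (G.Adj v)).image (fun w => s(v, w)) := by
    ext e
    induction e with
    | h a b =>
      simp only [mem_incidenceFinset, mk'_mem_incidenceSet_iff, Finset.mem_image,
        Finset.mem_filter, Finset.mem_univ, true_and, Sym2.eq_iff]
      constructor
      · rintro ⟨hadj, rfl | rfl⟩
        · exact ⟨b, hadj, Or.inl ⟨rfl, rfl⟩⟩
        · exact ⟨a, hadj.symm, Or.inr ⟨rfl, rfl⟩⟩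
      · rintro ⟨w, hadj, ⟨rfl, rfl⟩ | ⟨rfl, rfl⟩⟩
        · exact ⟨hadj, Or.inl rfl⟩
        · exact ⟨hadj.symm, Or.inr rfl⟩
  rw [himg, Finset.sum_image]
  · rw [Finset.sum_filter]
    apply Finset.sum_congr rfl
    intro w _
    by_cases h : G.Adj v w
    · rw [if_pos h]
    · rw [if_neg h, hx _ h]
  · intro w _ w' _ h
    rcases Sym2.eq_iff.mp h with h | h
    · exact h.2
    · rw [h.2, ← h.1]

end Groth.Agent.Lib.helper10.CycleSp
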