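import Mathlib

set_option maxHeartbeats 400000
set_option autoImplicit false
universe u

namespace H10S6328

variable {R : Type u} [CommRing R] {M : Type u} [AddCommGroup M] [Module R M]
variable {P : Type u} [AddCommGroup P] [Module R P] (π : P →ₗ[R] M)
  (Fr : Finset M → Submodule R P)

/-- index type: a finite subset `F` of `M` together with a f.g. submodule of relations
inside `Fr F`. -/
def Idx : Type u :=
  {p : Finset M × Submodule R P // p.2.FG ∧ p.2 ≤ LinearMap.ker π ∧ p.2 ≤ Fr p.1}

instance : Preorder (Idx π Fr) := inferInstanceAs (Preorder (Subtype _))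

variable {π Fr}

/-- relations, as a submodule of the free part -/
abbrev Rl (i : Idx π Fr) : Submodule R (Fr i.1.1) := i.1.2.comap (Fr i.1.1).subtype

/-- the f.p. module attached to an index -/
abbrev G (i : Idx π Fr) : Type u := (Fr i.1.1) ⧸ (Rl i)

theorem Fr_mono (hmono : Monotone Fr) {i j : Idx π Fr} (h : i ≤ j) : Fr i.1.1 ≤ Fr j.1.1 :=
  hmono h.1

theorem Rl_le (hmono : Monotone Fr) {i j : Idx π Fr} (h : i ≤ j) :
    Rl i ≤ (Rl j).comap (Submodule.inclusion (Fr_mono hmono h)) := by
  intro x hx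
  exact h.2 hx

/-- transition maps -/
noncomputable def tr (hmono : Monotone Fr) (i j : Idx π Fr) (h : i ≤ j) : G i →ₗ[R] G j :=
  Submodule.mapQ _ _ (Submodule.inclusion (Fr_mono hmono h)) (Rl_le hmono h)

theorem tr_mk (hmono : Monotone Fr) (i j : Idx π Fr) (h : i ≤ j) (x : Fr i.1.1) :
    tr hmono i j h (Submodule.Quotient.mk x) =
      Submodule.Quotient.mk (Submodule.inclusion (Fr_mono hmono h) x) :=
  rfl

theorem directedSystem (hmono : Monotone Fr) :
    DirectedSystem (G (π := π) (Fr := Fr)) fun i j h => tr hmono i j h where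
  map_self i x := by
    obtain ⟨x, rfl⟩ := Submodule.Quotient.mk_surjective _ x
    rfl
  map_map k j i hij hjk x := by
    obtain ⟨x, rfl⟩ := Submodule.Quotient.mk_surjective _ x
    rfl

theorem isDirected (hmono : Monotone Fr) : IsDirected (Idx π Fr) (· ≤ ·) where
  directed i j := by
    classical
    refine ⟨⟨(i.1.1 ∪ j.1.1, i.1.2 ⊔ j.1.2), i.2.1.sup j.2.1, sup_le i.2.2.1 j.2.2.1,
      sup_le (i.2.2.2.trans ?_) (j.2.2.2.trans ?_)⟩, ?_, ?_⟩
    · exact hmono Finset.subset_union_left
    · exact hmono Finset.subset_union_right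
    · exact ⟨Finset.subset_union_left, le_sup_left⟩
    · exact ⟨Finset.subset_union_right, le_sup_right⟩

instance : Nonempty (Idx π Fr) :=
  ⟨⟨(∅, ⊥), Submodule.fg_bot, bot_le, bot_le⟩⟩

theorem finitePresentation (hfree : ∀ F, Module.Free R (Fr F)) (hfin : ∀ F, Module.Finite R (Fr F))
    (i : Idx π Fr) : Module.FinitePresentation R (G i) := by
  have := hfree i.1.1
  have := hfin i.1.1
  refine Module.finitePresentation_of_free_of_surjective (Rl i).mkQ
    (Submodule.mkQ_surjective _) ?_
  rw [Submodule.ker_mkQ]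
  apply Submodule.fg_of_fg_map_injective (Fr i.1.1).subtype (Submodule.injective_subtype _)
  rw [Submodule.map_comap_subtype, inf_eq_right.2 i.2.2.2]
  exact i.2.1

/-- maps to `M` -/
noncomputable def toM (i : Idx π Fr) : G i →ₗ[R] M :=
  (Rl i).liftQ (π ∘ₗ (Fr i.1.1).subtype) (by
    intro x hx
    exact i.2.2.1 hx)

theorem toM_mk (i : Idx π Fr) (x : Fr i.1.1) :
    toM i (Submodule.Quotient.mk x) = π x.1 := rfl

theorem toM_tr (hmono : Monotone Fr) (i j : Idx π Fr) (h : i ≤ j) (x : G i) :
    toM j (tr hmono i j h x) = toM i x := by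
  obtain ⟨x, rfl⟩ := Submodule.Quotient.mk_surjective _ x
  rfl

variable (π Fr)

theorem main_aux (hmono : Monotone Fr) (hfree : ∀ F, Module.Free R (Fr F))
    (hfin : ∀ F, Module.Finite R (Fr F)) (hsurj : ∀ m, ∃ F, ∃ x ∈ Fr F, π x = m) :
    ∃ (ι : Type u) (_ : Preorder ι) (_ : IsDirected ι (· ≤ ·)) (_ : Nonempty ι)
    (_ : DecidableEq ι) (G : ι → Type u) (_ : ∀ i, AddCommGroup (G i)) (_ : ∀ i, Module R (G i))
    (f : ∀ i j, i ≤ j → G i →ₗ[R] G j) (_ : DirectedSystem G fun i j h => f i j h),
    (∀ i, Module.FinitePresentation R (G i)) ∧ Nonempty (Module.DirectLimit G f ≃ₗ[R] M) := by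
  classical
  have := isDirected (π := π) hmono
  have := directedSystem (π := π) hmono
  refine ⟨Idx π Fr, inferInstance, inferInstance, inferInstance, inferInstance, G, inferInstance,
    inferInstance, tr hmono, inferInstance, finitePresentation hfree hfin, ⟨?_⟩⟩
  refine LinearEquiv.ofBijective
    (Module.DirectLimit.lift R (Idx π Fr) G (tr hmono) toM (toM_tr hmono)) ⟨?_, ?_⟩
  · rw [injective_iff_map_eq_zero]
    intro z hz
    obtain ⟨i, x, rfl⟩ := Module.DirectLimit.exists_of z
    rw [Module.DirectLimit.lift_of] at hz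
    obtain ⟨x, rfl⟩ := Submodule.Quotient.mk_surjective _ x
    rw [toM_mk] at hz
    let j : Idx π Fr := ⟨(i.1.1, i.1.2 ⊔ Submodule.span R {x.1}),
      i.2.1.sup (Submodule.fg_span_singleton _),
      sup_le i.2.2.1 ((Submodule.span_singleton_le_iff_mem _ _).2 hz),
      sup_le i.2.2.2 ((Submodule.span_singleton_le_iff_mem _ _).2 x.2)⟩
    have hij : i ≤ j := ⟨le_rfl, le_sup_left⟩
    rw [← Module.DirectLimit.of_f (hij := hij), tr_mk]
    have : (Submodule.Quotient.mk (Submodule.inclusion (Fr_mono hmono hij) x) : G j) = 0 := by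
      rw [Submodule.Quotient.mk_eq_zero]
      exact Submodule.mem_sup_right (Submodule.mem_span_singleton_self _)
    rw [this, map_zero]
  · intro m
    obtain ⟨F, x, hx, hxm⟩ := hsurj m
    let i : Idx π Fr := ⟨(F, ⊥), Submodule.fg_bot, bot_le, bot_le⟩
    refine ⟨Module.DirectLimit.of R (Idx π Fr) G (tr hmono) i
      (Submodule.Quotient.mk (⟨x, hx⟩ : Fr i.1.1)), ?_⟩
    rw [Module.DirectLimit.lift_of, toM_mk]
    exact hxm

theorem main (R : Type u) [CommRing R] (M : Type u) [AddCommGroup M] [Module R M] :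
    ∃ (ι : Type u) (_ : Preorder ι) (_ : IsDirected ι (· ≤ ·)) (_ : Nonempty ι)
    (_ : DecidableEq ι) (G : ι → Type u) (_ : ∀ i, AddCommGroup (G i)) (_ : ∀ i, Module R (G i))
    (f : ∀ i j, i ≤ j → G i →ₗ[R] G j) (_ : DirectedSystem G fun i j h => f i j h),
    (∀ i, Module.FinitePresentation R (G i)) ∧ Nonempty (Module.DirectLimit G f ≃ₗ[R] M) := by
  refine main_aux (Finsupp.linearCombination R (id : M → M))
    (fun F => Finsupp.supported R R (F : Set M)) ?_ ?_ ?_ ?_
  · intro F F' h
    exact Finsupp.supported_mono (Finset.coe_subset.2 h)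
  · intro F
    exact Module.Free.of_equiv (Finsupp.supportedEquivFinsupp (M := R) (R := R) (F : Set M)).symm
  · intro F
    exact Module.Finite.equiv (Finsupp.supportedEquivFinsupp (M := R) (R := R) (F : Set M)).symm
  · intro m
    refine ⟨{m}, Finsupp.single m 1, ?_, by simp⟩
    rw [Finsupp.mem_supported]
    intro y hy
    have := Finsupp.support_single_subset hy
    simpa using this

end H10S6328
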