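import Mathlib

set_option autoImplicit false
set_option maxHeartbeats 800000

/-!
# Divided powers extend to the `p`-adic completion
-/

namespace Groth.Agent.Lib.helper10.DPCompl

open AdicCompletion

universe u

variable {A : Type u} [CommRing A] (p : ℕ)

/-- `r` represents `a` modulo `p^m` -/
def IsRep (a : AdicCompletion (Ideal.span {(p : A)}) A) (m : ℕ) (r : A) : Prop :=
  evalₐ (Ideal.span {(p : A)}) m a = Ideal.Quotient.mk _ r

variable {p}

theorem isRep_exists (a : AdicCompletion (Ideal.span {(p : A)}) A) (m : ℕ) :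
    ∃ r, IsRep p a m r := by
  obtain ⟨r, hr⟩ := Ideal.Quotient.mk_surjective (evalₐ (Ideal.span {(p : A)}) m a)
  exact ⟨r, hr.symm⟩

theorem isRep_mono {a : AdicCompletion (Ideal.span {(p : A)}) A} {m e : ℕ} {r : A}
    (h : IsRep p a m r) (hem : e ≤ m) : IsRep p a e r := by
  induction a using AdicCompletion.induction_on with
  | h f =>
    unfold IsRep at *
    rw [evalₐ_mk, Ideal.Quotient.eq] at *
    have h1 : f.val e - f.val m ∈ (Ideal.span {(p : A)}) ^ e := by
      have := f.property hem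
      rw [SModEq.sub_mem] at this
      simpa using this
    have h2 := Ideal.pow_le_pow_right hem h
    have : f.val e - r = (f.val e - f.val m) + (f.val m - r) := by ring
    rw [this]
    exact Ideal.add_mem _ h1 h2

theorem isRep_of (x : A) (m : ℕ) :
    IsRep p (algebraMap A (AdicCompletion (Ideal.span {(p : A)}) A) x) m x := by
  unfold IsRep
  rw [AdicCompletion.algebraMap_apply, evalₐ_of]
  rfl

theorem isRep_add {a a' : AdicCompletion (Ideal.span {(p : A)}) A} {m : ℕ} {r r' : A}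
    (h : IsRep p a m r) (h' : IsRep p a' m r') : IsRep p (a + a') m (r + r') := by
  unfold IsRep at *
  rw [map_add, map_add, h, h']

theorem isRep_mul {a a' : AdicCompletion (Ideal.span {(p : A)}) A} {m : ℕ} {r r' : A}
    (h : IsRep p a m r) (h' : IsRep p a' m r') : IsRep p (a * a') m (r * r') := by
  unfold IsRep at *
  rw [map_mul, map_mul, h, h']

theorem isRep_pow {a : AdicCompletion (Ideal.span {(p : A)}) A} {m : ℕ} {r : A}
    (h : IsRep p a m r) (k : ℕ) : IsRep p (a ^ k) m (r ^ k) := by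
  unfold IsRep at *
  rw [map_pow, map_pow, h]

theorem isRep_one (m : ℕ) : IsRep p (1 : AdicCompletion (Ideal.span {(p : A)}) A) m 1 := by
  unfold IsRep
  rw [map_one, map_one]

theorem isRep_zero (m : ℕ) : IsRep p (0 : AdicCompletion (Ideal.span {(p : A)}) A) m 0 := by
  unfold IsRep
  rw [_root_.map_zero, _root_.map_zero]

theorem isRep_natCast (N m : ℕ) :
    IsRep p ((N : ℕ) : AdicCompletion (Ideal.span {(p : A)}) A) m (N : A) := by
  unfold IsRep
  rw [map_natCast, map_natCast]

theorem isRep_sum {ι : Type*} (s : Finset ι) {a : ι → AdicCompletion (Ideal.span {(p : A)}) A}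
    {m : ℕ} {r : ι → A} (h : ∀ i ∈ s, IsRep p (a i) m (r i)) :
    IsRep p (∑ i ∈ s, a i) m (∑ i ∈ s, r i) := by
  unfold IsRep at *
  rw [map_sum, map_sum]
  exact Finset.sum_congr rfl h

theorem isRep_sub_mem {a : AdicCompletion (Ideal.span {(p : A)}) A} {m : ℕ} {r r' : A}
    (h : IsRep p a m r) (h' : IsRep p a m r') : r - r' ∈ (Ideal.span {(p : A)}) ^ m := by
  unfold IsRep at *
  rw [← Ideal.Quotient.eq, ← h, ← h']

theorem isRep_of_sub_mem {a : AdicCompletion (Ideal.span {(p : A)}) A} {m : ℕ} {r r' : A}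
    (h : IsRep p a m r) (h' : r' - r ∈ (Ideal.span {(p : A)}) ^ m) : IsRep p a m r' := by
  unfold IsRep at *
  rw [h, eq_comm, Ideal.Quotient.eq]
  exact h'

theorem ext_of_isRep {a a' : AdicCompletion (Ideal.span {(p : A)}) A}
    (h : ∀ e, ∃ r, IsRep p a e r ∧ IsRep p a' e r) : a = a' := by
  apply ext_evalₐ
  intro e
  obtain ⟨r, h1, h2⟩ := h e
  rw [h1, h2]

variable {I : Ideal A} (γ : DividedPowers I) {t : ℕ} (ht : Ideal.span {(p : A)} ^ t ≤ I)

/-- the projection to `A/I` -/
noncomputable abbrev proj : AdicCompletion (Ideal.span {(p : A)}) A →+* A ⧸ I :=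
  (Ideal.Quotient.factor ht).comp (evalₐ (Ideal.span {(p : A)}) t).toRingHom

theorem mem_ker_iff_of_isRep {a : AdicCompletion (Ideal.span {(p : A)}) A} {r : A}
    (h : IsRep p a t r) : a ∈ RingHom.ker (proj ht) ↔ r ∈ I := by
  rw [RingHom.mem_ker]
  show Ideal.Quotient.factor ht (evalₐ (Ideal.span {(p : A)}) t a) = 0 ↔ _
  rw [h, Ideal.Quotient.factor_mk, Ideal.Quotient.eq_zero_iff_mem]

theorem rep_mem {a : AdicCompletion (Ideal.span {(p : A)}) A} (ha : a ∈ RingHom.ker (proj ht))
    {m : ℕ} (hm : t ≤ m) {r : A} (h : IsRep p a m r) : r ∈ I :=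
  (mem_ker_iff_of_isRep ht (isRep_mono h hm)).mp ha

include ht in
/-- continuity of the divided powers for the `p`-adic topology -/
theorem dpow_sub_mem {x x' : A} (hx : x ∈ I) (e n : ℕ)
    (h : x' - x ∈ (Ideal.span {(p : A)}) ^ (e + t)) :
    γ.dpow n x' - γ.dpow n x ∈ (Ideal.span {(p : A)}) ^ e := by
  rw [Ideal.span_singleton_pow, Ideal.mem_span_singleton'] at h
  obtain ⟨w, hw⟩ := h
  have hy : (p : A) ^ t * w ∈ I := by
    apply ht
    exact Ideal.mul_mem_right _ _ (Ideal.pow_mem_pow (Ideal.mem_span_singleton_self _) t)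
  have hx' : x' = x + (p : A) ^ e * ((p : A) ^ t * w) := by
    rw [← mul_assoc, ← pow_add, mul_comm, hw]; ring
  have hpy : (p : A) ^ e * ((p : A) ^ t * w) ∈ I := Ideal.mul_mem_left _ _ hy
  rw [hx', γ.dpow_add' hx hpy, Finset.sum_range_succ, Nat.sub_self, γ.dpow_zero hpy, mul_one,
    add_sub_cancel_right]
  refine Ideal.sum_mem _ fun k hk => ?_
  have hk' : n - k ≠ 0 := by
    have := Finset.mem_range.mp hk
    omega
  rw [γ.dpow_mul hy]
  obtain ⟨j, hj⟩ : ∃ j, n - k = j + 1 := ⟨n - k - 1, by omega⟩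
  rw [hj, pow_succ, Ideal.span_singleton_pow]
  refine Ideal.mul_mem_left _ _ (Ideal.mul_mem_right _ _ (Ideal.mul_mem_left _ _ ?_))
  exact Ideal.mem_span_singleton_self _

end Groth.Agent.Lib.helper10.DPCompl
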