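import Mathlib
import Groth.Agent.Lib.helper10.DPCompl

set_option autoImplicit false
set_option maxHeartbeats 800000

/-!
# Divided powers extend to the `p`-adic completion: the structure
-/

namespace Groth.Agent.Lib.helper10.DPCompl

open AdicCompletion

universe u

variable {A : Type u} [CommRing A] {p : ℕ} {I : Ideal A} (γ : DividedPowers I) {t : ℕ}
  (ht : Ideal.span {(p : A)} ^ t ≤ I)

/-- chosen representatives -/
noncomputable def rep (a : AdicCompletion (Ideal.span {(p : A)}) A) (m : ℕ) : A :=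
  Classical.choose (isRep_exists a m)

theorem isRep_rep (a : AdicCompletion (Ideal.span {(p : A)}) A) (m : ℕ) :
    IsRep p a m (rep a m) := Classical.choose_spec (isRep_exists a m)

/-- the Cauchy sequence of divided powers of representatives -/
noncomputable def dpSeq (n : ℕ) (a : AdicCompletion (Ideal.span {(p : A)}) A)
    (ha : a ∈ RingHom.ker (proj (p := p) ht)) : AdicCauchySequence (Ideal.span {(p : A)}) A :=
  ⟨fun e => γ.dpow n (rep a (e + t)), by
    intro e e' hee'
    rw [SModEq.sub_mem]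
    have h1 : IsRep p a (e + t) (rep a (e' + t)) := isRep_mono (isRep_rep a _) (by omega)
    have h2 := isRep_sub_mem (isRep_rep a (e + t)) h1
    have := dpow_sub_mem γ ht (x := rep a (e' + t)) (x' := rep a (e + t))
      (rep_mem ht ha (by omega) (isRep_rep a _)) e n h2
    simpa using this⟩

/-- the divided power operations on the completion -/
noncomputable def dpFun (n : ℕ) (a : AdicCompletion (Ideal.span {(p : A)}) A) :
    AdicCompletion (Ideal.span {(p : A)}) A := by
  classical
  exact if ha : a ∈ RingHom.ker (proj (p := p) ht) then AdicCompletion.mk _ _ (dpSeq γ ht n a ha)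
    else 0

theorem dpFun_isRep {a : AdicCompletion (Ideal.span {(p : A)}) A}
    (ha : a ∈ RingHom.ker (proj (p := p) ht)) {e : ℕ} {r : A} (h : IsRep p a (e + t) r) (n : ℕ) :
    IsRep p (dpFun γ ht n a) e (γ.dpow n r) := by
  unfold dpFun
  rw [dif_pos ha]
  unfold IsRep
  rw [evalₐ_mk]
  show Ideal.Quotient.mk _ (γ.dpow n (rep a (e + t))) = _
  rw [Ideal.Quotient.eq]
  exact dpow_sub_mem γ ht (rep_mem ht ha (by omega) h) e n (isRep_sub_mem (isRep_rep a _) h)

theorem dpFun_mem {a : AdicCompletion (Ideal.span {(p : A)}) A}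
    (ha : a ∈ RingHom.ker (proj (p := p) ht)) {n : ℕ} (hn : n ≠ 0) :
    dpFun γ ht n a ∈ RingHom.ker (proj (p := p) ht) := by
  obtain ⟨r, hr⟩ := isRep_exists a (t + t)
  have := dpFun_isRep γ ht ha hr n
  exact (mem_ker_iff_of_isRep ht this).mpr (γ.dpow_mem hn (rep_mem ht ha (by omega) hr))

/-- the divided power structure on the kernel of `Â → A/I` -/
noncomputable def dividedPowers : DividedPowers (RingHom.ker (proj (p := p) ht)) where
  dpow := dpFun γ ht
  dpow_null {n a} ha := by
    unfold dpFun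
    rw [dif_neg ha]
  dpow_zero {a} ha := by
    apply ext_of_isRep
    intro e
    obtain ⟨r, hr⟩ := isRep_exists a (e + t)
    refine ⟨1, ?_, isRep_one e⟩
    have := dpFun_isRep γ ht ha hr 0
    rwa [γ.dpow_zero (rep_mem ht ha (by omega) hr)] at this
  dpow_one {a} ha := by
    apply ext_of_isRep
    intro e
    obtain ⟨r, hr⟩ := isRep_exists a (e + t)
    refine ⟨r, ?_, isRep_mono hr (by omega)⟩
    have := dpFun_isRep γ ht ha hr 1
    rwa [γ.dpow_one (rep_mem ht ha (by omega) hr)] at this
  dpow_mem {n a} hn ha := dpFun_mem γ ht ha hn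
  dpow_add {n a a'} ha ha' := by
    apply ext_of_isRep
    intro e
    obtain ⟨r, hr⟩ := isRep_exists a (e + t)
    obtain ⟨r', hr'⟩ := isRep_exists a' (e + t)
    have hI := rep_mem ht ha (by omega) hr
    have hI' := rep_mem ht ha' (by omega) hr'
    refine ⟨γ.dpow n (r + r'),
      dpFun_isRep γ ht (Ideal.add_mem _ ha ha') (isRep_add hr hr') n, ?_⟩
    rw [γ.dpow_add hI hI']
    exact isRep_sum _ fun k _ =>
      isRep_mul (dpFun_isRep γ ht ha hr k.1) (dpFun_isRep γ ht ha' hr' k.2)
  dpow_mul {n c a} ha := by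
    apply ext_of_isRep
    intro e
    obtain ⟨s, hs⟩ := isRep_exists c (e + t)
    obtain ⟨r, hr⟩ := isRep_exists a (e + t)
    have hI := rep_mem ht ha (by omega) hr
    refine ⟨γ.dpow n (s * r),
      dpFun_isRep γ ht (Ideal.mul_mem_left _ _ ha) (isRep_mul hs hr) n, ?_⟩
    rw [γ.dpow_mul hI]
    exact isRep_mul (isRep_pow (isRep_mono hs (by omega)) n) (dpFun_isRep γ ht ha hr n)
  mul_dpow {m n a} ha := by
    apply ext_of_isRep
    intro e
    obtain ⟨r, hr⟩ := isRep_exists a (e + t)
    have hI := rep_mem ht ha (by omega) hr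
    refine ⟨γ.dpow m r * γ.dpow n r,
      isRep_mul (dpFun_isRep γ ht ha hr m) (dpFun_isRep γ ht ha hr n), ?_⟩
    rw [γ.mul_dpow hI]
    exact isRep_mul (isRep_natCast _ e) (dpFun_isRep γ ht ha hr (m + n))
  dpow_comp {m n a} hn ha := by
    apply ext_of_isRep
    intro e
    obtain ⟨r, hr⟩ := isRep_exists a (e + t + t)
    have hI := rep_mem ht ha (by omega) hr
    have h1 : IsRep p (dpFun γ ht n a) (e + t) (γ.dpow n r) := dpFun_isRep γ ht ha hr n
    refine ⟨γ.dpow m (γ.dpow n r), dpFun_isRep γ ht (dpFun_mem γ ht ha hn) h1 m, ?_⟩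
    rw [γ.dpow_comp hn hI]
    exact isRep_mul (isRep_natCast _ e)
      (dpFun_isRep γ ht ha (isRep_mono hr (by omega)) (m * n))

theorem isDPMorphism :
    γ.IsDPMorphism (dividedPowers (p := p) γ ht)
      (algebraMap A (AdicCompletion (Ideal.span {(p : A)}) A)) := by
  have hle : I.map (algebraMap A (AdicCompletion (Ideal.span {(p : A)}) A)) ≤
      RingHom.ker (proj (p := p) ht) := by
    rw [Ideal.map_le_iff_le_comap]
    intro x hx
    exact (mem_ker_iff_of_isRep ht (isRep_of x t)).mpr hx
  refine ⟨hle, fun {n} x hx => ?_⟩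
  apply ext_of_isRep
  intro e
  exact ⟨γ.dpow n x,
    dpFun_isRep γ ht (hle (Ideal.mem_map_of_mem _ hx)) (isRep_of x (e + t)) n, isRep_of _ e⟩

theorem proj_surjective : Function.Surjective (proj (p := p) ht) :=
  (Ideal.Quotient.factor_surjective ht).comp (surjective_evalₐ _ t)

end Groth.Agent.Lib.helper10.DPCompl
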