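import Mathlib

set_option autoImplicit false
set_option maxHeartbeats 800000

/-!
# Divided power polynomial algebras: structure constants and the integral model
-/

namespace Groth.Agent.Lib.helper10.DPPolyA

open Finsupp

universe u v w

section Comb

variable {Λ : Type w}

/-- multi-factorial -/
noncomputable def fac (e : Λ →₀ ℕ) : ℕ := e.prod fun _ k => k.factorial

/-- multi-binomial coefficient `(e + e')! / (e! e'!)` -/
noncomputable def mchoose (e e' : Λ →₀ ℕ) : ℕ := (e + e').prod fun l k => k.choose (e l)

theorem fac_pos (e : Λ →₀ ℕ) : 0 < fac e :=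
  Finset.prod_pos fun _ _ => Nat.factorial_pos _

theorem fac_zero : fac (0 : Λ →₀ ℕ) = 1 := by simp [fac]

theorem fac_single [DecidableEq Λ] (l : Λ) (n : ℕ) : fac (single l n) = n.factorial := by
  simp [fac]

theorem mchoose_eq (e e' : Λ →₀ ℕ) [DecidableEq Λ] :
    mchoose e e' = ∏ l ∈ e.support ∪ e'.support, (e l + e' l).choose (e l) := by
  unfold mchoose Finsupp.prod
  have h3 : (e + e').support ⊆ e.support ∪ e'.support := Finsupp.support_add
  rw [Finset.prod_subset h3]
  · exact Finset.prod_congr rfl fun l _ => by rw [Finsupp.add_apply]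
  · intro l _ hl
    rw [Finsupp.notMem_support_iff, Finsupp.add_apply] at hl
    have : e l = 0 := by omega
    show ((e + e') l).choose (e l) = 1
    rw [Finsupp.add_apply, hl, this]
    rfl

theorem fac_add (e e' : Λ →₀ ℕ) : fac (e + e') = mchoose e e' * fac e * fac e' := by
  classical
  rw [mchoose_eq]
  unfold fac
  have h1 : e.support ⊆ e.support ∪ e'.support := Finset.subset_union_left
  have h2 : e'.support ⊆ e.support ∪ e'.support := Finset.subset_union_right
  have h3 : (e + e').support ⊆ e.support ∪ e'.support := Finsupp.support_add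
  rw [Finsupp.prod_of_support_subset _ h3 _ (fun _ _ => rfl),
    Finsupp.prod_of_support_subset _ h1 _ (fun _ _ => rfl),
    Finsupp.prod_of_support_subset _ h2 _ (fun _ _ => rfl),
    ← Finset.prod_mul_distrib, ← Finset.prod_mul_distrib]
  refine Finset.prod_congr rfl fun l _ => ?_
  rw [Finsupp.add_apply]
  have := Nat.add_choose_mul_factorial_mul_factorial (e' l) (e l)
  rw [Nat.add_comm (e' l) (e l)] at this
  rw [← this]
  ring

end Comb

section StructConst

variable {Λ : Type w} {P : Type v} [CommRing P] (x : Λ → ℕ → P)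

/-- the divided monomials -/
noncomputable def mon (e : Λ →₀ ℕ) : P := e.prod fun l k => x l k

variable {x}

theorem mon_zero : mon x 0 = 1 := by simp [mon]

theorem mon_single [DecidableEq Λ] (hx0 : ∀ l, x l 0 = 1) (l : Λ) (n : ℕ) :
    mon x (single l n) = x l n := by
  unfold mon
  rw [Finsupp.prod_single_index (hx0 l)]

theorem mon_mul (hx0 : ∀ l, x l 0 = 1)
    (hxmul : ∀ l n m, x l n * x l m = ((n + m).choose n : P) * x l (n + m))
    (e e' : Λ →₀ ℕ) : mon x e * mon x e' = (mchoose e e' : P) * mon x (e + e') := by
  classical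
  rw [mchoose_eq]
  unfold mon
  have h1 : e.support ⊆ e.support ∪ e'.support := Finset.subset_union_left
  have h2 : e'.support ⊆ e.support ∪ e'.support := Finset.subset_union_right
  have h3 : (e + e').support ⊆ e.support ∪ e'.support := Finsupp.support_add
  rw [Finsupp.prod_of_support_subset _ h3 _ (fun l _ => hx0 l),
    Finsupp.prod_of_support_subset _ h1 _ (fun l _ => hx0 l),
    Finsupp.prod_of_support_subset _ h2 _ (fun l _ => hx0 l),
    ← Finset.prod_mul_distrib, Nat.cast_prod, ← Finset.prod_mul_distrib]
  refine Finset.prod_congr rfl fun l _ => ?_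
  rw [Finsupp.add_apply, hxmul]

end StructConst

end Groth.Agent.Lib.helper10.DPPolyA
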