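import Mathlib
import Groth.Agent.Lib.helper10.DPPolyA

set_option autoImplicit false
set_option maxHeartbeats 800000

/-!
# The integral model of a divided power polynomial algebra

`S → K` an injective ring map into a `ℚ`-algebra.  Inside `K[X_λ]` we consider the additive
subgroup of polynomials whose `e`-th coefficient lies in `S / e!`; it is a subring `PS`, free over
`S` on the `X^e / e!`.
-/

namespace Groth.Agent.Lib.helper10.DPPolyB

open Finsupp MvPolynomial Function
open Groth.Agent.Lib.helper10.DPPolyA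

universe u v w

variable {S : Type*} [CommRing S] {K : Type*} [CommRing K] [Algebra ℚ K] (ι : S →+* K)
  (Λ : Type w)

/-- inverse multifactorial in `K` -/
noncomputable def invfac (K : Type*) [CommRing K] [Algebra ℚ K] {Λ : Type w} (e : Λ →₀ ℕ) : K :=
  algebraMap ℚ K ((fac e : ℚ)⁻¹)

variable {Λ}

theorem fac_mul_invfac (e : Λ →₀ ℕ) : (fac e : K) * invfac K e = 1 := by
  unfold invfac
  rw [← map_natCast (algebraMap ℚ K), ← map_mul, mul_inv_cancel₀, map_one]
  exact_mod_cast (fac_pos e).ne'

theorem invfac_zero : invfac K (0 : Λ →₀ ℕ) = 1 := by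
  unfold invfac
  rw [fac_zero]
  simp

theorem invfac_mul (e e' : Λ →₀ ℕ) :
    invfac K e * invfac K e' = (mchoose e e' : K) * invfac K (e + e') := by
  unfold invfac
  rw [← map_natCast (algebraMap ℚ K), ← map_mul, ← map_mul]
  congr 1
  rw [fac_add]
  have h1 : (fac e : ℚ) ≠ 0 := by exact_mod_cast (fac_pos e).ne'
  have h2 : (fac e' : ℚ) ≠ 0 := by exact_mod_cast (fac_pos e').ne'
  have h3 : ((mchoose e e' * fac e * fac e' : ℕ) : ℚ) ≠ 0 := by
    rw [← fac_add]; exact_mod_cast (fac_pos (e + e')).ne'
  have h0 : (mchoose e e' : ℚ) ≠ 0 := by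
    intro h
    apply h3
    push_cast
    rw [h]
    ring
  push_cast at h3 ⊢
  field_simp

theorem eq_of_mul_invfac_eq {a b : K} (e : Λ →₀ ℕ) (h : a * invfac K e = b * invfac K e) :
    a = b := by
  have := congrArg (· * (fac e : K)) h
  simpa [mul_assoc, mul_comm (invfac K e), fac_mul_invfac] using this

variable (Λ)

/-- the integral model as a subring of `K[X_λ]` -/
noncomputable def PS : Subring (MvPolynomial Λ K) where
  carrier := {f | ∀ e, ∃ s : S, coeff e f = ι s * invfac K e}
  one_mem' := by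
    classical
    intro e
    by_cases h : 0 = e
    · subst h
      exact ⟨1, by rw [coeff_zero_one, map_one, invfac_zero, one_mul]⟩
    · refine ⟨0, ?_⟩
      rw [MvPolynomial.coeff_one, if_neg h, map_zero, zero_mul]
  zero_mem' := fun e => ⟨0, by simp⟩
  add_mem' := by
    intro f h hf hh e
    obtain ⟨s, hs⟩ := hf e
    obtain ⟨t, ht⟩ := hh e
    exact ⟨s + t, by rw [coeff_add, hs, ht, map_add, add_mul]⟩
  neg_mem' := by
    intro f hf e
    obtain ⟨s, hs⟩ := hf e
    exact ⟨-s, by rw [coeff_neg, hs, map_neg, neg_mul]⟩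
  mul_mem' := by
    classical
    intro f h hf hh g
    choose sf hsf using hf
    choose sh hsh using hh
    refine ⟨∑ x ∈ Finset.HasAntidiagonal.antidiagonal g, (mchoose x.1 x.2 : S) * sf x.1 * sh x.2, ?_⟩
    rw [coeff_mul, map_sum, Finset.sum_mul]
    refine Finset.sum_congr rfl fun x hx => ?_
    have hxg : x.1 + x.2 = g := Finset.HasAntidiagonal.mem_antidiagonal.mp hx
    rw [hsf, hsh, ← hxg, map_mul, map_mul, map_natCast]
    calc ι (sf x.1) * invfac K x.1 * (ι (sh x.2) * invfac K x.2)
        = ι (sf x.1) * ι (sh x.2) * (invfac K x.1 * invfac K x.2) := by ring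
      _ = _ := by rw [invfac_mul]; ring

variable {Λ}

theorem mem_PS {f : MvPolynomial Λ K} :
    f ∈ PS ι Λ ↔ ∀ e, ∃ s : S, coeff e f = ι s * invfac K e := Iff.rfl

/-- the coordinate map -/
noncomputable def Psi : ((Λ →₀ ℕ) →₀ S) →+ MvPolynomial Λ K :=
  Finsupp.liftAddHom fun e =>
    ((monomial e : K →ₗ[K] MvPolynomial Λ K).toAddMonoidHom.comp
      (AddMonoidHom.mulRight (invfac K e))).comp ι.toAddMonoidHom

theorem Psi_single (e : Λ →₀ ℕ) (s : S) :
    Psi ι (single e s) = monomial e (ι s * invfac K e) := by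
  simp [Psi]

theorem coeff_Psi (c : (Λ →₀ ℕ) →₀ S) (e : Λ →₀ ℕ) :
    coeff e (Psi ι c) = ι (c e) * invfac K e := by
  classical
  induction c using Finsupp.induction_linear with
  | zero => simp
  | add c c' hc hc' => rw [map_add, coeff_add, hc, hc', Finsupp.add_apply, map_add, add_mul]
  | single e' s =>
    rw [Psi_single, coeff_monomial]
    by_cases h : e' = e
    · subst h
      rw [if_pos rfl, Finsupp.single_eq_same]
    · rw [if_neg h, Finsupp.single_eq_of_ne (Ne.symm h), map_zero, zero_mul]

theorem Psi_mem (c : (Λ →₀ ℕ) →₀ S) : Psi ι c ∈ PS ι Λ :=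
  fun e => ⟨c e, coeff_Psi ι c e⟩

theorem Psi_injective (hι : Injective ι) : Injective (Psi (Λ := Λ) ι) := by
  intro c c' h
  ext e
  have := congrArg (coeff e) h
  rw [coeff_Psi, coeff_Psi] at this
  exact hι (eq_of_mul_invfac_eq e this)

theorem Psi_surjective (hι : Injective ι) {f : MvPolynomial Λ K} (hf : f ∈ PS ι Λ) :
    ∃ c, Psi ι c = f := by
  classical
  choose s hs using hf
  refine ⟨Finsupp.onFinset f.support s ?_, ?_⟩
  · intro e he
    rw [MvPolynomial.mem_support_iff, hs]
    intro h0
    apply he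
    apply hι
    rw [map_zero]
    have := eq_of_mul_invfac_eq (a := ι (s e)) (b := 0) e (by rw [h0, zero_mul])
    exact this
  · ext e
    rw [coeff_Psi, Finsupp.onFinset_apply, hs]

theorem Psi_one : Psi (Λ := Λ) ι (single 0 1) = 1 := by
  rw [Psi_single, map_one, invfac_zero, one_mul]
  rfl

theorem Psi_single_mul (e e' : Λ →₀ ℕ) (s s' : S) :
    Psi ι (single e s) * Psi ι (single e' s') =
      Psi ι (single (e + e') ((mchoose e e' : S) * s * s')) := by
  have hι : ι ((mchoose e e' : S) * s * s') = (mchoose e e' : K) * ι s * ι s' := by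
    rw [map_mul, map_mul, map_natCast]
  rw [Psi_single, Psi_single, Psi_single, monomial_mul, hι]
  congr 1
  calc ι s * invfac K e * (ι s' * invfac K e')
      = ι s * ι s' * (invfac K e * invfac K e') := by ring
    _ = _ := by rw [invfac_mul]; ring

end Groth.Agent.Lib.helper10.DPPolyB
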