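import Mathlib
import Groth.Agent.Lib.helper10.DPPolyB

set_option autoImplicit false
set_option maxHeartbeats 800000

/-!
# The ring map from the integral model to a concrete divided power polynomial algebra
-/

namespace Groth.Agent.Lib.helper10.DPPolyC

open Finsupp MvPolynomial Function
open Groth.Agent.Lib.helper10.DPPolyA Groth.Agent.Lib.helper10.DPPolyB

universe u v w

variable {S : Type*} [CommRing S] {K : Type*} [CommRing K] [Algebra ℚ K] (ι : S →+* K)
  (hι : Injective ι) {Λ : Type w} {R : Type u} [CommRing R] (φ : S →+* R)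
  {P : Type v} [CommRing P] [Algebra R P] (x : Λ → ℕ → P)

/-- the semilinear map on coordinates -/
noncomputable def F' : ((Λ →₀ ℕ) →₀ S) →+ P :=
  Finsupp.liftAddHom fun e => ((smulAddHom R P).flip (mon x e)).comp φ.toAddMonoidHom

theorem F'_single (e : Λ →₀ ℕ) (s : S) : F' φ x (single e s) = φ s • mon x e := by
  simp [F']

theorem F'_eq (c : (Λ →₀ ℕ) →₀ S) :
    F' φ x c = Finsupp.linearCombination R (mon x) (c.mapRange φ (map_zero φ)) := by
  induction c using Finsupp.induction_linear with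
  | zero => simp
  | add c c' hc hc' => rw [map_add, hc, hc', Finsupp.mapRange_add (map_add φ), map_add]
  | single e s => rw [F'_single, Finsupp.mapRange_single, Finsupp.linearCombination_single]

variable {x}

theorem mul_compat (hx0 : ∀ l, x l 0 = 1)
    (hxmul : ∀ l n m, x l n * x l m = ((n + m).choose n : P) * x l (n + m))
    (c c' : (Λ →₀ ℕ) →₀ S) :
    ∃ c'', Psi ι c'' = Psi ι c * Psi ι c' ∧ F' φ x c'' = F' φ x c * F' φ x c' := by
  induction c using Finsupp.induction_linear with
  | zero => exact ⟨0, by simp, by simp⟩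
  | add c₁ c₂ h₁ h₂ =>
    obtain ⟨d₁, h11, h12⟩ := h₁
    obtain ⟨d₂, h21, h22⟩ := h₂
    exact ⟨d₁ + d₂, by rw [map_add, map_add, add_mul, h11, h21],
      by rw [map_add, map_add, add_mul, h12, h22]⟩
  | single e s =>
    induction c' using Finsupp.induction_linear with
    | zero => exact ⟨0, by simp, by simp⟩
    | add c₁ c₂ h₁ h₂ =>
      obtain ⟨d₁, h11, h12⟩ := h₁
      obtain ⟨d₂, h21, h22⟩ := h₂
      exact ⟨d₁ + d₂, by rw [map_add, map_add, mul_add, h11, h21],
        by rw [map_add, map_add, mul_add, h12, h22]⟩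
    | single e' s' =>
      refine ⟨single (e + e') ((mchoose e e' : S) * s * s'), (Psi_single_mul ι e e' s s').symm, ?_⟩
      rw [F'_single, F'_single, F'_single, smul_mul_smul_comm, mon_mul hx0 hxmul, map_mul, map_mul,
        map_natCast, mul_assoc, mul_smul, Nat.cast_smul_eq_nsmul, nsmul_eq_mul, mul_smul_comm]

/-- coordinates of an element of the integral model -/
noncomputable def cf (f : PS ι Λ) : (Λ →₀ ℕ) →₀ S := Classical.choose (Psi_surjective ι hι f.2)

theorem Psi_cf (f : PS ι Λ) : Psi ι (cf ι hι f) = f.1 :=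
  Classical.choose_spec (Psi_surjective ι hι f.2)

theorem cf_Psi (c : (Λ →₀ ℕ) →₀ S) : cf ι hι ⟨Psi ι c, Psi_mem ι c⟩ = c :=
  Psi_injective ι hι (Psi_cf ι hι _)

/-- the ring map from the integral model -/
noncomputable def F (hx0 : ∀ l, x l 0 = 1)
    (hxmul : ∀ l n m, x l n * x l m = ((n + m).choose n : P) * x l (n + m)) : PS ι Λ →+* P where
  toFun f := F' φ x (cf ι hι f)
  map_one' := by
    have : cf ι hι 1 = single 0 1 := Psi_injective ι hι (by rw [Psi_cf, Psi_one (Λ := Λ) ι]; rfl)
    rw [this, F'_single, map_one, one_smul, mon_zero]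
  map_mul' f h := by
    obtain ⟨c'', h1, h2⟩ := mul_compat ι φ hx0 hxmul (cf ι hι f) (cf ι hι h)
    have : cf ι hι (f * h) = c'' :=
      Psi_injective ι hι (by rw [Psi_cf, h1, Psi_cf, Psi_cf]; rfl)
    rw [this, h2]
  map_zero' := by
    have : cf ι hι 0 = 0 := Psi_injective ι hι (by rw [Psi_cf, (Psi (Λ := Λ) ι).map_zero]; rfl)
    rw [this, map_zero]
  map_add' f h := by
    have : cf ι hι (f + h) = cf ι hι f + cf ι hι h :=
      Psi_injective ι hι (by rw [Psi_cf, map_add, Psi_cf, Psi_cf]; rfl)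
    rw [this, map_add]

variable (hx0 : ∀ l, x l 0 = 1)
  (hxmul : ∀ l n m, x l n * x l m = ((n + m).choose n : P) * x l (n + m))

theorem F_Psi (c : (Λ →₀ ℕ) →₀ S) :
    F ι hι φ hx0 hxmul ⟨Psi ι c, Psi_mem ι c⟩ = F' φ x c := by
  show F' φ x (cf ι hι _) = _
  rw [cf_Psi]

theorem F_eq (f : PS ι Λ) : F ι hι φ hx0 hxmul f = F' φ x (cf ι hι f) := rfl

section Basis

variable (b : Module.Basis (Λ →₀ ℕ) R P) (hb : ∀ e : Λ →₀ ℕ, b e = mon x e)
include hb

theorem F'_eq_basis (c : (Λ →₀ ℕ) →₀ S) :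
    F' φ x c = Finsupp.linearCombination R b (c.mapRange φ (map_zero φ)) := by
  rw [F'_eq]
  congr 2
  exact (funext hb).symm

theorem F'_eq_zero_iff (c : (Λ →₀ ℕ) →₀ S) : F' φ x c = 0 ↔ ∀ e, φ (c e) = 0 := by
  rw [F'_eq_basis φ b hb]
  constructor
  · intro h e
    have := linearIndependent_iff.mp b.linearIndependent _ h
    have h2 := DFunLike.congr_fun this e
    simpa using h2
  · intro h
    have : c.mapRange φ (map_zero φ) = 0 := by
      ext e
      simpa using h e
    rw [this, map_zero]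

theorem F_surjective (hφ : Surjective φ) : Surjective (F ι hι φ hx0 hxmul) := by
  intro p
  obtain ⟨c, hc⟩ := Finsupp.mapRange_surjective φ (map_zero φ) hφ (b.repr p)
  refine ⟨⟨Psi ι c, Psi_mem ι c⟩, ?_⟩
  rw [F_Psi, F'_eq_basis φ b hb, hc, b.linearCombination_repr]

end Basis

end Groth.Agent.Lib.helper10.DPPolyC
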