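import Mathlib
import Groth.Agent.Lib.helper10.DPPolyC
import Groth.Agent.Lib.Helper4.DPTorsionFree

set_option autoImplicit false
set_option maxHeartbeats 800000

/-!
# Divided powers on the augmentation ideal of the integral model
-/

namespace Groth.Agent.Lib.helper10.DPPolyD

open Finsupp MvPolynomial Function
open Groth.Agent.Lib.helper10.DPPolyA Groth.Agent.Lib.helper10.DPPolyB
  Groth.Agent.Lib.helper10.DPPolyC

universe u v w

variable {S : Type*} [CommRing S] {K : Type*} [CommRing K] [Algebra ℚ K] (ι : S →+* K)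
  {Λ : Type w}

instance : IsAddTorsionFree (MvPolynomial Λ K) := .of_module_rat _

instance : IsAddTorsionFree (PS ι Λ) :=
  Function.Injective.isAddTorsionFree (PS ι Λ).subtype.toAddMonoidHom Subtype.val_injective

/-- basis elements of the integral model -/
noncomputable def DS (e : Λ →₀ ℕ) : PS ι Λ := ⟨Psi ι (single e 1), Psi_mem ι _⟩

/-- scalars in the integral model -/
noncomputable def CS (s : S) : PS ι Λ := ⟨Psi ι (single 0 s), Psi_mem ι _⟩

/-- the divided power generators -/
noncomputable def XS (l : Λ) (n : ℕ) : PS ι Λ := DS ι (single l n)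

theorem CS_mul_DS (s : S) (e : Λ →₀ ℕ) :
    CS ι s * DS ι e = ⟨Psi ι (single e s), Psi_mem ι _⟩ := by
  apply Subtype.ext
  show Psi ι (single 0 s) * Psi ι (single e 1) = Psi ι (single e s)
  rw [Psi_single_mul, zero_add]
  have : mchoose (0 : Λ →₀ ℕ) e = 1 := by
    classical
    rw [mchoose_eq]
    exact Finset.prod_eq_one fun l _ => by simp
  rw [this]
  simp

theorem DS_eq_mul [DecidableEq Λ] (e : Λ →₀ ℕ) (l : Λ) :
    DS ι e = XS ι l (e l) * DS ι (e.erase l) := by
  apply Subtype.ext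
  show Psi ι (single e 1) = Psi ι (single (single l (e l)) 1) * Psi ι (single (e.erase l) 1)
  rw [Psi_single_mul, Finsupp.single_add_erase]
  have : mchoose (single l (e l)) (e.erase l) = 1 := by
    rw [mchoose_eq]
    refine Finset.prod_eq_one fun l' _ => ?_
    by_cases h : l' = l
    · subst h
      simp
    · rw [Finsupp.single_eq_of_ne h]
      simp
  rw [this]
  simp

/-- the augmentation ideal of the integral model -/
noncomputable def IS : Ideal (PS ι Λ) :=
  Ideal.span {y | ∃ (l : Λ) (n : ℕ), 1 ≤ n ∧ y = XS ι l n}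

theorem DS_mem_IS {e : Λ →₀ ℕ} (he : e ≠ 0) : DS ι e ∈ IS ι := by
  classical
  obtain ⟨l, hl⟩ : ∃ l, e l ≠ 0 := by
    by_contra h
    push Not at h
    exact he (Finsupp.ext h)
  rw [DS_eq_mul ι e l]
  exact Ideal.mul_mem_right _ _ (Ideal.subset_span ⟨l, e l, Nat.one_le_iff_ne_zero.mpr hl, rfl⟩)

theorem coeff_zero_of_mem_IS {f : PS ι Λ} (hf : f ∈ IS ι) : coeff 0 f.1 = 0 := by
  classical
  have hle : IS ι ≤ RingHom.ker ((constantCoeff (R := K) (σ := Λ)).comp (PS ι Λ).subtype) := by
    unfold IS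
    rw [Ideal.span_le]
    rintro y ⟨l, n, hn, rfl⟩
    show constantCoeff (Psi ι (single (single l n) 1)) = 0
    rw [Psi_single, constantCoeff_monomial, if_neg]
    intro h
    have := DFunLike.congr_fun h l
    simp at this
    omega
  exact hle hf

theorem invfac_single_pow [DecidableEq Λ] (l : Λ) {k : ℕ} (hk : k ≠ 0) (n : ℕ) :
    (invfac K (single l k)) ^ n =
      ((n.factorial : ℕ) : K) * ((Nat.uniformBell n k : ℕ) : K) * invfac K (single l (n * k)) := by
  unfold invfac
  rw [fac_single, fac_single, ← map_natCast (algebraMap ℚ K), ← map_natCast (algebraMap ℚ K),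
    ← map_pow, ← map_mul, ← map_mul]
  congr 1
  have h := Nat.uniformBell_mul_eq n hk
  have h1 : ((k.factorial : ℕ) : ℚ) ≠ 0 := by exact_mod_cast (Nat.factorial_pos k).ne'
  have h2 : (((n * k).factorial : ℕ) : ℚ) ≠ 0 := by exact_mod_cast (Nat.factorial_pos _).ne'
  rw [← h]
  rw [← h] at h2
  push_cast at h2 ⊢
  have h3 : ((Nat.uniformBell n k : ℕ) : ℚ) ≠ 0 := left_ne_zero_of_mul (left_ne_zero_of_mul h2)
  have h4 : ((n.factorial : ℕ) : ℚ) ≠ 0 := right_ne_zero_of_mul h2
  field_simp
  rw [← mul_pow, one_div, inv_mul_cancel₀ h1, one_pow]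

theorem XS_pow [DecidableEq Λ] (l : Λ) {k : ℕ} (hk : k ≠ 0) (n : ℕ) :
    (XS ι l k) ^ n = (n.factorial : PS ι Λ) * ((Nat.uniformBell n k : PS ι Λ) * XS ι l (n * k)) := by
  apply Subtype.ext
  show (Psi ι (single (single l k) 1)) ^ n =
    ((n.factorial : PS ι Λ) : MvPolynomial Λ K) *
      (((Nat.uniformBell n k : PS ι Λ) : MvPolynomial Λ K) * Psi ι (single (single l (n * k)) 1))
  rw [Psi_single, Psi_single, monomial_pow, map_one, one_mul, one_mul, invfac_single_pow l hk n,
    Finsupp.smul_single, smul_eq_mul]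
  have e1 : ((n.factorial : PS ι Λ) : MvPolynomial Λ K) = C ((n.factorial : ℕ) : K) := by
    rw [map_natCast]; rfl
  have e2 : ((Nat.uniformBell n k : PS ι Λ) : MvPolynomial Λ K) =
      C ((Nat.uniformBell n k : ℕ) : K) := by
    rw [map_natCast]; rfl
  rw [e1, e2, C_mul_monomial, C_mul_monomial, mul_assoc]

variable (Λ)

/-- the divided power structure on the augmentation ideal of the integral model -/
theorem exists_dpS : ∃ γ : DividedPowers (IS (Λ := Λ) ι),
    ∀ (l : Λ) (n : ℕ), γ.dpow n (XS ι l 1) = XS ι l n := by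
  classical
  obtain ⟨γ⟩ := Groth.Agent.Lib.Helper4.DPTorsionFree.exists_dp (IS (Λ := Λ) ι)
    {y | ∃ (l : Λ) (n : ℕ), 1 ≤ n ∧ y = XS ι l n} rfl (by
      rintro y ⟨l, k, hk, rfl⟩ n hn
      have hk' : k ≠ 0 := by omega
      rw [XS_pow ι l hk' n]
      refine Ideal.mul_mem_mul (Ideal.mem_span_singleton_self _)
        (Ideal.mul_mem_left _ _ (Ideal.subset_span ⟨l, n * k, ?_, rfl⟩))
      exact Nat.one_le_iff_ne_zero.mpr (Nat.mul_ne_zero (by omega) hk'))
  refine ⟨γ, fun l n => ?_⟩
  have hmem : XS ι l 1 ∈ IS (Λ := Λ) ι := Ideal.subset_span ⟨l, 1, le_rfl, rfl⟩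
  have h1 := γ.factorial_mul_dpow_eq_pow (n := n) hmem
  rw [XS_pow ι l one_ne_zero n, Nat.uniformBell_one_right, Nat.cast_one, one_mul, mul_one] at h1
  have h2 : n.factorial • γ.dpow n (XS ι l 1) = n.factorial • XS ι l n := by
    rw [nsmul_eq_mul, nsmul_eq_mul, h1]
  exact nsmul_right_injective (Nat.factorial_ne_zero n) h2

end Groth.Agent.Lib.helper10.DPPolyD
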