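import Mathlib
import Groth.Agent.S2211

set_option autoImplicit false
set_option maxHeartbeats 800000

/-!
# Divided powers from a `p`-th divided power operation: the recursion and one-variable identities
-/

namespace Groth.Agent.Lib.helper10.DPPrimeA

open Nat

/-! ### Identities between natural numbers -/

theorem nat_id1 (p : ℕ) (hp : p ≠ 0) (a b r s : ℕ) :
    (a + b).choose a * Nat.uniformBell (a + b) p * (p * (a + b) + 1).ascFactorial (r + s) =
      (p * a + 1).ascFactorial r * (p * b + 1).ascFactorial s * Nat.uniformBell a p *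
        Nat.uniformBell b p * ((p * a + r) + (p * b + s)).choose (p * a + r) := by
  have hD : 0 < a ! * b ! * (p ! ^ a * p ! ^ b) := by positivity
  apply Nat.eq_of_mul_eq_mul_right hD
  have e1 : (a + b).choose a * a ! * b ! = (a + b)! := by
    rw [← Nat.add_choose_mul_factorial_mul_factorial a b, Nat.choose_symm_add]
  have e2 := Nat.uniformBell_mul_eq (a + b) hp
  have e3 := Nat.factorial_mul_ascFactorial (p * (a + b)) (r + s)
  have e4 := Nat.uniformBell_mul_eq a hp
  have e5 := Nat.uniformBell_mul_eq b hp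
  have e6 := Nat.factorial_mul_ascFactorial (p * a) r
  have e7 := Nat.factorial_mul_ascFactorial (p * b) s
  have e8 : ((p * a + r) + (p * b + s)).choose (p * a + r) * (p * a + r)! * (p * b + s)! =
      ((p * a + r) + (p * b + s))! := by
    rw [← Nat.add_choose_mul_factorial_mul_factorial (p * a + r) (p * b + s), Nat.choose_symm_add]
  calc (a + b).choose a * Nat.uniformBell (a + b) p * (p * (a + b) + 1).ascFactorial (r + s) *
        (a ! * b ! * (p ! ^ a * p ! ^ b))
      = (Nat.uniformBell (a + b) p * p ! ^ (a + b) * ((a + b).choose a * a ! * b !)) *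
          (p * (a + b) + 1).ascFactorial (r + s) := by rw [pow_add]; ring
    _ = ((a + b) * p)! * (p * (a + b) + 1).ascFactorial (r + s) := by rw [e1, e2]
    _ = (p * (a + b) + (r + s))! := by rw [mul_comm (a + b) p, e3]
    _ = ((p * a + r) + (p * b + s))! := by congr 1; ring
    _ = ((p * a + r) + (p * b + s)).choose (p * a + r) * (p * a + r)! * (p * b + s)! := e8.symm
    _ = ((p * a + r) + (p * b + s)).choose (p * a + r) * ((p * a)! * (p * a + 1).ascFactorial r) *
          ((p * b)! * (p * b + 1).ascFactorial s) := by rw [e6, e7]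
    _ = ((p * a + r) + (p * b + s)).choose (p * a + r) *
          ((Nat.uniformBell a p * p ! ^ a * a !) * (p * a + 1).ascFactorial r) *
          ((Nat.uniformBell b p * p ! ^ b * b !) * (p * b + 1).ascFactorial s) := by
        rw [e4, e5, mul_comm a p, mul_comm b p]
    _ = _ := by ring

theorem nat_id2 (p n : ℕ) (hn : n ≠ 0) (M : ℕ)
    (hM : M * (n - 1)! ^ p * p ! = (p * (n - 1) + p)!) :
    M = n ^ p * Nat.uniformBell p n := by
  have hD : 0 < (n - 1)! ^ p * p ! := by positivity
  apply Nat.eq_of_mul_eq_mul_right hD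
  have e1 := Nat.uniformBell_mul_eq p hn
  have e2 : n ! = n * (n - 1)! := by
    obtain ⟨k, rfl⟩ := Nat.exists_eq_succ_of_ne_zero hn
    rw [Nat.factorial_succ]; rfl
  have e3 : p * (n - 1) + p = p * n := by
    obtain ⟨k, rfl⟩ := Nat.exists_eq_succ_of_ne_zero hn
    rw [Nat.succ_sub_one, Nat.succ_eq_add_one]; ring
  calc M * ((n - 1)! ^ p * p !) = M * (n - 1)! ^ p * p ! := by ring
    _ = (p * n)! := by rw [hM, e3]
    _ = Nat.uniformBell p n * n ! ^ p * p ! := e1.symm
    _ = _ := by rw [e2, mul_pow]; ring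

theorem nat_id3 (p : ℕ) (hp : p ≠ 0) (n : ℕ) (hn : n ≠ 0) :
    Nat.uniformBell p n * Nat.uniformBell (p * n) p =
      Nat.uniformBell n p ^ p * Nat.uniformBell p (p * n) := by
  have hD : 0 < p ! * n ! ^ p * (p ! ^ (p * n)) := by positivity
  apply Nat.eq_of_mul_eq_mul_right hD
  have e1 := Nat.uniformBell_mul_eq p hn
  have e2 := Nat.uniformBell_mul_eq (p * n) hp
  have e3 := Nat.uniformBell_mul_eq n hp
  have e4 := Nat.uniformBell_mul_eq p (Nat.mul_ne_zero hp hn)
  calc Nat.uniformBell p n * Nat.uniformBell (p * n) p * (p ! * n ! ^ p * (p ! ^ (p * n)))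
      = Nat.uniformBell (p * n) p * p ! ^ (p * n) * (Nat.uniformBell p n * n ! ^ p * p !) := by ring
    _ = (p * n * p)! := by rw [e1, e2]
    _ = (p * (p * n))! := by congr 1; ring
    _ = Nat.uniformBell p (p * n) * (p * n)! ^ p * p ! := e4.symm
    _ = Nat.uniformBell p (p * n) * (Nat.uniformBell n p * p ! ^ n * n !) ^ p * p ! := by
        rw [e3, mul_comm n p]
    _ = _ := by rw [mul_pow, mul_pow, ← pow_mul, mul_comm n p]; ring

/-! ### The recursion -/

section Def

variable {A : Type*} [CommRing A]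

/-- the candidate divided powers attached to a `p`-th divided power operation `d` -/
noncomputable def gam (p : ℕ) (hp : 1 < p) (d : A → A) : ℕ → A → A
  | 0, _ => 1
  | (n + 1), x =>
    if p ∣ n + 1 then
      Ring.inverse ((Nat.uniformBell ((n + 1) / p) p : ℕ) : A) * gam p hp d ((n + 1) / p) (d x)
    else Ring.inverse ((n + 1 : ℕ) : A) * x * gam p hp d n x
termination_by n => n
decreasing_by
  · exact Nat.div_lt_self (Nat.succ_pos n) hp
  · exact Nat.lt_succ_self n

variable (p : ℕ) (hp : 1 < p) (d : A → A)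

theorem gam_zero (x : A) : gam p hp d 0 x = 1 := by rw [gam]

theorem gam_succ_of_dvd {n : ℕ} (h : p ∣ n + 1) (x : A) :
    gam p hp d (n + 1) x =
      Ring.inverse ((Nat.uniformBell ((n + 1) / p) p : ℕ) : A) * gam p hp d ((n + 1) / p) (d x) := by
  rw [gam, if_pos h]

theorem gam_succ_of_not_dvd {n : ℕ} (h : ¬ p ∣ n + 1) (x : A) :
    gam p hp d (n + 1) x = Ring.inverse ((n + 1 : ℕ) : A) * x * gam p hp d n x := by
  rw [gam, if_neg h]

end Def

section Props

variable {A : Type*} [CommRing A] (p : ℕ) (hp : p.Prime)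
  (hA : ∀ n : ℕ, ¬ p ∣ n → IsUnit (n : A)) {I : Ideal A} (d : A → A)

include hp hA

theorem isUnit_uniformBell (m : ℕ) : IsUnit ((Nat.uniformBell m p : ℕ) : A) :=
  hA _ (Groth.Agent.S2211.not_dvd_uniformBell p hp m)

omit hA in
theorem gam_one (x : A) : gam p hp.one_lt d 1 x = x := by
  have h : ¬ p ∣ 0 + 1 := by
    rw [zero_add, Nat.dvd_one]; exact hp.one_lt.ne'
  have h1 : (((0 + 1 : ℕ)) : A) = 1 := by simp
  rw [show (1 : ℕ) = 0 + 1 from rfl, gam_succ_of_not_dvd p hp.one_lt d h, gam_zero, mul_one, h1,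
    Ring.inverse_one, one_mul]

/-- the defining relation at indices prime to `p` -/
theorem mul_gam_of_not_dvd {n : ℕ} (h : ¬ p ∣ n) (x : A) :
    (n : A) * gam p hp.one_lt d n x = x * gam p hp.one_lt d (n - 1) x := by
  rcases n with _ | n
  · exact absurd (dvd_zero p) h
  · rw [gam_succ_of_not_dvd p hp.one_lt d h, Nat.add_sub_cancel, mul_assoc,
      Ring.mul_inverse_cancel_left _ _ (hA _ h)]

/-- the defining relation at multiples of `p` -/
theorem mul_gam_mul (m : ℕ) (x : A) :
    ((Nat.uniformBell m p : ℕ) : A) * gam p hp.one_lt d (p * m) x = gam p hp.one_lt d m (d x) := by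
  rcases Nat.eq_zero_or_pos m with rfl | hm
  · rw [mul_zero, gam_zero, gam_zero, Nat.uniformBell_zero_left, Nat.cast_one, one_mul]
  · obtain ⟨k, hk⟩ : ∃ k, p * m = k + 1 :=
      ⟨p * m - 1, (Nat.succ_pred_eq_of_pos (Nat.mul_pos hp.pos hm)).symm⟩
    have hdvd : p ∣ k + 1 := ⟨m, hk.symm⟩
    have hdiv : (k + 1) / p = m := by rw [← hk, Nat.mul_div_cancel_left _ hp.pos]
    rw [hk, gam_succ_of_dvd p hp.one_lt d hdvd, hdiv,
      Ring.mul_inverse_cancel_left _ _ (isUnit_uniformBell p hp hA m)]

theorem gam_prime (x : A) : gam p hp.one_lt d p x = d x := by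
  have := mul_gam_mul p hp hA d 1 x
  rwa [Nat.uniformBell_one_left, Nat.cast_one, one_mul, mul_one, gam_one p hp] at this

variable (hdI : ∀ x ∈ I, d x ∈ I)
include hdI

omit hA in
theorem gam_mem {n : ℕ} (hn : n ≠ 0) {x : A} (hx : x ∈ I) : gam p hp.one_lt d n x ∈ I := by
  induction n using Nat.strong_induction_on generalizing x with
  | _ n ih =>
    rcases n with _ | n
    · exact absurd rfl hn
    · by_cases h : p ∣ n + 1
      · rw [gam_succ_of_dvd p hp.one_lt d h]
        refine I.mul_mem_left _ (ih _ (Nat.div_lt_self (Nat.succ_pos n) hp.one_lt) ?_ (hdI x hx))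
        obtain ⟨m, hm⟩ := h
        rw [hm, Nat.mul_div_cancel_left _ hp.pos]
        rintro rfl
        simp at hm
      · rw [gam_succ_of_not_dvd p hp.one_lt d h]
        exact I.mul_mem_right _ (I.mul_mem_left _ hx)

variable (h2 : ∀ (a x : A), x ∈ I → d (a * x) = a ^ p * d x)
include h2

omit hA in
theorem gam_mul_left (n : ℕ) (a : A) {x : A} (hx : x ∈ I) :
    gam p hp.one_lt d n (a * x) = a ^ n * gam p hp.one_lt d n x := by
  induction n using Nat.strong_induction_on generalizing x a with
  | _ n ih =>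
    rcases n with _ | n
    · rw [gam_zero, gam_zero, pow_zero, one_mul]
    · by_cases h : p ∣ n + 1
      · rw [gam_succ_of_dvd p hp.one_lt d h, gam_succ_of_dvd p hp.one_lt d h, h2 a x hx,
          ih _ (Nat.div_lt_self (Nat.succ_pos n) hp.one_lt) _ (hdI x hx), ← pow_mul,
          Nat.mul_div_cancel' h]
        ring
      · rw [gam_succ_of_not_dvd p hp.one_lt d h, gam_succ_of_not_dvd p hp.one_lt d h,
          ih n (Nat.lt_succ_self n) a hx, pow_succ]
        ring

end Props

end Groth.Agent.Lib.helper10.DPPrimeA
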