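import Mathlib
import Groth.Agent.Lib.helper10.DPPrimeA

set_option autoImplicit false
set_option maxHeartbeats 800000

/-!
# Divided powers from a `p`-th divided power operation: one-variable identities
-/

namespace Groth.Agent.Lib.helper10.DPPrimeB

open Nat
open Groth.Agent.Lib.helper10.DPPrimeA

theorem nat_id4 (p : ℕ) (hp : p ≠ 0) (q : ℕ) :
    p ! * (q + 1) * Nat.uniformBell (q + 1) p =
      (p * q + 1).ascFactorial (p - 1) * Nat.uniformBell q p * (p * (q + 1)) := by
  obtain ⟨r, rfl⟩ := Nat.exists_eq_succ_of_ne_zero hp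
  rw [Nat.uniformBell_succ_left, Nat.ascFactorial_eq_factorial_mul_choose, Nat.succ_sub_one,
    Nat.factorial_succ]
  have : q * r.succ + r.succ - 1 = r.succ * q + r := by
    rw [Nat.add_succ_sub_one, mul_comm]
  rw [this]
  simp only [Nat.succ_eq_add_one]
  ring

section Props

variable {A : Type*} [CommRing A] (p : ℕ) (hp : p.Prime)
  (hA : ∀ n : ℕ, ¬ p ∣ n → IsUnit (n : A)) {I : Ideal A} (d : A → A)

include hp hA

omit hA hp in
theorem not_dvd_add' (q j : ℕ) (hj0 : 0 < j) (hj : j < p) : ¬ p ∣ p * q + j := by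
  intro h
  have := (Nat.dvd_add_right (dvd_mul_right p q)).mp h
  exact Nat.not_dvd_of_pos_of_lt hj0 hj this

theorem isUnit_asc (q j : ℕ) (hj : j < p) : IsUnit (((p * q + 1).ascFactorial j : ℕ) : A) := by
  induction j with
  | zero => rw [Nat.ascFactorial_zero, Nat.cast_one]; exact isUnit_one
  | succ j ih =>
    rw [Nat.ascFactorial_succ, Nat.cast_mul]
    refine IsUnit.mul (hA _ ?_) (ih (Nat.lt_of_succ_lt hj))
    rw [add_assoc]
    exact not_dvd_add' p q (1 + j) (by omega) (by omega)

theorem asc_mul_gam (q j : ℕ) (hj : j < p) (x : A) :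
    (((p * q + 1).ascFactorial j : ℕ) : A) * gam p hp.one_lt d (p * q + j) x =
      x ^ j * gam p hp.one_lt d (p * q) x := by
  induction j with
  | zero => rw [Nat.ascFactorial_zero, Nat.cast_one, one_mul, pow_zero, one_mul, add_zero]
  | succ j ih =>
    have hnd : ¬ p ∣ p * q + (j + 1) := not_dvd_add' p q (j + 1) (by omega) hj
    have e1 := mul_gam_of_not_dvd p hp hA d hnd x
    have e2 : p * q + (j + 1) - 1 = p * q + j := rfl
    rw [e2] at e1
    have e3 : p * q + 1 + j = p * q + (j + 1) := by ring
    rw [Nat.ascFactorial_succ, Nat.cast_mul, e3]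
    calc ((p * q + (j + 1) : ℕ) : A) * (((p * q + 1).ascFactorial j : ℕ) : A) *
          gam p hp.one_lt d (p * q + (j + 1)) x
        = (((p * q + 1).ascFactorial j : ℕ) : A) *
            (((p * q + (j + 1) : ℕ) : A) * gam p hp.one_lt d (p * q + (j + 1)) x) := by ring
      _ = x * ((((p * q + 1).ascFactorial j : ℕ) : A) * gam p hp.one_lt d (p * q + j) x) := by
          rw [e1]; ring
      _ = _ := by rw [ih (Nat.lt_of_succ_lt hj), _root_.pow_succ]; ring

variable (hdI : ∀ x ∈ I, d x ∈ I) (h1 : ∀ x ∈ I, (p.factorial : A) * d x = x ^ p)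
include hdI h1

/-- `x γ_k(x) = (k+1) γ_{k+1}(x)` -/
theorem mul_gam (k : ℕ) {x : A} (hx : x ∈ I) :
    x * gam p hp.one_lt d k x = ((k + 1 : ℕ) : A) * gam p hp.one_lt d (k + 1) x := by
  induction k using Nat.strong_induction_on generalizing x with
  | _ k ih =>
    by_cases h : p ∣ k + 1
    · obtain ⟨m, hm⟩ := h
      obtain ⟨q, rfl⟩ : ∃ q, m = q + 1 := by
        refine Nat.exists_eq_succ_of_ne_zero ?_
        rintro rfl
        simp at hm
      have hp1 : 1 ≤ p := hp.pos
      have hk : k = p * q + (p - 1) := by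
        rw [Nat.mul_succ] at hm
        set N := p * q
        omega
      have hq : q < k := by
        have : q ≤ p * q := Nat.le_mul_of_pos_left q hp.pos
        have := hp.two_le
        omega
      have e1 := asc_mul_gam p hp hA d q (p - 1) (by omega) x
      have e2 := mul_gam_mul p hp hA d q x
      have e3 := ih q hq (hdI x hx)
      have e4 := mul_gam_mul p hp hA d (q + 1) x
      have e5 := nat_id4 p hp.ne_zero q
      have e5' := congrArg (Nat.cast (R := A)) e5
      push_cast at e5'
      have hU : IsUnit ((((p * q + 1).ascFactorial (p - 1) : ℕ) : A) *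
          ((Nat.uniformBell q p : ℕ) : A)) :=
        (isUnit_asc p hp hA q (p - 1) (by omega)).mul (isUnit_uniformBell p hp hA q)
      apply hU.mul_left_cancel
      rw [hm, ← hk] at *
      calc (((p * q + 1).ascFactorial (p - 1) : ℕ) : A) * ((Nat.uniformBell q p : ℕ) : A) *
            (x * gam p hp.one_lt d k x)
          = ((Nat.uniformBell q p : ℕ) : A) * x *
              ((((p * q + 1).ascFactorial (p - 1) : ℕ) : A) * gam p hp.one_lt d k x) := by ring
        _ = (x * x ^ (p - 1)) * (((Nat.uniformBell q p : ℕ) : A) * gam p hp.one_lt d (p * q) x) := by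
            rw [e1]; ring
        _ = x ^ p * gam p hp.one_lt d q (d x) := by
            rw [e2, ← _root_.pow_succ', Nat.sub_add_cancel hp1]
        _ = (p.factorial : A) * (d x * gam p hp.one_lt d q (d x)) := by rw [← h1 x hx]; ring
        _ = (p.factorial : A) * ((q + 1 : ℕ) : A) * (((Nat.uniformBell (q + 1) p : ℕ) : A) *
              gam p hp.one_lt d (p * (q + 1)) x) := by rw [e3, e4]; ring
        _ = _ := by
            rw [← mul_assoc, Nat.cast_add, Nat.cast_one, e5']
            push_cast
            ring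
    · have := mul_gam_of_not_dvd p hp hA d h x
      rw [Nat.add_sub_cancel] at this
      exact this.symm

/-- `x^k γ_j(x) = (j+1)(j+2)⋯(j+k) γ_{j+k}(x)` -/
theorem pow_mul_gam (k j : ℕ) {x : A} (hx : x ∈ I) :
    x ^ k * gam p hp.one_lt d j x =
      (((j + 1).ascFactorial k : ℕ) : A) * gam p hp.one_lt d (j + k) x := by
  induction k with
  | zero => rw [pow_zero, one_mul, Nat.ascFactorial_zero, Nat.cast_one, one_mul, add_zero]
  | succ k ih =>
    rw [_root_.pow_succ', mul_assoc, ih, mul_left_comm, mul_gam p hp hA d hdI h1 (j + k) hx,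
      Nat.ascFactorial_succ, ← mul_assoc, ← Nat.cast_mul]
    congr 2
    ring

/-- `γ_n(x) γ_m(x) = C(n+m,n) γ_{n+m}(x)` -/
theorem gam_mul_gam (n m : ℕ) {x : A} (hx : x ∈ I) :
    gam p hp.one_lt d n x * gam p hp.one_lt d m x =
      (((n + m).choose n : ℕ) : A) * gam p hp.one_lt d (n + m) x := by
  induction hN : n + m using Nat.strong_induction_on generalizing n m x with
  | _ N ih =>
    subst hN
    obtain ⟨a, r, hr, rfl⟩ : ∃ a r, r < p ∧ n = p * a + r :=
      ⟨n / p, n % p, Nat.mod_lt _ hp.pos, (Nat.div_add_mod n p).symm⟩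
    obtain ⟨b, s, hs, rfl⟩ : ∃ b s, s < p ∧ m = p * b + s :=
      ⟨m / p, m % p, Nat.mod_lt _ hp.pos, (Nat.div_add_mod m p).symm⟩
    have key : gam p hp.one_lt d a (d x) * gam p hp.one_lt d b (d x) =
        (((a + b).choose a : ℕ) : A) * gam p hp.one_lt d (a + b) (d x) := by
      by_cases hab : a + b = 0
      · have ha : a = 0 := by omega
        have hb : b = 0 := by omega
        subst ha hb
        rw [gam_zero, Nat.choose_self, Nat.cast_one, one_mul]
      · refine ih (a + b) ?_ a b (hdI x hx) rfl
        have h2 := hp.two_le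
        have : a + b < p * (a + b) := by
          have : 2 * (a + b) ≤ p * (a + b) := Nat.mul_le_mul_right _ h2
          omega
        have : p * (a + b) = p * a + p * b := Nat.mul_add _ _ _
        omega
    have e_r := asc_mul_gam p hp hA d a r hr x
    have e_s := asc_mul_gam p hp hA d b s hs x
    have e_a := mul_gam_mul p hp hA d a x
    have e_b := mul_gam_mul p hp hA d b x
    have e_ab := mul_gam_mul p hp hA d (a + b) x
    have e_pow := pow_mul_gam p hp hA d hdI h1 (r + s) (p * (a + b)) hx
    have e_id := congrArg (Nat.cast (R := A)) (nat_id1 p hp.ne_zero a b r s)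
    push_cast at e_id
    have hsum : p * a + r + (p * b + s) = p * (a + b) + (r + s) := by ring
    have hU : IsUnit ((((p * a + 1).ascFactorial r : ℕ) : A) *
        (((p * b + 1).ascFactorial s : ℕ) : A) * ((Nat.uniformBell a p : ℕ) : A) *
        ((Nat.uniformBell b p : ℕ) : A)) :=
      (((isUnit_asc p hp hA a r hr).mul (isUnit_asc p hp hA b s hs)).mul
        (isUnit_uniformBell p hp hA a)).mul (isUnit_uniformBell p hp hA b)
    apply hU.mul_left_cancel
    calc (((p * a + 1).ascFactorial r : ℕ) : A) * (((p * b + 1).ascFactorial s : ℕ) : A) *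
          ((Nat.uniformBell a p : ℕ) : A) * ((Nat.uniformBell b p : ℕ) : A) *
          (gam p hp.one_lt d (p * a + r) x * gam p hp.one_lt d (p * b + s) x)
        = ((((p * a + 1).ascFactorial r : ℕ) : A) * gam p hp.one_lt d (p * a + r) x) *
            ((((p * b + 1).ascFactorial s : ℕ) : A) * gam p hp.one_lt d (p * b + s) x) *
            ((Nat.uniformBell a p : ℕ) : A) * ((Nat.uniformBell b p : ℕ) : A) := by ring
      _ = x ^ (r + s) * ((((Nat.uniformBell a p : ℕ) : A) * gam p hp.one_lt d (p * a) x) *
            (((Nat.uniformBell b p : ℕ) : A) * gam p hp.one_lt d (p * b) x)) := by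
          rw [e_r, e_s, pow_add]; ring
      _ = (((a + b).choose a : ℕ) : A) * (x ^ (r + s) * gam p hp.one_lt d (a + b) (d x)) := by
          rw [e_a, e_b, key]; ring
      _ = (((a + b).choose a : ℕ) : A) * ((Nat.uniformBell (a + b) p : ℕ) : A) *
            (x ^ (r + s) * gam p hp.one_lt d (p * (a + b)) x) := by
          rw [← e_ab]; ring
      _ = (((a + b).choose a : ℕ) : A) * ((Nat.uniformBell (a + b) p : ℕ) : A) *
            (((p * (a + b) + 1).ascFactorial (r + s) : ℕ) : A) *
            gam p hp.one_lt d (p * (a + b) + (r + s)) x := by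
          rw [e_pow]; ring
      _ = _ := by
          rw [e_id, hsum]
          ring

/-- `γ_a(x)^k γ_b(x) = M γ_{ka+b}(x)` with `M (a!)^k b! = (ka+b)!` -/
theorem gam_pow_mul_gam (a k b : ℕ) {x : A} (hx : x ∈ I) :
    ∃ M : ℕ, M * a ! ^ k * b ! = (k * a + b)! ∧
      gam p hp.one_lt d a x ^ k * gam p hp.one_lt d b x =
        (M : A) * gam p hp.one_lt d (k * a + b) x := by
  induction k with
  | zero => exact ⟨1, by simp, by simp⟩
  | succ k ih =>
    obtain ⟨M, hM, hg⟩ := ih
    refine ⟨M * (a + (k * a + b)).choose a, ?_, ?_⟩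
    · have e := Nat.add_choose_mul_factorial_mul_factorial a (k * a + b)
      rw [← Nat.choose_symm_add] at e
      calc M * (a + (k * a + b)).choose a * a ! ^ (k + 1) * b !
          = (a + (k * a + b)).choose a * a ! * (M * a ! ^ k * b !) := by
            rw [_root_.pow_succ]; ring
        _ = (a + (k * a + b))! := by rw [hM, e]
        _ = _ := by congr 1; ring
    · rw [_root_.pow_succ', mul_assoc, hg, mul_left_comm,
        gam_mul_gam p hp hA d hdI h1 a (k * a + b) hx, Nat.cast_mul]
      have : a + (k * a + b) = (k + 1) * a + b := by ring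
      rw [this]
      ring

variable (h2 : ∀ (a x : A), x ∈ I → d (a * x) = a ^ p * d x)
include h2

/-- `d(γ_n(x)) = uB(p,n) γ_{pn}(x)` -/
theorem d_gam (n : ℕ) (hn : n ≠ 0) {x : A} (hx : x ∈ I) :
    d (gam p hp.one_lt d n x) =
      ((Nat.uniformBell p n : ℕ) : A) * gam p hp.one_lt d (p * n) x := by
  induction n using Nat.strong_induction_on generalizing x with
  | _ n ih =>
    by_cases h : p ∣ n
    · obtain ⟨m, rfl⟩ := h
      have hm : m ≠ 0 := by rintro rfl; simp at hn
      have hlt : m < p * m := by
        have h2 := hp.two_le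
        have : 2 * m ≤ p * m := Nat.mul_le_mul_right _ h2
        omega
      have e1 := mul_gam_mul p hp hA d m x
      have e2 := ih m hlt hm (hdI x hx)
      have e3 := mul_gam_mul p hp hA d (p * m) x
      have e_id := congrArg (Nat.cast (R := A)) (nat_id3 p hp.ne_zero m hm)
      push_cast at e_id
      have hu := isUnit_uniformBell p hp hA m
      have hg : gam p hp.one_lt d (p * m) x =
          Ring.inverse ((Nat.uniformBell m p : ℕ) : A) * gam p hp.one_lt d m (d x) := by
        rw [← e1, Ring.inverse_mul_cancel_left _ _ hu]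
      have hmem : gam p hp.one_lt d m (d x) ∈ I := gam_mem p hp d hdI hm (hdI x hx)
      rw [hg, h2 _ _ hmem, e2, ← e3]
      have hU : IsUnit (((Nat.uniformBell m p : ℕ) : A) ^ p) := hu.pow p
      apply hU.mul_left_cancel
      calc ((Nat.uniformBell m p : ℕ) : A) ^ p *
            (Ring.inverse ((Nat.uniformBell m p : ℕ) : A) ^ p *
              (((Nat.uniformBell p m : ℕ) : A) * (((Nat.uniformBell (p * m) p : ℕ) : A) *
                gam p hp.one_lt d (p * (p * m)) x)))
          = (((Nat.uniformBell m p : ℕ) : A) * Ring.inverse ((Nat.uniformBell m p : ℕ) : A)) ^ p *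
              ((((Nat.uniformBell p m : ℕ) : A) * ((Nat.uniformBell (p * m) p : ℕ) : A)) *
                gam p hp.one_lt d (p * (p * m)) x) := by rw [mul_pow]; ring
        _ = _ := by
            rw [Ring.mul_inverse_cancel _ hu, one_pow, one_mul, e_id]
            ring
    · obtain ⟨k, rfl⟩ := Nat.exists_eq_succ_of_ne_zero hn
      have hu : IsUnit (((k + 1 : ℕ)) : A) := hA _ h
      have hg := gam_succ_of_not_dvd p hp.one_lt d h x
      obtain ⟨M, hM, hpow⟩ := gam_pow_mul_gam p hp hA d hdI h1 k p p hx
      have hM' : M = (k + 1) ^ p * Nat.uniformBell p (k + 1) :=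
        nat_id2 p (k + 1) (Nat.succ_ne_zero k) M (by
          rw [Nat.add_sub_cancel]; exact hM)
      have e_id := congrArg (Nat.cast (R := A)) hM'
      push_cast at e_id
      have hkp : p * k + p = p * (k + 1) := by ring
      rw [hkp, gam_prime p hp hA] at hpow
      have hg' : gam p hp.one_lt d (k + 1) x =
          (Ring.inverse ((k + 1 : ℕ) : A) * gam p hp.one_lt d k x) * x := by
        rw [hg]; ring
      rw [show k.succ = k + 1 from rfl, hg', h2 _ _ hx, mul_pow, mul_assoc, hpow, e_id]
      have hU : IsUnit ((((k + 1 : ℕ)) : A) ^ p) := hu.pow p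
      apply hU.mul_left_cancel
      calc (((k + 1 : ℕ)) : A) ^ p * (Ring.inverse ((k + 1 : ℕ) : A) ^ p *
            ((((k : A) + 1) ^ p * ((Nat.uniformBell p (k + 1) : ℕ) : A)) *
              gam p hp.one_lt d (p * (k + 1)) x))
          = ((((k + 1 : ℕ)) : A) * Ring.inverse ((k + 1 : ℕ) : A)) ^ p *
              ((((k : A) + 1) ^ p * ((Nat.uniformBell p (k + 1) : ℕ) : A)) *
              gam p hp.one_lt d (p * (k + 1)) x) := by rw [mul_pow]; ring
        _ = _ := by
            rw [Ring.mul_inverse_cancel _ hu, one_pow, one_mul]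
            push_cast
            ring

end Props

end Groth.Agent.Lib.helper10.DPPrimeB
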