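import Mathlib
import Groth.Agent.Lib.helper10.DPPrimeB
import Groth.Agent.Lib.helper10.DPPolyD

set_option autoImplicit false
set_option maxHeartbeats 800000

/-!
# Divided powers from a `p`-th divided power operation: comparison with the universal model
-/

namespace Groth.Agent.Lib.helper10.DPPrimeC

open Nat Finset
open Groth.Agent.Lib.helper10.DPPrimeA Groth.Agent.Lib.helper10.DPPrimeB
open Groth.Agent.Lib.helper10.DPPolyA Groth.Agent.Lib.helper10.DPPolyB
open Groth.Agent.Lib.helper10.DPPolyC Groth.Agent.Lib.helper10.DPPolyD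

/-- splitting off the two ends of an antidiagonal sum -/
theorem sum_antidiagonal_ends {M : Type*} [AddCommMonoid M] (p : ℕ) (hp : p ≠ 0)
    (F : ℕ × ℕ → M) :
    ∑ k ∈ Finset.HasAntidiagonal.antidiagonal p, F k =
      F (p, 0) + F (0, p) + ∑ k ∈ (Finset.HasAntidiagonal.antidiagonal p).filter (fun k => 0 < k.1 ∧ 0 < k.2), F k := by
  classical
  rw [← Finset.sum_filter_add_sum_filter_not (Finset.HasAntidiagonal.antidiagonal p) (fun k => 0 < k.1 ∧ 0 < k.2),
    add_comm]
  congr 1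
  have : (Finset.HasAntidiagonal.antidiagonal p).filter (fun k => ¬ (0 < k.1 ∧ 0 < k.2)) = {(p, 0), (0, p)} := by
    ext ⟨i, j⟩
    simp only [mem_filter, Finset.HasAntidiagonal.mem_antidiagonal, mem_insert, mem_singleton, Prod.mk.injEq]
    omega
  rw [this, Finset.sum_pair]
  intro h
  exact hp (Prod.mk.inj h).1

/-- the integers inside the rationals -/
abbrev ιZ : ℤ →+* ℚ := Int.castRingHom ℚ

theorem hιZ : Function.Injective ιZ := Int.cast_injective

section Model

variable {A : Type*} [CommRing A] (p : ℕ) (hp : p.Prime)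
  (hA : ∀ n : ℕ, ¬ p ∣ n → IsUnit (n : A)) {I : Ideal A} (d : A → A)
  (hdI : ∀ x ∈ I, d x ∈ I) (h1 : ∀ x ∈ I, (p.factorial : A) * d x = x ^ p)
  (h2 : ∀ (a x : A), x ∈ I → d (a * x) = a ^ p * d x)
  (h3 : ∀ x ∈ I, ∀ y ∈ I, d (x + y) = d x + d y +
      ((Finset.HasAntidiagonal.antidiagonal p).filter fun k => 0 < k.1 ∧ 0 < k.2).sum
        fun k => Ring.inverse ((k.1.factorial * k.2.factorial : ℕ) : A) * x ^ k.1 * y ^ k.2)
  {Λ : Type} (z : Λ → A) (hz : ∀ l, z l ∈ I)

include hp hA hdI h1 hz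

/-- the comparison map from the universal model -/
noncomputable def phi : PS ιZ Λ →+* A :=
  F (P := A) ιZ hιZ (Int.castRingHom A) (x := fun l n => gam p hp.one_lt d n (z l))
    (fun l => gam_zero p hp.one_lt d (z l))
    (fun l n m => gam_mul_gam p hp hA d hdI h1 n m (hz l))

theorem phi_XS [DecidableEq Λ] (l : Λ) (n : ℕ) :
    phi p hp hA d hdI h1 z hz (XS ιZ l n) = gam p hp.one_lt d n (z l) := by
  have h : XS ιZ l n = ⟨Psi ιZ (Finsupp.single (Finsupp.single l n) 1), Psi_mem ιZ _⟩ := rfl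
  rw [h]
  unfold phi
  rw [F_Psi, F'_single, map_one, one_smul,
    mon_single (fun l => gam_zero p hp.one_lt d (z l))]

theorem phi_mem {f : PS ιZ Λ} (hf : f ∈ IS (Λ := Λ) ιZ) :
    phi p hp hA d hdI h1 z hz f ∈ I := by
  classical
  have hle : IS (Λ := Λ) ιZ ≤ I.comap (phi p hp hA d hdI h1 z hz) := by
    unfold IS
    rw [Ideal.span_le]
    rintro _ ⟨l, n, hn, rfl⟩
    show phi p hp hA d hdI h1 z hz (XS ιZ l n) ∈ I
    rw [phi_XS]
    exact gam_mem p hp d hdI (by omega) (hz l)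
  exact hle hf

omit hp hA hdI h1 hz in
theorem XS_mem (l : Λ) {n : ℕ} (hn : 1 ≤ n) : XS ιZ l n ∈ IS (Λ := Λ) ιZ :=
  Ideal.subset_span ⟨l, n, hn, rfl⟩

omit hp hA hdI h1 hz in
theorem dpow_XS (ε : DividedPowers (IS (Λ := Λ) ιZ))
    (hε : ∀ (l : Λ) (n : ℕ), ε.dpow n (XS ιZ l 1) = XS ιZ l n) (m : ℕ) {n : ℕ} (hn : n ≠ 0)
    (l : Λ) :
    ε.dpow m (XS ιZ l n) = ((Nat.uniformBell m n : ℕ) : PS ιZ Λ) * XS ιZ l (m * n) := by
  rw [← hε l n, ε.dpow_comp hn (XS_mem l le_rfl), hε]

include h2 h3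

/-- compatibility with the `p`-th divided power -/
theorem phi_dpow_prime (ε : DividedPowers (IS (Λ := Λ) ιZ))
    (hε : ∀ (l : Λ) (n : ℕ), ε.dpow n (XS ιZ l 1) = XS ιZ l n)
    {f : PS ιZ Λ} (hf : f ∈ IS (Λ := Λ) ιZ) :
    phi p hp hA d hdI h1 z hz (ε.dpow p f) = d (phi p hp hA d hdI h1 z hz f) := by
  classical
  have hd0 : d 0 = 0 := by
    have := h2 0 0 I.zero_mem
    rwa [zero_mul, zero_pow hp.ne_zero, zero_mul] at this
  unfold IS at hf
  induction hf using Submodule.span_induction with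
  | mem f hf =>
    obtain ⟨l, n, hn, rfl⟩ := hf
    have hn0 : n ≠ 0 := by omega
    rw [dpow_XS ε hε p hn0, map_mul, map_natCast, phi_XS, phi_XS,
      d_gam p hp hA d hdI h1 h2 n hn0 (hz l)]
  | zero => rw [ε.dpow_eval_zero hp.ne_zero, map_zero, hd0]
  | add f g hf hg ihf ihg =>
    have hf' : f ∈ IS (Λ := Λ) ιZ := hf
    have hg' : g ∈ IS (Λ := Λ) ιZ := hg
    have mf := phi_mem p hp hA d hdI h1 z hz hf'
    have mg := phi_mem p hp hA d hdI h1 z hz hg'
    rw [ε.dpow_add hf' hg', map_sum, sum_antidiagonal_ends p hp.ne_zero, map_add,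
      h3 _ mf _ mg]
    simp only [map_mul]
    rw [ε.dpow_zero hf', ε.dpow_zero hg', map_one, mul_one, one_mul, ihf, ihg]
    congr 1
    refine Finset.sum_congr rfl fun k hk => ?_
    rw [Finset.mem_filter, Finset.HasAntidiagonal.mem_antidiagonal] at hk
    obtain ⟨hk, hk1, hk2⟩ := hk
    have u1 : IsUnit ((k.1.factorial : ℕ) : A) :=
      hA _ (fun h => by have := (hp.dvd_factorial).mp h; omega)
    have u2 : IsUnit ((k.2.factorial : ℕ) : A) :=
      hA _ (fun h => by have := (hp.dvd_factorial).mp h; omega)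
    have e1 : ((k.1.factorial : ℕ) : A) * phi p hp hA d hdI h1 z hz (ε.dpow k.1 f) =
        phi p hp hA d hdI h1 z hz f ^ k.1 := by
      rw [← map_natCast (phi p hp hA d hdI h1 z hz), ← map_mul, ε.factorial_mul_dpow_eq_pow hf',
        map_pow]
    have e2 : ((k.2.factorial : ℕ) : A) * phi p hp hA d hdI h1 z hz (ε.dpow k.2 g) =
        phi p hp hA d hdI h1 z hz g ^ k.2 := by
      rw [← map_natCast (phi p hp hA d hdI h1 z hz), ← map_mul, ε.factorial_mul_dpow_eq_pow hg',
        map_pow]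
    have u12 : IsUnit (((k.1.factorial * k.2.factorial : ℕ)) : A) := by
      rw [Nat.cast_mul]; exact u1.mul u2
    apply u12.mul_left_cancel
    rw [mul_assoc, Ring.mul_inverse_cancel_left _ _ u12, ← e1, ← e2]
    push_cast
    ring
  | smul a f hf ih =>
    have hf' : f ∈ IS (Λ := Λ) ιZ := hf
    rw [smul_eq_mul, ε.dpow_mul hf', map_mul, map_pow, ih, map_mul,
      h2 _ _ (phi_mem p hp hA d hdI h1 z hz hf')]

/-- compatibility with all divided powers -/
theorem phi_dpow (ε : DividedPowers (IS (Λ := Λ) ιZ))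
    (hε : ∀ (l : Λ) (n : ℕ), ε.dpow n (XS ιZ l 1) = XS ιZ l n) (n : ℕ)
    {f : PS ιZ Λ} (hf : f ∈ IS (Λ := Λ) ιZ) :
    phi p hp hA d hdI h1 z hz (ε.dpow n f) =
      gam p hp.one_lt d n (phi p hp hA d hdI h1 z hz f) := by
  induction n using Nat.strong_induction_on generalizing f with
  | _ n ih =>
    rcases Nat.eq_zero_or_pos n with rfl | hn
    · rw [ε.dpow_zero hf, map_one, gam_zero]
    by_cases hpn : p ∣ n
    · obtain ⟨m, rfl⟩ := hpn
      have hm : m ≠ 0 := by rintro rfl; simp at hn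
      have hlt : m < p * m := by
        have h2 := hp.two_le
        have : 2 * m ≤ p * m := Nat.mul_le_mul_right _ h2
        omega
      have e1 := ε.dpow_comp (m := m) hp.ne_zero hf
      have e2 := ih m hlt (ε.dpow_mem hp.ne_zero hf)
      rw [e1, map_mul, map_natCast, phi_dpow_prime p hp hA d hdI h1 h2 h3 z hz ε hε hf,
        ← mul_gam_mul p hp hA d m, mul_comm m p] at e2
      exact (isUnit_uniformBell p hp hA m).mul_left_cancel e2
    · have hu := hA _ hpn
      have e1 := ε.mul_dpow (m := 1) (n := n - 1) hf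
      have hn1 : 1 + (n - 1) = n := by omega
      rw [hn1, ε.dpow_one hf, Nat.choose_one_right] at e1
      have e2 := congrArg (phi p hp hA d hdI h1 z hz) e1
      rw [map_mul, map_mul, map_natCast, ih (n - 1) (by omega) hf,
        ← mul_gam_of_not_dvd p hp hA d hpn] at e2
      exact (hu.mul_left_cancel e2).symm

end Model

end Groth.Agent.Lib.helper10.DPPrimeC
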