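import Mathlib
import Groth.Agent.Lib.helper10.DPPrimeC

set_option autoImplicit false
set_option maxHeartbeats 800000

/-!
# Comparison of a divided-power-like family with the universal torsion-free model

If `d n : A → A` satisfies the additive and multiplicative rules of a divided power structure on
`I`, and the product and composition rules on some elements `z l`, then the ring map from the
integral divided power polynomial algebra sending `X_l^[n]` to `d n (z l)` intertwines the divided
powers with `d`.  Consequently the product and composition rules hold for sums.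
-/

namespace Groth.Agent.Lib.helper10.DPModel

open Nat Finset
open Groth.Agent.Lib.helper10.DPPrimeC
open Groth.Agent.Lib.helper10.DPPolyA Groth.Agent.Lib.helper10.DPPolyB
open Groth.Agent.Lib.helper10.DPPolyC Groth.Agent.Lib.helper10.DPPolyD

variable {A : Type*} [CommRing A] {I : Ideal A} (d : ℕ → A → A)
  (h_zero : ∀ x ∈ I, d 0 x = 1)
  (h_mem : ∀ (n : ℕ) (x : A), n ≠ 0 → x ∈ I → d n x ∈ I)
  (h_add : ∀ (n : ℕ) (x y : A), x ∈ I → y ∈ I →
    d n (x + y) = (Finset.HasAntidiagonal.antidiagonal n).sum fun k => d k.1 x * d k.2 y)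
  (h_mul : ∀ (n : ℕ) (a x : A), x ∈ I → d n (a * x) = a ^ n * d n x)
  {Λ : Type} (z : Λ → A) (hz : ∀ l, z l ∈ I)
  (hz_mul : ∀ (l : Λ) (m n : ℕ),
    d m (z l) * d n (z l) = ((m + n).choose m : A) * d (m + n) (z l))
  (hz_comp : ∀ (l : Λ) (m n : ℕ), n ≠ 0 →
    d m (d n (z l)) = (Nat.uniformBell m n : A) * d (m * n) (z l))

include h_zero hz hz_mul

/-- the comparison map from the universal model -/
noncomputable def phi : PS ιZ Λ →+* A :=
  F (P := A) ιZ hιZ (Int.castRingHom A) (x := fun l n => d n (z l))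
    (fun l => h_zero _ (hz l)) (fun l n m => hz_mul l n m)

theorem phi_XS [DecidableEq Λ] (l : Λ) (n : ℕ) :
    phi d h_zero z hz hz_mul (XS ιZ l n) = d n (z l) := by
  have h : XS ιZ l n = ⟨Psi ιZ (Finsupp.single (Finsupp.single l n) 1), Psi_mem ιZ _⟩ := rfl
  rw [h]
  unfold phi
  rw [F_Psi, F'_single, map_one, one_smul, mon_single (fun l => h_zero _ (hz l))]

include h_mem

theorem phi_mem {f : PS ιZ Λ} (hf : f ∈ IS (Λ := Λ) ιZ) :
    phi d h_zero z hz hz_mul f ∈ I := by
  classical
  have hle : IS (Λ := Λ) ιZ ≤ I.comap (phi d h_zero z hz hz_mul) := by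
    unfold IS
    rw [Ideal.span_le]
    rintro _ ⟨l, n, hn, rfl⟩
    show phi d h_zero z hz hz_mul (XS ιZ l n) ∈ I
    rw [phi_XS]
    exact h_mem n _ (by omega) (hz l)
  exact hle hf

include h_add h_mul hz_comp

theorem phi_dpow (ε : DividedPowers (IS (Λ := Λ) ιZ))
    (hε : ∀ (l : Λ) (n : ℕ), ε.dpow n (XS ιZ l 1) = XS ιZ l n)
    {f : PS ιZ Λ} (hf : f ∈ IS (Λ := Λ) ιZ) (n : ℕ) :
    phi d h_zero z hz hz_mul (ε.dpow n f) = d n (phi d h_zero z hz hz_mul f) := by
  classical
  unfold IS at hf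
  induction hf using Submodule.span_induction generalizing n with
  | mem f hf =>
    obtain ⟨l, k, hk, rfl⟩ := hf
    have hk0 : k ≠ 0 := by omega
    rw [dpow_XS ε hε n hk0, map_mul, map_natCast, phi_XS, phi_XS, hz_comp l n k hk0]
  | zero =>
    rcases Nat.eq_zero_or_pos n with rfl | hn
    · rw [ε.dpow_zero (Ideal.zero_mem _), map_one, map_zero, h_zero 0 I.zero_mem]
    · have h0 := h_mul n 0 0 I.zero_mem
      rw [zero_mul, zero_pow hn.ne', zero_mul] at h0
      rw [ε.dpow_eval_zero hn.ne', map_zero, h0]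
  | add f g hf hg ihf ihg =>
    have hf' : f ∈ IS (Λ := Λ) ιZ := hf
    have hg' : g ∈ IS (Λ := Λ) ιZ := hg
    rw [ε.dpow_add hf' hg', map_sum, map_add,
      h_add n _ _ (phi_mem d h_zero h_mem z hz hz_mul hf') (phi_mem d h_zero h_mem z hz hz_mul hg')]
    refine Finset.sum_congr rfl fun k _ => ?_
    rw [map_mul, ihf, ihg]
  | smul a f hf ih =>
    have hf' : f ∈ IS (Λ := Λ) ιZ := hf
    rw [smul_eq_mul, ε.dpow_mul hf', map_mul, map_pow, ih, map_mul,
      h_mul n _ _ (phi_mem d h_zero h_mem z hz hz_mul hf')]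

end Groth.Agent.Lib.helper10.DPModel
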