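import Mathlib
import Groth.Agent.Lib.helper10.DPModel

set_option autoImplicit false
set_option maxHeartbeats 800000

/-!
# Divided power rules can be checked on generators
-/

namespace Groth.Agent.Lib.helper10.DPGens

open Nat Finset
open Groth.Agent.Lib.helper10.DPPrimeC Groth.Agent.Lib.helper10.DPModel
open Groth.Agent.Lib.helper10.DPPolyA Groth.Agent.Lib.helper10.DPPolyB
open Groth.Agent.Lib.helper10.DPPolyC Groth.Agent.Lib.helper10.DPPolyD

variable {A : Type*} [CommRing A] {I : Ideal A} (d : ℕ → A → A)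
  (h_zero : ∀ x ∈ I, d 0 x = 1) (h_one : ∀ x ∈ I, d 1 x = x)
  (h_mem : ∀ (n : ℕ) (x : A), n ≠ 0 → x ∈ I → d n x ∈ I)
  (h_add : ∀ (n : ℕ) (x y : A), x ∈ I → y ∈ I →
    d n (x + y) = (Finset.HasAntidiagonal.antidiagonal n).sum fun k => d k.1 x * d k.2 y)
  (h_mul : ∀ (n : ℕ) (a x : A), x ∈ I → d n (a * x) = a ^ n * d n x)

/-- the product and composition rules at an element -/
def Good (x : A) : Prop :=
  (∀ m n : ℕ, d m x * d n x = ((m + n).choose m : A) * d (m + n) x) ∧
    ∀ m n : ℕ, n ≠ 0 → d m (d n x) = (Nat.uniformBell m n : A) * d (m * n) x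

include h_mul in
theorem d_eval_zero {n : ℕ} (hn : n ≠ 0) : d n 0 = 0 := by
  have h0 := h_mul n 0 0 I.zero_mem
  rwa [zero_mul, zero_pow hn, zero_mul] at h0

include h_zero h_mul in
theorem good_zero : Good d 0 := by
  constructor
  · intro m n
    rcases Nat.eq_zero_or_pos m with rfl | hm
    · rw [h_zero 0 I.zero_mem, one_mul, zero_add, Nat.choose_zero_right, Nat.cast_one, one_mul]
    · rw [d_eval_zero d h_mul hm.ne', zero_mul,
        d_eval_zero d h_mul (by omega : m + n ≠ 0), mul_zero]
  · intro m n hn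
    rw [d_eval_zero d h_mul hn]
    rcases Nat.eq_zero_or_pos m with rfl | hm
    · rw [h_zero 0 I.zero_mem, zero_mul, h_zero 0 I.zero_mem, Nat.uniformBell_zero_left,
        Nat.cast_one, one_mul]
    · rw [d_eval_zero d h_mul hm.ne',
        d_eval_zero d h_mul (Nat.mul_ne_zero hm.ne' hn), mul_zero]

include h_mem h_mul in
theorem good_smul (a : A) {x : A} (hx : x ∈ I) (h : Good d x) : Good d (a * x) := by
  constructor
  · intro m n
    rw [h_mul m a x hx, h_mul n a x hx, h_mul (m + n) a x hx, mul_mul_mul_comm, h.1 m n, pow_add]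
    ring
  · intro m n hn
    rw [h_mul n a x hx, h_mul m _ _ (h_mem n x hn hx), h.2 m n hn, h_mul (m * n) a x hx,
      ← pow_mul, mul_comm n m]
    ring

include h_zero h_one h_mem h_add h_mul in
theorem good_add {x y : A} (hx : x ∈ I) (hy : y ∈ I) (gx : Good d x) (gy : Good d y) :
    Good d (x + y) := by
  classical
  obtain ⟨ε, hε⟩ := exists_dpS ιZ Bool
  let z : Bool → A := fun b => if b then x else y
  have hz : ∀ b, z b ∈ I := by
    intro b
    cases b
    · exact hy
    · exact hx
  have hz_mul : ∀ (l : Bool) (m n : ℕ),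
      d m (z l) * d n (z l) = ((m + n).choose m : A) * d (m + n) (z l) := by
    intro l
    cases l
    · exact gy.1
    · exact gx.1
  have hz_comp : ∀ (l : Bool) (m n : ℕ), n ≠ 0 →
      d m (d n (z l)) = (Nat.uniformBell m n : A) * d (m * n) (z l) := by
    intro l
    cases l
    · exact gy.2
    · exact gx.2
  have m1 : XS ιZ true 1 ∈ IS (Λ := Bool) ιZ := XS_mem true le_rfl
  have m2 : XS ιZ false 1 ∈ IS (Λ := Bool) ιZ := XS_mem false le_rfl
  have m12 := Ideal.add_mem _ m1 m2
  have key := fun n => phi_dpow d h_zero h_mem h_add h_mul z hz hz_mul hz_comp ε hε m12 n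
  have e0 : phi d h_zero z hz hz_mul (XS ιZ true 1 + XS ιZ false 1) = x + y := by
    rw [map_add, DPModel.phi_XS, DPModel.phi_XS, h_one _ (hz true), h_one _ (hz false)]
    rfl
  rw [e0] at key
  constructor
  · intro m n
    rw [← key m, ← key n, ← key (m + n), ← map_mul, ε.mul_dpow m12, map_mul, map_natCast]
  · intro m n hn
    have mn := ε.dpow_mem hn m12
    have e1 := phi_dpow d h_zero h_mem h_add h_mul z hz hz_mul hz_comp ε hε mn m
    rw [key n, ε.dpow_comp hn m12, map_mul, map_natCast, key (m * n)] at e1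
    exact e1.symm

include h_zero h_one h_mem h_add h_mul in
theorem good_of_generators (S : Set A) (hS : Ideal.span S = I) (hgen : ∀ x ∈ S, Good d x)
    {x : A} (hx : x ∈ I) : Good d x := by
  have key : ∀ x ∈ Ideal.span S, x ∈ I ∧ Good d x := by
    intro x hx
    induction hx using Submodule.span_induction with
    | mem x hx => exact ⟨hS ▸ Ideal.subset_span hx, hgen x hx⟩
    | zero => exact ⟨I.zero_mem, good_zero d h_zero h_mul⟩
    | add x y _ _ ihx ihy =>
      exact ⟨I.add_mem ihx.1 ihy.1,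
        good_add d h_zero h_one h_mem h_add h_mul ihx.1 ihy.1 ihx.2 ihy.2⟩
    | smul a x _ ih =>
      exact ⟨I.mul_mem_left a ih.1, good_smul d h_mem h_mul a ih.1 ih.2⟩
  exact (key x (hS ▸ hx)).2

/-- the divided power structure obtained from rules checked on generators -/
noncomputable def dividedPowers (h_null : ∀ (n : ℕ) (x : A), x ∉ I → d n x = 0)
    (h_zero : ∀ x ∈ I, d 0 x = 1) (h_one : ∀ x ∈ I, d 1 x = x)
    (h_mem : ∀ (n : ℕ) (x : A), n ≠ 0 → x ∈ I → d n x ∈ I)
    (h_add : ∀ (n : ℕ) (x y : A), x ∈ I → y ∈ I →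
      d n (x + y) = (Finset.HasAntidiagonal.antidiagonal n).sum fun k => d k.1 x * d k.2 y)
    (h_mul : ∀ (n : ℕ) (a x : A), x ∈ I → d n (a * x) = a ^ n * d n x)
    (S : Set A) (hS : Ideal.span S = I) (hgen : ∀ x ∈ S, Good d x) : DividedPowers I where
  dpow := d
  dpow_null := fun {n x} hx => h_null n x hx
  dpow_zero := fun {x} hx => h_zero x hx
  dpow_one := fun {x} hx => h_one x hx
  dpow_mem := fun {n x} hn hx => h_mem n x hn hx
  dpow_add := fun {n x y} hx hy => h_add n x y hx hy
  dpow_mul := fun {n a x} hx => h_mul n a x hx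
  mul_dpow := fun {m n x} hx =>
    (good_of_generators d h_zero h_one h_mem h_add h_mul S hS hgen hx).1 m n
  dpow_comp := fun {m n x} hn hx =>
    (good_of_generators d h_zero h_one h_mem h_add h_mul S hS hgen hx).2 m n hn

end Groth.Agent.Lib.helper10.DPGens
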