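import Mathlib
import Groth.Agent.Lib.helper10.DPGens

set_option autoImplicit false
set_option maxHeartbeats 800000

/-!
# Divided power structures from an exponential family of power series
-/

namespace Groth.Agent.Lib.helper10.DPExp

open Nat Finset PowerSeries
open Groth.Agent.Lib.helper10.DPGens

variable {B : Type*} [CommRing B] (K : Ideal B) (E : B → PowerSeries B)

open Classical in
/-- the coefficient family of an exponential family -/
noncomputable def dfun (n : ℕ) (z : B) : B := if z ∈ K then coeff n (E z) else 0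

theorem dfun_of_mem {n : ℕ} {z : B} (hz : z ∈ K) : dfun K E n z = coeff n (E z) := by
  unfold dfun; rw [if_pos hz]

theorem dfun_of_not_mem {n : ℕ} {z : B} (hz : z ∉ K) : dfun K E n z = 0 := by
  unfold dfun; rw [if_neg hz]

variable (hE_add : ∀ z ∈ K, ∀ z' ∈ K, E (z + z') = E z * E z')
  (hE_mul : ∀ (a : B), ∀ z ∈ K, E (a * z) = rescale a (E z))
  (hE_zero : ∀ z ∈ K, coeff 0 (E z) = 1)
  (hE_one : ∀ z ∈ K, coeff 1 (E z) = z)
  (hE_mem : ∀ z ∈ K, ∀ n : ℕ, n ≠ 0 → coeff n (E z) ∈ K)
  (S : Set B) (hS : Ideal.span S = K) (hgen : ∀ x ∈ S, Good (dfun K E) x)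

include hE_add hE_mul hE_zero hE_one hE_mem hS hgen

/-- the divided power structure attached to an exponential family -/
noncomputable def dividedPowers : DividedPowers K :=
  DPGens.dividedPowers (I := K) (dfun K E)
    (fun _ _ hx => dfun_of_not_mem K E hx)
    (fun x hx => by rw [dfun_of_mem K E hx, hE_zero x hx])
    (fun x hx => by rw [dfun_of_mem K E hx, hE_one x hx])
    (fun n x hn hx => by rw [dfun_of_mem K E hx]; exact hE_mem x hx n hn)
    (fun n x y hx hy => by
      rw [dfun_of_mem K E (K.add_mem hx hy), hE_add x hx y hy, coeff_mul]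
      refine Finset.sum_congr rfl fun k _ => ?_
      rw [dfun_of_mem K E hx, dfun_of_mem K E hy])
    (fun n a x hx => by
      rw [dfun_of_mem K E (K.mul_mem_left a hx), dfun_of_mem K E hx, hE_mul a x hx, coeff_rescale])
    S hS hgen

theorem dividedPowers_dpow (n : ℕ) (z : B) :
    (dividedPowers K E hE_add hE_mul hE_zero hE_one hE_mem S hS hgen).dpow n z = dfun K E n z :=
  rfl

end Groth.Agent.Lib.helper10.DPExp
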