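import Mathlib
import Groth.Agent.Lib.helper10.DPExp

set_option autoImplicit false
set_option maxHeartbeats 800000

/-!
# Divided powers on a sum of two ideals
-/

namespace Groth.Agent.Lib.helper10.DPSup

open Nat Finset PowerSeries
open Groth.Agent.Lib.helper10.DPGens Groth.Agent.Lib.helper10.DPExp

variable {A : Type*} [CommRing A] {I J : Ideal A} (γ : DividedPowers I) (δ : DividedPowers J)

theorem exp_zero : γ.exp 0 = 1 := by
  ext n
  unfold DividedPowers.exp
  rw [coeff_mk, coeff_one]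
  split_ifs with h
  · rw [h, γ.dpow_zero I.zero_mem]
  · exact γ.dpow_eval_zero h

theorem exp_mul (a : A) {x : A} (hx : x ∈ I) : γ.exp (a * x) = rescale a (γ.exp x) := by
  ext n
  unfold DividedPowers.exp
  rw [coeff_rescale, coeff_mk, coeff_mk, γ.dpow_mul hx]

theorem coeff_exp (n : ℕ) (x : A) : coeff n (γ.exp x) = γ.dpow n x := by
  unfold DividedPowers.exp
  rw [coeff_mk]

variable (h : ∀ (n : ℕ) (x : A), x ∈ I ⊓ J → γ.dpow n x = δ.dpow n x)
include h

theorem exp_eq_of_mem_inf {t : A} (ht : t ∈ I ⊓ J) : γ.exp t = δ.exp t := by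
  ext n
  rw [coeff_exp, coeff_exp, h n t ht]

theorem exp_mul_exp_eq {x x' y y' : A} (hx : x ∈ I) (hx' : x' ∈ I) (hy : y ∈ J) (hy' : y' ∈ J)
    (hxy : x + y = x' + y') : γ.exp x * δ.exp y = γ.exp x' * δ.exp y' := by
  obtain ⟨t, rfl⟩ : ∃ t, x = x' + t := ⟨x - x', by ring⟩
  have htI : t ∈ I := by
    have := I.sub_mem hx hx'
    rwa [add_sub_cancel_left] at this
  have e2 : y' = t + y := by
    rw [add_assoc] at hxy
    exact (add_left_cancel hxy).symm
  subst e2
  have htJ : t ∈ J := by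
    have := J.sub_mem hy' hy
    rwa [add_sub_cancel_right] at this
  rw [γ.exp_add hx' htI, δ.exp_add htJ hy, exp_eq_of_mem_inf γ δ h ⟨htI, htJ⟩, mul_assoc]

open Classical in
/-- the exponential family on `I ⊔ J` -/
noncomputable def E (z : A) : PowerSeries A :=
  if hz : z ∈ I ⊔ J then
    γ.exp (Classical.choose (Submodule.mem_sup.mp hz)) *
      δ.exp (Classical.choose (Classical.choose_spec (Submodule.mem_sup.mp hz)).2)
  else 0

theorem E_eq {x y : A} (hx : x ∈ I) (hy : y ∈ J) : E γ δ (x + y) = γ.exp x * δ.exp y := by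
  have hz : x + y ∈ I ⊔ J := Submodule.add_mem_sup hx hy
  unfold E
  rw [dif_pos hz]
  have s1 := Classical.choose_spec (Submodule.mem_sup.mp hz)
  have s2 := Classical.choose_spec s1.2
  exact exp_mul_exp_eq γ δ h s1.1 hx s2.1 hy s2.2

theorem E_left {x : A} (hx : x ∈ I) : E γ δ x = γ.exp x := by
  have := E_eq γ δ h hx J.zero_mem
  rwa [add_zero, exp_zero, mul_one] at this

theorem E_right {y : A} (hy : y ∈ J) : E γ δ y = δ.exp y := by
  have := E_eq γ δ h I.zero_mem hy
  rwa [zero_add, exp_zero, one_mul] at this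

theorem good_left {x : A} (hx : x ∈ I) : Good (dfun (I ⊔ J) (E γ δ)) x := by
  have key : ∀ n, ∀ x ∈ I, dfun (I ⊔ J) (E γ δ) n x = γ.dpow n x := by
    intro n x hx
    rw [dfun_of_mem _ _ (Ideal.mem_sup_left hx), E_left γ δ h hx, coeff_exp]
  constructor
  · intro m n
    rw [key m x hx, key n x hx, key (m + n) x hx, γ.mul_dpow hx]
  · intro m n hn
    rw [key n x hx, key m _ (γ.dpow_mem hn hx), key (m * n) x hx, γ.dpow_comp hn hx]

theorem good_right {y : A} (hy : y ∈ J) : Good (dfun (I ⊔ J) (E γ δ)) y := by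
  have key : ∀ n, ∀ y ∈ J, dfun (I ⊔ J) (E γ δ) n y = δ.dpow n y := by
    intro n y hy
    rw [dfun_of_mem _ _ (Ideal.mem_sup_right hy), E_right γ δ h hy, coeff_exp]
  constructor
  · intro m n
    rw [key m y hy, key n y hy, key (m + n) y hy, δ.mul_dpow hy]
  · intro m n hn
    rw [key n y hy, key m _ (δ.dpow_mem hn hy), key (m * n) y hy, δ.dpow_comp hn hy]

omit h in
theorem span_union : Ideal.span ((I : Set A) ∪ (J : Set A)) = I ⊔ J := by
  rw [Ideal.span_union, Ideal.span_eq, Ideal.span_eq]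

/-- the divided power structure on `I ⊔ J` -/
noncomputable def dividedPowers : DividedPowers (I ⊔ J) :=
  DPExp.dividedPowers (I ⊔ J) (E γ δ)
    (by
      intro z hz z' hz'
      obtain ⟨x, hx, y, hy, rfl⟩ := Submodule.mem_sup.mp hz
      obtain ⟨x', hx', y', hy', rfl⟩ := Submodule.mem_sup.mp hz'
      rw [add_add_add_comm, E_eq γ δ h (I.add_mem hx hx') (J.add_mem hy hy'), E_eq γ δ h hx hy,
        E_eq γ δ h hx' hy', γ.exp_add hx hx', δ.exp_add hy hy']
      ring)
    (by
      intro a z hz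
      obtain ⟨x, hx, y, hy, rfl⟩ := Submodule.mem_sup.mp hz
      rw [mul_add, E_eq γ δ h (I.mul_mem_left a hx) (J.mul_mem_left a hy), E_eq γ δ h hx hy,
        exp_mul γ a hx, exp_mul δ a hy, map_mul])
    (by
      intro z hz
      obtain ⟨x, hx, y, hy, rfl⟩ := Submodule.mem_sup.mp hz
      rw [E_eq γ δ h hx hy, coeff_zero_eq_constantCoeff_apply, map_mul,
        ← coeff_zero_eq_constantCoeff_apply, ← coeff_zero_eq_constantCoeff_apply, coeff_exp,
        coeff_exp, γ.dpow_zero hx, δ.dpow_zero hy, one_mul])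
    (by
      intro z hz
      obtain ⟨x, hx, y, hy, rfl⟩ := Submodule.mem_sup.mp hz
      rw [E_eq γ δ h hx hy, coeff_mul]
      have hanti : Finset.HasAntidiagonal.antidiagonal 1 = {(0, 1), (1, 0)} := by decide
      rw [hanti, Finset.sum_pair (by decide)]
      simp only [coeff_exp]
      rw [γ.dpow_zero hx, γ.dpow_one hx, δ.dpow_zero hy, δ.dpow_one hy]
      ring)
    (by
      intro z hz n hn
      obtain ⟨x, hx, y, hy, rfl⟩ := Submodule.mem_sup.mp hz
      rw [E_eq γ δ h hx hy, coeff_mul]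
      refine Ideal.sum_mem _ fun k hk => ?_
      rw [coeff_exp, coeff_exp]
      by_cases hk1 : k.1 = 0
      · have hk2 : k.2 ≠ 0 := by
          have := Finset.HasAntidiagonal.mem_antidiagonal.mp hk
          omega
        exact Ideal.mul_mem_left _ _ (Ideal.mem_sup_right (δ.dpow_mem hk2 hy))
      · exact Ideal.mul_mem_right _ _ (Ideal.mem_sup_left (γ.dpow_mem hk1 hx)))
    ((I : Set A) ∪ (J : Set A)) span_union
    (by
      rintro x (hx | hx)
      · exact good_left γ δ h hx
      · exact good_right γ δ h hx)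

theorem dividedPowers_left (n : ℕ) {x : A} (hx : x ∈ I) :
    (dividedPowers γ δ h).dpow n x = γ.dpow n x := by
  show dfun (I ⊔ J) (E γ δ) n x = _
  rw [dfun_of_mem _ _ (Ideal.mem_sup_left hx), E_left γ δ h hx, coeff_exp]

theorem dividedPowers_right (n : ℕ) {y : A} (hy : y ∈ J) :
    (dividedPowers γ δ h).dpow n y = δ.dpow n y := by
  show dfun (I ⊔ J) (E γ δ) n y = _
  rw [dfun_of_mem _ _ (Ideal.mem_sup_right hy), E_right γ δ h hy, coeff_exp]

end Groth.Agent.Lib.helper10.DPSup
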