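import Mathlib
import Groth.Agent.Lib.helper10.DPSup

set_option autoImplicit false
set_option maxHeartbeats 800000

/-!
# Extension of divided powers along a flat ring map
-/

namespace Groth.Agent.Lib.helper10.DPFlat

open Nat Finset PowerSeries TensorProduct
open Groth.Agent.Lib.helper10.DPGens Groth.Agent.Lib.helper10.DPExp
open Groth.Agent.Lib.helper10.DPSup

universe u v

variable {A : Type u} {B : Type v} [CommRing A] [CommRing B] [Algebra A B] {I : Ideal A}
  (γ : DividedPowers I)

/-- a power series with constant coefficient one and higher coefficients in `K` -/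
def Nice (K : Ideal B) (P : B⟦X⟧) : Prop := coeff 0 P = 1 ∧ ∀ n : ℕ, n ≠ 0 → coeff n P ∈ K

theorem nice_one (K : Ideal B) : Nice K (1 : B⟦X⟧) := by
  refine ⟨by simp, fun n hn => ?_⟩
  rw [coeff_one, if_neg hn]
  exact K.zero_mem

theorem nice_mul (K : Ideal B) {P Q : B⟦X⟧} (hP : Nice K P) (hQ : Nice K Q) : Nice K (P * Q) := by
  constructor
  · rw [coeff_zero_eq_constantCoeff_apply, map_mul, ← coeff_zero_eq_constantCoeff_apply,
      ← coeff_zero_eq_constantCoeff_apply, hP.1, hQ.1, one_mul]
  · intro n hn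
    rw [coeff_mul]
    refine Ideal.sum_mem _ fun k hk => ?_
    by_cases hk1 : k.1 = 0
    · have hk2 : k.2 ≠ 0 := by
        have := Finset.HasAntidiagonal.mem_antidiagonal.mp hk
        omega
      exact Ideal.mul_mem_left _ _ (hQ.2 _ hk2)
    · exact Ideal.mul_mem_right _ _ (hP.2 _ hk1)

theorem coeff_one_mul_of_nice (K : Ideal B) {P Q : B⟦X⟧} (hP : Nice K P) (hQ : Nice K Q) :
    coeff 1 (P * Q) = coeff 1 P + coeff 1 Q := by
  rw [coeff_mul]
  have hanti : Finset.HasAntidiagonal.antidiagonal 1 = {(0, 1), (1, 0)} := by decide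
  rw [hanti, Finset.sum_pair (by decide)]
  simp only
  rw [hP.1, hQ.1, one_mul, mul_one, add_comm]

/-- the exponential of `x`, mapped to `B` and rescaled by `b` -/
noncomputable def e (x : A) (b : B) : B⟦X⟧ :=
  rescale b (PowerSeries.map (algebraMap A B) (γ.exp x))

theorem coeff_e (n : ℕ) (x : A) (b : B) :
    coeff n (e γ x b) = b ^ n * algebraMap A B (γ.dpow n x) := by
  unfold e
  rw [coeff_rescale, coeff_map, DPSup.coeff_exp]

theorem e_add_left {x x' : A} (hx : x ∈ I) (hx' : x' ∈ I) (b : B) :
    e γ (x + x') b = e γ x b * e γ x' b := by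
  unfold e
  rw [γ.exp_add hx hx', map_mul, map_mul]

theorem e_zero_left (b : B) : e γ 0 b = 1 := by
  unfold e
  rw [exp_zero, map_one, map_one]

theorem e_zero_right {x : A} (hx : x ∈ I) : e γ x (0 : B) = 1 := by
  ext n
  rw [coeff_e, coeff_one]
  split_ifs with h
  · rw [h, pow_zero, one_mul, γ.dpow_zero hx, map_one]
  · rw [zero_pow h, zero_mul]

theorem e_add_right {x : A} (hx : x ∈ I) (b b' : B) :
    e γ x (b + b') = e γ x b * e γ x b' := by
  ext n
  rw [coeff_mul, coeff_e]
  simp only [coeff_e]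
  have h1 : ∀ k ∈ Finset.HasAntidiagonal.antidiagonal n,
      b ^ k.1 * algebraMap A B (γ.dpow k.1 x) * (b' ^ k.2 * algebraMap A B (γ.dpow k.2 x)) =
        (b ^ k.1 * b' ^ k.2 * (n.choose k.1 : B)) * algebraMap A B (γ.dpow n x) := by
    intro k hk
    have hk' := Finset.HasAntidiagonal.mem_antidiagonal.mp hk
    have h2 := γ.mul_dpow (m := k.1) (n := k.2) hx
    rw [hk'] at h2
    calc b ^ k.1 * algebraMap A B (γ.dpow k.1 x) * (b' ^ k.2 * algebraMap A B (γ.dpow k.2 x))
        = b ^ k.1 * b' ^ k.2 * algebraMap A B (γ.dpow k.1 x * γ.dpow k.2 x) := by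
          rw [map_mul]; ring
      _ = _ := by rw [h2, map_mul, map_natCast]; ring
  rw [Finset.sum_congr rfl h1, ← Finset.sum_mul, Commute.add_pow' (Commute.all b b')]
  congr 1
  refine Finset.sum_congr rfl fun k _ => ?_
  rw [nsmul_eq_mul]
  ring

theorem nice_e {x : A} (hx : x ∈ I) (b : B) : Nice (I.map (algebraMap A B)) (e γ x b) := by
  constructor
  · rw [coeff_e, pow_zero, one_mul, γ.dpow_zero hx, map_one]
  · intro n hn
    rw [coeff_e]
    exact Ideal.mul_mem_left _ _ (Ideal.mem_map_of_mem _ (γ.dpow_mem hn hx))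

/-- the biadditive map underlying the exponential family -/
noncomputable def f₂ : I →+ B →+ Additive B⟦X⟧ where
  toFun x :=
    { toFun := fun b => Additive.ofMul (e γ (x : A) b)
      map_zero' := by rw [e_zero_right γ x.2]; rfl
      map_add' := fun b b' => by rw [e_add_right γ x.2]; rfl }
  map_zero' := by
    apply AddMonoidHom.ext
    intro b
    show Additive.ofMul (e γ ((0 : I) : A) b) = 0
    rw [Submodule.coe_zero, e_zero_left]
    rfl
  map_add' x x' := by
    apply AddMonoidHom.ext
    intro b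
    show Additive.ofMul (e γ ((x + x' : I) : A) b) = _
    rw [Submodule.coe_add, e_add_left γ x.2 x'.2]
    rfl

theorem f₂_apply (x : I) (b : B) : f₂ γ x b = Additive.ofMul (e γ (x : A) b) := rfl

theorem f₂_balanced (a : A) (x : I) (b : B) : f₂ γ (a • x) b = f₂ γ x (a • b) := by
  rw [f₂_apply, f₂_apply]
  congr 1
  ext n
  rw [coeff_e, coeff_e, Submodule.coe_smul, smul_eq_mul, γ.dpow_mul x.2, map_mul, map_pow,
    Algebra.smul_def, mul_pow]
  ring

/-- the exponential map on the tensor product -/
noncomputable def Psi : I ⊗[A] B →+ Additive B⟦X⟧ :=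
  TensorProduct.liftAddHom (f₂ γ) (f₂_balanced γ)

/-- the exponential map on the tensor product, multiplicatively -/
noncomputable def G (t : I ⊗[A] B) : B⟦X⟧ := Additive.toMul (Psi γ t)

theorem G_zero : G γ (0 : I ⊗[A] B) = 1 := by
  unfold G
  rw [map_zero]
  rfl

theorem G_add (t t' : I ⊗[A] B) : G γ (t + t') = G γ t * G γ t' := by
  unfold G
  rw [map_add]
  rfl

theorem G_tmul (x : I) (b : B) : G γ (x ⊗ₜ b) = e γ (x : A) b := rfl

theorem nice_G (t : I ⊗[A] B) : Nice (I.map (algebraMap A B)) (G γ t) := by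
  induction t using TensorProduct.induction_on with
  | zero => rw [G_zero]; exact nice_one _
  | tmul x b => rw [G_tmul]; exact nice_e γ x.2 b
  | add t t' ht ht' => rw [G_add]; exact nice_mul _ ht ht'

/-- multiplication `I ⊗ B → B` -/
noncomputable def mu : I ⊗[A] B →ₗ[A] B :=
  (TensorProduct.lid A B).toLinearMap ∘ₗ (Submodule.subtype I).rTensor B

theorem mu_tmul (x : I) (b : B) : mu (x ⊗ₜ[A] b) = algebraMap A B (x : A) * b := by
  unfold mu
  rw [LinearMap.comp_apply, LinearMap.rTensor_tmul, Submodule.subtype_apply,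
    LinearEquiv.coe_coe, TensorProduct.lid_tmul, Algebra.smul_def]

theorem mu_injective [Module.Flat A B] : Function.Injective (mu (A := A) (B := B) (I := I)) := by
  unfold mu
  rw [LinearMap.coe_comp, LinearEquiv.coe_coe]
  exact (TensorProduct.lid A B).injective.comp
    (Module.Flat.rTensor_preserves_injective_linearMap (Submodule.subtype I)
      Subtype.val_injective)

/-- multiplication by `b` on the tensor product -/
noncomputable def mb (b : B) : I ⊗[A] B →ₗ[A] I ⊗[A] B :=
  LinearMap.lTensor I (LinearMap.mulLeft A b)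

theorem mu_mb (b : B) (t : I ⊗[A] B) : mu (mb b t) = b * mu t := by
  induction t using TensorProduct.induction_on with
  | zero => rw [map_zero, map_zero, mul_zero]
  | tmul x b' =>
    unfold mb
    rw [LinearMap.lTensor_tmul, mu_tmul, mu_tmul, LinearMap.mulLeft_apply]
    ring
  | add t t' ht ht' => rw [map_add, map_add, ht, ht', map_add, mul_add]

theorem G_mb (b : B) (t : I ⊗[A] B) : G γ (mb b t) = rescale b (G γ t) := by
  induction t using TensorProduct.induction_on with
  | zero => rw [map_zero, G_zero, map_one]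
  | tmul x b' =>
    unfold mb
    rw [LinearMap.lTensor_tmul, G_tmul, G_tmul, LinearMap.mulLeft_apply]
    unfold e
    rw [rescale_rescale, mul_comm]
  | add t t' ht ht' => rw [map_add, G_add, G_add, ht, ht', map_mul]

theorem coeff_one_G (t : I ⊗[A] B) : coeff 1 (G γ t) = mu t := by
  induction t using TensorProduct.induction_on with
  | zero => rw [G_zero, map_zero, coeff_one, if_neg one_ne_zero]
  | tmul x b =>
    rw [G_tmul, coeff_e, mu_tmul, pow_one, γ.dpow_one x.2, mul_comm]
  | add t t' ht ht' =>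
    rw [G_add, coeff_one_mul_of_nice _ (nice_G γ t) (nice_G γ t'), ht, ht', map_add]

theorem range_mu (z : B) : z ∈ I.map (algebraMap A B) ↔ ∃ t : I ⊗[A] B, mu t = z := by
  constructor
  · intro hz
    unfold Ideal.map at hz
    induction hz using Submodule.span_induction with
    | mem z hz =>
      obtain ⟨x, hx, rfl⟩ := hz
      exact ⟨(⟨x, hx⟩ : I) ⊗ₜ 1, by rw [mu_tmul, mul_one]⟩
    | zero => exact ⟨0, map_zero _⟩
    | add z z' _ _ ih ih' =>
      obtain ⟨t, rfl⟩ := ih
      obtain ⟨t', rfl⟩ := ih'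
      exact ⟨t + t', map_add _ _ _⟩
    | smul b z _ ih =>
      obtain ⟨t, rfl⟩ := ih
      exact ⟨mb b t, by rw [mu_mb, smul_eq_mul]⟩
  · rintro ⟨t, rfl⟩
    induction t using TensorProduct.induction_on with
    | zero => rw [map_zero]; exact Ideal.zero_mem _
    | tmul x b =>
      rw [mu_tmul]
      exact Ideal.mul_mem_right _ _ (Ideal.mem_map_of_mem _ x.2)
    | add t t' ht ht' => rw [map_add]; exact Ideal.add_mem _ ht ht'

open Classical in
/-- the exponential family on `I B` -/
noncomputable def E (z : B) : B⟦X⟧ :=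
  if h : ∃ t : I ⊗[A] B, mu t = z then G γ (Classical.choose h) else 0

variable [Module.Flat A B]

theorem E_mu (t : I ⊗[A] B) : E γ (mu t) = G γ t := by
  have h : ∃ t' : I ⊗[A] B, mu t' = mu t := ⟨t, rfl⟩
  unfold E
  rw [dif_pos h, mu_injective (Classical.choose_spec h)]

theorem dfun_algebraMap (n : ℕ) {x : A} (hx : x ∈ I) :
    dfun (I.map (algebraMap A B)) (E γ) n (algebraMap A B x) =
      algebraMap A B (γ.dpow n x) := by
  rw [dfun_of_mem _ _ (Ideal.mem_map_of_mem _ hx)]
  have : algebraMap A B x = mu ((⟨x, hx⟩ : I) ⊗ₜ[A] (1 : B)) := by rw [mu_tmul, mul_one]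
  rw [this, E_mu, G_tmul, coeff_e, one_pow, one_mul]

/-- the extended divided power structure -/
noncomputable def dividedPowers : DividedPowers (I.map (algebraMap A B)) :=
  DPExp.dividedPowers (I.map (algebraMap A B)) (E γ)
    (by
      intro z hz z' hz'
      obtain ⟨t, rfl⟩ := (range_mu z).mp hz
      obtain ⟨t', rfl⟩ := (range_mu z').mp hz'
      rw [← map_add, E_mu, E_mu, E_mu, G_add])
    (by
      intro b z hz
      obtain ⟨t, rfl⟩ := (range_mu z).mp hz
      rw [← mu_mb, E_mu, E_mu, G_mb])
    (by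
      intro z hz
      obtain ⟨t, rfl⟩ := (range_mu z).mp hz
      rw [E_mu]
      exact (nice_G γ t).1)
    (by
      intro z hz
      obtain ⟨t, rfl⟩ := (range_mu z).mp hz
      rw [E_mu, coeff_one_G])
    (by
      intro z hz n hn
      obtain ⟨t, rfl⟩ := (range_mu z).mp hz
      rw [E_mu]
      exact (nice_G γ t).2 n hn)
    (algebraMap A B '' (I : Set A)) rfl
    (by
      rintro _ ⟨x, hx, rfl⟩
      constructor
      · intro m n
        rw [dfun_algebraMap γ m hx, dfun_algebraMap γ n hx, dfun_algebraMap γ (m + n) hx,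
          ← map_mul, γ.mul_dpow hx, map_mul, map_natCast]
      · intro m n hn
        rw [dfun_algebraMap γ n hx, dfun_algebraMap γ m (γ.dpow_mem hn hx),
          dfun_algebraMap γ (m * n) hx, γ.dpow_comp hn hx, map_mul, map_natCast])

theorem dividedPowers_algebraMap (n : ℕ) {x : A} (hx : x ∈ I) :
    (dividedPowers γ (B := B)).dpow n (algebraMap A B x) = algebraMap A B (γ.dpow n x) :=
  dfun_algebraMap γ n hx

end Groth.Agent.Lib.helper10.DPFlat
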