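import Mathlib
import Groth.Agent.Lib.helper10.DPPolyD

set_option autoImplicit false
set_option maxHeartbeats 800000

/-!
# Divided powers on the augmentation ideal of a concrete divided power polynomial algebra
-/

namespace Groth.Agent.Lib.helper10.DPPolyE

open Finsupp MvPolynomial Function
open Groth.Agent.Lib.helper10.DPPolyA Groth.Agent.Lib.helper10.DPPolyB
  Groth.Agent.Lib.helper10.DPPolyC Groth.Agent.Lib.helper10.DPPolyD

universe u v w

section Model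

variable {S : Type*} [CommRing S] {K : Type*} [CommRing K] [Algebra ℚ K] (ι : S →+* K)
  (hι : Injective ι) {Λ : Type w} {R : Type u} [CommRing R] (φ : S →+* R)
  {P : Type v} [CommRing P] [Algebra R P] {x : Λ → ℕ → P}
  (hx0 : ∀ l, x l 0 = 1)
  (hxmul : ∀ l n m, x l n * x l m = ((n + m).choose n : P) * x l (n + m))

theorem F_DS (e : Λ →₀ ℕ) : F ι hι φ hx0 hxmul (DS ι e) = mon x e := by
  show F ι hι φ hx0 hxmul ⟨Psi ι (single e 1), _⟩ = _
  rw [F_Psi, F'_single, map_one, one_smul]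

theorem F_XS [DecidableEq Λ] (l : Λ) (n : ℕ) : F ι hι φ hx0 hxmul (XS ι l n) = x l n := by
  rw [XS, F_DS, mon_single hx0]

theorem F_CS (s : S) : F ι hι φ hx0 hxmul (CS (Λ := Λ) ι s) = algebraMap R P (φ s) := by
  show F ι hι φ hx0 hxmul ⟨Psi ι (single 0 s), _⟩ = _
  rw [F_Psi, F'_single, mon_zero, Algebra.algebraMap_eq_smul_one]

/-- generators of the kernel inside the augmentation ideal -/
def T : Set (PS ι Λ) := {y | ∃ (e : Λ →₀ ℕ) (s : S), e ≠ 0 ∧ φ s = 0 ∧ y = CS ι s * DS ι e}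

theorem T_subset_IS : T (Λ := Λ) ι φ ⊆ ((IS (Λ := Λ) ι : Ideal (PS ι Λ)) : Set (PS ι Λ)) := by
  rintro y ⟨e, s, he, _, rfl⟩
  exact Ideal.mul_mem_left _ _ (DS_mem_IS ι he)

theorem T_subset_ker :
    T (Λ := Λ) ι φ ⊆ (RingHom.ker (F ι hι φ hx0 hxmul) : Set (PS ι Λ)) := by
  rintro y ⟨e, s, _, hs, rfl⟩
  show _ ∈ RingHom.ker _
  rw [RingHom.mem_ker, map_mul, F_CS, hs, map_zero, zero_mul]

variable (b : Module.Basis (Λ →₀ ℕ) R P) (hb : ∀ e : Λ →₀ ℕ, b e = mon x e)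
include hb

theorem ker_inf_eq :
    RingHom.ker (F ι hι φ hx0 hxmul) ⊓ IS ι = Ideal.span (T (Λ := Λ) ι φ) := by
  classical
  apply le_antisymm
  · rintro f ⟨hf1, hf2⟩
    have hfc : f.1 = Psi ι (cf ι hι f) := (Psi_cf ι hι f).symm
    have h1 : ∀ e, φ (cf ι hι f e) = 0 := by
      refine (F'_eq_zero_iff φ b hb (cf ι hι f)).mp ?_
      rw [← F_eq ι hι φ hx0 hxmul]
      exact hf1
    have h0 : cf ι hι f 0 = 0 := by
      have := coeff_zero_of_mem_IS ι hf2
      rw [hfc, coeff_Psi] at this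
      apply hι
      rw [ι.map_zero]
      exact eq_of_mul_invfac_eq (0 : Λ →₀ ℕ) (by rw [this, zero_mul])
    have hsum : f = ∑ e ∈ (cf ι hι f).support, CS ι (cf ι hι f e) * DS ι e := by
      apply Subtype.ext
      rw [AddSubmonoidClass.coe_finsetSum]
      simp only [CS_mul_DS]
      rw [hfc, ← map_sum]
      congr 1
      exact (Finsupp.sum_single (cf ι hι f)).symm
    rw [hsum]
    refine Ideal.sum_mem _ fun e he => Ideal.subset_span ⟨e, cf ι hι f e, ?_, h1 e, rfl⟩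
    rintro rfl
    exact (Finsupp.mem_support_iff.mp he) h0
  · rw [Ideal.span_le]
    exact fun y hy => ⟨T_subset_ker ι hι φ hx0 hxmul hy, T_subset_IS ι φ hy⟩

include hι hx0 hxmul in
theorem exists_dp_of_model (hφ : Surjective φ) :
    ∃ γ : DividedPowers (Ideal.span {y : P | ∃ (l : Λ) (n : ℕ), 1 ≤ n ∧ y = x l n}),
      ∀ (l : Λ) (n : ℕ), γ.dpow n (x l 1) = x l n := by
  classical
  obtain ⟨γS, hγS⟩ := exists_dpS ι Λ
  have hsurj : Surjective (F ι hι φ hx0 hxmul) := F_surjective ι hι φ hx0 hxmul b hb hφ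
  have hIJ : Ideal.span {y : P | ∃ (l : Λ) (n : ℕ), 1 ≤ n ∧ y = x l n} =
      (IS ι).map (F ι hι φ hx0 hxmul) := by
    unfold IS
    rw [Ideal.map_span]
    congr 1
    ext y
    constructor
    · rintro ⟨l, n, hn, rfl⟩
      exact ⟨XS ι l n, ⟨l, n, hn, rfl⟩, F_XS ι hι φ hx0 hxmul l n⟩
    · rintro ⟨_, ⟨l, n, hn, rfl⟩, rfl⟩
      exact ⟨l, n, hn, F_XS ι hι φ hx0 hxmul l n⟩
  have hsub : γS.IsSubDPIdeal (RingHom.ker (F ι hι φ hx0 hxmul) ⊓ IS ι) := by
    rw [ker_inf_eq ι hι φ hx0 hxmul b hb]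
    refine (DividedPowers.span_isSubDPIdeal_iff (T_subset_IS ι φ)).mpr ?_
    rintro n hn y ⟨e, s, he, hs, rfl⟩
    rw [γS.dpow_mul (DS_mem_IS ι he), ← ker_inf_eq ι hι φ hx0 hxmul b hb]
    refine ⟨?_, Ideal.mul_mem_left _ _ (γS.dpow_mem hn (DS_mem_IS ι he))⟩
    show _ ∈ RingHom.ker _
    rw [RingHom.mem_ker, map_mul, map_pow, F_CS, hs, map_zero, zero_pow hn, zero_mul]
  refine ⟨DividedPowers.Quotient.OfSurjective.dividedPowers γS hsurj hIJ hsub, fun l n => ?_⟩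
  have hmem : XS ι l 1 ∈ IS (Λ := Λ) ι := Ideal.subset_span ⟨l, 1, le_rfl, rfl⟩
  rw [← F_XS ι hι φ hx0 hxmul l 1,
    DividedPowers.Quotient.OfSurjective.dpow_apply γS hsurj hIJ hsub hmem, hγS, F_XS]

end Model

section Main

variable (R : Type u) [CommRing R] (Λ : Type w) (P : Type v) [CommRing P] [Algebra R P]
  (x : Λ → ℕ → P) (hx0 : ∀ l, x l 0 = 1)
  (hxmul : ∀ l n m, x l n * x l m = ((n + m).choose n : P) * x l (n + m))
  (b : Module.Basis (Λ →₀ ℕ) R P) (hb : ∀ e : Λ →₀ ℕ, b e = e.prod (fun l k => x l k))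

include hx0 hxmul hb in
/-- **Existence** of the divided power structure on the augmentation ideal of a divided power
polynomial algebra given by a concrete basis. -/
theorem exists_dividedPowers :
    ∃ γ : DividedPowers (Ideal.span {y : P | ∃ (l : Λ) (n : ℕ), 1 ≤ n ∧ y = x l n}),
      ∀ (l : Λ) (n : ℕ), γ.dpow n (x l 1) = x l n :=
  exists_dp_of_model (S := MvPolynomial R ℤ) (K := MvPolynomial R ℚ)
    (ι := MvPolynomial.map (Int.castRingHom ℚ))
    (hι := MvPolynomial.map_injective _ Int.cast_injective)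
    (φ := MvPolynomial.eval₂Hom (Int.castRingHom R) id) (hx0 := hx0) (hxmul := hxmul) (b := b)
    (hb := hb) (hφ := fun r => ⟨MvPolynomial.X r, by simp⟩)

/-- **Uniqueness**. -/
theorem dividedPowers_unique
    (γ γ' : DividedPowers (Ideal.span {y : P | ∃ (l : Λ) (n : ℕ), 1 ≤ n ∧ y = x l n}))
    (h : ∀ (l : Λ) (n : ℕ), γ.dpow n (x l 1) = x l n)
    (h' : ∀ (l : Λ) (n : ℕ), γ'.dpow n (x l 1) = x l n) : γ = γ' := by
  refine DividedPowers.dpow_eq_from_gens γ' γ rfl ?_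
  rintro n y ⟨l, k, hk, rfl⟩
  have hmem : x l 1 ∈ Ideal.span {y : P | ∃ (l : Λ) (n : ℕ), 1 ≤ n ∧ y = x l n} :=
    Ideal.subset_span ⟨l, 1, le_rfl, rfl⟩
  have hk' : k ≠ 0 := by omega
  calc γ'.dpow n (x l k) = γ'.dpow n (γ'.dpow k (x l 1)) := by rw [h' l k]
    _ = Nat.uniformBell n k * γ'.dpow (n * k) (x l 1) := γ'.dpow_comp hk' hmem
    _ = Nat.uniformBell n k * γ.dpow (n * k) (x l 1) := by rw [h', h]
    _ = γ.dpow n (γ.dpow k (x l 1)) := (γ.dpow_comp hk' hmem).symm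
    _ = γ.dpow n (x l k) := by rw [h l k]

end Main

end Groth.Agent.Lib.helper10.DPPolyE
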