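import Mathlib
import Groth.Agent.Lib.helper10.DPPolyA

set_option autoImplicit false
set_option maxHeartbeats 800000

/-!
# The universal property of a concrete divided power polynomial algebra
-/

namespace Groth.Agent.Lib.helper10.DPPolyF

open Finsupp Function
open Groth.Agent.Lib.helper10.DPPolyA

universe u v w w'

variable (R : Type u) [CommRing R] (Λ : Type w) (P : Type v) [CommRing P] [Algebra R P]
  (x : Λ → ℕ → P) (hx0 : ∀ l, x l 0 = 1)
  (hxmul : ∀ l n m, x l n * x l m = ((n + m).choose n : P) * x l (n + m))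
  (b : Module.Basis (Λ →₀ ℕ) R P) (hb : ∀ e : Λ →₀ ℕ, b e = e.prod (fun l k => x l k))
  (γ : DividedPowers (Ideal.span {y : P | ∃ (l : Λ) (n : ℕ), 1 ≤ n ∧ y = x l n}))
  (hγ : ∀ (l : Λ) (n : ℕ), γ.dpow n (x l 1) = x l n)
  (S : Type w') [CommRing S] [Algebra R S] (J : Ideal S) (δ : DividedPowers J)
  (s : Λ → S) (hs : ∀ l, s l ∈ J)

include hx0 hxmul hb hγ hs in
theorem existsUnique_algHom :
    ∃! φ : P →ₐ[R] S, γ.IsDPMorphism δ φ.toRingHom ∧ ∀ l, φ (x l 1) = s l := by
  classical
  have hbm : ∀ e, b e = mon x e := hb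
  -- the images of the divided power generators
  set y : Λ → ℕ → S := fun l n => δ.dpow n (s l) with hy
  have hy0 : ∀ l, y l 0 = 1 := fun l => δ.dpow_zero (hs l)
  have hymul : ∀ l n m, y l n * y l m = ((n + m).choose n : S) * y l (n + m) :=
    fun l n m => δ.mul_dpow (hs l)
  -- the linear map
  set f : P →ₗ[R] S := b.constr ℕ (mon y) with hf
  have hfb : ∀ e, f (b e) = mon y e := fun e => b.constr_basis ℕ (mon y) e
  have hbmul : ∀ e e', b e * b e' = mchoose e e' • b (e + e') := by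
    intro e e'
    rw [hbm, hbm, hbm, mon_mul hx0 hxmul, nsmul_eq_mul]
  have hf1 : f 1 = 1 := by
    have : (1 : P) = b 0 := by rw [hbm, mon_zero]
    rw [this, hfb, mon_zero]
  have hfmul1 : ∀ e e', f (b e * b e') = f (b e) * f (b e') := by
    intro e e'
    rw [hbmul, map_nsmul, hfb, hfb, hfb, mon_mul hy0 hymul, nsmul_eq_mul]
  have hfmul2 : ∀ e' p, f (p * b e') = f p * f (b e') := by
    intro e' p
    have : (f ∘ₗ LinearMap.mulRight R (b e')) = (LinearMap.mulRight R (f (b e'))) ∘ₗ f := by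
      apply b.ext
      intro e
      simp only [LinearMap.coe_comp, Function.comp_apply, LinearMap.mulRight_apply]
      exact hfmul1 e e'
    exact LinearMap.congr_fun this p
  have hfmul : ∀ p q, f (p * q) = f p * f q := by
    intro p q
    have : (f ∘ₗ LinearMap.mulLeft R p) = (LinearMap.mulLeft R (f p)) ∘ₗ f := by
      apply b.ext
      intro e
      simp only [LinearMap.coe_comp, Function.comp_apply, LinearMap.mulLeft_apply]
      exact hfmul2 e p
    exact LinearMap.congr_fun this q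
  set φ : P →ₐ[R] S := AlgHom.ofLinearMap f hf1 hfmul with hφ
  have hφx : ∀ l n, φ (x l n) = y l n := by
    intro l n
    have : x l n = b (single l n) := by rw [hbm, mon_single hx0]
    rw [this]
    show f (b (single l n)) = _
    rw [hfb, mon_single hy0]
  have hmem1 : ∀ l, x l 1 ∈ Ideal.span {y : P | ∃ (l : Λ) (n : ℕ), 1 ≤ n ∧ y = x l n} :=
    fun l => Ideal.subset_span ⟨l, 1, le_rfl, rfl⟩
  -- the divided powers of the generators
  have hγgen : ∀ (γ' : DividedPowers (Ideal.span {y : P | ∃ (l : Λ) (n : ℕ), 1 ≤ n ∧ y = x l n}))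
      (_ : ∀ (l : Λ) (n : ℕ), γ'.dpow n (x l 1) = x l n) (l : Λ) (k n : ℕ), k ≠ 0 →
      γ'.dpow n (x l k) = Nat.uniformBell n k * x l (n * k) := by
    intro γ' hγ' l k n hk
    calc γ'.dpow n (x l k) = γ'.dpow n (γ'.dpow k (x l 1)) := by rw [hγ' l k]
      _ = Nat.uniformBell n k * γ'.dpow (n * k) (x l 1) := γ'.dpow_comp hk (hmem1 l)
      _ = _ := by rw [hγ']
  refine ⟨φ, ⟨?_, fun l => ?_⟩, ?_⟩
  · refine DividedPowers.IsDPMorphism.on_span γ δ rfl ?_ ?_
    · rintro _ ⟨l, n, hn, rfl⟩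
      show φ (x l n) ∈ J
      rw [hφx]
      exact δ.dpow_mem (by omega) (hs l)
    · rintro n _ ⟨l, k, hk, rfl⟩
      show φ (γ.dpow n (x l k)) = δ.dpow n (φ (x l k))
      rw [hγgen γ hγ l k n (by omega), map_mul, map_natCast, hφx, hφx]
      exact (δ.dpow_comp (by omega) (hs l)).symm
  · rw [hφx]
    exact δ.dpow_one (hs l)
  · rintro ψ ⟨hψ1, hψ2⟩
    have hψx : ∀ l n, ψ (x l n) = y l n := by
      intro l n
      have := hψ1.dpow_comp (n := n) (x l 1) (hmem1 l)
      rw [hγ l n] at this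
      show ψ.toRingHom (x l n) = _
      rw [← this]
      show δ.dpow n (ψ (x l 1)) = _
      rw [hψ2]
    apply AlgHom.toLinearMap_injective
    apply b.ext
    intro e
    show ψ (b e) = f (b e)
    rw [hfb, hbm]
    unfold mon
    rw [Finsupp.prod, map_prod, Finsupp.prod]
    exact Finset.prod_congr rfl fun l _ => hψx l (e l)

end Groth.Agent.Lib.helper10.DPPolyF
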