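import Mathlib
import Groth.Agent.Lib.helper10.DPFlat
import Groth.Agent.Lib.helper10.DPPolyA

set_option autoImplicit false
set_option maxHeartbeats 800000

/-!
# Divided powers on `I P + P_+` for a divided power polynomial algebra `P` over `(R, I, γ)`
-/

namespace Groth.Agent.Lib.helper10.DPPolyG

open Nat Finset
open Groth.Agent.Lib.helper10.DPPolyA

universe u v w

variable {R : Type u} [CommRing R] {Λ : Type w} {P : Type v} [CommRing P] [Algebra R P]
  (x : Λ → ℕ → P)

/-- the augmentation ideal -/
def Pplus : Ideal P := Ideal.span {y : P | ∃ (l : Λ) (n : ℕ), 1 ≤ n ∧ y = x l n}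

variable {x}
variable (hx0 : ∀ l, x l 0 = 1)
  (hxmul : ∀ l n m, x l n * x l m = ((n + m).choose n : P) * x l (n + m))
  (b : Module.Basis (Λ →₀ ℕ) R P) (hb : ∀ e : Λ →₀ ℕ, b e = mon x e)

include hx0 in
theorem mon_mem_Pplus {e : Λ →₀ ℕ} (he : e ≠ 0) : mon x e ∈ Pplus x := by
  classical
  obtain ⟨l, hl⟩ : ∃ l, e l ≠ 0 := by
    by_contra h
    push Not at h
    exact he (Finsupp.ext h)
  unfold mon
  rw [← Finsupp.mul_prod_erase' e l (fun l k => x l k) hx0]
  exact Ideal.mul_mem_right _ _ (Ideal.subset_span ⟨l, e l, Nat.one_le_iff_ne_zero.mpr hl, rfl⟩)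

include hx0 hxmul hb

/-- the constant coordinate is multiplicative -/
theorem coord_zero_mul (z z' : P) : b.coord 0 (z * z') = b.coord 0 z * b.coord 0 z' := by
  classical
  have h : (LinearMap.mul R P).compr₂ (b.coord 0) =
      ((LinearMap.mul R R).compl₁₂ (b.coord 0) (b.coord 0)) := by
    refine b.ext fun e => b.ext fun e' => ?_
    simp only [LinearMap.compr₂_apply, LinearMap.mul_apply', LinearMap.compl₁₂_apply]
    have hsm : ((mchoose e e' : ℕ) : P) * b (e + e') = ((mchoose e e' : ℕ) : R) • b (e + e') := by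
      rw [Algebra.smul_def, map_natCast]
    rw [hb e, hb e', mon_mul hx0 hxmul, ← hb, ← hb, ← hb, hsm, map_smul]
    simp only [Module.Basis.coord_apply, Module.Basis.repr_self, Finsupp.single_apply, smul_eq_mul]
    by_cases h1 : e = 0
    · by_cases h2 : e' = 0
      · subst h1 h2
        simp [mchoose]
      · have : e + e' ≠ 0 := by rw [h1, zero_add]; exact h2
        simp [h1, h2, this]
    · have : e + e' ≠ 0 := by
        intro h0
        apply h1
        ext l
        have := DFunLike.congr_fun h0 l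
        simp only [Finsupp.coe_add, Pi.add_apply, Finsupp.coe_zero, Pi.zero_apply] at this
        simp only [Finsupp.coe_zero, Pi.zero_apply]
        omega
      simp [h1, this]
  have := LinearMap.congr_fun (LinearMap.congr_fun h z) z'
  simpa using this

theorem coord_zero_of_mem_Pplus {z : P} (hz : z ∈ Pplus x) : b.coord 0 z = 0 := by
  classical
  unfold Pplus at hz
  induction hz using Submodule.span_induction with
  | mem z hz =>
    obtain ⟨l, n, hn, rfl⟩ := hz
    rw [← mon_single hx0 l n, ← hb, Module.Basis.coord_apply, Module.Basis.repr_self,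
      Finsupp.single_apply, if_neg]
    intro h
    have := DFunLike.congr_fun h l
    simp at this
    omega
  | zero => exact map_zero _
  | add z z' _ _ ih ih' => rw [map_add, ih, ih', add_zero]
  | smul p z _ ih => rw [smul_eq_mul, coord_zero_mul hx0 hxmul b hb, ih, mul_zero]

/-- elements of `I P ∩ P_+` lie in the product ideal -/
theorem mem_mul_of_mem_inf (I : Ideal R) {z : P}
    (hz1 : z ∈ I.map (algebraMap R P)) (hz2 : z ∈ Pplus x) :
    z ∈ I.map (algebraMap R P) * Pplus x := by
  classical
  have h1 : z ∈ I • (⊤ : Submodule R P) := by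
    rw [Ideal.smul_top_eq_map]
    exact hz1
  rw [← b.span_eq, Submodule.mem_ideal_smul_span_iff_exists_sum] at h1
  obtain ⟨a, ha, rfl⟩ := h1
  have h0 : a 0 = 0 := by
    have := coord_zero_of_mem_Pplus hx0 hxmul b hb hz2
    rw [Finsupp.sum, map_sum] at this
    simp only [map_smul, Module.Basis.coord_apply, Module.Basis.repr_self, Finsupp.single_apply,
      smul_eq_mul, mul_ite, mul_one, mul_zero] at this
    rw [Finset.sum_ite_eq'] at this
    by_cases hmem : (0 : Λ →₀ ℕ) ∈ a.support
    · rwa [if_pos hmem] at this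
    · exact Finsupp.notMem_support_iff.mp hmem
  refine Ideal.sum_mem _ fun e he => ?_
  show a e • b e ∈ _
  by_cases he0 : e = 0
  · rw [he0, h0, zero_smul]
    exact Ideal.zero_mem _
  · rw [Algebra.smul_def]
    refine Ideal.mul_mem_mul (Ideal.mem_map_of_mem _ (ha e)) ?_
    rw [hb]
    exact mon_mem_Pplus hx0 he0

omit hx0 hxmul hb in
/-- two divided power structures agree on the product of their ideals -/
theorem agree_on_mul {K L : Ideal P} (κ : DividedPowers K) (ℓ : DividedPowers L) {z : P}
    (hz : z ∈ K * L) : z ∈ K ∧ z ∈ L ∧ ∀ n, κ.dpow n z = ℓ.dpow n z := by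
  refine Submodule.mul_induction_on hz ?_ ?_
  · intro m hm y hy
    refine ⟨Ideal.mul_mem_right _ _ hm, Ideal.mul_mem_left _ _ hy, fun n => ?_⟩
    rw [mul_comm m y, κ.dpow_mul hm, mul_comm y m, ℓ.dpow_mul hy,
      ← ℓ.factorial_mul_dpow_eq_pow hy, ← κ.factorial_mul_dpow_eq_pow hm]
    ring
  · intro z z' ih ih'
    obtain ⟨h1, h2, h3⟩ := ih
    obtain ⟨h1', h2', h3'⟩ := ih'
    refine ⟨K.add_mem h1 h1', L.add_mem h2 h2', fun n => ?_⟩
    rw [κ.dpow_add h1 h1', ℓ.dpow_add h2 h2']
    exact Finset.sum_congr rfl fun k _ => by rw [h3, h3']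

variable {I : Ideal R} (γ : DividedPowers I) (δplus : DividedPowers (Pplus x))

omit hx0 hxmul hb in
theorem flat_of_basis (b : Module.Basis (Λ →₀ ℕ) R P) : Module.Flat R P :=
  haveI : Module.Free R P := Module.Free.of_basis b
  inferInstance

theorem agree (n : ℕ) (z : P) (hz : z ∈ I.map (algebraMap R P) ⊓ Pplus x) :
    haveI := flat_of_basis b
    (DPFlat.dividedPowers γ (B := P)).dpow n z = δplus.dpow n z := by
  haveI := flat_of_basis b
  exact (agree_on_mul (DPFlat.dividedPowers γ (B := P)) δplus
    (mem_mul_of_mem_inf hx0 hxmul b hb I hz.1 hz.2)).2.2 n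

/-- the divided power structure on `I P + P_+` -/
noncomputable def dividedPowers : DividedPowers (I.map (algebraMap R P) ⊔ Pplus x) :=
  haveI := flat_of_basis b
  DPSup.dividedPowers (DPFlat.dividedPowers γ (B := P)) δplus (agree hx0 hxmul b hb γ δplus)

theorem dividedPowers_algebraMap (n : ℕ) {a : R} (ha : a ∈ I) :
    (dividedPowers hx0 hxmul b hb γ δplus).dpow n (algebraMap R P a) =
      algebraMap R P (γ.dpow n a) := by
  haveI := flat_of_basis b
  unfold dividedPowers
  rw [DPSup.dividedPowers_left _ _ _ n (Ideal.mem_map_of_mem _ ha),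
    DPFlat.dividedPowers_algebraMap γ n ha]

theorem dividedPowers_plus (n : ℕ) {y : P} (hy : y ∈ Pplus x) :
    (dividedPowers hx0 hxmul b hb γ δplus).dpow n y = δplus.dpow n y := by
  haveI := flat_of_basis b
  unfold dividedPowers
  rw [DPSup.dividedPowers_right _ _ _ n hy]

end Groth.Agent.Lib.helper10.DPPolyG
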