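import Mathlib
import Groth.Agent.Lib.helper10.DPPolyG
import Groth.Agent.Lib.helper10.DPPolyE
import Groth.Agent.Lib.helper10.DPPolyF

set_option autoImplicit false
set_option maxHeartbeats 800000

/-!
# A concrete divided power polynomial algebra over an arbitrary ring, and its universal property
-/

namespace Groth.Agent.Lib.helper10.DPPolyH

open Nat Finset TensorProduct
open Groth.Agent.Lib.helper10.DPPolyA Groth.Agent.Lib.helper10.DPPolyB
open Groth.Agent.Lib.helper10.DPPolyD Groth.Agent.Lib.helper10.DPPrimeC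

universe u w

variable (Λ : Type w)

/-- the coordinate map onto the integral model -/
noncomputable def PsiS : ((Λ →₀ ℕ) →₀ ℤ) →+ PS ιZ Λ :=
  (Psi (Λ := Λ) ιZ).codRestrict (PS ιZ Λ) (Psi_mem ιZ)

theorem PsiS_bijective : Function.Bijective (PsiS Λ) := by
  constructor
  · intro c c' h
    exact Psi_injective ιZ hιZ (congrArg Subtype.val h)
  · intro f
    obtain ⟨c, hc⟩ := Psi_surjective ιZ hιZ f.2
    exact ⟨c, Subtype.ext hc⟩

/-- the `ℤ`-basis of the integral model -/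
noncomputable def basisZ : Module.Basis (Λ →₀ ℕ) ℤ (PS ιZ Λ) :=
  Module.Basis.ofRepr (AddEquiv.ofBijective (PsiS Λ) (PsiS_bijective Λ)).symm.toIntLinearEquiv

theorem basisZ_apply (e : Λ →₀ ℕ) : basisZ Λ e = DS ιZ e := by
  unfold basisZ
  rw [Module.Basis.coe_ofRepr]
  rfl

variable {Λ}

theorem XS_zero (l : Λ) : XS ιZ l 0 = 1 := by
  obtain ⟨γS, hγS⟩ := exists_dpS ιZ Λ
  rw [← hγS l 0, γS.dpow_zero (Ideal.subset_span ⟨l, 1, le_rfl, rfl⟩)]

theorem XS_mul (l : Λ) (n m : ℕ) :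
    XS ιZ l n * XS ιZ l m = ((n + m).choose n : PS ιZ Λ) * XS ιZ l (n + m) := by
  obtain ⟨γS, hγS⟩ := exists_dpS ιZ Λ
  rw [← hγS l n, ← hγS l m, ← hγS l (n + m), γS.mul_dpow (Ideal.subset_span ⟨l, 1, le_rfl, rfl⟩)]

theorem DS_eq_mon (e : Λ →₀ ℕ) : DS ιZ e = mon (fun l k => XS ιZ l k) e := by
  classical
  induction e using Finsupp.induction with
  | zero =>
    rw [mon_zero]
    apply Subtype.ext
    show Psi ιZ (Finsupp.single 0 1) = 1
    exact Psi_one (Λ := Λ) ιZ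
  | single_add l n e hl hn ih =>
    have h1 : (Finsupp.single l n + e) l = n := by
      rw [Finsupp.add_apply, Finsupp.single_eq_same, Finsupp.notMem_support_iff.mp hl, add_zero]
    have h2 : (Finsupp.single l n + e).erase l = e := by
      rw [Finsupp.erase_add, Finsupp.erase_single, zero_add, Finsupp.erase_of_notMem_support hl]
    rw [DS_eq_mul ιZ _ l, h1, h2, ih]
    unfold mon
    rw [← Finsupp.mul_prod_erase' (Finsupp.single l n + e) l (fun l k => XS ιZ l k) XS_zero, h1, h2]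

variable (A : Type u) [CommRing A] (Λ)

/-- the divided power polynomial algebra over `A` -/
abbrev DA : Type (max u w) := A ⊗[ℤ] PS ιZ Λ

/-- the divided power generators -/
noncomputable def xA (l : Λ) (n : ℕ) : DA Λ A := 1 ⊗ₜ XS ιZ l n

theorem xA_zero (l : Λ) : xA Λ A l 0 = 1 := by
  unfold xA
  rw [XS_zero]
  rfl

theorem xA_mul (l : Λ) (n m : ℕ) :
    xA Λ A l n * xA Λ A l m = ((n + m).choose n : DA Λ A) * xA Λ A l (n + m) := by
  unfold xA
  rw [Algebra.TensorProduct.tmul_mul_tmul, one_mul, XS_mul]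
  have : (((n + m).choose n : ℕ) : DA Λ A) = (1 : A) ⊗ₜ[ℤ] (((n + m).choose n : ℕ) : PS ιZ Λ) := by
    rw [← map_natCast (Algebra.TensorProduct.includeRight : PS ιZ Λ →ₐ[ℤ] A ⊗[ℤ] PS ιZ Λ)]
    rfl
  rw [this, Algebra.TensorProduct.tmul_mul_tmul, one_mul]

/-- the monomial basis -/
noncomputable def basisA : Module.Basis (Λ →₀ ℕ) A (DA Λ A) :=
  Algebra.TensorProduct.basis A (basisZ Λ)

theorem basisA_apply (e : Λ →₀ ℕ) :
    basisA Λ A e = e.prod (fun l k => xA Λ A l k) := by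
  unfold basisA
  rw [Algebra.TensorProduct.basis_apply, basisZ_apply, DS_eq_mon]
  unfold mon xA
  rw [← Algebra.TensorProduct.includeRight_apply (R := ℤ) (A := A), map_finsuppProd]
  rfl

section Universal

variable {A} {I : Ideal A} (γ : DividedPowers I)

/-- the divided power structure on the augmentation ideal -/
noncomputable def dplus : DividedPowers (DPPolyG.Pplus (xA Λ A)) :=
  Classical.choose (DPPolyE.exists_dividedPowers A Λ (DA Λ A) (xA Λ A) (xA_zero Λ A)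
    (xA_mul Λ A) (basisA Λ A) (basisA_apply Λ A))

theorem dplus_spec (l : Λ) (n : ℕ) : (dplus Λ (A := A)).dpow n (xA Λ A l 1) = xA Λ A l n :=
  Classical.choose_spec (DPPolyE.exists_dividedPowers A Λ (DA Λ A) (xA Λ A) (xA_zero Λ A)
    (xA_mul Λ A) (basisA Λ A) (basisA_apply Λ A)) l n

/-- the ideal `I D + D_+` -/
noncomputable abbrev JA : Ideal (DA Λ A) := I.map (algebraMap A (DA Λ A)) ⊔ DPPolyG.Pplus (xA Λ A)

/-- the divided power structure on `I D + D_+` -/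
noncomputable def dA : DividedPowers (JA Λ (I := I)) :=
  DPPolyG.dividedPowers (xA_zero Λ A) (xA_mul Λ A) (basisA Λ A) (basisA_apply Λ A) γ (dplus Λ)

theorem xA_mem (l : Λ) {n : ℕ} (hn : 1 ≤ n) : xA Λ A l n ∈ DPPolyG.Pplus (xA Λ A) :=
  Ideal.subset_span ⟨l, n, hn, rfl⟩

theorem isDPMorphism_algebraMap : γ.IsDPMorphism (dA Λ γ) (algebraMap A (DA Λ A)) :=
  ⟨le_sup_left, fun {n} a ha =>
    DPPolyG.dividedPowers_algebraMap (xA_zero Λ A) (xA_mul Λ A) (basisA Λ A) (basisA_apply Λ A)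
      γ (dplus Λ) n ha⟩

theorem dA_plus (n : ℕ) {y : DA Λ A} (hy : y ∈ DPPolyG.Pplus (xA Λ A)) :
    (dA Λ γ).dpow n y = (dplus Λ).dpow n y :=
  DPPolyG.dividedPowers_plus (xA_zero Λ A) (xA_mul Λ A) (basisA Λ A) (basisA_apply Λ A)
    γ (dplus Λ) n hy

theorem span_gens :
    JA Λ (I := I) = Ideal.span ((algebraMap A (DA Λ A) '' (I : Set A)) ∪
      {y : DA Λ A | ∃ (l : Λ) (n : ℕ), 1 ≤ n ∧ y = xA Λ A l n}) := by
  rw [Ideal.span_union]
  rfl

theorem universal {C : Type*} [CommRing C] [Algebra A C] (K : Ideal C) (ε : DividedPowers K)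
    (hε : γ.IsDPMorphism ε (algebraMap A C)) (k : Λ → C) (hk : ∀ l, k l ∈ K) :
    ∃! ψ : DA Λ A →ₐ[A] C, (∀ l, ψ (xA Λ A l 1) = k l) ∧
      (dA Λ γ).IsDPMorphism ε ψ.toRingHom := by
  obtain ⟨ψ, ⟨hψ1, hψ2⟩, hψu⟩ := DPPolyF.existsUnique_algHom A Λ (DA Λ A) (xA Λ A) (xA_zero Λ A)
    (xA_mul Λ A) (basisA Λ A) (basisA_apply Λ A) (dplus Λ) (dplus_spec Λ) C K ε k hk
  refine ⟨ψ, ⟨hψ2, ?_⟩, ?_⟩
  · refine DividedPowers.IsDPMorphism.on_span _ _ (span_gens Λ) ?_ ?_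
    · rintro s (⟨r, hr, rfl⟩ | ⟨l, n, hn, rfl⟩)
      · show ψ (algebraMap A (DA Λ A) r) ∈ K
        rw [AlgHom.commutes]
        exact hε.ideal_comp (Ideal.mem_map_of_mem _ hr)
      · exact hψ1.ideal_comp (Ideal.mem_map_of_mem _ (xA_mem Λ l hn))
    · rintro n s (⟨r, hr, rfl⟩ | ⟨l, m, hm, rfl⟩)
      · show ψ ((dA Λ γ).dpow n (algebraMap A (DA Λ A) r)) = ε.dpow n (ψ (algebraMap A (DA Λ A) r))
        rw [(isDPMorphism_algebraMap Λ γ).dpow_comp r hr, AlgHom.commutes, AlgHom.commutes,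
          hε.dpow_comp r hr]
      · show ψ ((dA Λ γ).dpow n (xA Λ A l m)) = ε.dpow n (ψ (xA Λ A l m))
        rw [dA_plus Λ γ n (xA_mem Λ l hm)]
        exact (hψ1.dpow_comp _ (xA_mem Λ l hm)).symm
  · rintro ψ' ⟨h1, h2⟩
    refine hψu ψ' ⟨⟨?_, ?_⟩, h1⟩
    · exact (Ideal.map_mono le_sup_right).trans h2.ideal_comp
    · intro n a ha
      rw [← dA_plus Λ γ n ha]
      exact h2.dpow_comp a (Ideal.mem_sup_right ha)

end Universal

end Groth.Agent.Lib.helper10.DPPolyH
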