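import Mathlib
import Groth.Agent.Lib.helper10.DPPolyH
import Groth.Agent.Lib.helper10.DPFlat

set_option autoImplicit false
set_option maxHeartbeats 800000

/-!
# The divided power envelope
-/

namespace Groth.Agent.Lib.helper10.DPEnv

open Groth.Agent.Lib.helper10

universe u

variable {A B : Type u} [CommRing A] [CommRing B] [Algebra A B] {I : Ideal A}
  (γ : DividedPowers I) (J : Ideal B)

/-- the polynomial ring mapping onto `B` -/
abbrev P (A B : Type u) [CommRing A] [CommRing B] : Type u := MvPolynomial B A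

/-- the canonical surjection -/
noncomputable def pi (A B : Type u) [CommRing A] [CommRing B] [Algebra A B] : P A B →ₐ[A] B :=
  MvPolynomial.aeval id

theorem pi_surjective : Function.Surjective (pi A B) := fun b =>
  ⟨MvPolynomial.X b, by simp [pi]⟩

/-- the extended divided powers on `I P` -/
noncomputable abbrev gP : DividedPowers (I.map (algebraMap A (P A B))) := DPFlat.dividedPowers γ

/-- the preimage of `J` -/
noncomputable def JP (A : Type u) {B : Type u} [CommRing A] [CommRing B] [Algebra A B] (J : Ideal B) :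
    Ideal (P A B) := J.comap (pi A B).toRingHom

/-- the index set of divided power variables -/
abbrev Lam (A : Type u) {B : Type u} [CommRing A] [CommRing B] [Algebra A B] (J : Ideal B) :
    Type u := ↥(JP A J)

/-- the big divided power algebra -/
abbrev Q (A : Type u) {B : Type u} [CommRing A] [CommRing B] [Algebra A B] (J : Ideal B) :
    Type u := DPPolyH.DA (Lam A J) (P A B)

/-- its dp ideal -/
noncomputable abbrev JQ {A B : Type u} [CommRing A] [CommRing B] [Algebra A B] (I : Ideal A)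
    (J : Ideal B) : Ideal (Q A J) :=
  DPPolyH.JA (Lam A J) (A := P A B) (I := I.map (algebraMap A (P A B)))

/-- its divided powers -/
noncomputable abbrev gQ : DividedPowers (JQ I J) := DPPolyH.dA (Lam A J) (gP γ)

/-- the admissible ideals -/
def Adm : Set (Ideal (Q A J)) :=
  {𝔟 | (∀ j : Lam A J, DPPolyH.xA (Lam A J) (P A B) j 1 - algebraMap (P A B) (Q A J) j ∈ 𝔟) ∧
    (∀ x ∈ RingHom.ker (pi A B).toRingHom, algebraMap (P A B) (Q A J) x ∈ 𝔟) ∧
    ∀ (n : ℕ) (a b : Q A J), a ∈ JQ I J → b ∈ JQ I J → a - b ∈ 𝔟 →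
      (gQ γ J).dpow n a - (gQ γ J).dpow n b ∈ 𝔟}

/-- the smallest admissible ideal -/
noncomputable def aa : Ideal (Q A J) := sInf (Adm γ J)

theorem aa_mem : aa γ J ∈ Adm γ J := by
  refine ⟨fun j => ?_, fun x hx => ?_, fun n a b ha hb hab => ?_⟩
  · exact Ideal.mem_sInf.mpr fun {𝔟} h𝔟 => h𝔟.1 j
  · exact Ideal.mem_sInf.mpr fun {𝔟} h𝔟 => h𝔟.2.1 x hx
  · exact Ideal.mem_sInf.mpr fun {𝔟} h𝔟 => h𝔟.2.2 n a b ha hb (Ideal.mem_sInf.mp hab h𝔟)

theorem aa_le {𝔟 : Ideal (Q A J)} (h : 𝔟 ∈ Adm γ J) : aa γ J ≤ 𝔟 := sInf_le h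

/-- the envelope -/
abbrev D : Type u := Q A J ⧸ aa γ J

theorem isSub : (gQ γ J).IsSubDPIdeal (aa γ J ⊓ JQ I J) := by
  rw [DividedPowers.isSubDPIdeal_inf_iff]
  intro n a b ha hb hab
  exact (aa_mem γ J).2.2 n a b ha hb hab

/-- the dp ideal of the envelope -/
noncomputable abbrev JD := (JQ I J).map (Ideal.Quotient.mk (aa γ J))

/-- the divided powers of the envelope -/
noncomputable def gD : DividedPowers (A := D γ J) (JD γ J) :=
  DividedPowers.Quotient.dividedPowers (gQ γ J) (isSub γ J)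

/-- the map `P → D` -/
noncomputable def toD : P A B →+* D γ J :=
  (Ideal.Quotient.mk (aa γ J)).comp (algebraMap (P A B) (Q A J))

theorem ker_le : RingHom.ker (pi A B).toRingHom ≤ RingHom.ker (toD γ J) := by
  intro x hx
  rw [RingHom.mem_ker]
  exact Ideal.Quotient.eq_zero_iff_mem.mpr ((aa_mem γ J).2.1 x hx)

/-- the structure map `B → D` -/
noncomputable def beta : B →+* D γ J :=
  (pi A B).toRingHom.liftOfSurjective pi_surjective ⟨toD γ J, ker_le γ J⟩

/-- the `B`-algebra structure of the envelope -/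
@[reducible] noncomputable def algBD :
    @Algebra B (D γ J) _ (Ideal.Quotient.commRing (aa γ J)).toCommSemiring.toSemiring :=
  @RingHom.toAlgebra B (D γ J) _ (Ideal.Quotient.commRing (aa γ J)).toCommSemiring (beta γ J)

theorem beta_pi (x : P A B) : beta γ J (pi A B x) = toD γ J x :=
  RingHom.liftOfSurjective_comp_apply (pi A B).toRingHom pi_surjective ⟨toD γ J, ker_le γ J⟩ x

theorem mk_xA (l : Lam A J) :
    Ideal.Quotient.mk (aa γ J) (DPPolyH.xA (Lam A J) (P A B) l 1) = toD γ J l := by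
  unfold toD
  rw [RingHom.comp_apply, ← sub_eq_zero, ← map_sub]
  exact Ideal.Quotient.eq_zero_iff_mem.mpr ((aa_mem γ J).1 l)

theorem map_le : J.map (beta γ J) ≤ JD γ J := by
  rw [Ideal.map_le_iff_le_comap]
  intro j hj
  obtain ⟨x, rfl⟩ := pi_surjective (A := A) j
  have hx : x ∈ JP A J := hj
  rw [Ideal.mem_comap, beta_pi, ← mk_xA γ J ⟨x, hx⟩]
  exact Ideal.mem_map_of_mem _ (Ideal.mem_sup_right (DPPolyH.xA_mem _ _ le_rfl))

theorem isDPMorphism_gP : γ.IsDPMorphism (gP γ (B := B)) (algebraMap A (P A B)) :=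
  ⟨le_rfl, fun {n} _ ha => DPFlat.dividedPowers_algebraMap (B := P A B) γ n ha⟩

theorem beta_comp : (beta γ J).comp (algebraMap A B) =
    (Ideal.Quotient.mk (aa γ J)).comp
      ((algebraMap (P A B) (Q A J)).comp (algebraMap A (P A B))) := by
  ext a
  simp only [RingHom.comp_apply]
  rw [← (pi A B).commutes a, beta_pi]
  rfl

theorem isDPMorphism_beta :
    γ.IsDPMorphism (gD γ J) ((beta γ J).comp (algebraMap A B)) := by
  rw [beta_comp]
  exact DividedPowers.IsDPMorphism.comp _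
    (DividedPowers.Quotient.isDPMorphism (gQ γ J) (isSub γ J))
    (DividedPowers.IsDPMorphism.comp _ (DPPolyH.isDPMorphism_algebraMap (Lam A J) (gP γ))
      (isDPMorphism_gP (B := B) γ))

section Universal

variable {C : Type u} [CommRing C] [Algebra A C] (K : Ideal C) (δ : DividedPowers K)
  (hδ : γ.IsDPMorphism δ (algebraMap A C)) (ψ : B →ₐ[A] C) (hψ : J.map ψ ≤ K)

include hδ in
theorem isDPMorphism_psi_pi :
    (gP γ (B := B)).IsDPMorphism δ (ψ.comp (pi A B)).toRingHom := by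
  refine DividedPowers.IsDPMorphism.on_span (S := algebraMap A (P A B) '' (I : Set A)) _ _ rfl ?_ ?_
  · rintro _ ⟨a, ha, rfl⟩
    show (ψ.comp (pi A B)) (algebraMap A (P A B) a) ∈ K
    rw [AlgHom.commutes]
    exact hδ.ideal_comp (Ideal.mem_map_of_mem _ ha)
  · rintro n _ ⟨a, ha, rfl⟩
    show (ψ.comp (pi A B)) ((gP γ).dpow n (algebraMap A (P A B) a)) =
      δ.dpow n ((ψ.comp (pi A B)) (algebraMap A (P A B) a))
    rw [(isDPMorphism_gP (B := B) γ).dpow_comp a ha, AlgHom.commutes, AlgHom.commutes,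
      hδ.dpow_comp a ha]

include hδ hψ in
theorem existsUnique :
    ∃! χ : D γ J →+* C, χ.comp (beta γ J) = ψ ∧ (gD γ J).IsDPMorphism δ χ := by
  letI : Algebra (P A B) C := (ψ.comp (pi A B)).toRingHom.toAlgebra
  have halg : ∀ x : P A B, algebraMap (P A B) C x = ψ (pi A B x) := fun x => rfl
  have hk : ∀ l : Lam A J, ψ (pi A B l) ∈ K := fun l =>
    hψ (Ideal.mem_map_of_mem _ l.2)
  obtain ⟨Ψ, ⟨hΨ1, hΨ2⟩, hΨu⟩ := DPPolyH.universal (Lam A J) (gP γ) K δ
    (isDPMorphism_psi_pi γ K δ hδ ψ) (fun l => ψ (pi A B l)) hk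
  have hcommΨ : ∀ x : P A B, Ψ (algebraMap (P A B) (Q A J) x) = ψ (pi A B x) :=
    fun x => (Ψ.commutes x).trans (halg x)
  have hker : aa γ J ≤ RingHom.ker Ψ.toRingHom := by
    refine aa_le γ J ⟨fun j => ?_, fun x hx => ?_, fun n a b ha hb hab => ?_⟩
    · rw [RingHom.mem_ker, map_sub]
      show Ψ _ - Ψ _ = 0
      rw [hΨ1, hcommΨ, sub_self]
    · rw [RingHom.mem_ker]
      show Ψ _ = 0
      rw [hcommΨ]
      have : pi A B x = 0 := hx
      rw [this, map_zero]
    · rw [RingHom.mem_ker, map_sub, sub_eq_zero] at hab ⊢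
      show Ψ.toRingHom _ = Ψ.toRingHom _
      rw [← hΨ2.dpow_comp a ha, ← hΨ2.dpow_comp b hb, hab]
  let χ : D γ J →+* C := Ideal.Quotient.lift (aa γ J) Ψ.toRingHom
    (fun a ha => RingHom.mem_ker.mp (hker ha))
  have hχ : ∀ q : Q A J, χ (Ideal.Quotient.mk (aa γ J) q) = Ψ q := fun q => rfl
  have hdp : ∀ (χ' : D γ J →+* C), (∀ q : Q A J, χ' (Ideal.Quotient.mk (aa γ J) q) = Ψ q) →
      (gD γ J).IsDPMorphism δ χ' := by
    intro χ' hχ'
    constructor
    · rw [Ideal.map_map, Ideal.map_le_iff_le_comap]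
      intro q hq
      rw [Ideal.mem_comap, RingHom.comp_apply, hχ']
      exact hΨ2.ideal_comp (Ideal.mem_map_of_mem _ hq)
    · intro n y hy
      obtain ⟨q, hq, rfl⟩ :=
        (Ideal.mem_map_iff_of_surjective _ Ideal.Quotient.mk_surjective).mp hy
      unfold gD
      rw [DividedPowers.Quotient.dpow_apply _ _ hq, hχ', hχ']
      exact hΨ2.dpow_comp q hq
  refine ⟨χ, ⟨?_, hdp χ hχ⟩, ?_⟩
  · ext b
    obtain ⟨x, rfl⟩ := pi_surjective (A := A) b
    rw [RingHom.comp_apply, beta_pi]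
    show Ψ (algebraMap (P A B) (Q A J) x) = ψ (pi A B x)
    rw [hcommΨ]
  · rintro χ' ⟨h1, h2⟩
    have hcomm : ∀ x : P A B, χ' (toD γ J x) = ψ (pi A B x) := by
      intro x
      rw [← beta_pi, ← RingHom.comp_apply, h1]
      rfl
    let Ψ' : Q A J →ₐ[P A B] C :=
      { (χ'.comp (Ideal.Quotient.mk (aa γ J))) with
        commutes' := fun x => by
          show χ' (toD γ J x) = _
          rw [hcomm, halg] }
    have hΨ' : Ψ' = Ψ := by
      refine hΨu Ψ' ⟨fun l => ?_, ?_⟩
      · show χ' (Ideal.Quotient.mk (aa γ J) _) = _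
        rw [mk_xA, hcomm]
      · exact DividedPowers.IsDPMorphism.comp _ h2
          (DividedPowers.Quotient.isDPMorphism (gQ γ J) (isSub γ J))
    refine Ideal.Quotient.ringHom_ext (RingHom.ext fun q => ?_)
    exact DFunLike.congr_fun hΨ' q

end Universal

end Groth.Agent.Lib.helper10.DPEnv
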