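import Mathlib
import Groth.Agent.Lib.helper10.DPPrimeC

set_option autoImplicit false
set_option maxHeartbeats 800000

/-!
# Divided powers from a `p`-th divided power operation: the divided power structure
-/

namespace Groth.Agent.Lib.helper10.DPPrimeD

open Nat Finset
open Groth.Agent.Lib.helper10.DPPrimeA Groth.Agent.Lib.helper10.DPPrimeB
open Groth.Agent.Lib.helper10.DPPrimeC
open Groth.Agent.Lib.helper10.DPPolyA Groth.Agent.Lib.helper10.DPPolyB
open Groth.Agent.Lib.helper10.DPPolyC Groth.Agent.Lib.helper10.DPPolyD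

variable {A : Type*} [CommRing A] (p : ℕ) (hp : p.Prime)
  (hA : ∀ n : ℕ, ¬ p ∣ n → IsUnit (n : A)) {I : Ideal A} (d : A → A)
  (hdI : ∀ x ∈ I, d x ∈ I) (h1 : ∀ x ∈ I, (p.factorial : A) * d x = x ^ p)
  (h2 : ∀ (a x : A), x ∈ I → d (a * x) = a ^ p * d x)
  (h3 : ∀ x ∈ I, ∀ y ∈ I, d (x + y) = d x + d y +
      ((Finset.HasAntidiagonal.antidiagonal p).filter fun k => 0 < k.1 ∧ 0 < k.2).sum
        fun k => Ring.inverse ((k.1.factorial * k.2.factorial : ℕ) : A) * x ^ k.1 * y ^ k.2)

include hp hA hdI h1 h2 h3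

theorem gam_add (n : ℕ) {x y : A} (hx : x ∈ I) (hy : y ∈ I) :
    gam p hp.one_lt d n (x + y) =
      ∑ k ∈ Finset.HasAntidiagonal.antidiagonal n,
        gam p hp.one_lt d k.1 x * gam p hp.one_lt d k.2 y := by
  classical
  obtain ⟨ε, hε⟩ := exists_dpS ιZ Bool
  let z : Bool → A := fun b => if b then x else y
  have hz : ∀ b, z b ∈ I := by
    intro b
    cases b
    · exact hy
    · exact hx
  have m1 : XS ιZ true 1 ∈ IS (Λ := Bool) ιZ := XS_mem true le_rfl
  have m2 : XS ιZ false 1 ∈ IS (Λ := Bool) ιZ := XS_mem false le_rfl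
  have e := phi_dpow p hp hA d hdI h1 h2 h3 z hz ε hε n (Ideal.add_mem _ m1 m2)
  rw [map_add, phi_XS, phi_XS, gam_one p hp, gam_one p hp, ε.dpow_add m1 m2, map_sum] at e
  rw [show z true = x from rfl, show z false = y from rfl] at e
  rw [← e]
  refine Finset.sum_congr rfl fun k _ => ?_
  rw [map_mul, hε, hε, phi_XS, phi_XS]
  rfl

theorem gam_comp (m : ℕ) {n : ℕ} (hn : n ≠ 0) {x : A} (hx : x ∈ I) :
    gam p hp.one_lt d m (gam p hp.one_lt d n x) =
      ((Nat.uniformBell m n : ℕ) : A) * gam p hp.one_lt d (m * n) x := by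
  classical
  obtain ⟨ε, hε⟩ := exists_dpS ιZ Unit
  let z : Unit → A := fun _ => x
  have hz : ∀ b, z b ∈ I := fun _ => hx
  have mn : XS ιZ () n ∈ IS (Λ := Unit) ιZ := XS_mem () (Nat.one_le_iff_ne_zero.mpr hn)
  have e := phi_dpow p hp hA d hdI h1 h2 h3 z hz ε hε m mn
  rw [phi_XS, dpow_XS ε hε m hn, map_mul, map_natCast, phi_XS] at e
  exact e.symm

/-- the divided power structure attached to `d` -/
noncomputable def dividedPowers : DividedPowers I := by
  classical
  exact
  { dpow := fun n x => if x ∈ I then gam p hp.one_lt d n x else 0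
    dpow_null := fun {n x} hx => if_neg hx
    dpow_zero := fun {x} hx => by rw [if_pos hx, gam_zero]
    dpow_one := fun {x} hx => by rw [if_pos hx, gam_one p hp]
    dpow_mem := fun {n x} hn hx => by
      rw [if_pos hx]; exact gam_mem p hp d hdI hn hx
    dpow_add := fun {n x y} hx hy => by
      rw [if_pos (I.add_mem hx hy), gam_add p hp hA d hdI h1 h2 h3 n hx hy]
      refine Finset.sum_congr rfl fun k _ => ?_
      rw [if_pos hx, if_pos hy]
    dpow_mul := fun {n a x} hx => by
      rw [if_pos (I.mul_mem_left a hx), if_pos hx, gam_mul_left p hp d hdI h2 n a hx]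
    mul_dpow := fun {m n x} hx => by
      rw [if_pos hx, if_pos hx, if_pos hx, gam_mul_gam p hp hA d hdI h1 m n hx]
    dpow_comp := fun {m n x} hn hx => by
      rw [if_pos hx, if_pos hx, if_pos (gam_mem p hp d hdI hn hx),
        gam_comp p hp hA d hdI h1 h2 h3 m hn hx] }

theorem dividedPowers_dpow_prime {x : A} (hx : x ∈ I) :
    (dividedPowers p hp hA d hdI h1 h2 h3).dpow p x = d x := by
  classical
  show (if x ∈ I then gam p hp.one_lt d p x else 0) = d x
  rw [if_pos hx, gam_prime p hp hA]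

end Groth.Agent.Lib.helper10.DPPrimeD
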