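import Mathlib

set_option maxHeartbeats 400000
set_option autoImplicit false
universe u v

namespace Groth.Agent.Lib.helper10.DecompInertia
open scoped Pointwise

variable (B : Type u) [CommRing B] (Γ : Type v) [Group Γ] [Finite Γ] [MulSemiringAction Γ B]
    (Ω : Subgroup Γ) (P : Ideal B) [P.IsPrime]

instance : Algebra.IsInvariant (FixedPoints.subring B Ω) B Ω :=
  ⟨fun b hb => ⟨⟨b, hb⟩, rfl⟩⟩

omit [Finite Γ] in
lemma mem_fixed (x : B) : x ∈ FixedPoints.subring B Ω ↔ ∀ ω ∈ Ω, ω • x = x :=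
  ⟨fun h ω hω => h ⟨ω, hω⟩, fun h ω => h ω.1 ω.2⟩

lemma decomp_forward (γ : Γ)
    (h : ∀ x : B, (∀ ω ∈ Ω, ω • x = x) → (x ∈ P ↔ γ • x ∈ P)) :
    ∃ ω ∈ Ω, ∀ x : B, x ∈ P ↔ (γ * ω) • x ∈ P := by
  let Q : Ideal B := P.comap (MulSemiringAction.toRingHom Γ B γ)
  have hQmem : ∀ x, x ∈ Q ↔ γ • x ∈ P := fun x => Iff.rfl
  have hQ : Q.IsPrime := Ideal.comap_isPrime _ _
  have hPQ : P.under (FixedPoints.subring B Ω) = Q.under (FixedPoints.subring B Ω) := by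
    ext x
    simp only [Ideal.under_def, Ideal.mem_comap]
    exact h x.1 ((mem_fixed B Γ Ω x.1).1 x.2)
  obtain ⟨ω, hω⟩ :=
    Algebra.IsInvariant.exists_smul_of_under_eq (FixedPoints.subring B Ω) B Ω P Q hPQ
  refine ⟨ω.1, ω.2, fun x => ?_⟩
  rw [mul_smul, ← hQmem, hω, Ideal.mem_pointwise_smul_iff_inv_smul_mem]
  show x ∈ P ↔ (ω⁻¹ : Ω) • ((ω : Ω) • x) ∈ P
  rw [inv_smul_smul]

lemma inertia_forward (γ : Γ)
    (h : ∀ x : B, (∀ ω ∈ Ω, ω • x = x) → γ • x - x ∈ P) :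
    ∃ ω ∈ Ω, ∀ x : B, (γ * ω) • x - x ∈ P := by
  have h1 : ∀ x : B, (∀ ω ∈ Ω, ω • x = x) → (x ∈ P ↔ γ • x ∈ P) := by
    intro x hx
    have hx' := h x hx
    constructor
    · intro hxP
      have : γ • x = (γ • x - x) + x := by abel
      rw [this]; exact P.add_mem hx' hxP
    · intro hγ
      have : x = γ • x - (γ • x - x) := by abel
      rw [this]; exact P.sub_mem hγ hx'
  obtain ⟨ω₁, hω₁, hstab⟩ := decomp_forward B Γ Ω P γ h1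
  let p : Ideal (FixedPoints.subring B Ω) := P.under (FixedPoints.subring B Ω)
  have hlies : P.LiesOver p := ⟨rfl⟩
  let φ : B ≃+* B := MulSemiringAction.toRingEquiv Γ B (γ * ω₁)
  have hφ : ∀ x, φ x = (γ * ω₁) • x := fun x => rfl
  have hφs : ∀ x, φ.symm x = (γ * ω₁)⁻¹ • x := fun x => rfl
  have hmap : P = P.map (φ : B →+* B) := by
    rw [Ideal.map_comap_of_equiv]
    ext x
    rw [Ideal.mem_comap]
    show x ∈ P ↔ φ.symm x ∈ P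
    rw [hφs, hstab ((γ * ω₁)⁻¹ • x), smul_inv_smul]
  let f0 : (B ⧸ P) ≃+* (B ⧸ P) := Ideal.quotientEquiv P P φ hmap
  have hf0 : ∀ x : B, f0 (Ideal.Quotient.mk P x) = Ideal.Quotient.mk P ((γ * ω₁) • x) :=
    fun x => rfl
  let f : (B ⧸ P) ≃ₐ[(FixedPoints.subring B Ω) ⧸ p] (B ⧸ P) :=
    AlgEquiv.ofRingEquiv (f := f0) (by
      intro r
      obtain ⟨a, rfl⟩ := Ideal.Quotient.mk_surjective r
      rw [Ideal.Quotient.algebraMap_mk_of_liesOver, hf0, Ideal.Quotient.eq]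
      have ha : ∀ ω ∈ Ω, ω • (a : B) = a := (mem_fixed B Γ Ω a.1).1 a.2
      show (γ * ω₁) • (a : B) - a ∈ P
      rw [mul_smul, ha ω₁ hω₁]
      exact h a ha)
  have hf : ∀ x : B, f (Ideal.Quotient.mk P x) = Ideal.Quotient.mk P ((γ * ω₁) • x) :=
    fun x => rfl
  obtain ⟨g, hg⟩ := Ideal.Quotient.stabilizerHom_surjective Ω p P f.symm
  refine ⟨ω₁ * g.1.1, Ω.mul_mem hω₁ g.1.2, fun x => ?_⟩
  rw [← Ideal.Quotient.eq, ← mul_assoc, mul_smul, ← hf]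
  have h2 : Ideal.Quotient.stabilizerHom P p Ω g (Ideal.Quotient.mk P x) =
      Ideal.Quotient.mk P ((g.1.1 : Γ) • x) := rfl
  rw [← h2, hg, AlgEquiv.apply_symm_apply]

theorem main (γ : Γ) :
    ((∀ x : B, (∀ ω ∈ Ω, ω • x = x) → (x ∈ P ↔ γ • x ∈ P)) ↔
        ∃ ω ∈ Ω, ∀ x : B, x ∈ P ↔ (γ * ω) • x ∈ P) ∧
      ((∀ x : B, (∀ ω ∈ Ω, ω • x = x) → γ • x - x ∈ P) ↔
        ∃ ω ∈ Ω, ∀ x : B, (γ * ω) • x - x ∈ P) := by
  refine ⟨⟨decomp_forward B Γ Ω P γ, ?_⟩, ⟨inertia_forward B Γ Ω P γ, ?_⟩⟩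
  · rintro ⟨ω, hω, h⟩ x hx
    have := h x
    rwa [mul_smul, hx ω hω] at this
  · rintro ⟨ω, hω, h⟩ x hx
    have := h x
    rwa [mul_smul, hx ω hω] at this

end Groth.Agent.Lib.helper10.DecompInertia
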