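import Mathlib

set_option autoImplicit false
set_option maxHeartbeats 800000

open Polynomial TensorProduct KaehlerDifferential

namespace Groth.Agent.Lib.helper10.DefKaehler

universe u

section Dfacts

variable {k : Type u} [Field k] (n : ℕ) {D : Type u} [CommRing D] [Algebra k D] (τ : D)
  (e : (k[X] ⧸ Ideal.span {(X : k[X]) ^ (n + 1)}) ≃ₐ[k] D)
  (he : e (Ideal.Quotient.mk (Ideal.span {(X : k[X]) ^ (n + 1)}) X) = τ)

include he in
theorem aeval_eq (p : k[X]) :
    aeval τ p = e (Ideal.Quotient.mk (Ideal.span {(X : k[X]) ^ (n + 1)}) p) := by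
  have : (aeval τ : k[X] →ₐ[k] D) =
      (e : _ →ₐ[k] D).comp (Ideal.Quotient.mkₐ k (Ideal.span {(X : k[X]) ^ (n + 1)})) := by
    apply Polynomial.algHom_ext
    simp [he]
  rw [this]
  rfl

include he in
theorem aeval_surjective : Function.Surjective (aeval τ : k[X] →ₐ[k] D) := by
  intro d
  obtain ⟨p, hp⟩ := Ideal.Quotient.mk_surjective (e.symm d)
  refine ⟨p, ?_⟩
  rw [aeval_eq n τ e he, hp, AlgEquiv.apply_symm_apply]

include he in
theorem aeval_eq_zero_iff (p : k[X]) : aeval τ p = 0 ↔ (X : k[X]) ^ (n + 1) ∣ p := by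
  rw [aeval_eq n τ e he, EmbeddingLike.map_eq_zero_iff, Ideal.Quotient.eq_zero_iff_mem,
    Ideal.mem_span_singleton]

include he in
theorem tau_pow : τ ^ (n + 1) = 0 := by
  have := (aeval_eq_zero_iff n τ e he (X ^ (n + 1))).mpr dvd_rfl
  simpa using this

include he in
theorem ann_tau_pow (i : ℕ) (hi : i ≤ n + 1) (x : D) (h : τ ^ i * x = 0) :
    ∃ y, x = τ ^ (n + 1 - i) * y := by
  obtain ⟨p, rfl⟩ := aeval_surjective n τ e he x
  have h1 : aeval τ ((X : k[X]) ^ i * p) = 0 := by simpa using h
  rw [aeval_eq_zero_iff n τ e he] at h1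
  have h2 : (X : k[X]) ^ (n + 1) = X ^ i * X ^ (n + 1 - i) := by
    rw [← pow_add, Nat.add_sub_cancel' hi]
  rw [h2] at h1
  have h3 : (X : k[X]) ^ (n + 1 - i) ∣ p :=
    (mul_dvd_mul_iff_left (pow_ne_zero _ X_ne_zero)).mp h1
  obtain ⟨q, rfl⟩ := h3
  exact ⟨aeval τ q, by simp⟩

include he in
theorem algebraMap_quot_surjective :
    Function.Surjective (algebraMap k (D ⧸ Ideal.span {τ})) := by
  intro x
  obtain ⟨d, rfl⟩ := Ideal.Quotient.mk_surjective x
  obtain ⟨p, rfl⟩ := aeval_surjective n τ e he d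
  refine ⟨p.coeff 0, ?_⟩
  rw [IsScalarTower.algebraMap_apply k D (D ⧸ Ideal.span {τ}), Ideal.Quotient.algebraMap_eq,
    Ideal.Quotient.eq, Ideal.mem_span_singleton]
  refine ⟨- aeval τ (divX p), ?_⟩
  have h := congrArg (aeval τ) (Polynomial.divX_mul_X_add p)
  simp only [map_add, map_mul, aeval_X, aeval_C] at h
  rw [← h]
  ring

include he in
theorem isNoetherianRing : IsNoetherianRing D :=
  isNoetherianRing_of_surjective k[X] D (aeval τ : k[X] →ₐ[k] D).toRingHom
    (aeval_surjective n τ e he)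

include he in
theorem exists_derivation :
    ∃ d : Derivation k D (D ⧸ Ideal.span {τ ^ n}), d τ = 1 := by
  let f : k[X] →ₗ[k] D := (aeval τ : k[X] →ₐ[k] D).toLinearMap
  have hf : Function.Surjective f := aeval_surjective n τ e he
  let g : k[X] →ₗ[k] (D ⧸ Ideal.span {τ ^ n}) :=
    (Ideal.Quotient.mkₐ k (Ideal.span {τ ^ n})).toLinearMap ∘ₗ f ∘ₗ
      (Polynomial.derivative : k[X] →ₗ[k] k[X])
  have hfg : LinearMap.ker f ≤ LinearMap.ker g := by
    intro p hp
    rw [LinearMap.mem_ker] at hp ⊢
    have hdvd : (X : k[X]) ^ (n + 1) ∣ p := (aeval_eq_zero_iff n τ e he p).mp hp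
    obtain ⟨q, rfl⟩ := hdvd
    show Ideal.Quotient.mk _ (aeval τ (derivative ((X : k[X]) ^ (n + 1) * q))) = 0
    rw [Ideal.Quotient.eq_zero_iff_mem, Ideal.mem_span_singleton]
    refine ⟨((n + 1 : ℕ) : D) * aeval τ q + τ * aeval τ (derivative q), ?_⟩
    simp only [derivative_mul, derivative_X_pow, map_add, map_mul, aeval_X, map_pow,
      map_natCast, Nat.add_sub_cancel]
    ring_nf
  let L : D →ₗ[k] (D ⧸ Ideal.span {τ ^ n}) :=
    (LinearMap.ker f).liftQ g hfg ∘ₗ (f.quotKerEquivOfSurjective hf).symm.toLinearMap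
  have hL : ∀ p : k[X], L (aeval τ p) = Ideal.Quotient.mk _ (aeval τ (derivative p)) := by
    intro p
    have h1 : (f.quotKerEquivOfSurjective hf).symm (f p) = Submodule.Quotient.mk p := by
      rw [LinearEquiv.symm_apply_eq]; rfl
    show (LinearMap.ker f).liftQ g hfg ((f.quotKerEquivOfSurjective hf).symm (f p)) = _
    rw [h1]; rfl
  refine ⟨Derivation.mk' L ?_, ?_⟩
  · intro a b
    obtain ⟨p, rfl⟩ := hf a
    obtain ⟨q, rfl⟩ := hf b
    show L (aeval τ p * aeval τ q) = aeval τ p • L (aeval τ q) + aeval τ q • L (aeval τ p)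
    rw [← map_mul, hL, hL, hL]
    show _ = Ideal.Quotient.mk _ (aeval τ p * aeval τ (derivative q)) +
      Ideal.Quotient.mk _ (aeval τ q * aeval τ (derivative p))
    rw [← map_add, derivative_mul, map_add, map_mul, map_mul]
    congr 1
    ring
  · show L τ = 1
    have := hL X
    simpa using this


end Dfacts

section General

variable {k : Type u} [Field k] (n : ℕ) {D : Type u} [CommRing D] [Algebra k D] (τ : D)
  (e : (k[X] ⧸ Ideal.span {(X : k[X]) ^ (n + 1)}) ≃ₐ[k] D)
  (he : e (Ideal.Quotient.mk (Ideal.span {(X : k[X]) ^ (n + 1)}) X) = τ)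
  (C : Type u) [CommRing C] [Algebra k C] [Algebra D C] [IsScalarTower k D C]

include he in
theorem D_algebraMap_mem (d : D) :
    KaehlerDifferential.D k C (algebraMap D C d) ∈
      Submodule.span C {KaehlerDifferential.D k C (algebraMap D C τ)} := by
  obtain ⟨p, rfl⟩ := aeval_surjective n τ e he d
  rw [← Polynomial.aeval_algebraMap_apply, Derivation.map_aeval]
  exact Submodule.smul_mem _ _ (Submodule.mem_span_singleton_self _)

include he in
theorem range_mapBaseChange_le :
    LinearMap.range (KaehlerDifferential.mapBaseChange k D C) ≤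
      Submodule.span C {KaehlerDifferential.D k C (algebraMap D C τ)} := by
  rintro _ ⟨z, rfl⟩
  induction z using TensorProduct.induction_on with
  | zero => simp
  | add x y hx hy => rw [map_add]; exact add_mem hx hy
  | tmul c η =>
    rw [KaehlerDifferential.mapBaseChange_tmul]
    refine Submodule.smul_mem _ _ ?_
    have hη : η ∈ Submodule.span D (Set.range (KaehlerDifferential.D k D)) := by
      rw [KaehlerDifferential.span_range_derivation]; trivial
    induction hη using Submodule.span_induction with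
    | mem x hx =>
      obtain ⟨d, rfl⟩ := hx
      rw [KaehlerDifferential.map_D]
      exact D_algebraMap_mem n τ e he C d
    | zero => simp
    | add x y _ _ hx hy => rw [map_add]; exact add_mem hx hy
    | smul a x _ hx =>
      rw [map_smul, ← algebraMap_smul C a]
      exact Submodule.smul_mem _ _ hx

include he in
theorem map_eq_zero_iff (ω : Ω[C⁄k]) :
    KaehlerDifferential.map k D C C ω = 0 ↔
      ∃ c : C, ω = c • KaehlerDifferential.D k C (algebraMap D C τ) := by
  constructor
  · intro h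
    have h1 := (KaehlerDifferential.exact_mapBaseChange_map k D C ω).mp h
    have h2 := range_mapBaseChange_le n τ e he C h1
    obtain ⟨c, hc⟩ := Submodule.mem_span_singleton.mp h2
    exact ⟨c, hc.symm⟩
  · rintro ⟨c, rfl⟩
    rw [map_smul, KaehlerDifferential.map_D]
    simp

include he in
theorem pow_smul_D [CharZero k] :
    (algebraMap D C τ) ^ n • KaehlerDifferential.D k C (algebraMap D C τ) = 0 := by
  have h1 : KaehlerDifferential.D k C ((algebraMap D C τ) ^ (n + 1)) = 0 := by
    rw [← map_pow, tau_pow n τ e he, map_zero, map_zero]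
  rw [Derivation.leibniz_pow, Nat.add_sub_cancel, ← Nat.cast_smul_eq_nsmul k] at h1
  have hne : ((n + 1 : ℕ) : k) ≠ 0 := Nat.cast_ne_zero.mpr (Nat.succ_ne_zero n)
  exact (smul_eq_zero.mp h1).resolve_left hne

end General

end Groth.Agent.Lib.helper10.DefKaehler
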