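import Mathlib
import Groth.Agent.Lib.helper10.DefKaehlerA

set_option autoImplicit false
set_option maxHeartbeats 800000

open Polynomial TensorProduct KaehlerDifferential

namespace Groth.Agent.Lib.helper10.DefKaehler

universe u

section Bfacts

variable {k : Type u} [Field k] (n : ℕ) {D : Type u} [CommRing D] [Algebra k D] (τ : D)
  (e : (k[X] ⧸ Ideal.span {(X : k[X]) ^ (n + 1)}) ≃ₐ[k] D)
  (he : e (Ideal.Quotient.mk (Ideal.span {(X : k[X]) ^ (n + 1)}) X) = τ)
  (B : Type u) [CommRing B] [Algebra k B] [Algebra D B] [IsScalarTower k D B]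
  [Algebra.FiniteType k B] [Module.Flat D B]
  (t : B) (ht : t = algebraMap D B τ) (hsm : Algebra.Smooth k (B ⧸ Ideal.span {t}))

include he ht hsm in
theorem smooth_of_flat : Algebra.Smooth D B := by
  haveI := isNoetherianRing n τ e he
  haveI : Algebra.FiniteType D B := Algebra.FiniteType.of_restrictScalars_finiteType k D B
  haveI : Algebra.FinitePresentation D B :=
    Algebra.FinitePresentation.of_finiteType.mp inferInstance
  have hImap : (Ideal.span {τ}).map (algebraMap D B) = Ideal.span {t} := by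
    rw [Ideal.map_span, Set.image_singleton, ht]
  haveI : Algebra.FormallySmooth k (B ⧸ (Ideal.span {τ}).map (algebraMap D B)) :=
    .of_equiv (Ideal.quotientEquivAlgOfEq k hImap.symm)
  haveI : Algebra.FormallyUnramified k (D ⧸ Ideal.span {τ}) :=
    Algebra.FormallyUnramified.of_surjective (Algebra.ofId k (D ⧸ Ideal.span {τ}))
      (algebraMap_quot_surjective n τ e he)
  haveI : IsScalarTower k (D ⧸ Ideal.span {τ}) (B ⧸ (Ideal.span {τ}).map (algebraMap D B)) :=
    .of_algebraMap_eq fun a => by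
      show Ideal.Quotient.mk _ (algebraMap k B a) =
        Ideal.Quotient.mk _ (algebraMap D B (algebraMap k D a))
      rw [← IsScalarTower.algebraMap_apply]
  haveI : Algebra.FormallySmooth (D ⧸ Ideal.span {τ})
      (B ⧸ (Ideal.span {τ}).map (algebraMap D B)) :=
    Algebra.FormallySmooth.of_restrictScalars (R := k) _ _
  haveI : Algebra.FormallySmooth (D ⧸ Ideal.span {τ}) ((D ⧸ Ideal.span {τ}) ⊗[D] B) :=
    .of_equiv (Algebra.TensorProduct.quotIdealMapEquivQuotTensor B (Ideal.span {τ}))
  refine Algebra.Smooth.of_formallySmooth_fiber fun p hp => ?_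
  have hker : Ideal.span {τ} ≤ RingHom.ker (algebraMap D p.ResidueField) := by
    rw [Ideal.span_le, Set.singleton_subset_iff, SetLike.mem_coe, RingHom.mem_ker]
    have h1 : IsNilpotent τ := ⟨n + 1, tau_pow n τ e he⟩
    exact (h1.map (algebraMap D p.ResidueField)).eq_zero
  let g : D ⧸ Ideal.span {τ} →+* p.ResidueField :=
    Ideal.Quotient.lift _ (algebraMap D p.ResidueField) (fun a ha => hker ha)
  letI : Algebra (D ⧸ Ideal.span {τ}) p.ResidueField := g.toAlgebra
  haveI : IsScalarTower D (D ⧸ Ideal.span {τ}) p.ResidueField := .of_algebraMap_eq fun a => rfl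
  exact .of_equiv
    (Algebra.TensorProduct.cancelBaseChange D (D ⧸ Ideal.span {τ}) p.ResidueField p.ResidueField B)

include he ht in
theorem ann_t_pow (i : ℕ) (hi : i ≤ n + 1) (x : B) (h : t ^ i * x = 0) :
    ∃ y, x = t ^ (n + 1 - i) * y := by
  obtain ⟨m, a, y, hx, ha⟩ := Module.Flat.isTrivialRelation_of_sum_smul_eq_zero (R := D) (M := B)
    (f := fun _ : Unit => τ ^ i) (x := fun _ : Unit => x) (by
      simp only [Finset.univ_unique, Finset.sum_singleton]
      rw [Algebra.smul_def, map_pow, ← ht]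
      exact h)
  have ha' : ∀ j, ∃ c, a () j = τ ^ (n + 1 - i) * c := by
    intro j
    have := ha j
    simp only [Finset.univ_unique, Finset.sum_singleton] at this
    exact ann_tau_pow n τ e he i hi _ this
  choose c hc using ha'
  refine ⟨∑ j, c j • y j, ?_⟩
  have hx' := hx ()
  simp only at hx'
  rw [hx', Finset.mul_sum]
  refine Finset.sum_congr rfl fun j _ => ?_
  rw [hc j, mul_smul, Algebra.smul_def (τ ^ (n + 1 - i)), map_pow, ← ht]

include he ht hsm in
theorem exists_functional :
    ∃ θ : Ω[B⁄k] →ₗ[B] (B ⧸ Ideal.span {t ^ n}), θ (KaehlerDifferential.D k B t) = 1 := by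
  haveI : Algebra.Smooth D B := smooth_of_flat n τ e he B t ht hsm
  haveI : Algebra.FormallySmooth D B := Algebra.Smooth.formallySmooth
  have hex := KaehlerDifferential.exact_mapBaseChange_map k D B
  have hinj : Function.Injective (KaehlerDifferential.mapBaseChange k D B) := by
    rw [injective_iff_map_eq_zero]
    intro x hx
    obtain ⟨y, rfl⟩ := (Algebra.H1Cotangent.exact_δ_mapBaseChange k D B x).mp hx
    rw [Subsingleton.elim y 0, map_zero]
  have hsurj : Function.Surjective (KaehlerDifferential.map k D B B) :=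
    KaehlerDifferential.map_surjective k D B
  obtain ⟨s, hs⟩ := Module.projective_lifting_property (KaehlerDifferential.map k D B B)
    LinearMap.id hsurj
  have htfae := hex.split_tfae hinj hsurj
  have h01 : (∃ l, KaehlerDifferential.map k D B B ∘ₗ l = LinearMap.id) ↔
      (∃ l, l ∘ₗ KaehlerDifferential.mapBaseChange k D B = LinearMap.id) := htfae.out 0 1
  have hr' : ∃ l, l ∘ₗ KaehlerDifferential.mapBaseChange k D B = LinearMap.id :=
    h01.mp ⟨s, hs⟩
  obtain ⟨r, hr⟩ := hr'
  obtain ⟨d, hd⟩ := exists_derivation n τ e he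
  let j : (D ⧸ Ideal.span {τ ^ n}) →ₗ[D] (B ⧸ Ideal.span {t ^ n}) :=
    Submodule.liftQ (Ideal.span {τ ^ n}) (Algebra.linearMap D (B ⧸ Ideal.span {t ^ n})) (by
      rw [Ideal.span_le, Set.singleton_subset_iff, SetLike.mem_coe, LinearMap.mem_ker,
        Algebra.linearMap_apply, IsScalarTower.algebraMap_apply D B (B ⧸ Ideal.span {t ^ n}),
        Ideal.Quotient.algebraMap_eq, Ideal.Quotient.eq_zero_iff_mem, map_pow, ← ht]
      exact Ideal.mem_span_singleton_self _)
  let c' : Ω[D⁄k] →ₗ[D] (B ⧸ Ideal.span {t ^ n}) := j ∘ₗ d.liftKaehlerDifferential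
  refine ⟨(LinearMap.liftBaseChange B c') ∘ₗ r, ?_⟩
  have h1 : KaehlerDifferential.D k B t =
      KaehlerDifferential.mapBaseChange k D B (1 ⊗ₜ KaehlerDifferential.D k D τ) := by
    rw [KaehlerDifferential.mapBaseChange_tmul, one_smul, KaehlerDifferential.map_D, ht]
  rw [LinearMap.comp_apply, h1]
  have h2 := LinearMap.congr_fun hr (1 ⊗ₜ KaehlerDifferential.D k D τ)
  simp only [LinearMap.comp_apply, LinearMap.id_apply] at h2
  rw [h2, LinearMap.liftBaseChange_tmul, one_smul]
  show j (d.liftKaehlerDifferential (KaehlerDifferential.D k D τ)) = 1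
  rw [Derivation.liftKaehlerDifferential_comp_D, hd]
  show j (Submodule.Quotient.mk 1) = 1
  rw [Submodule.liftQ_apply, Algebra.linearMap_apply, map_one]

include he ht hsm in
theorem injective_toSpanSingleton :
    Function.Injective
      (LinearMap.toSpanSingleton (B ⧸ Ideal.span {t ^ n}) ((B ⧸ Ideal.span {t ^ n}) ⊗[B] Ω[B⁄k])
        ((1 : (B ⧸ Ideal.span {t ^ n})) ⊗ₜ[B] KaehlerDifferential.D k B t)) := by
  obtain ⟨θ, hθ⟩ := exists_functional n τ e he B t ht hsm
  have hleft : Function.LeftInverse (LinearMap.liftBaseChange (B ⧸ Ideal.span {t ^ n}) θ)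
      (LinearMap.toSpanSingleton (B ⧸ Ideal.span {t ^ n})
        ((B ⧸ Ideal.span {t ^ n}) ⊗[B] Ω[B⁄k])
        ((1 : (B ⧸ Ideal.span {t ^ n})) ⊗ₜ[B] KaehlerDifferential.D k B t)) := by
    intro b
    rw [LinearMap.toSpanSingleton_apply, map_smul, LinearMap.liftBaseChange_tmul, hθ, one_smul,
      smul_eq_mul, mul_one]
  exact hleft.injective

include he ht in
theorem exact_toSpanSingleton_baseChange :
    Function.Exact
      (LinearMap.toSpanSingleton (B ⧸ Ideal.span {t ^ n}) ((B ⧸ Ideal.span {t ^ n}) ⊗[B] Ω[B⁄k])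
        ((1 : (B ⧸ Ideal.span {t ^ n})) ⊗ₜ[B] KaehlerDifferential.D k B t))
      (LinearMap.baseChange (B ⧸ Ideal.span {t ^ n}) (KaehlerDifferential.map k D B B)) := by
  subst ht
  have hex0 : Function.Exact
      (LinearMap.toSpanSingleton B Ω[B⁄k] (KaehlerDifferential.D k B (algebraMap D B τ)))
      (KaehlerDifferential.map k D B B) := by
    intro ω
    rw [map_eq_zero_iff n τ e he B ω]
    constructor
    · rintro ⟨c, rfl⟩
      exact ⟨c, rfl⟩
    · rintro ⟨c, rfl⟩
      exact ⟨c, rfl⟩
  have hex1 := lTensor_exact (B ⧸ Ideal.span {(algebraMap D B τ) ^ n}) hex0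
    (KaehlerDifferential.map_surjective k D B)
  intro y
  rw [LinearMap.baseChange_eq_ltensor, hex1 y]
  constructor
  · rintro ⟨z, rfl⟩
    induction z using TensorProduct.induction_on with
    | zero => exact ⟨0, by simp⟩
    | add x y hx hy =>
      obtain ⟨a, ha⟩ := hx
      obtain ⟨b, hb⟩ := hy
      exact ⟨a + b, by rw [map_add, map_add, ha, hb]⟩
    | tmul b' c =>
      refine ⟨c • b', ?_⟩
      rw [LinearMap.toSpanSingleton_apply, LinearMap.lTensor_tmul,
        LinearMap.toSpanSingleton_apply, TensorProduct.tmul_smul, TensorProduct.smul_tmul',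
        TensorProduct.smul_tmul', smul_eq_mul, mul_one]
  · rintro ⟨b', rfl⟩
    refine ⟨b' ⊗ₜ 1, ?_⟩
    rw [LinearMap.lTensor_tmul, LinearMap.toSpanSingleton_apply, LinearMap.toSpanSingleton_apply,
      one_smul, TensorProduct.smul_tmul', smul_eq_mul, mul_one]

theorem surjective_baseChange :
    Function.Surjective
      (LinearMap.baseChange (B ⧸ Ideal.span {t ^ n}) (KaehlerDifferential.map k D B B)) := by
  rw [LinearMap.baseChange_eq_ltensor]
  exact LinearMap.lTensor_surjective _ (KaehlerDifferential.map_surjective k D B)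

include he ht hsm in
theorem projective_baseChange_kaehler :
    Module.Projective (B ⧸ Ideal.span {t ^ n}) ((B ⧸ Ideal.span {t ^ n}) ⊗[B] Ω[B⁄k]) := by
  haveI : Algebra.Smooth D B := smooth_of_flat n τ e he B t ht hsm
  haveI : Algebra.FormallySmooth D B := Algebra.Smooth.formallySmooth
  have hex := exact_toSpanSingleton_baseChange n τ e he B t ht
  have hinj := injective_toSpanSingleton n τ e he B t ht hsm
  have hsurj := surjective_baseChange (k := k) (D := D) n B t
  obtain ⟨l, hl⟩ := Module.projective_lifting_property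
    (LinearMap.baseChange (B ⧸ Ideal.span {t ^ n}) (KaehlerDifferential.map k D B B))
    LinearMap.id hsurj
  exact Module.Projective.of_equiv (hex.splitSurjectiveEquiv hinj ⟨l, hl⟩).1.symm

include he ht hsm in
theorem main837 :
    Module.Projective B (Ω[B⁄D]) ∧
    Module.Projective (B ⧸ Ideal.span {t ^ n}) ((B ⧸ Ideal.span {t ^ n}) ⊗[B] Ω[B⁄k]) ∧
    Function.Injective
      (LinearMap.toSpanSingleton (B ⧸ Ideal.span {t ^ n}) ((B ⧸ Ideal.span {t ^ n}) ⊗[B] Ω[B⁄k])
        ((1 : (B ⧸ Ideal.span {t ^ n})) ⊗ₜ[B] KaehlerDifferential.D k B t)) ∧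
    Function.Exact
      (LinearMap.toSpanSingleton (B ⧸ Ideal.span {t ^ n}) ((B ⧸ Ideal.span {t ^ n}) ⊗[B] Ω[B⁄k])
        ((1 : (B ⧸ Ideal.span {t ^ n})) ⊗ₜ[B] KaehlerDifferential.D k B t))
      (LinearMap.baseChange (B ⧸ Ideal.span {t ^ n}) (KaehlerDifferential.map k D B B)) ∧
    Function.Surjective
      (LinearMap.baseChange (B ⧸ Ideal.span {t ^ n}) (KaehlerDifferential.map k D B B)) := by
  haveI : Algebra.Smooth D B := smooth_of_flat n τ e he B t ht hsm
  haveI : Algebra.FormallySmooth D B := Algebra.Smooth.formallySmooth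
  exact ⟨inferInstance, projective_baseChange_kaehler n τ e he B t ht hsm,
    injective_toSpanSingleton n τ e he B t ht hsm,
    exact_toSpanSingleton_baseChange n τ e he B t ht,
    surjective_baseChange (k := k) (D := D) n B t⟩

end Bfacts

end Groth.Agent.Lib.helper10.DefKaehler
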