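import Mathlib
import Groth.Agent.Lib.helper10.DefKaehler

set_option autoImplicit false
set_option maxHeartbeats 800000

open Polynomial TensorProduct KaehlerDifferential

namespace Groth.Agent.Lib.helper10.DefKaehler

universe u

section Bfacts2

variable {k : Type u} [Field k] [CharZero k] (n : ℕ) (hn : 1 ≤ n)
  {D : Type u} [CommRing D] [Algebra k D] (τ : D)
  (e : (k[X] ⧸ Ideal.span {(X : k[X]) ^ (n + 1)}) ≃ₐ[k] D)
  (he : e (Ideal.Quotient.mk (Ideal.span {(X : k[X]) ^ (n + 1)}) X) = τ)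
  (B : Type u) [CommRing B] [Algebra k B] [Algebra D B] [IsScalarTower k D B]
  [Algebra.FiniteType k B] [Module.Flat D B]
  (t : B) (ht : t = algebraMap D B τ) (hsm : Algebra.Smooth k (B ⧸ Ideal.span {t}))

include he ht in
theorem t_pow_succ : t ^ (n + 1) = 0 := by
  rw [ht, ← map_pow, tau_pow n τ e he, map_zero]

/-- `1 ⊗ d(t^n g) = (n t^(n-1) g) • (1 ⊗ dt)` in `B/t^n ⊗ Ω`. -/
theorem one_tmul_D_pow_mul (g : B) :
    (1 : (B ⧸ Ideal.span {t ^ n})) ⊗ₜ[B] KaehlerDifferential.D k B (t ^ n * g) =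
      LinearMap.toSpanSingleton (B ⧸ Ideal.span {t ^ n}) ((B ⧸ Ideal.span {t ^ n}) ⊗[B] Ω[B⁄k])
        ((1 : (B ⧸ Ideal.span {t ^ n})) ⊗ₜ[B] KaehlerDifferential.D k B t)
        (Ideal.Quotient.mk _ ((n : B) * t ^ (n - 1) * g)) := by
  have h0 : (t ^ n • (1 : B ⧸ Ideal.span {t ^ n})) = 0 := by
    rw [Algebra.smul_def, mul_one, Ideal.Quotient.algebraMap_eq, Ideal.Quotient.eq_zero_iff_mem]
    exact Ideal.mem_span_singleton_self _
  have h1 : (1 : (B ⧸ Ideal.span {t ^ n})) ⊗ₜ[B] (t ^ n • KaehlerDifferential.D k B g) = 0 := by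
    rw [TensorProduct.tmul_smul, TensorProduct.smul_tmul', h0, TensorProduct.zero_tmul]
  have h2 : g • (n • t ^ (n - 1) • KaehlerDifferential.D k B t) =
      ((n : B) * t ^ (n - 1) * g) • KaehlerDifferential.D k B t := by
    rw [← Nat.cast_smul_eq_nsmul B, smul_smul, smul_smul]
    congr 1
    ring
  rw [LinearMap.toSpanSingleton_apply, Derivation.leibniz, Derivation.leibniz_pow,
    TensorProduct.tmul_add, h1, zero_add, h2, TensorProduct.tmul_smul,
    ← algebraMap_smul (B ⧸ Ideal.span {t ^ n}) ((n : B) * t ^ (n - 1) * g)]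
  rfl

include hn he ht hsm in
theorem eq_zero_of_mk_of_tmul (h : B) (h1 : Ideal.Quotient.mk (Ideal.span {t ^ n}) h = 0)
    (h2 : (1 : (B ⧸ Ideal.span {t ^ n})) ⊗ₜ[B] KaehlerDifferential.D k B h = 0) : h = 0 := by
  rw [Ideal.Quotient.eq_zero_iff_mem, Ideal.mem_span_singleton'] at h1
  obtain ⟨g, rfl⟩ := h1
  rw [mul_comm, one_tmul_D_pow_mul] at h2
  have h3 := injective_toSpanSingleton n τ e he B t ht hsm (h2.trans (map_zero _).symm)
  rw [Ideal.Quotient.eq_zero_iff_mem, Ideal.mem_span_singleton'] at h3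
  obtain ⟨c, hc⟩ := h3
  -- `n` is invertible
  have hnk : (n : k) ≠ 0 := Nat.cast_ne_zero.mpr (by omega)
  have hnB : (algebraMap k B ((n : k)⁻¹)) * (n : B) = 1 := by
    rw [← map_natCast (algebraMap k B), ← map_mul, inv_mul_cancel₀ hnk, map_one]
  have h4 : t ^ (n - 1) * (g - algebraMap k B ((n : k)⁻¹) * c * t) = 0 := by
    have e1 : t ^ (n - 1) * t = t ^ n := by
      rw [← pow_succ, Nat.sub_add_cancel hn]
    calc t ^ (n - 1) * (g - algebraMap k B ((n : k)⁻¹) * c * t)
        = (algebraMap k B ((n : k)⁻¹) * (n : B)) * (t ^ (n - 1) * g)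
            - algebraMap k B ((n : k)⁻¹) * c * (t ^ (n - 1) * t) := by rw [hnB]; ring
      _ = algebraMap k B ((n : k)⁻¹) * ((n : B) * t ^ (n - 1) * g)
            - algebraMap k B ((n : k)⁻¹) * (c * t ^ n) := by rw [e1]; ring
      _ = 0 := by rw [hc]; ring
  obtain ⟨y, hy⟩ := ann_t_pow n τ e he B t ht (n - 1) (by omega) _ h4
  have e2 : n + 1 - (n - 1) = 2 := by omega
  rw [e2] at hy
  have hg : g = t * (algebraMap k B ((n : k)⁻¹) * c + t * y) := by
    have : g = (g - algebraMap k B ((n : k)⁻¹) * c * t) + algebraMap k B ((n : k)⁻¹) * c * t := by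
      ring
    rw [this, hy]
    ring
  rw [hg]
  have := t_pow_succ n τ e he B t ht
  calc t * (algebraMap k B ((n : k)⁻¹) * c + t * y) * t ^ n
      = t ^ (n + 1) * (algebraMap k B ((n : k)⁻¹) * c + t * y) := by ring
    _ = 0 := by rw [this, zero_mul]

include hn he ht hsm in
theorem main838 :
    Function.Injective (fun f : B =>
      ((Ideal.Quotient.mk (Ideal.span {t ^ n}) f,
        (1 : (B ⧸ Ideal.span {t ^ n})) ⊗ₜ[B] KaehlerDifferential.D k B f) :
        (B ⧸ Ideal.span {t ^ n}) × ((B ⧸ Ideal.span {t ^ n}) ⊗[B] Ω[B⁄k]))) ∧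
    Set.range (fun f : B =>
      ((Ideal.Quotient.mk (Ideal.span {t ^ n}) f,
        (1 : (B ⧸ Ideal.span {t ^ n})) ⊗ₜ[B] KaehlerDifferential.D k B f) :
        (B ⧸ Ideal.span {t ^ n}) × ((B ⧸ Ideal.span {t ^ n}) ⊗[B] Ω[B⁄k]))) =
      {p | KaehlerDifferential.D k (B ⧸ Ideal.span {t ^ n}) p.1 =
        KaehlerDifferential.mapBaseChange k B (B ⧸ Ideal.span {t ^ n}) p.2} := by
  constructor
  · intro f g hfg
    simp only [Prod.mk.injEq] at hfg
    obtain ⟨h1, h2⟩ := hfg
    have := eq_zero_of_mk_of_tmul n hn τ e he B t ht hsm (f - g)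
      (by rw [map_sub, h1, sub_self])
      (by rw [map_sub, TensorProduct.tmul_sub, h2, sub_self])
    exact sub_eq_zero.mp this
  · ext p
    simp only [Set.mem_range, Set.mem_setOf_eq]
    constructor
    · rintro ⟨f, rfl⟩
      simp only
      rw [KaehlerDifferential.mapBaseChange_tmul, one_smul, KaehlerDifferential.map_D]
      rfl
    · intro hp
      obtain ⟨g', α⟩ := p
      simp only at hp
      obtain ⟨g, rfl⟩ := Ideal.Quotient.mk_surjective g'
      have h0 : KaehlerDifferential.mapBaseChange k B (B ⧸ Ideal.span {t ^ n})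
          (α - (1 : (B ⧸ Ideal.span {t ^ n})) ⊗ₜ[B] KaehlerDifferential.D k B g) = 0 := by
        rw [map_sub, ← hp, KaehlerDifferential.mapBaseChange_tmul, one_smul,
          KaehlerDifferential.map_D]
        exact sub_self _
      obtain ⟨ξ, hξ⟩ := (KaehlerDifferential.exact_kerCotangentToTensor_mapBaseChange k B
        (B ⧸ Ideal.span {t ^ n}) Ideal.Quotient.mk_surjective _).mp h0
      obtain ⟨x, rfl⟩ := Ideal.toCotangent_surjective _ ξ
      rw [KaehlerDifferential.kerCotangentToTensor_toCotangent] at hξ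
      refine ⟨g + x.1, ?_⟩
      have hx : Ideal.Quotient.mk (Ideal.span {t ^ n}) x.1 = 0 := by
        have := x.2
        rwa [RingHom.mem_ker] at this
      simp only [Prod.mk.injEq]
      refine ⟨by rw [map_add, hx, add_zero], ?_⟩
      rw [map_add, TensorProduct.tmul_add, hξ]
      abel

omit [CharZero k] [Algebra.FiniteType k B] [Module.Flat D B] in
theorem map_map_eq (η : Ω[B⁄k]) :
    KaehlerDifferential.map D D B (B ⧸ Ideal.span {t ^ n}) (KaehlerDifferential.map k D B B η) =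
      KaehlerDifferential.map k D (B ⧸ Ideal.span {t ^ n}) (B ⧸ Ideal.span {t ^ n})
        (KaehlerDifferential.map k k B (B ⧸ Ideal.span {t ^ n}) η) := by
  have hη : η ∈ Submodule.span B (Set.range (KaehlerDifferential.D k B)) := by
    rw [KaehlerDifferential.span_range_derivation]; trivial
  induction hη using Submodule.span_induction with
  | mem x hx =>
    obtain ⟨b, rfl⟩ := hx
    simp only [KaehlerDifferential.map_D]
    rfl
  | zero => simp
  | add x y _ _ hx hy => simp only [map_add, hx, hy]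
  | smul a x _ hx =>
    rw [map_smul, map_smul, map_smul, hx, ← algebraMap_smul (B ⧸ Ideal.span {t ^ n}) a
      (KaehlerDifferential.map k k B (B ⧸ Ideal.span {t ^ n}) x), map_smul, algebraMap_smul]

include hn he ht hsm in
theorem main839 :
    Function.Injective (fun η : Ω[B⁄k] =>
      ((KaehlerDifferential.map k D B B η, (1 : (B ⧸ Ideal.span {t ^ n})) ⊗ₜ[B] η) :
        Ω[B⁄D] × ((B ⧸ Ideal.span {t ^ n}) ⊗[B] Ω[B⁄k]))) ∧
    Set.range (fun η : Ω[B⁄k] =>
      ((KaehlerDifferential.map k D B B η, (1 : (B ⧸ Ideal.span {t ^ n})) ⊗ₜ[B] η) :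
        Ω[B⁄D] × ((B ⧸ Ideal.span {t ^ n}) ⊗[B] Ω[B⁄k]))) =
      {p | KaehlerDifferential.map D D B (B ⧸ Ideal.span {t ^ n}) p.1 =
        KaehlerDifferential.map k D (B ⧸ Ideal.span {t ^ n}) (B ⧸ Ideal.span {t ^ n})
          (KaehlerDifferential.mapBaseChange k B (B ⧸ Ideal.span {t ^ n}) p.2)} := by
  have hσ : ∀ c : B, (1 : (B ⧸ Ideal.span {t ^ n})) ⊗ₜ[B] (c • KaehlerDifferential.D k B t) =
      LinearMap.toSpanSingleton (B ⧸ Ideal.span {t ^ n}) ((B ⧸ Ideal.span {t ^ n}) ⊗[B] Ω[B⁄k])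
        ((1 : (B ⧸ Ideal.span {t ^ n})) ⊗ₜ[B] KaehlerDifferential.D k B t)
        (Ideal.Quotient.mk _ c) := by
    intro c
    rw [LinearMap.toSpanSingleton_apply, TensorProduct.tmul_smul,
      ← algebraMap_smul (B ⧸ Ideal.span {t ^ n}) c]
    rfl
  have hker : ∀ η : Ω[B⁄k], KaehlerDifferential.map k D B B η = 0 →
      (1 : (B ⧸ Ideal.span {t ^ n})) ⊗ₜ[B] η = 0 → η = 0 := by
    intro η h1 h2
    obtain ⟨c, rfl⟩ := (map_eq_zero_iff n τ e he B η).mp h1
    rw [← ht, hσ] at h2
    have h3 := injective_toSpanSingleton n τ e he B t ht hsm (h2.trans (map_zero _).symm)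
    rw [Ideal.Quotient.eq_zero_iff_mem, Ideal.mem_span_singleton'] at h3
    obtain ⟨a, rfl⟩ := h3
    rw [mul_smul, ht, pow_smul_D n τ e he B, smul_zero]
  constructor
  · intro η₁ η₂ h
    simp only [Prod.mk.injEq] at h
    obtain ⟨h1, h2⟩ := h
    have := hker (η₁ - η₂) (by rw [map_sub, h1, sub_self])
      (by rw [TensorProduct.tmul_sub, h2, sub_self])
    exact sub_eq_zero.mp this
  · ext p
    simp only [Set.mem_range, Set.mem_setOf_eq]
    constructor
    · rintro ⟨η, rfl⟩
      simp only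
      rw [KaehlerDifferential.mapBaseChange_tmul, one_smul]
      exact map_map_eq n B t η
    · intro hp
      obtain ⟨α, β⟩ := p
      simp only at hp
      obtain ⟨η₀, rfl⟩ := KaehlerDifferential.map_surjective k D B α
      have h0 : KaehlerDifferential.map k D (B ⧸ Ideal.span {t ^ n}) (B ⧸ Ideal.span {t ^ n})
          (KaehlerDifferential.mapBaseChange k B (B ⧸ Ideal.span {t ^ n})
            (β - (1 : (B ⧸ Ideal.span {t ^ n})) ⊗ₜ[B] η₀)) = 0 := by
        rw [map_sub, map_sub, ← hp, KaehlerDifferential.mapBaseChange_tmul, one_smul,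
          map_map_eq n B t η₀]
        exact sub_self _
      obtain ⟨c', hc'⟩ := (map_eq_zero_iff n τ e he (B ⧸ Ideal.span {t ^ n}) _).mp h0
      obtain ⟨c, rfl⟩ := Ideal.Quotient.mk_surjective c'
      have hDt : KaehlerDifferential.D k (B ⧸ Ideal.span {t ^ n})
          (algebraMap D (B ⧸ Ideal.span {t ^ n}) τ) =
          KaehlerDifferential.mapBaseChange k B (B ⧸ Ideal.span {t ^ n})
            ((1 : (B ⧸ Ideal.span {t ^ n})) ⊗ₜ[B] KaehlerDifferential.D k B t) := by
        rw [KaehlerDifferential.mapBaseChange_tmul, one_smul, KaehlerDifferential.map_D, ht,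
          ← IsScalarTower.algebraMap_apply]
      have h1 : KaehlerDifferential.mapBaseChange k B (B ⧸ Ideal.span {t ^ n})
          (β - (1 : (B ⧸ Ideal.span {t ^ n})) ⊗ₜ[B] η₀ -
            Ideal.Quotient.mk (Ideal.span {t ^ n}) c •
              ((1 : (B ⧸ Ideal.span {t ^ n})) ⊗ₜ[B] KaehlerDifferential.D k B t)) = 0 := by
        rw [map_sub (KaehlerDifferential.mapBaseChange k B (B ⧸ Ideal.span {t ^ n})), hc', map_smul,
          ← hDt, sub_self]
      obtain ⟨ξ, hξ⟩ := (KaehlerDifferential.exact_kerCotangentToTensor_mapBaseChange k B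
        (B ⧸ Ideal.span {t ^ n}) Ideal.Quotient.mk_surjective _).mp h1
      obtain ⟨x, rfl⟩ := Ideal.toCotangent_surjective _ ξ
      rw [KaehlerDifferential.kerCotangentToTensor_toCotangent] at hξ
      have hx : x.1 ∈ Ideal.span {t ^ n} := by
        have h5 : algebraMap B (B ⧸ Ideal.span {t ^ n}) x.1 = 0 := RingHom.mem_ker.mp x.2
        exact Ideal.Quotient.eq_zero_iff_mem.mp h5
      obtain ⟨u, hu⟩ := Ideal.mem_span_singleton'.mp hx
      rw [← hu, mul_comm, one_tmul_D_pow_mul, LinearMap.toSpanSingleton_apply] at hξ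
      refine ⟨η₀ + (c + (n : B) * t ^ (n - 1) * u) • KaehlerDifferential.D k B t, ?_⟩
      simp only [Prod.mk.injEq]
      constructor
      · have hz : KaehlerDifferential.map k D B B (KaehlerDifferential.D k B t) = 0 := by
          rw [KaehlerDifferential.map_D, ht]
          show KaehlerDifferential.D D B (algebraMap D B τ) = 0
          exact Derivation.map_algebraMap _ _
        rw [map_add, map_smul, hz, smul_zero, add_zero]
      · rw [TensorProduct.tmul_add, hσ, LinearMap.toSpanSingleton_apply, map_add, add_smul, hξ]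
        abel

end Bfacts2

end Groth.Agent.Lib.helper10.DefKaehler
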