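import Mathlib
import Groth.Prelude.Def_W4bk4bump814p2PDiff

set_option autoImplicit false

/-!
# Additivity defect of `δ_i(x) = x^(p^i - 1) dx` via Witt addition polynomials
-/

namespace Groth.Agent.Lib.helper10.DeltaA

open MvPolynomial Finset

section Witt

variable (p : ℕ) [hp : Fact p.Prime]

/-- specialisation of the Witt variables: `(b, 0) ↦ X b`, `(b, k+1) ↦ 0` -/
noncomputable def gsp : Fin 2 × ℕ → MvPolynomial (Fin 2) ℤ
  | (b, 0) => X b
  | (_, _ + 1) => 0

/-- the specialised Witt addition polynomials -/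
noncomputable def ss (j : ℕ) : MvPolynomial (Fin 2) ℤ := aeval (gsp) (WittVector.wittAdd p j)

theorem ss_zero : ss p 0 = X 0 + X 1 := by
  unfold ss
  rw [WittVector.wittAdd_zero, map_add, aeval_X, aeval_X]
  rfl

theorem aeval_gsp_witt (b : Fin 2) (n : ℕ) :
    aeval (fun k => gsp (b, k)) (wittPolynomial p ℤ n) = (X b : MvPolynomial (Fin 2) ℤ) ^ p ^ n := by
  rw [aeval_wittPolynomial, Finset.sum_range_succ']
  have : ∀ i ∈ range n, ((p : MvPolynomial (Fin 2) ℤ)) ^ (i + 1) *
      gsp (b, i + 1) ^ p ^ (n - (i + 1)) = 0 := by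
    intro i _
    have : gsp (b, i + 1) = 0 := rfl
    rw [this, zero_pow (pow_pos hp.out.pos _).ne', mul_zero]
  rw [Finset.sum_eq_zero this, zero_add, pow_zero, one_mul, Nat.sub_zero]
  rfl

theorem witt_identity (n : ℕ) :
    (X 0 : MvPolynomial (Fin 2) ℤ) ^ p ^ n + X 1 ^ p ^ n =
      ∑ j ∈ range (n + 1), (p : MvPolynomial (Fin 2) ℤ) ^ j * ss p j ^ p ^ (n - j) := by
  have h := congrArg (aeval gsp) (wittStructureInt_prop p (X 0 + X 1 : MvPolynomial (Fin 2) ℤ) n)
  rw [aeval_bind₁, aeval_bind₁, aeval_wittPolynomial] at h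
  rw [map_add, aeval_X, aeval_X, aeval_rename, aeval_rename] at h
  have e0 : aeval (gsp ∘ Prod.mk (0 : Fin 2)) (wittPolynomial p ℤ n) = (X 0) ^ p ^ n :=
    aeval_gsp_witt p 0 n
  have e1 : aeval (gsp ∘ Prod.mk (1 : Fin 2)) (wittPolynomial p ℤ n) = (X 1) ^ p ^ n :=
    aeval_gsp_witt p 1 n
  rw [e0, e1] at h
  rw [← h]
  rfl

end Witt


section PDeriv

variable (p : ℕ) [hp : Fact p.Prime]

theorem pderiv_identity (b : Fin 2) (n : ℕ) :
    (X b : MvPolynomial (Fin 2) ℤ) ^ (p ^ n - 1) =
      ∑ j ∈ range (n + 1), ss p j ^ (p ^ (n - j) - 1) * pderiv b (ss p j) := by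
  have h := congrArg (pderiv b) (witt_identity p n)
  have hp0 : ((p : MvPolynomial (Fin 2) ℤ)) ^ n ≠ 0 := by
    apply pow_ne_zero
    have e : ((p : ℕ) : MvPolynomial (Fin 2) ℤ) = C (p : ℤ) := by simp
    rw [e, Ne, C_eq_zero]
    exact_mod_cast hp.out.ne_zero
  have hL : pderiv b ((X 0 : MvPolynomial (Fin 2) ℤ) ^ p ^ n + X 1 ^ p ^ n) =
      (p : MvPolynomial (Fin 2) ℤ) ^ n * X b ^ (p ^ n - 1) := by
    rw [map_add, pderiv_pow, pderiv_pow]
    rcases (by decide : ∀ b : Fin 2, b = 0 ∨ b = 1) b with rfl | rfl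
    · rw [pderiv_X_self, pderiv_X_of_ne (by decide : (1 : Fin 2) ≠ 0)]
      push_cast
      ring
    · rw [pderiv_X_self, pderiv_X_of_ne (by decide : (0 : Fin 2) ≠ 1)]
      push_cast
      ring
  have hR : pderiv b (∑ j ∈ range (n + 1), (p : MvPolynomial (Fin 2) ℤ) ^ j *
      ss p j ^ p ^ (n - j)) = (p : MvPolynomial (Fin 2) ℤ) ^ n *
      ∑ j ∈ range (n + 1), ss p j ^ (p ^ (n - j) - 1) * pderiv b (ss p j) := by
    rw [map_sum, Finset.mul_sum]
    refine Finset.sum_congr rfl fun j hj => ?_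
    have hjn : j ≤ n := Nat.lt_succ_iff.mp (Finset.mem_range.mp hj)
    have hc : ((p : MvPolynomial (Fin 2) ℤ)) ^ j = C ((p : ℤ) ^ j) := by
      rw [map_pow, map_natCast]
    rw [hc, pderiv_C_mul, pderiv_pow, ← hc]
    have : (p : MvPolynomial (Fin 2) ℤ) ^ n = (p : MvPolynomial (Fin 2) ℤ) ^ j * p ^ (n - j) := by
      rw [← pow_add, Nat.add_sub_cancel' hjn]
    rw [this]
    push_cast
    ring
  rw [hL, hR] at h
  exact mul_left_cancel₀ hp0 h

end PDeriv

section Chain

variable (K : Type*) (A : Type*) [CommRing K] [CommRing A] [Algebra K A]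

theorem chain_rule (x y : A) (f : MvPolynomial (Fin 2) ℤ) :
    KaehlerDifferential.D K A (aeval ![x, y] f) =
      aeval ![x, y] (pderiv 0 f) • KaehlerDifferential.D K A x +
      aeval ![x, y] (pderiv 1 f) • KaehlerDifferential.D K A y := by
  induction f using MvPolynomial.induction_on with
  | C a =>
    rw [pderiv_C, pderiv_C, map_zero, zero_smul, zero_smul, add_zero]
    have : aeval ![x, y] (C a : MvPolynomial (Fin 2) ℤ) = (a : A) := by
      rw [aeval_C]; simp
    rw [this, Derivation.map_intCast]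
  | add f g hf hg =>
    simp only [map_add, hf, hg, add_smul]
    abel
  | mul_X f i hf =>
    rw [map_mul, Derivation.leibniz, hf, pderiv_mul, pderiv_mul, map_add, map_add, map_mul,
      map_mul, map_mul, map_mul, aeval_X]
    fin_cases i
    · simp only [Fin.zero_eta, Fin.isValue, Matrix.cons_val_zero, pderiv_X_self, map_one, mul_one]
      rw [pderiv_X_of_ne (by decide : (0 : Fin 2) ≠ 1), map_zero, mul_zero, add_zero]
      simp only [smul_add, smul_smul, add_smul]
      have e1 : x * (aeval ![x, y]) ((pderiv 0) f) = (aeval ![x, y]) ((pderiv 0) f) * x :=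
        mul_comm _ _
      have e2 : x * (aeval ![x, y]) ((pderiv 1) f) = (aeval ![x, y]) ((pderiv 1) f) * x :=
        mul_comm _ _
      rw [e1, e2]
      abel
    · simp only [Fin.mk_one, Fin.isValue, Matrix.cons_val_one, Matrix.cons_val_zero,
        pderiv_X_self, map_one, mul_one]
      rw [pderiv_X_of_ne (by decide : (1 : Fin 2) ≠ 0), map_zero, mul_zero, add_zero]
      simp only [smul_add, smul_smul, add_smul]
      have e1 : y * (aeval ![x, y]) ((pderiv 0) f) = (aeval ![x, y]) ((pderiv 0) f) * y :=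
        mul_comm _ _
      have e2 : y * (aeval ![x, y]) ((pderiv 1) f) = (aeval ![x, y]) ((pderiv 1) f) * y :=
        mul_comm _ _
      rw [e1, e2]
      abel

end Chain


section Delta

open W4bk4bump814p2

universe u v

variable (K : Type u) (A : Type v) [Field K] (p : ℕ) [hp : Fact p.Prime] [CharP K p] [CommRing A]
  [Algebra K A]

include K in
theorem neg_one_pow_sub_one (k : ℕ) : ((-1 : A)) ^ (p ^ k - 1) = 1 := by
  have hK : ((-1 : K)) ^ (p ^ k - 1) = 1 := by
    have h1 : ((-1 : K)) ^ (p ^ k) = -1 := neg_one_pow_char_pow K p k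
    have hpos : 1 ≤ p ^ k := Nat.one_le_pow _ _ hp.out.pos
    have h2 : ((-1 : K)) ^ (p ^ k) = (-1) ^ (p ^ k - 1) * (-1) := by
      rw [← pow_succ, Nat.sub_add_cancel hpos]
    rw [h1] at h2
    have h3 : ((-1 : K)) ^ (p ^ k - 1) * (-1) = 1 * (-1) := by rw [← h2]; ring
    exact mul_right_cancel₀ (by norm_num) h3
  have := congrArg (algebraMap K A) hK
  rwa [map_pow, map_neg, map_one] at this

theorem delta_neg (k : ℕ) (t : A) : delta K A p k (-t) = -delta K A p k t := by
  unfold delta
  rw [neg_pow, neg_one_pow_sub_one K A p k, one_mul, map_neg, smul_neg]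

theorem delta_zero_arg (k : ℕ) : delta K A p k (0 : A) = 0 := by
  unfold delta
  rw [map_zero, smul_zero]

theorem delta_sum (x y : A) (n : ℕ) :
    ∑ j ∈ range (n + 1), delta K A p (n - j) (aeval ![x, y] (ss p j)) =
      delta K A p n x + delta K A p n y := by
  have e : ∀ j ∈ range (n + 1), delta K A p (n - j) (aeval ![x, y] (ss p j)) =
      aeval ![x, y] (ss p j ^ (p ^ (n - j) - 1) * pderiv 0 (ss p j)) •
        KaehlerDifferential.D K A x +
      aeval ![x, y] (ss p j ^ (p ^ (n - j) - 1) * pderiv 1 (ss p j)) •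
        KaehlerDifferential.D K A y := by
    intro j _
    unfold delta
    rw [chain_rule K A x y (ss p j), smul_add, smul_smul, smul_smul, map_mul, map_mul, map_pow]
  rw [Finset.sum_congr rfl e, Finset.sum_add_distrib, ← Finset.sum_smul, ← Finset.sum_smul,
    ← map_sum, ← map_sum, ← pderiv_identity p 0 n, ← pderiv_identity p 1 n]
  unfold delta
  rw [map_pow, map_pow, aeval_X, aeval_X]
  rfl

theorem mem_sigma_iff (i : ℕ) : ∀ ω : Ω[A⁄K],
    ω ∈ sigma K A p i ↔ ∃ z : ℕ → A, ω = ∑ k ∈ range i, delta K A p k (z k) := by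
  induction i with
  | zero =>
    intro ω
    simp only [sigma_zero, Set.mem_singleton_iff, Finset.range_zero, Finset.sum_empty]
    exact ⟨fun h => ⟨fun _ => 0, h⟩, fun ⟨_, h⟩ => h⟩
  | succ i ih =>
    intro ω
    rw [mem_sigma_succ]
    constructor
    · rintro ⟨x, hx⟩
      obtain ⟨z, hz⟩ := (ih _).mp hx
      refine ⟨Function.update z i x, ?_⟩
      rw [Finset.sum_range_succ, Function.update_self]
      have : ∑ k ∈ range i, delta K A p k (Function.update z i x k) =
          ∑ k ∈ range i, delta K A p k (z k) := by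
        refine Finset.sum_congr rfl fun k hk => ?_
        rw [Function.update_of_ne (Finset.mem_range.mp hk).ne]
      rw [this, ← hz]
      abel
    · rintro ⟨z, hz⟩
      refine ⟨z i, (ih _).mpr ⟨z, ?_⟩⟩
      rw [hz, Finset.sum_range_succ]
      abel

theorem defect_mem (n : ℕ) (x y : A) :
    delta K A p n (x + y) - delta K A p n x - delta K A p n y ∈ sigma K A p n := by
  rw [mem_sigma_iff]
  have h := delta_sum K A p x y n
  rw [Finset.sum_range_succ', Nat.sub_zero, ss_zero, map_add, aeval_X, aeval_X] at h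
  have hx : (![x, y] : Fin 2 → A) 0 = x := rfl
  have hy : (![x, y] : Fin 2 → A) 1 = y := rfl
  rw [hx, hy] at h
  refine ⟨fun k => -aeval ![x, y] (ss p (n - k)), ?_⟩
  have h1 : ∑ k ∈ range n, delta K A p k (-aeval ![x, y] (ss p (n - k))) =
      -∑ k ∈ range n, delta K A p k (aeval ![x, y] (ss p (n - k))) := by
    rw [← Finset.sum_neg_distrib]
    exact Finset.sum_congr rfl fun k _ => delta_neg K A p k _
  have h2 : ∑ j ∈ range n, delta K A p (n - (j + 1)) (aeval ![x, y] (ss p (j + 1))) =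
      ∑ k ∈ range n, delta K A p k (aeval ![x, y] (ss p (n - k))) := by
    rw [← Finset.sum_range_reflect (fun k => delta K A p k (aeval ![x, y] (ss p (n - k)))) n]
    refine Finset.sum_congr rfl fun j hj => ?_
    have hj' := Finset.mem_range.mp hj
    have e1 : n - 1 - j = n - (j + 1) := by omega
    have e2 : n - (n - (j + 1)) = j + 1 := by omega
    show _ = delta K A p (n - 1 - j) (aeval ![x, y] (ss p (n - (n - 1 - j))))
    rw [e1, e2]
  rw [h1, ← h2]
  have h' : delta K A p n (x + y) = delta K A p n x + delta K A p n y -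
      ∑ j ∈ range n, delta K A p (n - (j + 1)) (aeval ![x, y] (ss p (j + 1))) := by
    rw [← h]; abel
  rw [h']
  abel

end Delta

end Groth.Agent.Lib.helper10.DeltaA
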