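import Mathlib
import Groth.Agent.Lib.helper10.DeltaA
import Groth.Agent.S12626

set_option autoImplicit false

/-!
# The sets `Σ^i` are `K`-submodules generated by the `δ_j(x)`, `j < i`
-/

namespace Groth.Agent.Lib.helper10.DeltaB

open Finset W4bk4bump814p2 Groth.Agent.Lib.helper10.DeltaA

universe u v

variable (K : Type u) (A : Type v) [Field K] (p : ℕ) [hp : Fact p.Prime] [CharP K p] [CommRing A]
  [Algebra K A]

theorem zero_mem (i : ℕ) : (0 : Ω[A⁄K]) ∈ sigma K A p i := by
  rw [mem_sigma_iff]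
  exact ⟨fun _ => 0, by simp [delta_zero_arg]⟩

theorem neg_mem (i : ℕ) (ω : Ω[A⁄K]) (h : ω ∈ sigma K A p i) : -ω ∈ sigma K A p i := by
  rw [mem_sigma_iff] at h ⊢
  obtain ⟨z, rfl⟩ := h
  refine ⟨fun k => -z k, ?_⟩
  rw [← Finset.sum_neg_distrib]
  exact Finset.sum_congr rfl fun k _ => (delta_neg K A p k _).symm

theorem add_mem (i : ℕ) : ∀ (ω ω' : Ω[A⁄K]), ω ∈ sigma K A p i → ω' ∈ sigma K A p i →
    ω + ω' ∈ sigma K A p i := by
  induction i with
  | zero =>
    intro ω ω' h h'
    simp only [sigma_zero, Set.mem_singleton_iff] at h h' ⊢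
    rw [h, h', add_zero]
  | succ i ih =>
    intro ω ω' h h'
    rw [mem_sigma_succ] at h h' ⊢
    obtain ⟨x, hx⟩ := h
    obtain ⟨x', hx'⟩ := h'
    refine ⟨x + x', ?_⟩
    have e : ω + ω' - delta K A p i (x + x') = (ω - delta K A p i x) + (ω' - delta K A p i x') +
        -(delta K A p i (x + x') - delta K A p i x - delta K A p i x') := by abel
    rw [e]
    exact ih _ _ (ih _ _ hx hx') (neg_mem K A p i _ (defect_mem K A p i x x'))

theorem sigma_mono (i : ℕ) : sigma K A p i ⊆ sigma K A p (i + 1) := by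
  intro ω h
  rw [mem_sigma_succ]
  exact ⟨0, by rw [delta_zero_arg, sub_zero]; exact h⟩

theorem sigma_mono' {i j : ℕ} (hij : i ≤ j) : sigma K A p i ⊆ sigma K A p j := by
  induction hij with
  | refl => exact subset_rfl
  | step _ ih => exact ih.trans (sigma_mono K A p _)

theorem delta_mem {i j : ℕ} (hji : j < i) (x : A) : delta K A p j x ∈ sigma K A p i := by
  apply sigma_mono' K A p (Nat.succ_le_of_lt hji)
  rw [mem_sigma_succ]
  exact ⟨x, by rw [sub_self]; exact zero_mem K A p j⟩

/-- `Σ^i` as an additive subgroup -/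
def sigmaSubgroup (i : ℕ) : AddSubgroup (Ω[A⁄K]) where
  carrier := sigma K A p i
  add_mem' := fun {a b} ha hb => add_mem K A p i a b ha hb
  zero_mem' := zero_mem K A p i
  neg_mem' := fun {a} ha => neg_mem K A p i a ha

theorem sigma_eq_closure (i : ℕ) :
    sigma K A p i =
      (AddSubgroup.closure (⋃ j ∈ Finset.range i, Set.range (delta K A p j)) :
        Set (Ω[A⁄K])) := by
  apply Set.Subset.antisymm
  · intro ω h
    rw [mem_sigma_iff] at h
    obtain ⟨z, rfl⟩ := h
    refine AddSubgroup.sum_mem _ fun k hk => AddSubgroup.subset_closure ?_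
    simp only [Set.mem_iUnion, Set.mem_range]
    exact ⟨k, hk, z k, rfl⟩
  · have : AddSubgroup.closure (⋃ j ∈ Finset.range i, Set.range (delta K A p j)) ≤
        sigmaSubgroup K A p i := by
      rw [AddSubgroup.closure_le]
      intro ω h
      simp only [Set.mem_iUnion, Set.mem_range] at h
      obtain ⟨j, hj, x, rfl⟩ := h
      exact delta_mem K A p (Finset.mem_range.mp hj) x
    exact this

theorem smul_mem [PerfectField K] (i : ℕ) (c : K) (ω : Ω[A⁄K]) (h : ω ∈ sigma K A p i) :
    c • ω ∈ sigma K A p i := by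
  haveI : ExpChar K p := ExpChar.prime hp.out
  haveI : PerfectRing K p := PerfectField.toPerfectRing p
  rw [mem_sigma_iff] at h ⊢
  obtain ⟨z, rfl⟩ := h
  have key : ∀ k : ℕ, ∃ e : K, e ^ p ^ (k + 1) = c := fun k =>
    ⟨(iterateFrobeniusEquiv K p (k + 1)).symm c, by
      rw [← iterateFrobeniusEquiv_def, RingEquiv.apply_symm_apply]⟩
  choose e he using key
  refine ⟨fun k => (algebraMap K A (e k)) ^ p * z k, ?_⟩
  rw [Finset.smul_sum]
  refine Finset.sum_congr rfl fun k _ => ?_
  rw [Groth.Agent.S12626.delta_pow_mul, ← map_pow, he k, algebraMap_smul]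

/-- `Σ^i` as a `K`-submodule -/
def sigmaSubmodule [PerfectField K] (i : ℕ) : Submodule K (Ω[A⁄K]) where
  carrier := sigma K A p i
  add_mem' := fun {a b} ha hb => add_mem K A p i a b ha hb
  zero_mem' := zero_mem K A p i
  smul_mem' := fun c a ha => smul_mem K A p i c a ha

end Groth.Agent.Lib.helper10.DeltaB
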