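import Mathlib

set_option autoImplicit false
universe u
open scoped TensorProduct

namespace H10S5135

variable (A A' : Type u) [CommRing A] [CommRing A'] [Algebra A A']
  (M : Type u) [AddCommGroup M] [Module A M] (N' : Submodule A' (A' ⊗[A] M))

/-- `Φ₂ : (A' ⊗ A') ⊗ M → A' ⊗ (A'⊗M)/N'`, `(a⊗b)⊗m ↦ a ⊗ [b⊗m]`. -/
noncomputable def Phi : (A' ⊗[A] A') ⊗[A] M →ₗ[A] A' ⊗[A] ((A' ⊗[A] M) ⧸ N') :=
  (LinearMap.lTensor A' (N'.mkQ.restrictScalars A)) ∘ₗ
    (TensorProduct.assoc A A' A' M).toLinearMap

lemma Phi_tmul (a b : A') (m : M) :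
    Phi A A' M N' ((a ⊗ₜ[A] b) ⊗ₜ[A] m) = a ⊗ₜ[A] (N'.mkQ (b ⊗ₜ[A] m)) := by
  simp [Phi]

/-- key vanishing -/
lemma Phi_smul_e2 (r : A' ⊗[A] A') (n : A' ⊗[A] M) (hn : n ∈ N') :
    Phi A A' M N' (r • ((Algebra.TensorProduct.includeRight : A' →ₐ[A] A' ⊗[A] A').toLinearMap.rTensor M n)) = 0 := by
  induction r using TensorProduct.induction_on with
  | zero => simp
  | add r s hr hs => rw [add_smul, map_add, hr, hs, add_zero]
  | tmul a b =>
    -- as linear maps in n
    have key : ∀ n : A' ⊗[A] M,
        Phi A A' M N' ((a ⊗ₜ[A] b) • ((Algebra.TensorProduct.includeRight :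
          A' →ₐ[A] A' ⊗[A] A').toLinearMap.rTensor M n)) = a ⊗ₜ[A] (N'.mkQ (b • n)) := by
      intro n
      induction n using TensorProduct.induction_on with
      | zero => simp
      | add x y hx hy => simp only [map_add, smul_add, hx, hy, TensorProduct.tmul_add]
      | tmul c m =>
        simp only [LinearMap.rTensor_tmul, AlgHom.toLinearMap_apply,
          Algebra.TensorProduct.includeRight_apply]
        rw [TensorProduct.smul_tmul', smul_eq_mul, Algebra.TensorProduct.tmul_mul_tmul, mul_one,
          Phi_tmul, TensorProduct.smul_tmul', smul_eq_mul]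
    rw [key]
    have : N'.mkQ (b • n) = 0 := by
      rw [Submodule.mkQ_apply, Submodule.Quotient.mk_eq_zero]
      exact N'.smul_mem b hn
    rw [this, TensorProduct.tmul_zero]

end H10S5135

namespace H10S5135

variable (A A' : Type u) [CommRing A] [CommRing A'] [Algebra A A'] [Module.Flat A A']
  (M : Type u) [AddCommGroup M] [Module A M] (N' : Submodule A' (A' ⊗[A] M))

theorem main
    (h : Submodule.span (A' ⊗[A] A')
          ((N'.restrictScalars A).map
            ((Algebra.TensorProduct.includeLeft : A' →ₐ[A] A' ⊗[A] A').toLinearMap.rTensor M) : Set ((A' ⊗[A] A') ⊗[A] M)) =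
        Submodule.span (A' ⊗[A] A')
          ((N'.restrictScalars A).map
            ((Algebra.TensorProduct.includeRight : A' →ₐ[A] A' ⊗[A] A').toLinearMap.rTensor M) : Set ((A' ⊗[A] A') ⊗[A] M))) :
    ((N'.restrictScalars A).comap (TensorProduct.mk A A' M 1)).baseChange A' = N' := by
  set N : Submodule A M := (N'.restrictScalars A).comap (TensorProduct.mk A A' M 1) with hN
  apply le_antisymm
  · rw [Submodule.baseChange_eq_span, Submodule.span_le]
    rintro _ ⟨m, hm, rfl⟩
    exact hm
  · intro x hx
    -- φ : M → Q'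
    let φ : M →ₗ[A] ((A' ⊗[A] M) ⧸ N') := (N'.mkQ.restrictScalars A) ∘ₗ (TensorProduct.mk A A' M 1)
    have hker : LinearMap.ker φ = N := by
      ext m
      simp only [φ, LinearMap.mem_ker, LinearMap.comp_apply, LinearMap.restrictScalars_apply,
        Submodule.mkQ_apply, Submodule.Quotient.mk_eq_zero, hN, Submodule.mem_comap,
        Submodule.restrictScalars_mem]
    have hex : Function.Exact N.subtype φ := by
      rw [← hker]
      exact LinearMap.exact_subtype_ker_map φ
    have hex' := Module.Flat.lTensor_exact A' hex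
    -- the submodule K of elements killed by Phi after any scalar
    let K : Submodule (A' ⊗[A] A') ((A' ⊗[A] A') ⊗[A] M) :=
      { carrier := {y | ∀ r : A' ⊗[A] A', Phi A A' M N' (r • y) = 0}
        add_mem' := fun {y z} hy hz r => by rw [smul_add, map_add, hy r, hz r, add_zero]
        zero_mem' := fun r => by rw [smul_zero, map_zero]
        smul_mem' := fun s y hy r => by rw [smul_smul]; exact hy _ }
    have hK2 : Submodule.span (A' ⊗[A] A')
          ((N'.restrictScalars A).map
            ((Algebra.TensorProduct.includeRight : A' →ₐ[A] A' ⊗[A] A').toLinearMap.rTensor M) : Set ((A' ⊗[A] A') ⊗[A] M)) ≤ K := by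
      rw [Submodule.span_le]
      rintro _ ⟨n, hn, rfl⟩ r
      exact Phi_smul_e2 A A' M N' r n hn
    have hx1 : ((Algebra.TensorProduct.includeLeft : A' →ₐ[A] A' ⊗[A] A').toLinearMap.rTensor M) x ∈ K := by
      apply hK2
      rw [← h]
      exact Submodule.subset_span ⟨x, hx, rfl⟩
    have hx2 := hx1 1
    rw [one_smul] at hx2
    -- Phi ∘ e1 = lTensor φ
    have hcomp : ∀ x : A' ⊗[A] M,
        Phi A A' M N' (((Algebra.TensorProduct.includeLeft : A' →ₐ[A] A' ⊗[A] A').toLinearMap.rTensor M) x)
          = LinearMap.lTensor A' φ x := by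
      intro x
      induction x using TensorProduct.induction_on with
      | zero => simp
      | add x y hx hy => simp only [map_add, hx, hy]
      | tmul c m =>
        simp only [LinearMap.rTensor_tmul, AlgHom.toLinearMap_apply,
          Algebra.TensorProduct.includeLeft_apply, Phi_tmul, LinearMap.lTensor_tmul, φ,
          LinearMap.comp_apply, LinearMap.restrictScalars_apply, TensorProduct.mk_apply]
    rw [hcomp] at hx2
    obtain ⟨y, hy⟩ := (hex' x).1 hx2
    rw [Submodule.baseChange]
    refine ⟨y, ?_⟩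
    rw [← hy, ← LinearMap.baseChange_eq_ltensor]

end H10S5135
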