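import Mathlib
import Groth.Prelude.Def_Disc
import Groth.Prelude.Def_Fitting
import Groth.Agent.Lib.Helper7.NoetherOpenImm
import Groth.Agent.Lib.Helper23.Fitting7

/-!
# Noether different and Kähler different under localization / isomorphism
-/

set_option autoImplicit false
universe u
open TensorProduct

namespace Groth.Agent.Lib.helper10.DiffLocal

section Fitt

variable {A B C : Type u} [CommRing A] [CommRing B] [CommRing C] [Algebra A B] [Algebra A C]
  [Algebra B C] [IsScalarTower A B C]

theorem fitt_omega_map [Algebra.FiniteType A B] [Algebra.FormallyEtale B C] :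
    Fitt.ideal C (Ω[C⁄A]) 0 = (Fitt.ideal B (Ω[B⁄A]) 0).map (algebraMap B C) := by
  rw [← Helper23.Fit.ideal_baseChange (R' := C) (M := Ω[B⁄A]) 0]
  exact (Helper23.Fit.ideal_congr
    (KaehlerDifferential.tensorKaehlerEquivOfFormallyEtale A B C) 0).symm

theorem noether_map [Algebra.FiniteType A B] [Module.Flat B C]
    (hepi : ∀ (Q : Type u) [CommRing Q] (g h : C →+* Q),
      g.comp (algebraMap B C) = h.comp (algebraMap B C) → g = h) :
    Disc.noetherDifferent A C = (Disc.noetherDifferent A B).map (algebraMap B C) :=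
  Groth.Agent.Lib.Helper7.NoetherOI.noetherDifferent_eq inferInstance hepi

/-- localization -/
theorem noether_map_away [Algebra.FiniteType A B] (g : B) [IsLocalization.Away g C] :
    Disc.noetherDifferent A C = (Disc.noetherDifferent A B).map (algebraMap B C) := by
  haveI : Module.Flat B C := IsLocalization.flat C (Submonoid.powers g)
  refine noether_map ?_
  intro Q _ g' h' hgh
  exact IsLocalization.ringHom_ext (Submonoid.powers g) hgh

theorem fitt_omega_map_away [Algebra.FiniteType A B] (g : B) [IsLocalization.Away g C] :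
    Fitt.ideal C (Ω[C⁄A]) 0 = (Fitt.ideal B (Ω[B⁄A]) 0).map (algebraMap B C) := by
  haveI : Algebra.FormallyEtale B C := Algebra.FormallyEtale.of_isLocalization (Submonoid.powers g)
  exact fitt_omega_map

/-- bijective structure map -/
theorem noether_map_bij [Algebra.FiniteType A B] (hb : Function.Bijective (algebraMap B C)) :
    Disc.noetherDifferent A C = (Disc.noetherDifferent A B).map (algebraMap B C) := by
  haveI : Module.Flat B C :=
    Module.Flat.of_linearEquiv (LinearEquiv.ofBijective (Algebra.linearMap B C) hb).symm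
  refine noether_map ?_
  intro Q _ g' h' hgh
  ext c
  obtain ⟨b, rfl⟩ := hb.2 c
  exact RingHom.congr_fun hgh b

theorem fitt_omega_map_bij [Algebra.FiniteType A B] (hb : Function.Bijective (algebraMap B C)) :
    Fitt.ideal C (Ω[C⁄A]) 0 = (Fitt.ideal B (Ω[B⁄A]) 0).map (algebraMap B C) := by
  haveI : Algebra.FormallyEtale B C :=
    Algebra.FormallyEtale.of_equiv (AlgEquiv.ofBijective (Algebra.ofId B C) hb)
  exact fitt_omega_map

end Fitt

section Local

variable {B : Type u} [CommRing B]

theorem le_of_locally (I J : Ideal B)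
    (h : ∀ q : Ideal B, q.IsPrime → ∃ g : B, g ∉ q ∧
      I.map (algebraMap B (Localization.Away g)) ≤ J.map (algebraMap B (Localization.Away g))) :
    I ≤ J := by
  intro x hx
  by_contra hxJ
  -- the colon ideal `(J : x)` is proper
  let K : Ideal B := J.colon (Ideal.span {x})
  have hK : K ≠ ⊤ := by
    intro hK
    have h1 : (1 : B) ∈ K := by rw [hK]; trivial
    rw [Submodule.mem_colon] at h1
    exact hxJ (by simpa using h1 x (Ideal.mem_span_singleton_self x))
  obtain ⟨q, hq, hKq⟩ := Ideal.exists_le_maximal K hK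
  obtain ⟨g, hg, hle⟩ := h q hq.isPrime
  have h2 : algebraMap B (Localization.Away g) x ∈ J.map (algebraMap B (Localization.Away g)) :=
    hle (Ideal.mem_map_of_mem _ hx)
  rw [IsLocalization.mem_map_algebraMap_iff (Submonoid.powers g)] at h2
  obtain ⟨⟨⟨j, hj⟩, ⟨s, hs⟩⟩, h3⟩ := h2
  rw [← map_mul] at h3
  obtain ⟨⟨c, hc⟩, h4⟩ := (IsLocalization.eq_iff_exists (Submonoid.powers g) _).mp h3
  simp only at h4
  -- `c * s * x ∈ J`
  have h5 : c * s ∈ K := by
    rw [Submodule.mem_colon]
    intro y hy
    obtain ⟨b, rfl⟩ := Ideal.mem_span_singleton'.mp hy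
    have : c * s • (b * x) = b * (c * j) := by
      rw [smul_eq_mul, ← h4]; ring
    rw [smul_eq_mul] at this ⊢
    have h6 : c * s * (b * x) = b * (c * j) := by rw [← h4]; ring
    rw [h6]
    exact J.mul_mem_left _ (J.mul_mem_left _ hj)
  have h7 : c * s ∈ q := hKq h5
  obtain ⟨k, rfl⟩ := hc
  obtain ⟨m, rfl⟩ := hs
  rw [← pow_add] at h7
  exact hg (hq.isPrime.mem_of_pow_mem _ h7)

theorem eq_of_locally (I J : Ideal B)
    (h : ∀ q : Ideal B, q.IsPrime → ∃ g : B, g ∉ q ∧
      I.map (algebraMap B (Localization.Away g)) = J.map (algebraMap B (Localization.Away g))) :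
    I = J :=
  le_antisymm (le_of_locally I J fun q hq => (h q hq).imp fun _ hg => ⟨hg.1, hg.2.le⟩)
    (le_of_locally J I fun q hq => (h q hq).imp fun _ hg => ⟨hg.1, hg.2.ge⟩)

end Local

end Groth.Agent.Lib.helper10.DiffLocal
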