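import Mathlib
import Groth.Prelude.Def_PP16
import Groth.Agent.Lib.helper10.DiffSm

/-!
# Differentially smooth algebras with a basis of differentials: polynomial description of
the principal parts
-/

set_option autoImplicit false
set_option linter.unusedVariables false
set_option linter.style.haveILetI false
set_option linter.unusedSectionVars false

namespace Groth.Agent.Lib.helper10.DiffSmBasis

open TensorProduct SymmetricPower PP16 Pointwise MvPolynomial
open Groth.Agent.Lib.helper10.SymPow Groth.Agent.Lib.helper10.SymPowGr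
open Groth.Agent.Lib.helper10.DiffSm

universe u

variable (A B : Type u) [CommRing A] [CommRing B] [Algebra A B]

lemma symToGrI_injective_of_isDiffSmooth (h : IsDiffSmooth A B) (ι : Type u) [Fintype ι] :
    Function.Injective (symToGrI A B ι) := by
  obtain ⟨φ, hφ, hbij⟩ := h.2 ι
  have : φ = symToGrI A B ι := by
    apply SymPow.hom_ext_of_span (Set.range (KaehlerDifferential.D A B))
      (KaehlerDifferential.span_range_derivation A B)
    intro v hv
    choose b hb using hv
    have hv' : v = fun i => KaehlerDifferential.D A B (b i) := funext fun i => (hb i).symm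
    rw [hv', hφ, symToGrI_tprod_D]
  rw [← this]; exact hbij.1

section family

variable {κ : Type*} (w : κ → ↥(KaehlerDifferential.ideal A B))

/-- evaluation of polynomials at a family of elements of `I` -/
noncomputable def evw : MvPolynomial κ B →ₐ[B] B ⊗[A] B :=
  aeval (fun k => (w k : B ⊗[A] B))

lemma evw_X (k : κ) : evw A B w (X k) = (w k : B ⊗[A] B) := by
  rw [evw, aeval_X]

lemma evw_C (c : B) : evw A B w (C c) = c ⊗ₜ[A] (1 : B) := by
  rw [evw, aeval_C, Algebra.TensorProduct.algebraMap_apply]
  rfl

lemma evw_mem_pow (j : ℕ) (P : MvPolynomial κ B) (hP : P ∈ idealOfVars κ B ^ j) :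
    evw A B w P ∈ KaehlerDifferential.ideal A B ^ j := by
  have h1 : (idealOfVars κ B).map (evw A B w) ≤ KaehlerDifferential.ideal A B := by
    rw [idealOfVars, Ideal.map_span, Ideal.span_le]
    rintro _ ⟨_, ⟨k, rfl⟩, rfl⟩
    change evw A B w (X k) ∈ _
    rw [evw_X]
    exact (w k).2
  have h2 : evw A B w P ∈ ((idealOfVars κ B).map (evw A B w)) ^ j := by
    rw [← Ideal.map_pow]
    exact Ideal.mem_map_of_mem _ hP
  exact Ideal.pow_right_mono h1 j h2

variable (ι : Type u) [Fintype ι]

lemma symToGrI_monoMap_monomial (d : κ →₀ ℕ) (hd : d.degree = Fintype.card ι) (c : B) :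
    ∃ hy, symToGrI A B ι (monoMap ι (fun k => piI A B (w k)) (monomial d c)) =
      cl A B _ (evw A B w (monomial d c)) hy := by
  have h1 : monoMap ι (fun k => piI A B (w k)) (monomial d c) = c • SymmetricPower.tprod B
      (fun i => piI A B (w (chooseMap ι d hd i))) := by
    rw [monoMap_monomial (fun k => piI A B (w k)) d hd c]
  have h2 : evw A B w (monomial d c) =
      (c ⊗ₜ[A] (1 : B)) * ∏ i, (w (chooseMap ι d hd i) : B ⊗[A] B) := by
    have : (monomial d c : MvPolynomial κ B) = C c * ∏ i, X (chooseMap ι d hd i) := by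
      rw [prod_X_eq, typ_chooseMap, C_mul_monomial, mul_one]
    rw [this, map_mul, evw_C, map_prod]
    simp_rw [evw_X]
  refine ⟨h2 ▸ Ideal.mul_mem_left _ _ (prod_mem_pow_card _ ι _), ?_⟩
  rw [h1, map_smul, symToGrI_tprod, ← cl_smul]
  exact cl_congr A B _ h2.symm _

lemma symToGrI_monoMap (Q : MvPolynomial κ B) (hQ : Q.IsHomogeneous (Fintype.card ι)) :
    ∃ hy, symToGrI A B ι (monoMap ι (fun k => piI A B (w k)) Q) =
      cl A B _ (evw A B w Q) hy := by
  classical
  have hdeg : ∀ d ∈ Q.support, d.degree = Fintype.card ι := by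
    intro d hd
    rw [Finsupp.degree_eq_weight_one]
    exact hQ (MvPolynomial.mem_support_iff.mp hd)
  have key := Finset.sum_induction (s := Q.support) (fun d => monomial d (coeff d Q))
    (fun P : MvPolynomial κ B => ∃ hy,
      symToGrI A B ι (monoMap ι (fun k => piI A B (w k)) P) = cl A B _ (evw A B w P) hy)
    (by
      rintro P₁ P₂ ⟨hy₁, h₁⟩ ⟨hy₂, h₂⟩
      refine ⟨by rw [map_add]; exact Ideal.add_mem _ hy₁ hy₂, ?_⟩
      rw [map_add, map_add, h₁, h₂, ← cl_add]
      exact cl_congr A B _ (map_add _ _ _).symm _)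
    ⟨by rw [map_zero]; exact zero_mem _, by
      rw [map_zero, map_zero]; symm; rw [cl_eq_zero_iff]; rw [map_zero]; exact zero_mem _⟩
    (fun d hd => symToGrI_monoMap_monomial A B w ι d (hdeg d hd) _)
  rwa [← Q.as_sum] at key

end family

section basis

variable {κ : Type*} (w : κ → ↥(KaehlerDifferential.ideal A B))
  (b : Module.Basis κ B Ω[B⁄A]) (hw : ∀ k, piI A B (w k) = b k) (h : IsDiffSmooth A B)

include hw h in
/-- graded injectivity -/
lemma eq_zero_of_evw_mem (n : ℕ) (Q : MvPolynomial κ B) (hQ : Q.IsHomogeneous n)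
    (hev : evw A B w Q ∈ KaehlerDifferential.ideal A B ^ (n + 1)) : Q = 0 := by
  classical
  let ι : Type u := ULift.{u} (Fin n)
  have hcard : Fintype.card ι = n := by simp [ι]
  have hQ' : Q.IsHomogeneous (Fintype.card ι) := by rwa [hcard]
  have hev' : evw A B w Q ∈ KaehlerDifferential.ideal A B ^ (Fintype.card ι + 1) := by rwa [hcard]
  obtain ⟨hy, e⟩ := symToGrI_monoMap A B w ι Q hQ'
  rw [(cl_eq_zero_iff A B _ _ hy).mpr hev', ← map_zero (symToGrI A B ι)] at e
  have e2 := symToGrI_injective_of_isDiffSmooth A B h ι e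
  have hb : (fun k => piI A B (w k)) = ⇑b := funext hw
  rw [hb] at e2
  have := toPolyB_monoMap (ι := ι) b Q hQ'
  rw [e2, map_zero] at this
  exact this.symm

include hw h in
lemma eq_zero_of_evw_mem_of_degree_le (m : ℕ) (Q : MvPolynomial κ B)
    (hdeg : ∀ d ∈ Q.support, d.degree ≤ m)
    (hev : evw A B w Q ∈ KaehlerDifferential.ideal A B ^ (m + 1)) : Q = 0 := by
  classical
  have key : ∀ k, k ≤ m + 1 → Q ∈ idealOfVars κ B ^ k := by
    intro k
    induction k with
    | zero => intro _; simp
    | succ k ih =>
      intro hk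
      have hQk := ih (by omega)
      let Qk := homogeneousComponent k Q
      have hsub : Q - Qk ∈ idealOfVars κ B ^ (k + 1) := by
        rw [mem_pow_idealOfVars_iff]
        intro d hd
        rw [MvPolynomial.mem_support_iff, coeff_sub, coeff_homogeneousComponent] at hd
        have h1 : d.degree ≠ k := by
          intro heq
          rw [if_pos heq, sub_self] at hd
          exact hd rfl
        rw [if_neg h1, sub_zero] at hd
        have h2 := (mem_pow_idealOfVars_iff k Q).mp hQk d (MvPolynomial.mem_support_iff.mpr hd)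
        omega
      have h3 : evw A B w Qk ∈ KaehlerDifferential.ideal A B ^ (k + 1) := by
        have h4 := evw_mem_pow A B w (k + 1) _ hsub
        have h5 : evw A B w Q ∈ KaehlerDifferential.ideal A B ^ (k + 1) :=
          Ideal.pow_le_pow_right (by omega) hev
        have h6 := Ideal.sub_mem _ h5 h4
        rwa [map_sub, sub_sub_cancel] at h6
      have h7 : Qk = 0 := eq_zero_of_evw_mem A B w b hw h k Qk
        (homogeneousComponent_isHomogeneous k Q) h3
      rw [h7, sub_zero] at hsub
      exact hsub
  have hQ := (mem_pow_idealOfVars_iff (m + 1) Q).mp (key (m + 1) le_rfl)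
  by_contra hne
  obtain ⟨d, hd⟩ := MvPolynomial.support_nonempty.mpr hne
  have := hQ d hd
  have := hdeg d hd
  omega

include hw in
/-- spanning -/
lemma exists_evw_sub_mem (m : ℕ) : ∀ j k : ℕ, k + j = m + 1 →
    ∀ y ∈ KaehlerDifferential.ideal A B ^ k,
    ∃ Q : MvPolynomial κ B, (∀ d ∈ Q.support, d.degree ≤ m) ∧
      y - evw A B w Q ∈ KaehlerDifferential.ideal A B ^ (m + 1) := by
  classical
  intro j
  induction j with
  | zero =>
    intro k hk y hy
    have : k = m + 1 := by omega
    subst this
    exact ⟨0, by simp, by simpa using hy⟩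
  | succ j ih =>
    intro k hk y hy
    let ι : Type u := ULift.{u} (Fin k)
    have hcard : Fintype.card ι = k := by simp [ι]
    have hy' : y ∈ KaehlerDifferential.ideal A B ^ (Fintype.card ι) := by rwa [hcard]
    obtain ⟨x, hx⟩ := symToGrI_surjective A B ι (cl A B _ y hy')
    have hb : (fun k => piI A B (w k)) = ⇑b := funext hw
    obtain ⟨Q, hQ, rfl⟩ := SymPow.exists_monoMap_eq (ι := ι) (⇑b) b.span_eq x
    rw [← hb] at hx
    obtain ⟨hy2, e⟩ := symToGrI_monoMap A B w ι Q hQ
    rw [hx] at e
    have h1 : y - evw A B w Q ∈ KaehlerDifferential.ideal A B ^ (k + 1) := by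
      have h2 : cl A B _ (y - evw A B w Q) (Ideal.sub_mem _ hy' hy2) = 0 := by
        have : cl A B _ (y - evw A B w Q) (Ideal.sub_mem _ hy' hy2) =
            cl A B _ y hy' - cl A B _ (evw A B w Q) hy2 := rfl
        rw [this, e, sub_self]
      have h3 := (cl_eq_zero_iff A B _ _ _).mp h2
      rwa [hcard] at h3
    obtain ⟨Q', hQ', h4⟩ := ih (k + 1) (by omega) _ h1
    refine ⟨Q + Q', ?_, ?_⟩
    · intro d hd
      have := MvPolynomial.support_add hd
      rcases Finset.mem_union.mp this with h5 | h5
      · have : d.degree = Fintype.card ι := by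
          rw [Finsupp.degree_eq_weight_one]
          exact hQ (MvPolynomial.mem_support_iff.mp h5)
        omega
      · exact hQ' d h5
    · have : y - evw A B w (Q + Q') = y - evw A B w Q - evw A B w Q' := by
        rw [map_add]; ring
      rw [this]
      exact h4

end basis

end Groth.Agent.Lib.helper10.DiffSmBasis
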