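import Mathlib
import Groth.Prelude.Def_PP16
import Groth.Agent.Lib.helper10.DiffSmBasis

/-!
# Differentially smooth algebras: the filtration of the principal parts splits
-/

set_option autoImplicit false
set_option linter.unusedVariables false
set_option linter.style.haveILetI false
set_option linter.unusedSectionVars false

namespace Groth.Agent.Lib.helper10.DiffSmSplit

open TensorProduct SymmetricPower PP16 Pointwise MvPolynomial
open Groth.Agent.Lib.helper10.SymPow Groth.Agent.Lib.helper10.SymPowGr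
open Groth.Agent.Lib.helper10.DiffSm Groth.Agent.Lib.helper10.DiffSmBasis

universe u

section symproj

variable {B : Type u} [CommRing B] {M : Type u} [AddCommGroup M] [Module B M]
  (ι : Type u) [Fintype ι]

/-- symmetric powers of projective modules are projective -/
theorem projective_sym [Module.Projective B M] : Module.Projective B (Sym[B] ι M) := by
  obtain ⟨inn, hinn⟩ := Module.projective_def'.mp (inferInstance : Module.Projective B M)
  let i : Sym[B] ι M →ₗ[B] MvPolynomial M B := toPoly B ι M ∘ₗ SymPow.map inn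
  let s : MvPolynomial M B →ₗ[B] Sym[B] ι M :=
    SymPow.map (Finsupp.linearCombination B id) ∘ₗ ofPoly B ι M
  apply Module.Projective.of_split i s
  ext x
  simp only [i, s, LinearMap.comp_apply, LinearMap.id_apply]
  rw [ofPoly_toPoly, ← LinearMap.comp_apply, ← SymPow.map_comp, hinn, SymPow.map_id]
  rfl

end symproj

variable (A B : Type u) [CommRing A] [CommRing B] [Algebra A B]

lemma pow_succ_le (k : ℕ) :
    KaehlerDifferential.ideal A B ^ (k + 1) ≤ KaehlerDifferential.ideal A B ^ k :=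
  Ideal.pow_le_pow_right (Nat.le_succ k)

/-- the transition map `R/I^(k+1) → R/I^k` -/
noncomputable def piQ (k : ℕ) : ((B ⊗[A] B) ⧸ KaehlerDifferential.ideal A B ^ (k + 1)) →ₗ[B]
    ((B ⊗[A] B) ⧸ KaehlerDifferential.ideal A B ^ k) :=
  (Ideal.Quotient.factorₐ B (pow_succ_le A B k)).toLinearMap

lemma piQ_mk (k : ℕ) (y : B ⊗[A] B) :
    piQ A B k (Ideal.Quotient.mk _ y) = Ideal.Quotient.mk _ y := rfl

lemma piQ_surjective (k : ℕ) : Function.Surjective (piQ A B k) :=
  Ideal.Quotient.factor_surjective (pow_succ_le A B k)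

/-- the inclusion `I^k/I^(k+1) → R/I^(k+1)` -/
noncomputable def jQ (k : ℕ) : grI A B k →ₗ[B]
    ((B ⊗[A] B) ⧸ KaehlerDifferential.ideal A B ^ (k + 1)) :=
  Submodule.liftQ _ ((Ideal.Quotient.mkₐ B (KaehlerDifferential.ideal A B ^ (k + 1))).toLinearMap ∘ₗ
    ((KaehlerDifferential.ideal A B ^ k).restrictScalars B).subtype) (by
      intro x hx
      rw [LinearMap.mem_ker]
      exact Ideal.Quotient.eq_zero_iff_mem.mpr hx)

lemma jQ_cl (k : ℕ) (y : B ⊗[A] B) (hy : y ∈ KaehlerDifferential.ideal A B ^ k) :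
    jQ A B k (cl A B k y hy) = Ideal.Quotient.mk _ y := rfl

lemma jQ_injective (k : ℕ) : Function.Injective (jQ A B k) := by
  rw [injective_iff_map_eq_zero]
  rintro ⟨⟨y, hy⟩⟩ h0
  change jQ A B k (cl A B k y hy) = 0 at h0
  rw [jQ_cl, Ideal.Quotient.eq_zero_iff_mem] at h0
  exact (cl_eq_zero_iff A B k y hy).mpr h0

lemma range_jQ (k : ℕ) : LinearMap.range (jQ A B k) = LinearMap.ker (piQ A B k) := by
  apply le_antisymm
  · rintro _ ⟨⟨⟨y, hy⟩⟩, rfl⟩
    change jQ A B k (cl A B k y hy) ∈ _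
    rw [jQ_cl, LinearMap.mem_ker, piQ_mk]
    exact Ideal.Quotient.eq_zero_iff_mem.mpr hy
  · intro x hx
    obtain ⟨y, rfl⟩ := Ideal.Quotient.mk_surjective x
    rw [LinearMap.mem_ker, piQ_mk, Ideal.Quotient.eq_zero_iff_mem] at hx
    exact ⟨cl A B k y hx, jQ_cl A B k y hx⟩

/-- splitting step -/
theorem split_step (k : ℕ)
    (hQ : Module.Projective B ((B ⊗[A] B) ⧸ KaehlerDifferential.ideal A B ^ k)) :
    ∃ r : ((B ⊗[A] B) ⧸ KaehlerDifferential.ideal A B ^ (k + 1)) →ₗ[B] grI A B k,
      (∀ g, r (jQ A B k g) = g) ∧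
      (Module.Projective B (grI A B k) →
        Module.Projective B ((B ⊗[A] B) ⧸ KaehlerDifferential.ideal A B ^ (k + 1))) := by
  classical
  obtain ⟨s, hs⟩ := Module.projective_lifting_property (piQ A B k) LinearMap.id
    (piQ_surjective A B k)
  have hs' : ∀ q, piQ A B k (s q) = q := fun q => LinearMap.congr_fun hs q
  let e := LinearEquiv.ofInjective (jQ A B k) (jQ_injective A B k)
  let d : ((B ⊗[A] B) ⧸ KaehlerDifferential.ideal A B ^ (k + 1)) →ₗ[B]
      ((B ⊗[A] B) ⧸ KaehlerDifferential.ideal A B ^ (k + 1)) := LinearMap.id - s ∘ₗ piQ A B k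
  have hd : ∀ x, d x ∈ LinearMap.range (jQ A B k) := by
    intro x
    rw [range_jQ, LinearMap.mem_ker]
    simp only [d, LinearMap.sub_apply, LinearMap.id_apply, LinearMap.comp_apply, map_sub, hs',
      sub_self]
  let r : ((B ⊗[A] B) ⧸ KaehlerDifferential.ideal A B ^ (k + 1)) →ₗ[B] grI A B k :=
    e.symm.toLinearMap ∘ₗ d.codRestrict _ hd
  have hjr : ∀ x, jQ A B k (r x) = d x := by
    intro x
    have := e.apply_symm_apply (d.codRestrict _ hd x)
    exact congrArg Subtype.val this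
  have hrj : ∀ g, r (jQ A B k g) = g := by
    intro g
    apply jQ_injective A B k
    rw [hjr]
    simp only [d, LinearMap.sub_apply, LinearMap.id_apply, LinearMap.comp_apply]
    have : piQ A B k (jQ A B k g) = 0 := by
      have h1 : jQ A B k g ∈ LinearMap.range (jQ A B k) := ⟨g, rfl⟩
      rw [range_jQ] at h1
      exact h1
    rw [this, map_zero, sub_zero]
  refine ⟨r, hrj, ?_⟩
  intro hgr
  let i : ((B ⊗[A] B) ⧸ KaehlerDifferential.ideal A B ^ (k + 1)) →ₗ[B]
      (grI A B k × ((B ⊗[A] B) ⧸ KaehlerDifferential.ideal A B ^ k)) := r.prod (piQ A B k)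
  let s' : (grI A B k × ((B ⊗[A] B) ⧸ KaehlerDifferential.ideal A B ^ k)) →ₗ[B]
      ((B ⊗[A] B) ⧸ KaehlerDifferential.ideal A B ^ (k + 1)) := (jQ A B k).coprod s
  apply Module.Projective.of_split i s'
  ext x
  change jQ A B k (r x) + s (piQ A B k x) = x
  rw [hjr]
  simp [d]

section smooth

variable (h : IsDiffSmooth A B)

include h in
lemma projective_grI (k : ℕ) : Module.Projective B (grI A B k) := by
  let ι : Type u := ULift.{u} (Fin k)
  have hcard : Fintype.card ι = k := by simp [ι]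
  haveI := h.1
  haveI : Module.Projective B (Sym[B] ι Ω[B⁄A]) := projective_sym ι
  let e := LinearEquiv.ofBijective (symToGrI A B ι)
    ⟨symToGrI_injective_of_isDiffSmooth A B h ι, symToGrI_surjective A B ι⟩
  have h1 : Module.Projective B (grI A B (Fintype.card ι)) := Module.Projective.of_equiv' e
  exact hcard ▸ h1

include h in
theorem projective_Q (k : ℕ) :
    Module.Projective B ((B ⊗[A] B) ⧸ KaehlerDifferential.ideal A B ^ k) := by
  induction k with
  | zero =>
    haveI : Subsingleton ((B ⊗[A] B) ⧸ KaehlerDifferential.ideal A B ^ 0) := by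
      rw [pow_zero, Ideal.one_eq_top]
      exact Ideal.Quotient.subsingleton_iff.mpr rfl
    infer_instance
  | succ k ih => exact (split_step A B k ih).choose_spec.2 (projective_grI A B h k)

include h in
theorem exists_Lambda (ι : Type u) [Fintype ι] :
    ∃ Λ : B ⊗[A] B →ₗ[B] Sym[B] ι Ω[B⁄A],
      (∀ y ∈ KaehlerDifferential.ideal A B ^ (Fintype.card ι + 1), Λ y = 0) ∧
      ∀ (y : B ⊗[A] B) (hy : y ∈ KaehlerDifferential.ideal A B ^ (Fintype.card ι)),
        symToGrI A B ι (Λ y) = cl A B _ y hy := by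
  obtain ⟨r, hr, -⟩ := split_step A B (Fintype.card ι) (projective_Q A B h _)
  let e := LinearEquiv.ofBijective (symToGrI A B ι)
    ⟨symToGrI_injective_of_isDiffSmooth A B h ι, symToGrI_surjective A B ι⟩
  let Λ : B ⊗[A] B →ₗ[B] Sym[B] ι Ω[B⁄A] :=
    e.symm.toLinearMap ∘ₗ r ∘ₗ
      (Ideal.Quotient.mkₐ B (KaehlerDifferential.ideal A B ^ (Fintype.card ι + 1))).toLinearMap
  refine ⟨Λ, ?_, ?_⟩
  · intro y hy
    simp only [Λ, LinearMap.comp_apply, AlgHom.toLinearMap_apply, Ideal.Quotient.mkₐ_eq_mk]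
    rw [Ideal.Quotient.eq_zero_iff_mem.mpr hy, map_zero, map_zero]
  · intro y hy
    simp only [Λ, LinearMap.comp_apply, AlgHom.toLinearMap_apply, Ideal.Quotient.mkₐ_eq_mk]
    rw [← jQ_cl A B _ y hy, hr]
    exact e.apply_symm_apply _

include h in
lemma Lambda_prod (ι : Type u) [Fintype ι] (Λ : B ⊗[A] B →ₗ[B] Sym[B] ι Ω[B⁄A])
    (hΛ : ∀ (y : B ⊗[A] B) (hy : y ∈ KaehlerDifferential.ideal A B ^ (Fintype.card ι)),
        symToGrI A B ι (Λ y) = cl A B _ y hy)
    (w : ι → ↥(KaehlerDifferential.ideal A B)) :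
    Λ (∏ i, (w i : B ⊗[A] B)) = SymmetricPower.tprod B (fun i => piI A B (w i)) := by
  apply symToGrI_injective_of_isDiffSmooth A B h ι
  rw [hΛ _ (prod_mem_pow_card _ ι w), symToGrI_tprod]

end smooth

end Groth.Agent.Lib.helper10.DiffSmSplit
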