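import Mathlib
import Groth.Agent.Lib.helper10.SymPowBasic

/-!
# Semilinear functoriality of symmetric powers (change of rings)
-/

set_option autoImplicit false
set_option linter.unusedVariables false
set_option linter.style.haveILetI false
set_option linter.unusedSectionVars false

namespace Groth.Agent.Lib.helper10.SymBaseChange

open TensorProduct SymmetricPower
open Groth.Agent.Lib.helper10.SymPow

universe u v w

variable {B B' : Type u} [CommRing B] [CommRing B'] [Algebra B B']
  {M : Type v} [AddCommGroup M] [Module B M] {M' : Type w} [AddCommGroup M'] [Module B' M']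
  (f : M →+ M') (hf : ∀ (b : B) (x : M), f (b • x) = algebraMap B B' b • f x)
  (ι : Type u) [Fintype ι]

/-- `Sym_{B'} M'` as a `B`-module -/
@[reducible] noncomputable def modB : Module B (Sym[B'] ι M') := Module.compHom _ (algebraMap B B')

/-- the `B`-multilinear map `v ↦ ⨂ f(v_i)` -/
noncomputable def tprodf : letI := modB (B := B) (B' := B') (M' := M') ι
    MultilinearMap B (fun _ : ι => M) (Sym[B'] ι M') :=
  letI := modB (B := B) (B' := B') (M' := M') ι
  { toFun := fun v => SymmetricPower.tprod B' (fun i => f (v i))
    map_update_add' := fun v i x y => by
      have e : ∀ z : M, (fun j => f (Function.update v i z j)) =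
          Function.update (fun j => f (v j)) i (f z) := by
        intro z
        funext j
        by_cases hj : j = i
        · subst hj; simp
        · simp [Function.update_of_ne hj]
      rw [e, e, e, map_add, (SymmetricPower.tprod B').map_update_add]
    map_update_smul' := fun v i b x => by
      have e : ∀ z : M, (fun j => f (Function.update v i z j)) =
          Function.update (fun j => f (v j)) i (f z) := by
        intro z
        funext j
        by_cases hj : j = i
        · subst hj; simp
        · simp [Function.update_of_ne hj]
      rw [e, e, hf, (SymmetricPower.tprod B').map_update_smul]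
      rfl }

/-- the natural map `Sym_B M → Sym_{B'} M'` -/
noncomputable def natSym : letI := modB (B := B) (B' := B') (M' := M') ι
    Sym[B] ι M →ₗ[B] Sym[B'] ι M' :=
  letI := modB (B := B) (B' := B') (M' := M') ι
  SymPow.lift (tprodf f hf ι) (fun e v => SymmetricPower.tprod_equiv e (fun i => f (v i)))

lemma natSym_tprod (v : ι → M) :
    natSym f hf ι (SymmetricPower.tprod B v) = SymmetricPower.tprod B' (fun i => f (v i)) := by
  letI := modB (B := B) (B' := B') (M' := M') ι
  rw [natSym, SymPow.lift_tprod]
  rfl

lemma natSym_smul (b : B) (x : Sym[B] ι M) :
    natSym f hf ι (b • x) = algebraMap B B' b • natSym f hf ι x := by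
  letI := modB (B := B) (B' := B') (M' := M') ι
  rw [map_smul]
  rfl

lemma natSym_add (x y : Sym[B] ι M) :
    natSym f hf ι (x + y) = natSym f hf ι x + natSym f hf ι y := by
  letI := modB (B := B) (B' := B') (M' := M') ι
  exact map_add _ x y

lemma natSym_zero : natSym f hf ι (0 : Sym[B] ι M) = 0 := by
  letI := modB (B := B) (B' := B') (M' := M') ι
  exact map_zero _

section induction

variable {R ι : Type u} [CommRing R] [Finite ι] {N : Type v} [AddCommGroup N] [Module R N]

/-- induction principle for symmetric tensors relative to a spanning set -/
lemma induction_on_of_span (S : Set N) (hS : Submodule.span R S = ⊤) {C : Sym[R] ι N → Prop}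
    (x : Sym[R] ι N) (zero : C 0)
    (smul_tprod : ∀ (r : R) (v : ι → N), (∀ i, v i ∈ S) → C (r • SymmetricPower.tprod R v))
    (add : ∀ x y, C x → C y → C (x + y)) : C x := by
  have hx : x ∈ Submodule.span R
      {x : Sym[R] ι N | ∃ w : ι → N, (∀ i, w i ∈ S) ∧ x = SymmetricPower.tprod R w} := by
    induction x using SymPow.induction_on with
    | zero => exact zero_mem _
    | smul_tprod r v => exact Submodule.smul_mem _ _ (tprod_mem_span_of_span_eq_top S hS v)
    | add x y hx hy => exact add_mem hx hy
  suffices h : ∀ r : R, C (r • x) by simpa using h 1
  induction hx using Submodule.span_induction with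
  | mem x hx =>
    obtain ⟨w, hw, rfl⟩ := hx
    exact fun r => smul_tprod r w hw
  | zero => intro r; simpa using zero
  | add x y _ _ hx hy => intro r; rw [smul_add]; exact add _ _ (hx r) (hy r)
  | smul s x _ hx => intro r; rw [smul_smul]; exact hx _

end induction

end Groth.Agent.Lib.helper10.SymBaseChange
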