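import Mathlib
import Groth.Prelude.Def_PP16
import Groth.Agent.Lib.helper10.DiffSmSplit
import Groth.Agent.Lib.helper10.SymBaseChange

/-!
# Base change of differential smoothness
-/

set_option autoImplicit false
set_option linter.unusedVariables false
set_option linter.style.haveILetI false
set_option linter.unusedSectionVars false

namespace Groth.Agent.Lib.helper10.DiffSmBC

open TensorProduct SymmetricPower PP16 Pointwise
open Groth.Agent.Lib.helper10.SymPow Groth.Agent.Lib.helper10.SymPowGr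
open Groth.Agent.Lib.helper10.DiffSm Groth.Agent.Lib.helper10.DiffSmBasis
open Groth.Agent.Lib.helper10.DiffSmSplit Groth.Agent.Lib.helper10.SymBaseChange

universe u

variable (A B A' B' : Type u) [CommRing A] [CommRing B] [Algebra A B]
    [CommRing A'] [CommRing B'] [Algebra A' B'] [Algebra A A'] [Algebra B B'] [Algebra A B']
    [IsScalarTower A A' B'] [IsScalarTower A B B']

/-- the map `B ⊗_A B → B' ⊗_{A'} B'` -/
noncomputable abbrev tm : B ⊗[A] B →ₐ[A] B' ⊗[A'] B' := tensorMap A B A' B'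

lemma tm_tmul (b c : B) :
    tm A B A' B' (b ⊗ₜ[A] c) = algebraMap B B' b ⊗ₜ[A'] algebraMap B B' c :=
  tensorMap_tmul A B A' B' b c

lemma tm_mem (w : B ⊗[A] B) (hw : w ∈ KaehlerDifferential.ideal A B) :
    tm A B A' B' w ∈ KaehlerDifferential.ideal A' B' :=
  ideal_map_tensorMap_le A B A' B' (Ideal.mem_map_of_mem _ hw)

lemma tm_mem_pow (m : ℕ) (y : B ⊗[A] B) (hy : y ∈ KaehlerDifferential.ideal A B ^ m) :
    tm A B A' B' y ∈ KaehlerDifferential.ideal A' B' ^ m := by
  have h := Ideal.pow_right_mono (ideal_map_tensorMap_le A B A' B') m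
  rw [← Ideal.map_pow] at h
  exact h (Ideal.mem_map_of_mem _ hy)

lemma tm_smul (b : B) (r : B ⊗[A] B) :
    tm A B A' B' (b • r) = algebraMap B B' b • tm A B A' B' r := by
  rw [Algebra.smul_def, Algebra.smul_def, map_mul, Algebra.TensorProduct.algebraMap_apply,
    Algebra.TensorProduct.algebraMap_apply, tm_tmul, map_one]
  rfl

section pushout

variable [Algebra.IsPushout A B A' B']

include A in
lemma induction_B' (P : B' → Prop) (h0 : P 0) (h1 : ∀ b : B, P (algebraMap B B' b))
    (h2 : ∀ (a' : A') (x : B'), P x → P (a' • x)) (h3 : ∀ x y, P x → P y → P (x + y)) (x : B') :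
    P x := by
  have hbc : IsBaseChange A' (IsScalarTower.toAlgHom A B B').toLinearMap :=
    (Algebra.IsPushout.symm (inferInstance : Algebra.IsPushout A B A' B')).out
  exact hbc.inductionOn x P h0 h1 h2 h3

lemma span_range_tm : Submodule.span B' (Set.range (tm A B A' B')) = ⊤ := by
  rw [eq_top_iff]
  rintro r' -
  induction r' using TensorProduct.induction_on with
  | zero => exact zero_mem _
  | add x y hx hy => exact add_mem hx hy
  | tmul b₁ b₂ =>
    revert b₁
    refine induction_B' A B A' B' (fun b₂ => ∀ b₁ : B', b₁ ⊗ₜ[A'] b₂ ∈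
      Submodule.span B' (Set.range (tm A B A' B'))) ?_ ?_ ?_ ?_ b₂
    · intro b₁
      rw [TensorProduct.tmul_zero]; exact zero_mem _
    · intro b b₁
      have : b₁ ⊗ₜ[A'] algebraMap B B' b = b₁ • tm A B A' B' ((1 : B) ⊗ₜ[A] b) := by
        rw [tm_tmul, map_one, TensorProduct.smul_tmul', smul_eq_mul, mul_one]
      rw [this]
      exact Submodule.smul_mem _ _ (Submodule.subset_span ⟨_, rfl⟩)
    · intro a' x hx b₁
      rw [← TensorProduct.smul_tmul]
      exact hx _
    · intro x y hx hy b₁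
      rw [TensorProduct.tmul_add]
      exact add_mem (hx b₁) (hy b₁)

lemma ideal_le_map : KaehlerDifferential.ideal A' B' ≤
    (KaehlerDifferential.ideal A B).map (tm A B A' B') := by
  rw [← KaehlerDifferential.span_range_eq_ideal, Ideal.span_le]
  rintro _ ⟨b', rfl⟩
  refine induction_B' A B A' B' (fun b' => (1 : B') ⊗ₜ[A'] b' - b' ⊗ₜ[A'] (1 : B') ∈
    (KaehlerDifferential.ideal A B).map (tm A B A' B')) ?_ ?_ ?_ ?_ b'
  · simp
  · intro b
    have : (1 : B') ⊗ₜ[A'] algebraMap B B' b - algebraMap B B' b ⊗ₜ[A'] (1 : B') =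
        tm A B A' B' ((1 : B) ⊗ₜ[A] b - b ⊗ₜ[A] (1 : B)) := by
      rw [map_sub, tm_tmul, tm_tmul, map_one]
    rw [this]
    exact Ideal.mem_map_of_mem _ (KaehlerDifferential.one_smul_sub_smul_one_mem_ideal A b)
  · intro a' x hx
    have : (1 : B') ⊗ₜ[A'] (a' • x) - (a' • x) ⊗ₜ[A'] (1 : B') =
        a' • ((1 : B') ⊗ₜ[A'] x - x ⊗ₜ[A'] (1 : B')) := by
      rw [smul_sub, TensorProduct.tmul_smul, TensorProduct.smul_tmul' a' x]
    rw [this, Algebra.smul_def]
    exact Ideal.mul_mem_left _ _ hx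
  · intro x y hx hy
    have : (1 : B') ⊗ₜ[A'] (x + y) - (x + y) ⊗ₜ[A'] (1 : B') =
        ((1 : B') ⊗ₜ[A'] x - x ⊗ₜ[A'] (1 : B')) + ((1 : B') ⊗ₜ[A'] y - y ⊗ₜ[A'] (1 : B')) := by
      rw [TensorProduct.tmul_add, TensorProduct.add_tmul]; ring
    rw [this]
    exact Ideal.add_mem _ hx hy

end pushout

section omega

/-- the natural map `Ω_{B/A} → Ω_{B'/A'}` -/
noncomputable def fOmega : Ω[B⁄A] →+ Ω[B'⁄A'] :=
  (Ideal.mapCotangent (KaehlerDifferential.ideal A B) (KaehlerDifferential.ideal A' B')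
    (tm A B A' B') (fun w hw => tm_mem A B A' B' w hw)).toAddMonoidHom

lemma fOmega_piI (w : ↥(KaehlerDifferential.ideal A B)) :
    fOmega A B A' B' (piI A B w) = piI A' B' ⟨tm A B A' B' w, tm_mem A B A' B' w w.2⟩ :=
  Ideal.mapCotangent_toCotangent _ _ _ _ w

lemma fOmega_smul (b : B) (x : Ω[B⁄A]) :
    fOmega A B A' B' (b • x) = algebraMap B B' b • fOmega A B A' B' x := by
  obtain ⟨w, rfl⟩ := piI_surjective A B x
  rw [← map_smul, fOmega_piI, fOmega_piI, ← map_smul]
  congr 1
  apply Subtype.ext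
  exact tm_smul A B A' B' b w.1

end omega

section lift

variable [Algebra.IsPushout A B A' B']
  {M₀ : Type u} [AddCommGroup M₀] [Module B M₀] {N : Type u} [AddCommGroup N] [Module B' N]
  (ν : M₀ →+ N) (hν : ∀ (b : B) (x : M₀), ν (b • x) = algebraMap B B' b • ν x)
  (Λ : B ⊗[A] B →ₗ[B] M₀)

include hν in
/-- base change of a `B`-linear map out of `B ⊗_A B` -/
theorem exists_Lambda' :
    ∃ Λ' : B' ⊗[A'] B' →ₗ[B'] N, ∀ r, Λ' (tm A B A' B' r) = ν (Λ r) := by
  letI mA' : Module A' N := Module.compHom N (algebraMap A' B')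
  haveI : IsScalarTower A' B' N := IsScalarTower.of_algebraMap_smul (fun r x => rfl)
  letI mA : Module A N := Module.compHom N (algebraMap A B')
  have hA : ∀ (a : A) (x : N), a • x = algebraMap A B' a • x := fun a x => rfl
  have hA' : ∀ (a' : A') (x : N), a' • x = algebraMap A' B' a' • x := fun a x => rfl
  haveI : IsScalarTower A A' N := ⟨fun a a' x => by
    rw [hA', hA, hA', ← mul_smul, Algebra.smul_def, map_mul,
      ← IsScalarTower.algebraMap_apply A A' B']⟩
  let lam : B →ₗ[A] N :=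
    { toFun := fun b => ν (Λ ((1 : B) ⊗ₜ[A] b))
      map_add' := fun b c => by rw [TensorProduct.tmul_add, map_add, map_add]
      map_smul' := fun a b => by
        rw [RingHom.id_apply, TensorProduct.tmul_smul, ← algebraMap_smul B a ((1 : B) ⊗ₜ[A] b),
          map_smul, hν, hA, ← IsScalarTower.algebraMap_apply A B B'] }
  have hbc : IsBaseChange A' (IsScalarTower.toAlgHom A B B').toLinearMap :=
    (Algebra.IsPushout.symm (inferInstance : Algebra.IsPushout A B A' B')).out
  let lam' : B' →ₗ[A'] N := hbc.lift lam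
  have hlam' : ∀ b : B, lam' (algebraMap B B' b) = lam b := fun b => hbc.lift_eq lam b
  refine ⟨LinearMap.liftBaseChange B' lam', ?_⟩
  intro r
  induction r using TensorProduct.induction_on with
  | zero => simp
  | tmul b c =>
    rw [tm_tmul, LinearMap.liftBaseChange_tmul, hlam']
    change algebraMap B B' b • ν (Λ ((1 : B) ⊗ₜ[A] c)) = _
    rw [← hν, ← map_smul, TensorProduct.smul_tmul', smul_eq_mul, mul_one]
  | add x y hx hy => rw [map_add, map_add, hx, hy, map_add, map_add]

include hν in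
lemma Lambda'_eq_zero (Λ' : B' ⊗[A'] B' →ₗ[B'] N)
    (hΛ' : ∀ r, Λ' (tm A B A' B' r) = ν (Λ r)) (m : ℕ)
    (hΛ : ∀ y ∈ KaehlerDifferential.ideal A B ^ m, Λ y = 0) :
    ∀ y' ∈ KaehlerDifferential.ideal A' B' ^ m, Λ' y' = 0 := by
  have hQ : ∀ y ∈ KaehlerDifferential.ideal A B ^ m, ∀ r' : B' ⊗[A'] B',
      Λ' (r' * tm A B A' B' y) = 0 := by
    intro y hy r'
    have hr' : r' ∈ Submodule.span B' (Set.range (tm A B A' B')) := by
      rw [span_range_tm]; trivial
    induction hr' using Submodule.span_induction with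
    | mem x hx =>
      obtain ⟨r, rfl⟩ := hx
      rw [← map_mul, hΛ', hΛ _ (Ideal.mul_mem_left _ _ hy), map_zero]
    | zero => rw [zero_mul, map_zero]
    | add x z _ _ hx hz => rw [add_mul, map_add, hx, hz, add_zero]
    | smul b' x _ hx => rw [smul_mul_assoc, map_smul, hx, smul_zero]
  intro y' hy'
  have h1 : y' ∈ Ideal.span (tm A B A' B' '' ((KaehlerDifferential.ideal A B ^ m : Ideal (B ⊗[A] B)) : Set (B ⊗[A] B))) := by
    have h2 := Ideal.pow_right_mono (ideal_le_map A B A' B') m hy'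
    rw [← Ideal.map_pow] at h2
    exact h2
  have key : ∀ x ∈ Ideal.span (tm A B A' B' '' ((KaehlerDifferential.ideal A B ^ m : Ideal (B ⊗[A] B)) : Set (B ⊗[A] B))),
      ∀ r' : B' ⊗[A'] B', Λ' (r' * x) = 0 := by
    intro x hx
    induction hx using Submodule.span_induction with
    | mem x hx =>
      obtain ⟨y, hy, rfl⟩ := hx
      exact hQ y hy
    | zero => intro r'; rw [mul_zero, map_zero]
    | add x z _ _ hx hz => intro r'; rw [mul_add, map_add, hx, hz, add_zero]
    | smul s x _ hx => intro r'; rw [smul_eq_mul, ← mul_assoc]; exact hx _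
  have := key y' h1 1
  rwa [one_mul] at this

end lift

section final

variable [Algebra.IsPushout A B A' B']

/-- `Ω'` is spanned by the images of elements of `I` -/
lemma span_piI_tm : Submodule.span B'
    (Set.range (fun w : ↥(KaehlerDifferential.ideal A B) =>
      piI A' B' ⟨tm A B A' B' w, tm_mem A B A' B' w w.2⟩)) = ⊤ := by
  rw [eq_top_iff, ← KaehlerDifferential.span_range_derivation A' B', Submodule.span_le]
  rintro _ ⟨b', rfl⟩
  refine induction_B' A B A' B' (fun b' => KaehlerDifferential.D A' B' b' ∈ Submodule.span B'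
    (Set.range (fun w : ↥(KaehlerDifferential.ideal A B) =>
      piI A' B' ⟨tm A B A' B' w, tm_mem A B A' B' w w.2⟩))) ?_ ?_ ?_ ?_ b'
  · rw [map_zero]; exact zero_mem _
  · intro b
    apply Submodule.subset_span
    refine ⟨⟨(1 : B) ⊗ₜ[A] b - b ⊗ₜ[A] (1 : B),
      KaehlerDifferential.one_smul_sub_smul_one_mem_ideal A b⟩, ?_⟩
    rw [KaehlerDifferential.D_apply]
    change (KaehlerDifferential.ideal A' B').toCotangent _ = (KaehlerDifferential.ideal A' B').toCotangent _
    congr 1
    apply Subtype.ext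
    simp only
    rw [map_sub, tm_tmul, tm_tmul, map_one]
  · intro a' x hx
    rw [Derivation.map_smul, ← algebraMap_smul B' a']
    exact Submodule.smul_mem _ _ hx
  · intro x y hx hy
    rw [map_add]; exact add_mem hx hy

/-- **base change of differential smoothness** -/
theorem isDiffSmooth_baseChange (h : IsDiffSmooth A B) : IsDiffSmooth A' B' := by
  classical
  rw [isDiffSmooth_iff]
  constructor
  · haveI := h.1
    haveI : Algebra.IsPushout A A' B B' :=
      Algebra.IsPushout.symm (inferInstance : Algebra.IsPushout A B A' B')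
    exact Module.Projective.of_equiv' (KaehlerDifferential.tensorKaehlerEquiv A A' B B')
  · intro ι _ _
    obtain ⟨Λ, hΛ0, hΛ1⟩ := exists_Lambda A B h ι
    let ν : Sym[B] ι Ω[B⁄A] →+ Sym[B'] ι Ω[B'⁄A'] :=
      { toFun := natSym (fOmega A B A' B') (fOmega_smul A B A' B') ι
        map_zero' := natSym_zero _ _ ι
        map_add' := natSym_add _ _ ι }
    have hν : ∀ (b : B) (x : Sym[B] ι Ω[B⁄A]), ν (b • x) = algebraMap B B' b • ν x :=
      natSym_smul _ _ ι
    have hνt : ∀ x, ν x = natSym (fOmega A B A' B') (fOmega_smul A B A' B') ι x := fun x => rfl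
    obtain ⟨Λ', hΛ'⟩ := exists_Lambda' A B A' B' ν hν Λ
    have hkill := Lambda'_eq_zero A B A' B' ν hν Λ Λ' hΛ' _ hΛ0
    have key : ∀ x' : Sym[B'] ι Ω[B'⁄A'],
        ∃ (y' : B' ⊗[A'] B') (hy' : y' ∈ KaehlerDifferential.ideal A' B' ^ (Fintype.card ι)),
          symToGrI A' B' ι x' = cl A' B' _ y' hy' ∧ Λ' y' = x' := by
      intro x'
      refine induction_on_of_span (C := fun x' : Sym[B'] ι Ω[B'⁄A'] =>
        ∃ (y' : B' ⊗[A'] B') (hy' : y' ∈ KaehlerDifferential.ideal A' B' ^ (Fintype.card ι)),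
          symToGrI A' B' ι x' = cl A' B' _ y' hy' ∧ Λ' y' = x') _ (span_piI_tm A B A' B') x'
          ?_ ?_ ?_
      · exact ⟨0, zero_mem _, by rw [map_zero]; symm; rw [cl_eq_zero_iff]; exact zero_mem _,
          map_zero _⟩
      · intro b' v' hv'
        choose w hw using hv'
        have hv'' : v' = fun i => piI A' B'
            ⟨tm A B A' B' (w i), tm_mem A B A' B' (w i) (w i).2⟩ := funext fun i => (hw i).symm
        have hprod : ∏ i, ((⟨tm A B A' B' (w i), tm_mem A B A' B' (w i) (w i).2⟩ :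
            ↥(KaehlerDifferential.ideal A' B')) : B' ⊗[A'] B') =
            tm A B A' B' (∏ i, (w i : B ⊗[A] B)) := by
          rw [map_prod]
        refine ⟨(b' ⊗ₜ[A'] (1 : B')) * tm A B A' B' (∏ i, (w i : B ⊗[A] B)),
          Ideal.mul_mem_left _ _ (tm_mem_pow A B A' B' _ _ (prod_mem_pow_card _ ι w)), ?_, ?_⟩
        · rw [map_smul, hv'', symToGrI_tprod, ← cl_smul]
          exact cl_congr A' B' _ (by rw [hprod]) _
        · have h1 : (b' ⊗ₜ[A'] (1 : B')) * tm A B A' B' (∏ i, (w i : B ⊗[A] B)) =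
              b' • tm A B A' B' (∏ i, (w i : B ⊗[A] B)) := by
            rw [Algebra.smul_def, Algebra.TensorProduct.algebraMap_apply]
            rfl
          rw [h1, map_smul, hΛ', Lambda_prod A B h ι Λ hΛ1 w]
          congr 1
          rw [hνt, natSym_tprod, hv'']
          congr 1
      · intro x y hx hy
        obtain ⟨y₁, hy₁, h₁, h₁'⟩ := hx
        obtain ⟨y₂, hy₂, h₂, h₂'⟩ := hy
        exact ⟨y₁ + y₂, Ideal.add_mem _ hy₁ hy₂, by rw [map_add, h₁, h₂, cl_add],
          by rw [map_add, h₁', h₂']⟩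
    rw [injective_iff_map_eq_zero]
    intro x' hx'
    obtain ⟨y', hy', e1, e2⟩ := key x'
    rw [hx'] at e1
    have h3 := (cl_eq_zero_iff A' B' _ y' hy').mp e1.symm
    rw [← e2, hkill y' h3]

end final

end Groth.Agent.Lib.helper10.DiffSmBC
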