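import Mathlib
import Groth.Prelude.Def_PP16
import Groth.Agent.Lib.helper10.DiffSmBasis

/-!
# The monomial basis of the principal parts `P^m_{B/A}` of a differentially smooth algebra
-/

set_option autoImplicit false
set_option linter.unusedVariables false
set_option linter.style.haveILetI false
set_option linter.unusedSectionVars false

namespace Groth.Agent.Lib.helper10.DiffSmBasisP

open TensorProduct SymmetricPower PP16 Pointwise MvPolynomial
open Groth.Agent.Lib.helper10.SymPow Groth.Agent.Lib.helper10.SymPowGr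
open Groth.Agent.Lib.helper10.DiffSm Groth.Agent.Lib.helper10.DiffSmBasis

universe u

variable (A B : Type u) [CommRing A] [CommRing B] [Algebra A B]
  {ι : Type*} [Fintype ι] [DecidableEq ι] (z : ι → B)

/-- the standard lifts `1 ⊗ z_i - z_i ⊗ 1` -/
noncomputable def wz (i : ι) : ↥(KaehlerDifferential.ideal A B) :=
  ⟨(1 : B) ⊗ₜ[A] z i - z i ⊗ₜ[A] (1 : B), KaehlerDifferential.one_smul_sub_smul_one_mem_ideal A (z i)⟩

lemma piI_wz (i : ι) : piI A B (wz A B z i) = KaehlerDifferential.D A B (z i) := rfl

variable (m : ℕ)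

/-- `ζ_i = d^m z_i - z_i` -/
noncomputable def zeta (i : ι) : P m A B := dn m A B (z i) - algebraMap B (P m A B) (z i)

lemma zeta_eq (i : ι) : zeta A B z m i = Ideal.Quotient.mk _ (wz A B z i : B ⊗[A] B) := rfl

lemma smul_mk (c : B) (y : B ⊗[A] B) :
    c • (Ideal.Quotient.mk (KaehlerDifferential.ideal A B ^ (m + 1)) y : P m A B) =
      Ideal.Quotient.mk _ ((c ⊗ₜ[A] (1 : B)) * y) := by
  rw [Algebra.smul_def]
  rfl

lemma mk_evw_monomial (d : ι →₀ ℕ) (c : B) :
    (Ideal.Quotient.mk (KaehlerDifferential.ideal A B ^ (m + 1))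
      (evw A B (wz A B z) (monomial d c)) : P m A B) = c • ∏ i, zeta A B z m i ^ (d i) := by
  rw [evw, aeval_monomial, Finsupp.prod_fintype _ _ (by simp), map_mul, map_prod,
    Algebra.smul_def]
  simp_rw [map_pow]
  rfl

include z in
theorem exists_basis (hB : IsDiffSmooth A B)
    (hz : ∃ b : Module.Basis ι B Ω[B⁄A], ∀ i, b i = KaehlerDifferential.D A B (z i)) :
    ∃ b : Module.Basis {p : ι → ℕ // ∑ i, p i ≤ m} B (P m A B),
      ∀ p, b p = ∏ i, zeta A B z m i ^ (p.1 i) := by
  classical
  obtain ⟨b0, hb0⟩ := hz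
  have hw : ∀ i, piI A B (wz A B z i) = b0 i := fun i => (hb0 i).symm
  let toF : {p : ι → ℕ // ∑ i, p i ≤ m} → (ι →₀ ℕ) := fun p => Finsupp.equivFunOnFinite.symm p.1
  have toF_apply : ∀ p i, toF p i = p.1 i := fun p i => rfl
  have toF_inj : Function.Injective toF := by
    intro p q hpq
    apply Subtype.ext
    funext i
    rw [← toF_apply, hpq, toF_apply]
  have toF_deg : ∀ p, (toF p).degree ≤ m := by
    intro p
    rw [Finsupp.degree_eq_sum]
    exact p.2
  let v : {p : ι → ℕ // ∑ i, p i ≤ m} → P m A B := fun p => ∏ i, zeta A B z m i ^ (p.1 i)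
  have hv : ∀ p, v p = Ideal.Quotient.mk _ (evw A B (wz A B z) (monomial (toF p) 1)) := by
    intro p
    rw [mk_evw_monomial, one_smul]
    rfl
  have hli : LinearIndependent B v := by
    rw [linearIndependent_iff']
    intro s g hsum p hp
    let Q : MvPolynomial ι B := ∑ q ∈ s, monomial (toF q) (g q)
    have hQdeg : ∀ d ∈ Q.support, d.degree ≤ m := by
      intro d hd
      have h1 := MvPolynomial.support_sum hd
      rw [Finset.mem_biUnion] at h1
      obtain ⟨q, hq, hdq⟩ := h1
      have h2 := MvPolynomial.support_monomial_subset hdq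
      rw [Finset.mem_singleton] at h2
      rw [h2]; exact toF_deg q
    have hQev : evw A B (wz A B z) Q ∈ KaehlerDifferential.ideal A B ^ (m + 1) := by
      rw [← Ideal.Quotient.eq_zero_iff_mem]
      simp only [Q, map_sum]
      rw [← hsum]
      apply Finset.sum_congr rfl
      intro q _
      rw [mk_evw_monomial]
      rfl
    have hQ0 := eq_zero_of_evw_mem_of_degree_le A B (wz A B z) b0 hw hB m Q hQdeg hQev
    have hcoef : coeff (toF p) Q = g p := by
      simp only [Q, coeff_sum, coeff_monomial]
      rw [Finset.sum_eq_single p]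
      · simp
      · intro q _ hqp
        rw [if_neg]
        intro h; exact hqp (toF_inj h)
      · intro h; exact absurd hp h
    rw [← hcoef, hQ0, coeff_zero]
  have hsp : ⊤ ≤ Submodule.span B (Set.range v) := by
    rintro x -
    obtain ⟨y, rfl⟩ := Ideal.Quotient.mk_surjective x
    obtain ⟨Q, hQdeg, hQ⟩ := exists_evw_sub_mem A B (wz A B z) b0 hw m (m + 1) 0 (by omega) y
      (by simp)
    have h1 : (Ideal.Quotient.mk (KaehlerDifferential.ideal A B ^ (m + 1)) y : P m A B) =
        Ideal.Quotient.mk _ (evw A B (wz A B z) Q) := by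
      rw [Ideal.Quotient.eq]; exact hQ
    rw [h1, Q.as_sum, map_sum, map_sum]
    apply Submodule.sum_mem
    intro d hd
    rw [mk_evw_monomial]
    apply Submodule.smul_mem
    apply Submodule.subset_span
    have hdm : ∑ i, d i ≤ m := by
      have := hQdeg d hd
      rwa [Finsupp.degree_eq_sum] at this
    exact ⟨⟨fun i => d i, hdm⟩, rfl⟩
  exact ⟨Module.Basis.mk hli hsp, fun p => by rw [Module.Basis.mk_apply]⟩

end Groth.Agent.Lib.helper10.DiffSmBasisP
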