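import Mathlib
import Groth.Prelude.Def_PP16
import Groth.Agent.Lib.helper10.DiffSm

/-!
# Characteristic zero: free differentials imply differential smoothness
-/

set_option autoImplicit false
set_option linter.unusedVariables false
set_option linter.style.haveILetI false
set_option linter.unusedSectionVars false

namespace Groth.Agent.Lib.helper10.DiffSmChar0

open TensorProduct SymmetricPower PP16 Pointwise MvPolynomial
open Groth.Agent.Lib.helper10.SymPow Groth.Agent.Lib.helper10.SymPowGr
open Groth.Agent.Lib.helper10.DiffSm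

universe u

variable (A B : Type u) [CommRing A] [CommRing B] [Algebra A B]

section derivation

variable (φ : Ω[B⁄A] →ₗ[B] B)

/-- the derivation `b ↦ φ(db)` -/
noncomputable def Dphi : B →ₗ[A] B :=
  (φ.restrictScalars A) ∘ₗ (KaehlerDifferential.D A B).toLinearMap

lemma Dphi_apply (b : B) : Dphi A B φ b = φ (KaehlerDifferential.D A B b) := rfl

lemma Dphi_mul (b b' : B) : Dphi A B φ (b * b') = b * Dphi A B φ b' + b' * Dphi A B φ b := by
  simp only [Dphi_apply, Derivation.leibniz, map_add, map_smul, smul_eq_mul]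

/-- the operator `id ⊗ D_φ` on `B ⊗ B` -/
noncomputable def Del : B ⊗[A] B →ₗ[B] B ⊗[A] B := LinearMap.baseChange B (Dphi A B φ)

lemma Del_tmul (b b' : B) : Del A B φ (b ⊗ₜ[A] b') = b ⊗ₜ[A] φ (KaehlerDifferential.D A B b') := by
  rw [Del, LinearMap.baseChange_tmul]; rfl

lemma Del_mul (x y : B ⊗[A] B) : Del A B φ (x * y) = x * Del A B φ y + y * Del A B φ x := by
  induction x using TensorProduct.induction_on with
  | zero => simp
  | tmul a b =>
    induction y using TensorProduct.induction_on with
    | zero => simp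
    | tmul a' b' =>
      rw [Algebra.TensorProduct.tmul_mul_tmul, Del_tmul, Del_tmul, Del_tmul,
        Algebra.TensorProduct.tmul_mul_tmul, Algebra.TensorProduct.tmul_mul_tmul,
        Derivation.leibniz, map_add, map_smul, map_smul, TensorProduct.tmul_add,
        smul_eq_mul, smul_eq_mul, mul_comm a' a]
    | add y₁ y₂ h₁ h₂ =>
      rw [mul_add, map_add, h₁, h₂, map_add]
      ring
  | add x₁ x₂ h₁ h₂ =>
    rw [add_mul, map_add, h₁, h₂, map_add]
    ring

lemma mu_Del (r : B ⊗[A] B) :
    mu A B (Del A B φ r) = φ ((KaehlerDifferential.D A B).tensorProductTo r) := by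
  induction r using TensorProduct.induction_on with
  | zero => simp
  | tmul b b' =>
    rw [Del_tmul, Derivation.tensorProductTo_tmul, map_smul]
    simp [mu]
  | add x y hx hy => rw [map_add, map_add, hx, hy, map_add, map_add]

lemma mu_Del_of_mem (w : ↥(KaehlerDifferential.ideal A B)) :
    mu A B (Del A B φ w) = φ (piI A B w) := by
  rw [mu_Del, KaehlerDifferential.D_tensorProductTo]
  rfl

lemma Del_mem (m : ℕ) (y : B ⊗[A] B) (hy : y ∈ KaehlerDifferential.ideal A B ^ (m + 1)) :
    Del A B φ y ∈ KaehlerDifferential.ideal A B ^ m := by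
  induction m generalizing y with
  | zero => simp
  | succ m ih =>
    rw [pow_succ'] at hy
    refine Submodule.mul_induction_on hy ?_ ?_
    · intro x hx z hz
      rw [Del_mul]
      apply Ideal.add_mem
      · rw [pow_succ']
        exact Ideal.mul_mem_mul hx (ih z hz)
      · exact Ideal.mul_mem_right _ _ hz
    · intro x z hx hz
      rw [map_add]; exact Ideal.add_mem _ hx hz

end derivation

section basis

variable {κ : Type*} (b : Module.Basis κ B Ω[B⁄A])

/-- lifts of the basis to `I` -/
noncomputable def wl (k : κ) : ↥(KaehlerDifferential.ideal A B) :=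
  (piI_surjective A B (b k)).choose

lemma piI_wl (k : κ) : piI A B (wl A B b k) = b k := (piI_surjective A B (b k)).choose_spec

/-- evaluation at the lifts -/
noncomputable def ev : MvPolynomial κ B →ₐ[B] B ⊗[A] B :=
  aeval (fun k => (wl A B b k : B ⊗[A] B))

lemma ev_X (k : κ) : ev A B b (X k) = (wl A B b k : B ⊗[A] B) := by
  rw [ev, aeval_X]

lemma ev_C (c : B) : ev A B b (C c) = c ⊗ₜ[A] (1 : B) := by
  rw [ev, aeval_C, Algebra.TensorProduct.algebraMap_apply]
  rfl

lemma Del_wl_sub_mem [DecidableEq κ] (k j : κ) :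
    Del A B (b.coord k) (wl A B b j) - (if j = k then 1 else 0) ∈
      KaehlerDifferential.ideal A B := by
  rw [mem_ideal_iff, map_sub, mu_Del_of_mem, piI_wl, Module.Basis.coord_apply,
    Module.Basis.repr_self, Finsupp.single_apply]
  split_ifs <;> simp

lemma monomial_aux [DecidableEq κ] (k : κ) (m : ℕ) : ∀ (d : κ →₀ ℕ), d.degree = m → ∀ c : B,
    ev A B b (monomial d c) ∈ KaehlerDifferential.ideal A B ^ m ∧
    Del A B (b.coord k) (ev A B b (monomial d c)) - ev A B b (pderiv k (monomial d c)) ∈
      KaehlerDifferential.ideal A B ^ m := by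
  induction m with
  | zero =>
    intro d hd c
    simp
  | succ m ih =>
    intro d hd c
    have hne : d ≠ 0 := by
      intro h; rw [h] at hd; simp at hd
    obtain ⟨j, hj⟩ : ∃ j, d j ≠ 0 := by
      by_contra hcon
      push Not at hcon
      exact hne (Finsupp.ext hcon)
    have hd' : d = (d - Finsupp.single j 1) + Finsupp.single j 1 :=
      (Finsupp.sub_add_single_one_cancel hj).symm
    have hdeg' : (d - Finsupp.single j 1).degree = m := by
      have := congrArg Finsupp.degree hd'
      rw [map_add, Finsupp.degree_single, hd] at this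
      omega
    have hmono : monomial d c = monomial (d - Finsupp.single j 1) c * X j := by
      conv_lhs => rw [hd']
      rw [monomial_add_single, pow_one]
    obtain ⟨h1, h2⟩ := ih _ hdeg' c
    rw [hmono, map_mul, ev_X]
    constructor
    · rw [pow_succ]; exact Ideal.mul_mem_mul h1 (wl A B b j).2
    · rw [Del_mul, pderiv_mul, map_add, map_mul, map_mul, ev_X, pderiv_X, Pi.single_apply]
      have e : ev A B b (monomial (d - Finsupp.single j 1) c) *
            Del A B (b.coord k) (wl A B b j) +
          (wl A B b j : B ⊗[A] B) *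
            Del A B (b.coord k) (ev A B b (monomial (d - Finsupp.single j 1) c)) -
          (ev A B b (pderiv k (monomial (d - Finsupp.single j 1) c)) * (wl A B b j : B ⊗[A] B) +
            ev A B b (monomial (d - Finsupp.single j 1) c) *
              ev A B b (if j = k then 1 else 0)) =
          ev A B b (monomial (d - Finsupp.single j 1) c) *
            (Del A B (b.coord k) (wl A B b j) - (if j = k then 1 else 0)) +
          (wl A B b j : B ⊗[A] B) *
            (Del A B (b.coord k) (ev A B b (monomial (d - Finsupp.single j 1) c)) -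
              ev A B b (pderiv k (monomial (d - Finsupp.single j 1) c))) := by
        rw [apply_ite (ev A B b), map_one, map_zero]
        ring
      rw [e]
      apply Ideal.add_mem
      · rw [pow_succ]
        exact Ideal.mul_mem_mul h1 (Del_wl_sub_mem A B b k j)
      · rw [pow_succ']
        exact Ideal.mul_mem_mul (wl A B b j).2 h2

lemma homogeneous_aux [DecidableEq κ] (k : κ) (m : ℕ) (Q : MvPolynomial κ B)
    (hQ : Q.IsHomogeneous m) :
    ev A B b Q ∈ KaehlerDifferential.ideal A B ^ m ∧
    Del A B (b.coord k) (ev A B b Q) - ev A B b (pderiv k Q) ∈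
      KaehlerDifferential.ideal A B ^ m := by
  have hdeg : ∀ d ∈ Q.support, d.degree = m := by
    intro d hd
    rw [Finsupp.degree_eq_weight_one]
    exact hQ (MvPolynomial.mem_support_iff.mp hd)
  rw [Q.as_sum]
  simp only [map_sum]
  rw [← Finset.sum_sub_distrib]
  exact ⟨Ideal.sum_mem _ fun d hd => (monomial_aux A B b k m d (hdeg d hd) _).1,
    Ideal.sum_mem _ fun d hd => (monomial_aux A B b k m d (hdeg d hd) _).2⟩

lemma isUnit_natCast [Algebra ℚ B] (N : ℕ) (hN : N ≠ 0) : IsUnit ((N : ℕ) : B) := by
  have h1 : IsUnit ((N : ℚ)) := by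
    rw [isUnit_iff_ne_zero]; exact_mod_cast hN
  have h2 := h1.map (algebraMap ℚ B)
  simpa using h2

theorem eq_zero_of_ev_mem [Algebra ℚ B] (n : ℕ) : ∀ Q : MvPolynomial κ B, Q.IsHomogeneous n →
    ev A B b Q ∈ KaehlerDifferential.ideal A B ^ (n + 1) → Q = 0 := by
  classical
  induction n with
  | zero =>
    intro Q hQ hev
    have hQC : Q = C (coeff 0 Q) := by
      rw [← MvPolynomial.homogeneousComponent_zero, MvPolynomial.homogeneousComponent_eq_self hQ]
    rw [hQC, ev_C, zero_add, pow_one, mem_ideal_iff] at hev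
    have : coeff 0 Q = 0 := by simpa [mu] using hev
    rw [hQC, this, C_0]
  | succ n ih =>
    intro Q hQ hev
    have hpd : ∀ k, pderiv k Q = 0 := by
      intro k
      apply ih _ (by simpa using hQ.pderiv (i := k))
      have h1 := (homogeneous_aux A B b k (n + 1) Q hQ).2
      have h2 := Del_mem A B (b.coord k) (n + 1) (ev A B b Q) hev
      have := Ideal.sub_mem _ h2 h1
      simpa using this
    ext d
    rw [coeff_zero]
    by_cases hd : d.degree = n + 1
    · have hne : d ≠ 0 := by
        intro h; rw [h] at hd; simp at hd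
      obtain ⟨k, hk⟩ : ∃ k, d k ≠ 0 := by
        by_contra hcon
        push Not at hcon
        exact hne (Finsupp.ext hcon)
      have hd' : (d - Finsupp.single k 1) + Finsupp.single k 1 = d :=
        Finsupp.sub_add_single_one_cancel hk
      have h3 := coeff_pderiv (i := k) Q (d - Finsupp.single k 1)
      rw [hpd k, coeff_zero, hd'] at h3
      have h4 : IsUnit ((((d - Finsupp.single k 1 : κ →₀ ℕ) k + 1 : ℕ)) : B) :=
        isUnit_natCast B _ (Nat.succ_ne_zero _)
      rw [Nat.cast_add, Nat.cast_one] at h4
      exact (h4.mul_left_eq_zero.mp h3.symm)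
    · exact hQ.coeff_eq_zero hd

variable (ι : Type u) [Fintype ι]

lemma symToGrI_monoMap_monomial (d : κ →₀ ℕ) (hd : d.degree = Fintype.card ι) (c : B) :
    ∃ hy, symToGrI A B ι (monoMap ι b (monomial d c)) =
      cl A B _ (ev A B b (monomial d c)) hy := by
  have h1 : monoMap ι b (monomial d c) = c • SymmetricPower.tprod B
      (fun i => piI A B (wl A B b (chooseMap ι d hd i))) := by
    rw [monoMap_monomial (⇑b) d hd c]
    congr 2
    funext i
    exact (piI_wl A B b _).symm
  have h2 : ev A B b (monomial d c) =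
      (c ⊗ₜ[A] (1 : B)) * ∏ i, (wl A B b (chooseMap ι d hd i) : B ⊗[A] B) := by
    have : (monomial d c : MvPolynomial κ B) = C c * ∏ i, X (chooseMap ι d hd i) := by
      rw [prod_X_eq, typ_chooseMap, C_mul_monomial, mul_one]
    rw [this, map_mul, ev_C, map_prod]
    simp_rw [ev_X]
  refine ⟨h2 ▸ Ideal.mul_mem_left _ _ (prod_mem_pow_card _ ι _), ?_⟩
  rw [h1, map_smul, symToGrI_tprod, ← cl_smul]
  exact cl_congr A B _ h2.symm _

lemma symToGrI_monoMap (Q : MvPolynomial κ B) (hQ : Q.IsHomogeneous (Fintype.card ι)) :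
    ∃ hy, symToGrI A B ι (monoMap ι b Q) = cl A B _ (ev A B b Q) hy := by
  classical
  have hdeg : ∀ d ∈ Q.support, d.degree = Fintype.card ι := by
    intro d hd
    rw [Finsupp.degree_eq_weight_one]
    exact hQ (MvPolynomial.mem_support_iff.mp hd)
  have key := Finset.sum_induction (s := Q.support) (fun d => monomial d (coeff d Q))
    (fun P : MvPolynomial κ B => ∃ hy, symToGrI A B ι (monoMap ι b P) = cl A B _ (ev A B b P) hy)
    (by
      rintro P₁ P₂ ⟨hy₁, h₁⟩ ⟨hy₂, h₂⟩
      refine ⟨by rw [map_add]; exact Ideal.add_mem _ hy₁ hy₂, ?_⟩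
      rw [map_add, map_add, h₁, h₂, ← cl_add]
      exact cl_congr A B _ (map_add _ _ _).symm _)
    ⟨by rw [map_zero]; exact zero_mem _, by
      rw [map_zero, map_zero]; symm; rw [cl_eq_zero_iff]; rw [map_zero]; exact zero_mem _⟩
    (fun d hd => symToGrI_monoMap_monomial A B b ι d (hdeg d hd) _)
  rwa [← Q.as_sum] at key

include b in
theorem symToGrI_injective_of_basis [Algebra ℚ B] : Function.Injective (symToGrI A B ι) := by
  classical
  rw [injective_iff_map_eq_zero]
  intro x hx
  obtain ⟨Q, hQ, rfl⟩ := SymPow.exists_monoMap_eq (ι := ι) (⇑b) b.span_eq x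
  obtain ⟨hy, h⟩ := symToGrI_monoMap A B b ι Q hQ
  rw [hx] at h
  have h2 := (cl_eq_zero_iff A B _ _ hy).mp h.symm
  rw [eq_zero_of_ev_mem A B b _ Q hQ h2, map_zero]

end basis

/-- **characteristic zero + free differentials ⇒ differentially smooth** -/
theorem isDiffSmooth_of_free [Algebra ℚ B] (hΩ : Module.Free B Ω[B⁄A]) : IsDiffSmooth A B := by
  rw [isDiffSmooth_iff]
  exact ⟨inferInstance, fun ι _ _ =>
    symToGrI_injective_of_basis A B (Module.Free.chooseBasis B Ω[B⁄A]) ι⟩

end Groth.Agent.Lib.helper10.DiffSmChar0
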