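import Mathlib
import Groth.Prelude.Def_PP16
import Groth.Agent.Lib.helper10.DiffSmBC
import Groth.Agent.Lib.helper10.DiffSmFS
import Groth.Agent.S0585

/-!
# Faithfully flat descent of differential smoothness
-/

set_option autoImplicit false
set_option linter.unusedVariables false
set_option linter.style.haveILetI false
set_option linter.unusedSectionVars false

namespace Groth.Agent.Lib.helper10.DiffSmDescent

open TensorProduct SymmetricPower PP16 Pointwise MvPolynomial
open Groth.Agent.Lib.helper10.SymPow Groth.Agent.Lib.helper10.SymPowGr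
open Groth.Agent.Lib.helper10.DiffSm Groth.Agent.Lib.helper10.DiffSmBasis
open Groth.Agent.Lib.helper10.DiffSmSplit Groth.Agent.Lib.helper10.SymBaseChange
open Groth.Agent.Lib.helper10.DiffSmBC

universe u

variable (A B A' B' : Type u) [CommRing A] [CommRing B] [Algebra A B]
    [CommRing A'] [CommRing B'] [Algebra A' B'] [Algebra A A'] [Algebra B B'] [Algebra A B']
    [IsScalarTower A A' B'] [IsScalarTower A B B'] [Algebra.IsPushout A B A' B']

include A A' in
lemma faithfullyFlat_B [Module.FaithfullyFlat A A'] : Module.FaithfullyFlat B B' :=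
  Module.FaithfullyFlat.of_linearEquiv B (B ⊗[A] A')
    (Algebra.IsPushout.equiv A B A' B').symm.toLinearEquiv

/-- the base change isomorphism for differentials -/
noncomputable def eΩ : B' ⊗[B] Ω[B⁄A] ≃ₗ[B'] Ω[B'⁄A'] :=
  haveI : Algebra.IsPushout A A' B B' :=
    Algebra.IsPushout.symm (inferInstance : Algebra.IsPushout A B A' B')
  KaehlerDifferential.tensorKaehlerEquiv A A' B B'

lemma fOmega_D (a : B) : fOmega A B A' B' (KaehlerDifferential.D A B a) =
    KaehlerDifferential.D A' B' (algebraMap B B' a) := by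
  have h1 : KaehlerDifferential.D A B a = piI A B ⟨(1 : B) ⊗ₜ[A] a - a ⊗ₜ[A] (1 : B),
      KaehlerDifferential.one_smul_sub_smul_one_mem_ideal A a⟩ := rfl
  rw [h1, fOmega_piI, KaehlerDifferential.D_apply]
  change (KaehlerDifferential.ideal A' B').toCotangent _ =
    (KaehlerDifferential.ideal A' B').toCotangent _
  congr 1
  apply Subtype.ext
  simp only
  rw [map_sub, tm_tmul, tm_tmul, map_one]

lemma eΩ_one_tmul (x : Ω[B⁄A]) : eΩ A B A' B' ((1 : B') ⊗ₜ[B] x) = fOmega A B A' B' x := by
  have hx : x ∈ Submodule.span B (Set.range (KaehlerDifferential.D A B)) := by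
    rw [KaehlerDifferential.span_range_derivation]; trivial
  induction hx using Submodule.span_induction with
  | mem x hx =>
    obtain ⟨a, rfl⟩ := hx
    rw [fOmega_D, eΩ]
    haveI : Algebra.IsPushout A A' B B' :=
      Algebra.IsPushout.symm (inferInstance : Algebra.IsPushout A B A' B')
    rw [KaehlerDifferential.tensorKaehlerEquiv_tmul_D, one_smul]
  | zero => rw [TensorProduct.tmul_zero, map_zero, map_zero]
  | add x y _ _ hx hy => rw [TensorProduct.tmul_add, map_add, hx, hy, map_add]
  | smul b x _ hx =>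
    rw [TensorProduct.tmul_smul, ← algebraMap_smul B' b ((1 : B') ⊗ₜ[B] x), map_smul, hx,
      fOmega_smul]

section inj

variable [Module.Projective B Ω[B⁄A]] (ι : Type u) [Fintype ι]

/-- coefficientwise base change of polynomials, as a `B`-linear map -/
noncomputable def mapB : MvPolynomial Ω[B⁄A] B →ₗ[B] MvPolynomial Ω[B⁄A] B' :=
  (MvPolynomial.mapAlgHom (Algebra.ofId B B')).toLinearMap

lemma mapB_apply (p : MvPolynomial Ω[B⁄A] B) :
    mapB A B B' p = MvPolynomial.map (algebraMap B B') p := rfl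

/-- the linear form on `Ω'` -/
noncomputable def ell' : Ω[B'⁄A'] →ₗ[B'] MvPolynomial Ω[B⁄A] B' :=
  (LinearMap.liftBaseChange B' (mapB A B B' ∘ₗ DiffSmFS.ell A B)) ∘ₗ
    (eΩ A B A' B').symm.toLinearMap

lemma ell'_fOmega (x : Ω[B⁄A]) :
    ell' A B A' B' (fOmega A B A' B' x) = mapB A B B' (DiffSmFS.ell A B x) := by
  rw [ell', LinearMap.comp_apply, ← eΩ_one_tmul]
  simp

lemma evalProd_natSym (x : Sym[B] ι Ω[B⁄A]) :
    evalProd (ell' A B A' B') (natSym (fOmega A B A' B') (fOmega_smul A B A' B') ι x) =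
      mapB A B B' (evalProd (DiffSmFS.ell A B) x) := by
  induction x using SymPow.induction_on with
  | zero => rw [natSym_zero, map_zero, map_zero, map_zero]
  | smul_tprod b v =>
    rw [natSym_smul, natSym_tprod, map_smul, evalProd_tprod, map_smul, evalProd_tprod, map_smul,
      algebraMap_smul]
    congr 1
    rw [mapB_apply, map_prod]
    apply Finset.prod_congr rfl
    intro i _
    rw [ell'_fOmega, mapB_apply]
  | add x y hx hy => rw [natSym_add, map_add, hx, hy, map_add, map_add]

lemma natSym_injective (hinj : Function.Injective (algebraMap B B')) :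
    Function.Injective (natSym (fOmega A B A' B') (fOmega_smul A B A' B') ι) := by
  intro x y hxy
  have h1 := evalProd_natSym A B A' B' ι x
  have h2 := evalProd_natSym A B A' B' ι y
  rw [hxy, h2] at h1
  have h3 : evalProd (DiffSmFS.ell A B) y = evalProd (DiffSmFS.ell A B) x :=
    MvPolynomial.map_injective _ hinj h1
  exact (DiffSmFS.evalProd_ell_injective A B ι h3).symm

end inj

section compat

variable (ι : Type u) [Fintype ι]

lemma symToGrI_natSym (x : Sym[B] ι Ω[B⁄A]) :
    ∃ (y : B ⊗[A] B) (hy : y ∈ KaehlerDifferential.ideal A B ^ (Fintype.card ι)),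
      symToGrI A B ι x = cl A B _ y hy ∧
      symToGrI A' B' ι (natSym (fOmega A B A' B') (fOmega_smul A B A' B') ι x) =
        cl A' B' _ (tm A B A' B' y) (tm_mem_pow A B A' B' _ y hy) := by
  induction x using SymPow.induction_on with
  | zero =>
    refine ⟨0, zero_mem _, ?_, ?_⟩
    · rw [map_zero]; symm; rw [cl_eq_zero_iff]; exact zero_mem _
    · rw [natSym_zero, map_zero]; symm; rw [cl_eq_zero_iff, map_zero]; exact zero_mem _
  | smul_tprod b v =>
    choose w hw using fun i => piI_surjective A B (v i)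
    have hv : v = fun i => piI A B (w i) := funext fun i => (hw i).symm
    refine ⟨(b ⊗ₜ[A] (1 : B)) * ∏ i, (w i : B ⊗[A] B),
      Ideal.mul_mem_left _ _ (prod_mem_pow_card _ ι w), ?_, ?_⟩
    · rw [map_smul, hv, symToGrI_tprod, cl_smul]
    · rw [natSym_smul, natSym_tprod, map_smul, hv]
      have h1 : (fun i => fOmega A B A' B' (piI A B (w i))) =
          fun i => piI A' B' ⟨tm A B A' B' (w i), tm_mem A B A' B' (w i) (w i).2⟩ :=
        funext fun i => fOmega_piI A B A' B' (w i)
      rw [h1, symToGrI_tprod, ← cl_smul]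
      apply cl_congr
      rw [map_mul, tm_tmul, map_one, map_prod]
  | add x y hx hy =>
    obtain ⟨y₁, hy₁, h₁, h₁'⟩ := hx
    obtain ⟨y₂, hy₂, h₂, h₂'⟩ := hy
    refine ⟨y₁ + y₂, Ideal.add_mem _ hy₁ hy₂, by rw [map_add, h₁, h₂, cl_add], ?_⟩
    rw [natSym_add, map_add, h₁', h₂', ← cl_add]
    exact cl_congr A' B' _ (map_add _ _ _).symm _

end compat

/-- **faithfully flat descent of differential smoothness** -/
theorem isDiffSmooth_descent [Module.FaithfullyFlat A A'] (h : IsDiffSmooth A' B')
    (hfin : Module.Finite B' Ω[B'⁄A']) :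
    IsDiffSmooth A B ∧ Module.Finite B Ω[B⁄A] := by
  haveI hff : Module.FaithfullyFlat B B' := faithfullyFlat_B A B A' B'
  haveI hp' : Module.Projective B' Ω[B'⁄A'] := h.1
  haveI : Module.Projective B' (B' ⊗[B] Ω[B⁄A]) :=
    Module.Projective.of_equiv' (eΩ A B A' B').symm
  haveI : Module.Finite B' (B' ⊗[B] Ω[B⁄A]) := Module.Finite.equiv (eΩ A B A' B').symm
  haveI hproj : Module.Projective B Ω[B⁄A] := Groth.Agent.S0585.result B B' Ω[B⁄A]
  have hfinB : Module.Finite B Ω[B⁄A] := Module.Finite.of_finite_tensorProduct_of_faithfullyFlat B'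
  refine ⟨?_, hfinB⟩
  rw [isDiffSmooth_iff]
  refine ⟨hproj, ?_⟩
  intro ι _ _
  rw [injective_iff_map_eq_zero]
  intro x hx
  obtain ⟨y, hy, e1, e2⟩ := symToGrI_natSym A B A' B' ι x
  rw [hx] at e1
  have h1 := (cl_eq_zero_iff A B _ y hy).mp e1.symm
  have h2 : cl A' B' _ (tm A B A' B' y) (tm_mem_pow A B A' B' _ y hy) = 0 :=
    (cl_eq_zero_iff A' B' _ _ _).mpr (tm_mem_pow A B A' B' _ y h1)
  rw [h2, ← map_zero (symToGrI A' B' ι)] at e2
  have h3 := symToGrI_injective_of_isDiffSmooth A' B' h ι e2
  have hinj : Function.Injective (algebraMap B B') :=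
    FaithfulSMul.algebraMap_injective B B'
  have h4 := natSym_injective A B A' B' ι hinj
  apply h4
  rw [h3, natSym_zero]

end Groth.Agent.Lib.helper10.DiffSmDescent
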