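import Mathlib
import Groth.Prelude.Def_PP16
import Groth.Prelude.Def_DiffOp
import Groth.Agent.Lib.helper10.DiffSmBasisP
import Groth.Agent.Lib.helper11.DiffOpLin
import Groth.Agent.S3818

/-!
# Differential smoothness and the "divided power" differential operators `D_p`
-/

set_option autoImplicit false
set_option linter.unusedVariables false
set_option linter.style.haveILetI false
set_option linter.unusedSectionVars false

namespace Groth.Agent.Lib.helper10.DiffSmOps

open TensorProduct SymmetricPower PP16 Pointwise MvPolynomial Diff16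
open Groth.Agent.Lib.helper10.SymPow Groth.Agent.Lib.helper10.SymPowGr
open Groth.Agent.Lib.helper10.DiffSm Groth.Agent.Lib.helper10.DiffSmBasis
open Groth.Agent.Lib.helper10.DiffSmBasisP Groth.Agent.Lib.helper11.DiffOp

universe u

/-- the monomials `z^q` -/
def Z {B : Type u} [CommRing B] {ι : Type} [Fintype ι] (z : ι → B) (q : ι → ℕ) : B :=
  ∏ i, z i ^ q i

/-- `binom(k,j) z^(k-j)` -/
def cc {B : Type u} [CommRing B] {ι : Type} [Fintype ι] (z : ι → B) (k j : ι → ℕ) : B :=
  ∏ i, ((Nat.choose (k i) (j i) : ℕ) : B) * z i ^ (k i - j i)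

variable (A B : Type u) [CommRing A] [CommRing B] [Algebra A B]
  {ι : Type} [Fintype ι] [DecidableEq ι] (z : ι → B)

/-- the monomials `w^q`, `w_i = 1 ⊗ z_i - z_i ⊗ 1` -/
noncomputable def W (q : ι → ℕ) : B ⊗[A] B := ∏ i, (wz A B z i : B ⊗[A] B) ^ q i

lemma cc_self (k : ι → ℕ) : cc z k k = 1 := by
  simp [cc]

lemma cc_eq (k p : ι → ℕ) :
    cc z k p = ((∏ i, Nat.choose (k i) (p i) : ℕ) : B) * ∏ i, z i ^ (k i - p i) := by
  rw [cc, Finset.prod_mul_distrib, Nat.cast_prod]

lemma one_tmul_Z (k : ι → ℕ) : (1 : B) ⊗ₜ[A] Z z k =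
    ∑ j ∈ Fintype.piFinset (fun i => Finset.range (k i + 1)),
      (cc z k j ⊗ₜ[A] (1 : B)) * W A B z j := by
  have h1 : (1 : B) ⊗ₜ[A] Z z k =
      ∏ i, ((wz A B z i : B ⊗[A] B) + z i ⊗ₜ[A] (1 : B)) ^ k i := by
    have : (1 : B) ⊗ₜ[A] Z z k = Algebra.TensorProduct.includeRight (R := A) (A := B) (Z z k) := rfl
    rw [this, Z, map_prod]
    apply Finset.prod_congr rfl
    intro i _
    rw [map_pow]
    congr 1
    simp [wz]
  rw [h1]
  simp_rw [add_pow]
  rw [Finset.prod_univ_sum]
  apply Finset.sum_congr rfl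
  intro j _
  have h2 : cc z k j ⊗ₜ[A] (1 : B) =
      Algebra.TensorProduct.includeLeft (R := A) (S := A) (A := B) (B := B) (cc z k j) := rfl
  rw [h2, cc, map_prod, W, ← Finset.prod_mul_distrib]
  apply Finset.prod_congr rfl
  intro i _
  rw [map_mul, map_pow, map_natCast]
  simp only [Algebra.TensorProduct.includeLeft_apply]
  ring

lemma sum_cc_delta (k p : ι → ℕ) :
    ∑ j ∈ Fintype.piFinset (fun i => Finset.range (k i + 1)),
      cc z k j * (if j = p then 1 else 0) = cc z k p := by
  by_cases hp : p ∈ Fintype.piFinset (fun i => Finset.range (k i + 1))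
  · rw [Finset.sum_eq_single_of_mem p hp]
    · simp
    · intro j _ hj
      rw [if_neg hj, mul_zero]
  · rw [Finset.sum_eq_zero]
    · rw [Fintype.mem_piFinset] at hp
      push Not at hp
      obtain ⟨i, hi⟩ := hp
      rw [Finset.mem_range] at hi
      rw [cc]
      symm
      apply Finset.prod_eq_zero (Finset.mem_univ i)
      rw [Nat.choose_eq_zero_of_lt (by omega)]
      simp
    · intro j hj
      rw [if_neg, mul_zero]
      rintro rfl
      exact hp hj

lemma self_mem_piFinset (k : ι → ℕ) :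
    k ∈ Fintype.piFinset (fun i => Finset.range (k i + 1)) := by
  rw [Fintype.mem_piFinset]
  intro i
  rw [Finset.mem_range]
  omega

lemma sum_lt_of_mem_piFinset (k j : ι → ℕ)
    (hj : j ∈ Fintype.piFinset (fun i => Finset.range (k i + 1))) (hne : j ≠ k) :
    ∑ i, j i < ∑ i, k i := by
  rw [Fintype.mem_piFinset] at hj
  have hle : ∀ i, j i ≤ k i := fun i => by
    have := hj i
    rw [Finset.mem_range] at this
    omega
  obtain ⟨i, hi⟩ : ∃ i, j i ≠ k i := by
    by_contra hcon
    push Not at hcon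
    exact hne (funext hcon)
  apply Finset.sum_lt_sum (fun i _ => hle i)
  exact ⟨i, Finset.mem_univ i, lt_of_le_of_ne (hle i) hi⟩

lemma W_mem (q : ι → ℕ) : W A B z q ∈ KaehlerDifferential.ideal A B ^ (∑ i, q i) := by
  rw [W, ← Finset.prod_pow_eq_pow_sum]
  apply Ideal.prod_mem_prod
  intro i _
  exact Ideal.pow_mem_pow (wz A B z i).2 _

lemma evw_monomial (d : ι →₀ ℕ) (c : B) :
    evw A B (wz A B z) (monomial d c) = (c ⊗ₜ[A] (1 : B)) * W A B z (⇑d) := by
  rw [evw, aeval_monomial, Finsupp.prod_fintype _ _ (by simp), W,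
    Algebra.TensorProduct.algebraMap_apply]
  rfl

section linearize

variable (D : B →ₗ[A] B)

lemma linearize_smul (c : B) (y : B ⊗[A] B) :
    linearize A B B B D ((c ⊗ₜ[A] (1 : B)) * y) = c * linearize A B B B D y := by
  induction y using TensorProduct.induction_on with
  | zero => simp
  | tmul b b' =>
    rw [Algebra.TensorProduct.tmul_mul_tmul, linearize_tmul, linearize_tmul, one_mul, smul_eq_mul,
      smul_eq_mul, mul_assoc]
  | add x y hx hy => rw [mul_add, map_add, map_add, hx, hy, mul_add]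

end linearize

section ops

variable (Dp : (ι → ℕ) → (B →ₗ[A] B))
  (hDz : ∀ p q : ι → ℕ, Dp p (∏ i, z i ^ q i) =
    ((∏ i, Nat.choose (q i) (p i) : ℕ) : B) * ∏ i, z i ^ (q i - p i))

include hDz in
lemma linearize_W (p : ι → ℕ) : ∀ (N : ℕ) (k : ι → ℕ), ∑ i, k i = N →
    linearize A B B B (Dp p) (W A B z k) = if k = p then 1 else 0 := by
  intro N
  induction N using Nat.strong_induction_on with
  | _ N ih =>
    intro k hk
    have h1 : Dp p (Z z k) = ∑ j ∈ Fintype.piFinset (fun i => Finset.range (k i + 1)),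
        cc z k j * linearize A B B B (Dp p) (W A B z j) := by
      have : Dp p (Z z k) = linearize A B B B (Dp p) ((1 : B) ⊗ₜ[A] Z z k) := by
        rw [linearize_tmul, one_smul]
      rw [this, one_tmul_Z, map_sum]
      apply Finset.sum_congr rfl
      intro j _
      rw [linearize_smul]
    have h2 : Dp p (Z z k) = cc z k p := by
      rw [cc_eq, Z]; exact hDz p k
    have h3 := sum_cc_delta B z k p
    have h4 : ∑ j ∈ Fintype.piFinset (fun i => Finset.range (k i + 1)),
        cc z k j * (linearize A B B B (Dp p) (W A B z j) - if j = p then 1 else 0) = 0 := by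
      simp_rw [mul_sub]
      rw [Finset.sum_sub_distrib, ← h1, h3, h2, sub_self]
    rw [Finset.sum_eq_single_of_mem k (self_mem_piFinset k), cc_self, one_mul, sub_eq_zero] at h4
    · exact h4
    · intro j hj hne
      have hlt := sum_lt_of_mem_piFinset k j hj hne
      rw [hk] at hlt
      rw [ih _ hlt j rfl, sub_self, mul_zero]

variable (hz : Submodule.span B (Set.range fun i => KaehlerDifferential.D A B (z i)) = ⊤)
  (hD : ∀ p, ∃ k : ℕ, IsDiffOpLE A B B B k (Dp p))

include hDz hz hD in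
/-- the core injectivity statement -/
lemma eq_zero_of_evw_mem (n : ℕ) (Q : MvPolynomial ι B) (hQ : Q.IsHomogeneous n)
    (hev : evw A B (wz A B z) Q ∈ KaehlerDifferential.ideal A B ^ (n + 1)) : Q = 0 := by
  classical
  have hord := (Groth.Agent.S3818.result A B ι z hz Dp hD hDz).1
  ext d
  rw [coeff_zero]
  by_cases hd : d.degree = n
  · have hsum : ∑ i, (⇑d) i = n := by rw [← Finsupp.degree_eq_sum]; exact hd
    have h1 := (isDiffOpLE_iff_linearize_vanishes (∑ i, (⇑d) i) (Dp (⇑d))).mp (hord (⇑d))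
      (evw A B (wz A B z) Q) (by rw [hsum]; exact hev)
    rw [Q.as_sum, map_sum, map_sum] at h1
    simp_rw [evw_monomial, linearize_smul, linearize_W A B z Dp hDz (⇑d) _ _ rfl] at h1
    rw [Finset.sum_eq_single d] at h1
    · simpa using h1
    · intro d' _ hne
      rw [if_neg, mul_zero]
      intro h
      exact hne (DFunLike.coe_injective h)
    · intro hnot
      rw [MvPolynomial.notMem_support_iff.mp hnot, zero_mul]
  · exact hQ.coeff_eq_zero hd

include hDz hz hD in
theorem isDiffSmooth_and_basis_of_ops :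
    IsDiffSmooth A B ∧
      ∃ b : Module.Basis ι B Ω[B⁄A], ∀ i, b i = KaehlerDifferential.D A B (z i) := by
  classical
  have hspan' : Submodule.span B (Set.range (fun i => piI A B (wz A B z i))) = ⊤ := hz
  -- linear independence
  have hli : LinearIndependent B (fun i => KaehlerDifferential.D A B (z i)) := by
    rw [Fintype.linearIndependent_iff]
    intro g hg i
    let Q : MvPolynomial ι B := ∑ i, C (g i) * X i
    have hQ : Q.IsHomogeneous 1 :=
      MvPolynomial.IsHomogeneous.sum _ _ _ (fun i _ => MvPolynomial.isHomogeneous_C_mul_X _ _)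
    have hev : evw A B (wz A B z) Q ∈ KaehlerDifferential.ideal A B ^ (1 + 1) := by
      have h1 : evw A B (wz A B z) Q =
          ((∑ i, g i • wz A B z i : ↥(KaehlerDifferential.ideal A B)) : B ⊗[A] B) := by
        simp only [Q, map_sum, map_mul, evw_C, evw_X, Submodule.coe_sum]
        apply Finset.sum_congr rfl
        intro i _
        change _ = g i • (wz A B z i : B ⊗[A] B)
        rw [Algebra.smul_def, Algebra.TensorProduct.algebraMap_apply]
        rfl
      rw [h1, ← Ideal.toCotangent_eq_zero]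
      have h2 : piI A B (∑ i, g i • wz A B z i) = 0 := by
        rw [map_sum]
        simp_rw [map_smul, piI_wz]
        exact hg
      exact h2
    have hQ0 := eq_zero_of_evw_mem A B z Dp hDz hz hD 1 Q hQ hev
    have hco : coeff (Finsupp.single i 1) Q = g i := by
      simp only [Q, MvPolynomial.coeff_sum, MvPolynomial.coeff_C_mul, MvPolynomial.coeff_X',
        Finsupp.single_left_inj one_ne_zero]
      simp
    rw [← hco, hQ0, coeff_zero]
  have hsp : ⊤ ≤ Submodule.span B (Set.range (fun i => KaehlerDifferential.D A B (z i))) :=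
    hz.ge
  let b : Module.Basis ι B Ω[B⁄A] := Module.Basis.mk hli hsp
  have hb : ∀ i, b i = KaehlerDifferential.D A B (z i) := fun i => by
    rw [Module.Basis.mk_apply]
  refine ⟨?_, b, hb⟩
  rw [isDiffSmooth_iff]
  refine ⟨Module.Projective.of_basis b, ?_⟩
  intro κ _ _
  rw [injective_iff_map_eq_zero]
  intro x hx
  obtain ⟨Q, hQ, rfl⟩ := SymPow.exists_monoMap_eq (ι := κ)
    (fun i => piI A B (wz A B z i)) hspan' x
  obtain ⟨hy, e⟩ := symToGrI_monoMap A B (wz A B z) κ Q hQ
  rw [hx] at e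
  have h2 := (cl_eq_zero_iff A B _ _ hy).mp e.symm
  rw [eq_zero_of_evw_mem A B z Dp hDz hz hD _ Q hQ h2, map_zero]

end ops

section converse

lemma mk_W (m : ℕ) (q : ι → ℕ) :
    (Ideal.Quotient.mk (KaehlerDifferential.ideal A B ^ (m + 1)) (W A B z q) : P m A B) =
      ∏ i, zeta A B z m i ^ q i := by
  rw [W, map_prod]
  simp_rw [map_pow]
  rfl

theorem exists_ops (hB : IsDiffSmooth A B)
    (hbasis : ∃ b : Module.Basis ι B Ω[B⁄A], ∀ i, b i = KaehlerDifferential.D A B (z i)) :
    ∃ Dp : (ι → ℕ) → (B →ₗ[A] B),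
      (∀ p, ∃ k : ℕ, IsDiffOpLE A B B B k (Dp p)) ∧
      ∀ p q : ι → ℕ, Dp p (∏ i, z i ^ q i) =
        ((∏ i, Nat.choose (q i) (p i) : ℕ) : B) * ∏ i, z i ^ (q i - p i) := by
  classical
  have hex := fun m => exists_basis A B z m hB hbasis
  choose bb hbb using hex
  let u : (p : ι → ℕ) → (P (∑ i, p i) A B →ₗ[B] B) :=
    fun p => (bb (∑ i, p i)).coord ⟨p, le_rfl⟩
  let Dp : (ι → ℕ) → (B →ₗ[A] B) :=
    fun p => ((u p).restrictScalars A) ∘ₗ (dn (∑ i, p i) A B).toLinearMap
  have key : ∀ (p : ι → ℕ) (y : B ⊗[A] B),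
      linearize A B B B (Dp p) y = u p (Ideal.Quotient.mk _ y) := by
    intro p y
    induction y using TensorProduct.induction_on with
    | zero => simp
    | tmul b b' =>
      rw [linearize_tmul]
      change b • u p (Ideal.Quotient.mk _ ((1 : B) ⊗ₜ[A] b')) = _
      rw [← map_smul, smul_mk, Algebra.TensorProduct.tmul_mul_tmul, mul_one, one_mul]
    | add x y hx hy => rw [map_add, hx, hy, map_add, map_add]
  have huW : ∀ (p j : ι → ℕ),
      u p (Ideal.Quotient.mk _ (W A B z j)) = if j = p then 1 else 0 := by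
    intro p j
    by_cases hj : ∑ i, j i ≤ ∑ i, p i
    · rw [mk_W, ← hbb (∑ i, p i) ⟨j, hj⟩]
      simp only [u, Module.Basis.coord_apply, Module.Basis.repr_self, Finsupp.single_apply,
        Subtype.mk.injEq]
    · have h1 : W A B z j ∈ KaehlerDifferential.ideal A B ^ (∑ i, p i + 1) :=
        Ideal.pow_le_pow_right (by omega) (W_mem A B z j)
      rw [Ideal.Quotient.eq_zero_iff_mem.mpr h1, map_zero, if_neg]
      rintro rfl
      exact hj le_rfl
  refine ⟨Dp, ?_, ?_⟩
  · intro p
    refine ⟨∑ i, p i, ?_⟩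
    rw [isDiffOpLE_iff_linearize_vanishes]
    intro x hx
    rw [key, Ideal.Quotient.eq_zero_iff_mem.mpr hx, map_zero]
  · intro p q
    have h1 : Dp p (Z z q) = linearize A B B B (Dp p) ((1 : B) ⊗ₜ[A] Z z q) := by
      rw [linearize_tmul, one_smul]
    change Dp p (Z z q) = _
    rw [h1, one_tmul_Z, map_sum, ← cc_eq, ← sum_cc_delta B z q p]
    apply Finset.sum_congr rfl
    intro j _
    rw [linearize_smul, key, huW]

end converse

/-- **EGA IV 16.11.2, a) ⇔ b)** -/
theorem isDiffSmooth_and_basis_iff_ops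
    (hz : Submodule.span B (Set.range fun i => KaehlerDifferential.D A B (z i)) = ⊤) :
    (IsDiffSmooth A B ∧
        ∃ b : Module.Basis ι B Ω[B⁄A], ∀ i, b i = KaehlerDifferential.D A B (z i)) ↔
      ∃ Dp : (ι → ℕ) → (B →ₗ[A] B),
        (∀ p, ∃ k : ℕ, IsDiffOpLE A B B B k (Dp p)) ∧
        ∀ p q : ι → ℕ, Dp p (∏ i, z i ^ q i) =
          ((∏ i, Nat.choose (q i) (p i) : ℕ) : B) * ∏ i, z i ^ (q i - p i) := by
  constructor
  · rintro ⟨hB, hbasis⟩
    exact exists_ops A B z hB hbasis
  · rintro ⟨Dp, hD, hDz⟩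
    exact isDiffSmooth_and_basis_of_ops A B z Dp hDz hz hD

end Groth.Agent.Lib.helper10.DiffSmOps
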