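import Mathlib
import Groth.Agent.Lib.helper10.SymPowBasic

/-!
# Comparison of symmetric powers over `B` and over a `B`-algebra `R` retracting onto `B`

If `μ : R → B` is a retraction of `B → R` and `R` acts on `M` through `μ`, then for nonempty `ι`
the symmetric powers `Sym^ι_B M` and `Sym^ι_R M` agree.
-/

set_option autoImplicit false
set_option linter.unusedVariables false
set_option linter.style.haveILetI false
set_option linter.unusedSectionVars false

namespace Groth.Agent.Lib.helper10.SymCompare

open TensorProduct SymmetricPower
open Groth.Agent.Lib.helper10.SymPow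

universe u v

variable {B R : Type u} [CommRing B] [CommRing R] [Algebra B R] (μ : R →+* B)
  (hμ : ∀ b, μ (algebraMap B R b) = b)
  {M : Type v} [AddCommGroup M] [Module B M] [Module R M] [IsScalarTower B R M]
  (hM : ∀ (r : R) (x : M), r • x = μ r • x)
  (ι : Type u) [Fintype ι]

/-- `Sym_R` as a `B`-module -/
@[reducible] noncomputable def modB : Module B (Sym[R] ι M) := Module.compHom _ (algebraMap B R)

/-- `Sym_B` as an `R`-module through `μ` -/
@[reducible] noncomputable def modR : Module R (Sym[B] ι M) := Module.compHom _ μ

/-- `tprod R` as a `B`-multilinear map -/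
noncomputable def tprodB : letI := modB (B := B) (R := R) (M := M) ι
    MultilinearMap B (fun _ : ι => M) (Sym[R] ι M) :=
  letI := modB (B := B) (R := R) (M := M) ι
  { toFun := fun v => SymmetricPower.tprod R v
    map_update_add' := fun v i x y => (SymmetricPower.tprod R).map_update_add v i x y
    map_update_smul' := fun v i b x => by
      rw [← algebraMap_smul R b x, (SymmetricPower.tprod R).map_update_smul]
      rfl }

/-- `tprod B` as an `R`-multilinear map -/
noncomputable def tprodR : letI := modR (B := B) (R := R) (M := M) μ ι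
    MultilinearMap R (fun _ : ι => M) (Sym[B] ι M) :=
  letI := modR (B := B) (R := R) (M := M) μ ι
  { toFun := fun v => SymmetricPower.tprod B v
    map_update_add' := fun v i x y => (SymmetricPower.tprod B).map_update_add v i x y
    map_update_smul' := fun v i r x => by
      rw [hM r x, (SymmetricPower.tprod B).map_update_smul]
      rfl }

/-- the comparison map `Sym_B → Sym_R` -/
noncomputable def cmp : letI := modB (B := B) (R := R) (M := M) ι
    Sym[B] ι M →ₗ[B] Sym[R] ι M :=
  letI := modB (B := B) (R := R) (M := M) ι
  SymPow.lift (tprodB (B := B) (R := R) (M := M) ι) (fun e v => SymmetricPower.tprod_equiv e v)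

/-- the comparison map `Sym_R → Sym_B` -/
noncomputable def cmp' : letI := modR (B := B) (R := R) (M := M) μ ι
    Sym[R] ι M →ₗ[R] Sym[B] ι M :=
  letI := modR (B := B) (R := R) (M := M) μ ι
  SymPow.lift (tprodR (B := B) (R := R) (M := M) μ hM ι)
    (fun e v => SymmetricPower.tprod_equiv e v)

lemma cmp_tprod (v : ι → M) :
    cmp (B := B) (R := R) (M := M) ι (SymmetricPower.tprod B v) = SymmetricPower.tprod R v := by
  letI := modB (B := B) (R := R) (M := M) ι
  rw [cmp, SymPow.lift_tprod]
  rfl

lemma cmp_smul (b : B) (x : Sym[B] ι M) :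
    cmp (B := B) (R := R) (M := M) ι (b • x) =
      algebraMap B R b • cmp (B := B) (R := R) (M := M) ι x := by
  letI := modB (B := B) (R := R) (M := M) ι
  rw [map_smul]
  rfl

lemma cmp'_tprod (v : ι → M) :
    cmp' (B := B) (R := R) (M := M) μ hM ι (SymmetricPower.tprod R v) =
      SymmetricPower.tprod B v := by
  letI := modR (B := B) (R := R) (M := M) μ ι
  rw [cmp', SymPow.lift_tprod]
  rfl

lemma cmp'_smul (r : R) (x : Sym[R] ι M) :
    cmp' (B := B) (R := R) (M := M) μ hM ι (r • x) =
      μ r • cmp' (B := B) (R := R) (M := M) μ hM ι x := by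
  letI := modR (B := B) (R := R) (M := M) μ ι
  rw [map_smul]
  rfl

include hμ in
lemma cmp'_cmp (x : Sym[B] ι M) :
    cmp' (B := B) (R := R) (M := M) μ hM ι (cmp (B := B) (R := R) (M := M) ι x) = x := by
  induction x using SymPow.induction_on with
  | zero => simp
  | smul_tprod b v => rw [cmp_smul, cmp_tprod, cmp'_smul, cmp'_tprod, hμ]
  | add x y hx hy => rw [map_add, map_add, hx, hy]

include hM in
lemma smul_sym_eq [Nonempty ι] (r : R) (z : Sym[R] ι M) :
    algebraMap B R (μ r) • z = r • z := by
  classical
  induction z using SymPow.induction_on with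
  | zero => simp
  | smul_tprod s v =>
    obtain ⟨i₀⟩ := ‹Nonempty ι›
    rw [smul_comm, smul_comm r]
    congr 1
    have h1 : ∀ t : R, t • SymmetricPower.tprod R v =
        SymmetricPower.tprod R (Function.update v i₀ (t • v i₀)) := by
      intro t
      rw [(SymmetricPower.tprod R).map_update_smul, Function.update_eq_self]
    rw [h1, h1, algebraMap_smul, ← hM]
  | add x y hx hy => rw [smul_add, smul_add, hx, hy]

include hM in
lemma cmp_cmp' [Nonempty ι] (z : Sym[R] ι M) :
    cmp (B := B) (R := R) (M := M) ι (cmp' (B := B) (R := R) (M := M) μ hM ι z) = z := by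
  induction z using SymPow.induction_on with
  | zero => simp
  | smul_tprod r v =>
    rw [cmp'_smul, cmp'_tprod, cmp_smul, cmp_tprod]
    exact smul_sym_eq μ hM ι r _
  | add x y hx hy => rw [map_add, map_add, hx, hy]

include hμ hM in
/-- the comparison is bijective for nonempty `ι` -/
theorem cmp_bijective [Nonempty ι] :
    Function.Bijective (cmp (B := B) (R := R) (M := M) ι) :=
  ⟨Function.LeftInverse.injective (cmp'_cmp μ hμ hM ι),
    Function.RightInverse.surjective (cmp_cmp' μ hM ι)⟩

end Groth.Agent.Lib.helper10.SymCompare
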