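import Mathlib
import Groth.Prelude.Def_PP16
import Groth.Agent.Lib.helper10.DiffSm
import Groth.Agent.Lib.helper10.SymCompare
import Groth.Agent.Lib.helper10.QRSym

/-!
# Differential smoothness and quasi-regularity of the diagonal
-/

set_option autoImplicit false
set_option linter.unusedVariables false
set_option linter.style.haveILetI false
set_option linter.unusedSectionVars false

namespace Groth.Agent.Lib.helper10.DiffSmQR

open TensorProduct SymmetricPower PP16 Pointwise
open Groth.Agent.Lib.helper10.SymPow Groth.Agent.Lib.helper10.SymPowGr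
open Groth.Agent.Lib.helper10.DiffSm Groth.Agent.Lib.helper10.SymCompare
open Groth.Agent.Lib.helper10.QRSym

universe u

section general

/-- transfer of projectivity along a ring isomorphism acting compatibly on the same module -/
lemma projective_iff_of_ringInverse {B C : Type*} [CommRing B] [CommRing C] (σ : B →+* C)
    (σ' : C →+* B) (h1 : σ'.comp σ = RingHom.id B) (h2 : σ.comp σ' = RingHom.id C)
    {M : Type*} [AddCommGroup M] [Module B M] [Module C M] (hM : ∀ (b : B) (x : M), σ b • x = b • x) :
    Module.Projective B M ↔ Module.Projective C M := by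
  haveI i1 : RingHomInvPair σ σ' := ⟨h1, h2⟩
  haveI i2 : RingHomInvPair σ' σ := ⟨h2, h1⟩
  have hM' : ∀ (c : C) (x : M), σ' c • x = c • x := by
    intro c x
    rw [← hM]
    congr 1
    exact RingHom.congr_fun h2 c
  constructor
  · intro h
    let e₂ : M ≃ₛₗ[σ] M :=
      { toFun := id, invFun := id, left_inv := fun _ => rfl, right_inv := fun _ => rfl
        map_add' := fun _ _ => rfl
        map_smul' := fun b x => (hM b x).symm }
    exact Module.Projective.of_equiv e₂
  · intro h
    let e₂ : M ≃ₛₗ[σ'] M :=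
      { toFun := id, invFun := id, left_inv := fun _ => rfl, right_inv := fun _ => rfl
        map_add' := fun _ _ => rfl
        map_smul' := fun c x => (hM' c x).symm }
    exact Module.Projective.of_equiv e₂

variable {R : Type u} [CommRing R] (J : Ideal R)

lemma symGrBijective_iff :
    SymGrBijective R J ↔
      ∀ (ι : Type u) [Fintype ι] [Nonempty ι], Function.Injective (symToGr J ι) :=
  ⟨fun h ι _ _ => symToGr_injective_of_symGrBijective h ι,
   fun h ι _ _ => ⟨symToGr J ι, fun x => symToGr_tprod J ι x, h ι, symToGr_surjective J ι⟩⟩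

end general

variable (A B : Type u) [CommRing A] [CommRing B] [Algebra A B]

lemma mu_algebraMap (b : B) : mu A B (algebraMap B (B ⊗[A] B) b) = b := by
  rw [Algebra.TensorProduct.algebraMap_apply]
  simp

lemma smul_omega (r : B ⊗[A] B) (x : Ω[B⁄A]) : r • x = mu A B r • x := by
  have h1 : (r - mu A B r ⊗ₜ[A] (1 : B)) • x = 0 :=
    Ideal.Cotangent.smul_eq_zero_of_mem (sub_mu_mem A B r) x
  rw [sub_smul, sub_eq_zero] at h1
  rw [h1, ← algebraMap_smul (B ⊗[A] B) (mu A B r) x, Algebra.TensorProduct.algebraMap_apply]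
  rfl

lemma projective_iff :
    Module.Projective B Ω[B⁄A] ↔
      Module.Projective ((B ⊗[A] B) ⧸ KaehlerDifferential.ideal A B)
        (KaehlerDifferential.ideal A B).Cotangent := by
  let σ : B →+* (B ⊗[A] B) ⧸ KaehlerDifferential.ideal A B :=
    (Ideal.Quotient.mk _).comp (algebraMap B (B ⊗[A] B))
  let σ' : (B ⊗[A] B) ⧸ KaehlerDifferential.ideal A B →+* B :=
    Ideal.Quotient.lift _ (mu A B).toRingHom (fun r hr => (mem_ideal_iff A B r).mp hr)
  have h1 : σ'.comp σ = RingHom.id B := by
    ext b
    simp only [σ, σ', RingHom.comp_apply, Ideal.Quotient.lift_mk, RingHom.id_apply]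
    exact mu_algebraMap A B b
  have h2 : σ.comp σ' = RingHom.id _ := by
    apply Ideal.Quotient.ringHom_ext
    apply RingHom.ext
    intro r
    simp only [σ, σ', RingHom.comp_apply, Ideal.Quotient.lift_mk, RingHom.id_apply]
    symm
    rw [Ideal.Quotient.eq, Algebra.TensorProduct.algebraMap_apply]
    exact sub_mu_mem A B r
  exact projective_iff_of_ringInverse (M := (KaehlerDifferential.ideal A B).Cotangent) σ σ' h1 h2
    (fun b x => by
      simp only [σ, RingHom.comp_apply]
      rw [QRSym.mk_smul_cot, algebraMap_smul])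

variable (ι : Type u) [Fintype ι]

/-- the comparison `Sym_B Ω → Sym_{B⊗B} (I/I²)` -/
noncomputable def cmpΩ : Sym[B] ι Ω[B⁄A] → Sym[B ⊗[A] B] ι (KaehlerDifferential.ideal A B).Cotangent :=
  fun x => cmp (B := B) (R := B ⊗[A] B) (M := Ω[B⁄A]) ι x

lemma cmpΩ_bijective [Nonempty ι] : Function.Bijective (cmpΩ A B ι) :=
  cmp_bijective (B := B) (R := B ⊗[A] B) (M := Ω[B⁄A]) (mu A B).toRingHom (mu_algebraMap A B)
    (smul_omega A B) ι

lemma symToGr_cmpΩ (x : Sym[B] ι Ω[B⁄A]) :
    symToGr (KaehlerDifferential.ideal A B) ι (cmpΩ A B ι x) = symToGrI A B ι x := by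
  induction x using SymPow.induction_on with
  | zero =>
    rw [map_zero]
    have : cmpΩ A B ι 0 = 0 := map_zero (cmp (B := B) (R := B ⊗[A] B) (M := Ω[B⁄A]) ι)
    rw [this, map_zero]
    rfl
  | smul_tprod b v =>
    choose w hw using fun i => piI_surjective A B (v i)
    have hv : v = fun i => piI A B (w i) := funext fun i => (hw i).symm
    have h1 : cmpΩ A B ι (b • SymmetricPower.tprod B v) =
        algebraMap B (B ⊗[A] B) b • SymmetricPower.tprod (B ⊗[A] B)
          (fun i => (KaehlerDifferential.ideal A B).toCotangent (w i)) := by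
      rw [cmpΩ, cmp_smul, cmp_tprod, hv]
      rfl
    rw [h1, map_smul, symToGr_tprod, map_smul, hv, symToGrI_tprod, ← cl_smul, zetaJ, cl,
      Algebra.TensorProduct.algebraMap_apply]
    rfl
  | add x y hx hy =>
    have : cmpΩ A B ι (x + y) = cmpΩ A B ι x + cmpΩ A B ι y :=
      map_add (cmp (B := B) (R := B ⊗[A] B) (M := Ω[B⁄A]) ι) x y
    rw [this, map_add, map_add, hx, hy]
    rfl

lemma injective_iff [Nonempty ι] :
    Function.Injective (symToGrI A B ι) ↔
      Function.Injective (symToGr (KaehlerDifferential.ideal A B) ι) := by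
  have hfun : (symToGrI A B ι : Sym[B] ι Ω[B⁄A] → grI A B (Fintype.card ι)) =
      (fun x => symToGr (KaehlerDifferential.ideal A B) ι (cmpΩ A B ι x)) :=
    funext fun x => (symToGr_cmpΩ A B ι x).symm
  constructor
  · intro h z₁ z₂ hz
    obtain ⟨x₁, rfl⟩ := (cmpΩ_bijective A B ι).2 z₁
    obtain ⟨x₂, rfl⟩ := (cmpΩ_bijective A B ι).2 z₂
    rw [symToGr_cmpΩ, symToGr_cmpΩ] at hz
    rw [h hz]
  · intro h
    rw [hfun]
    exact h.comp (cmpΩ_bijective A B ι).1

/-- differential smoothness in terms of the diagonal ideal -/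
theorem isDiffSmooth_iff_diag :
    IsDiffSmooth A B ↔
      Module.Projective ((B ⊗[A] B) ⧸ KaehlerDifferential.ideal A B)
        (KaehlerDifferential.ideal A B).Cotangent ∧
      SymGrBijective (B ⊗[A] B) (KaehlerDifferential.ideal A B) := by
  rw [isDiffSmooth_iff, symGrBijective_iff, projective_iff]
  constructor
  · rintro ⟨h1, h2⟩
    exact ⟨h1, fun ι _ _ => (injective_iff A B ι).mp (h2 ι)⟩
  · rintro ⟨h1, h2⟩
    exact ⟨h1, fun ι _ _ => (injective_iff A B ι).mpr (h2 ι)⟩

/-- **differentially smooth ⇔ the diagonal is quasi-regular** (finite type case) -/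
theorem isDiffSmooth_iff_isLocallyQuasiRegular [Algebra.FiniteType A B] :
    IsDiffSmooth A B ↔
      IsLocallyQuasiRegular (B ⊗[A] B) (KaehlerDifferential.ideal A B) := by
  rw [isDiffSmooth_iff_diag, QRSym.isLocallyQuasiRegular_iff]
  exact ⟨fun h => ⟨KaehlerDifferential.ideal_fg A B, h⟩, fun h => h.2⟩

end Groth.Agent.Lib.helper10.DiffSmQR
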