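import Groth.Prelude.Def_Disp2
import Mathlib.RingTheory.Flat.FaithfullyFlat.Algebra

/-! Injectivity of `n ↦ 1 ⊗ n` for twisted base change along a faithfully flat map (helper10). -/

set_option autoImplicit false
universe u v

namespace Groth.Agent.Lib.helper10.DispDescent

open Dieu TensorProduct

section TwInj

variable {A S R : Type u} [CommRing A] [CommRing S] [CommRing R] [Algebra S R]
  [Module.FaithfullyFlat S R]
variable {N : Type v} [AddCommGroup N] [Module A N]

/-- If `w : A → S` is surjective, `S → R` faithfully flat and `ker w` kills `N`, then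
`n ↦ 1 ⊗ n : N → R ⊗_{A} N` is injective. -/
theorem tw_inj (w : A →+* S) (hw : Function.Surjective w)
    (hN : ∀ a : A, w a = 0 → ∀ n : N, a • n = 0) (n : N)
    (h : BC.tmul ((algebraMap S R).comp w) 1 n = 0) : n = 0 := by
  letI : SMul S N := ⟨fun s n => Function.surjInv hw s • n⟩
  have compat : ∀ (a : A) (n : N), (w a) • n = a • n := by
    intro a n
    change Function.surjInv hw (w a) • n = a • n
    have h1 : w (Function.surjInv hw (w a) - a) = 0 := by
      rw [map_sub, Function.surjInv_eq hw, sub_self]
    have h2 := hN _ h1 n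
    rwa [sub_smul, sub_eq_zero] at h2
  letI : Module S N := Function.Surjective.moduleLeft w hw compat
  let f : Res ((algebraMap S R).comp w) →+ N →+ R ⊗[S] N :=
    { toFun := fun t => (TensorProduct.mk S R N t.val).toAddMonoidHom
      map_zero' := by
        ext n
        change (0 : R) ⊗ₜ[S] n = 0
        exact TensorProduct.zero_tmul _ _
      map_add' := by
        intro s t
        ext n
        change (s.val + t.val) ⊗ₜ[S] n = s.val ⊗ₜ[S] n + t.val ⊗ₜ[S] n
        exact TensorProduct.add_tmul _ _ _ }
  have hf : ∀ (a : A) (t : Res ((algebraMap S R).comp w)) (n : N), f (a • t) n = f t (a • n) := by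
    intro a t n
    change (algebraMap S R (w a) * t.val) ⊗ₜ[S] n = t.val ⊗ₜ[S] (a • n)
    rw [← compat, ← TensorProduct.smul_tmul, Algebra.smul_def]
  let Φ : BC ((algebraMap S R).comp w) N →+ R ⊗[S] N := TensorProduct.liftAddHom f hf
  have hΦ : Φ (BC.tmul ((algebraMap S R).comp w) 1 n) = (1 : R) ⊗ₜ[S] n := rfl
  have h0 : (1 : R) ⊗ₜ[S] n = 0 := by rw [← hΦ, h, map_zero]
  have hinj := Module.FaithfullyFlat.tensorProduct_mk_injective (A := S) (B := R) N
  exact hinj (by rw [TensorProduct.mk_apply, h0, map_zero])

end TwInj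

end Groth.Agent.Lib.helper10.DispDescent
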