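import Groth.Agent.Lib.helper10.DispDescent
import Mathlib.RingTheory.TensorProduct.IncludeLeftSubRight
import Mathlib.RingTheory.WittVector.Basic
import Mathlib.RingTheory.Flat.Basic

/-! Equalizer/injectivity lemmas for twisted base change of flat modules (helper10). -/

set_option autoImplicit false
universe u v

namespace Groth.Agent.Lib.helper10.DispDescent

open Dieu TensorProduct

section Gen

variable {A B C : Type u} [CommRing A] [CommRing B] [CommRing C] (g : A →+* B)
variable {N : Type v} [AddCommGroup N] [Module A N]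

/-- `g` as an `A`-linear map `A → B`. -/
def gam : A →ₗ[A] Res g where
  toFun a := Res.mk g (g a)
  map_add' a b := by apply Res.ext; simp
  map_smul' a b := by apply Res.ext; simp

theorem gam_rTensor_tmul (a : A) (n : N) : (gam g).rTensor N (a ⊗ₜ n) = BC.tmul g (g a) n := rfl

theorem tmul_one_injective [Module.Flat A N] (hg : Function.Injective g) :
    Function.Injective (fun n : N => BC.tmul g 1 n) := by
  have h1 : Function.Injective ((gam g).rTensor N) :=
    Module.Flat.rTensor_preserves_injective_linearMap _ (by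
      intro a b h
      exact hg (congrArg Res.val h))
  intro n n' h
  have h2 : (gam g).rTensor N ((1 : A) ⊗ₜ n) = (gam g).rTensor N ((1 : A) ⊗ₜ n') := by
    rw [gam_rTensor_tmul, gam_rTensor_tmul, map_one]
    exact h
  have h3 := congrArg (TensorProduct.lid A N) (h1 h2)
  simpa using h3

variable (h₁ h₂ : B →+* C) (k : A →+* C) (e₁ : h₁.comp g = k) (e₂ : h₂.comp g = k)

include e₁ e₂ in
theorem comp_apply_eq (a : A) : h₁ (g a) = k a ∧ h₂ (g a) = k a := by
  constructor
  · rw [← e₁]; rfl
  · rw [← e₂]; rfl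

/-- `b ↦ h₁ b - h₂ b` as an `A`-linear map. -/
def del : Res g →ₗ[A] Res k where
  toFun t := Res.mk k (h₁ t.val - h₂ t.val)
  map_add' s t := by
    apply Res.ext
    simp only [Res.val_add, Res.val_mk, map_add]
    ring
  map_smul' a t := by
    apply Res.ext
    simp only [Res.val_smul, Res.val_mk, map_mul, RingHom.id_apply]
    rw [(comp_apply_eq g h₁ h₂ k e₁ e₂ a).1, (comp_apply_eq g h₁ h₂ k e₁ e₂ a).2]
    ring

theorem del_rTensor (z : BC g N) :
    (del g h₁ h₂ k e₁ e₂).rTensor N z =
      BC.castHom e₁ (BC.push g h₁ z) - BC.castHom e₂ (BC.push g h₂ z) := by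
  induction z using BC.induction_on with
  | zero => simp only [map_zero, sub_zero]; exact map_zero _
  | tmul b n =>
    rw [BC.push_tmul, BC.push_tmul, BC.castHom_tmul, BC.castHom_tmul]
    exact TensorProduct.sub_tmul (Res.mk k (h₁ b)) (Res.mk k (h₂ b)) n
  | add z₁ z₂ i₁ i₂ =>
    simp only [map_add]
    rw [← sub_add_sub_comm, ← i₁, ← i₂]
    exact map_add ((del g h₁ h₂ k e₁ e₂).rTensor N) _ _

theorem exists_of_eq [Module.Flat A N] (hex : ∀ b : B, h₁ b = h₂ b → ∃ a, g a = b) (z : BC g N)
    (hz : BC.castHom e₁ (BC.push g h₁ z) = BC.castHom e₂ (BC.push g h₂ z)) :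
    ∃ n : N, z = BC.tmul g 1 n := by
  have hexact : Function.Exact (gam g) (del g h₁ h₂ k e₁ e₂) := by
    intro t
    constructor
    · intro ht
      have h0 : h₁ t.val - h₂ t.val = 0 := congrArg Res.val ht
      obtain ⟨a, ha⟩ := hex _ (sub_eq_zero.1 h0)
      exact ⟨a, Res.ext g ha⟩
    · rintro ⟨a, rfl⟩
      apply Res.ext
      change h₁ (g a) - h₂ (g a) = 0
      rw [(comp_apply_eq g h₁ h₂ k e₁ e₂ a).1, (comp_apply_eq g h₁ h₂ k e₁ e₂ a).2, sub_self]
  have hex2 := Module.Flat.rTensor_exact N hexact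
  have hz' : (del g h₁ h₂ k e₁ e₂).rTensor N z = 0 := by
    rw [del_rTensor, hz]
    exact sub_self _
  obtain ⟨y, hy⟩ := (hex2 z).1 hz'
  have key : ∀ y : A ⊗[A] N, ∃ n, (gam g).rTensor N y = BC.tmul g 1 n := by
    intro y
    induction y using TensorProduct.induction_on with
    | zero => exact ⟨0, (map_zero _).trans (BC.tmul_zero g 1).symm⟩
    | tmul a n => exact ⟨a • n, by rw [gam_rTensor_tmul, BC.tmul_apply_eq]⟩
    | add y₁ y₂ i₁ i₂ =>
      obtain ⟨n₁, e1⟩ := i₁
      obtain ⟨n₂, e2⟩ := i₂
      exact ⟨n₁ + n₂, (map_add _ _ _).trans (by rw [e1, e2]; exact (BC.tmul_add g 1 n₁ n₂).symm)⟩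
  obtain ⟨n, hn⟩ := key y
  exact ⟨n, by rw [← hn]; exact hy.symm⟩

end Gen

section Witt

variable {p : ℕ} [Fact p.Prime] (S R : Type u) [CommRing S] [CommRing R] [Algebra S R]
  [Module.FaithfullyFlat S R]

theorem witt_exists_of_eq (b : WittVector p R)
    (hb : (WittVector.map (Algebra.TensorProduct.includeLeftRingHom : R →+* R ⊗[S] R) :
        WittVector p R →+* WittVector p (R ⊗[S] R)) b =
      (WittVector.map ((Algebra.TensorProduct.includeRight : R →ₐ[S] R ⊗[S] R) : R →+* R ⊗[S] R) :
        WittVector p R →+* WittVector p (R ⊗[S] R)) b) :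
    ∃ a : WittVector p S,
      (WittVector.map (algebraMap S R) : WittVector p S →+* WittVector p R) a = b := by
  have heff := Algebra.IsEffective.of_faithfullyFlat (R := S) (S := R)
  have hc : ∀ n, ∃ s : S, algebraMap S R s = b.coeff n := by
    intro n
    have h := congrArg (fun w => w.coeff n) hb
    simp only [WittVector.map_coeff] at h
    obtain ⟨s, hs⟩ := (heff (b.coeff n)).1 (by
      rw [Algebra.TensorProduct.includeLeftSubRight_apply, sub_eq_zero]
      exact h)
    exact ⟨s, hs⟩
  choose a ha using hc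
  refine ⟨WittVector.mk p a, ?_⟩
  ext n
  rw [WittVector.map_coeff, WittVector.coeff_mk, ha]

theorem witt_map_injective :
    Function.Injective (WittVector.map (algebraMap S R) : WittVector p S →+* WittVector p R) :=
  WittVector.map_injective _ (FaithfulSMul.algebraMap_injective S R)

end Witt

end Groth.Agent.Lib.helper10.DispDescent
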