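import Groth.Agent.Lib.helper10.ValEF

open IsLocalRing

namespace Groth.Agent.Lib.helper10.DvrEF

universe u

section
variable {A B : Type u} [CommRing A] [IsDomain A] [IsDiscreteValuationRing A] [CommRing B]
  [IsDomain B] [IsDiscreteValuationRing B] [Algebra A B]

lemma exists_exponent (hinj : Function.Injective (algebraMap A B)) [IsLocalHom (algebraMap A B)]
    {ϖA : A} (hA : Irreducible ϖA) {ϖB : B} (hB : Irreducible ϖB) :
    ∃ (e : ℕ) (w : Bˣ), e ≠ 0 ∧ algebraMap A B ϖA = w * ϖB ^ e := by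
  have h0 : algebraMap A B ϖA ≠ 0 := by
    intro h
    exact hA.ne_zero (hinj (by rw [h, map_zero]))
  obtain ⟨e, w, hw⟩ := IsDiscreteValuationRing.eq_unit_mul_pow_irreducible h0 hB
  refine ⟨e, w, ?_, hw⟩
  rintro rfl
  rw [pow_zero, mul_one] at hw
  have : IsUnit (algebraMap A B ϖA) := hw ▸ w.isUnit
  exact hA.not_isUnit (isUnit_of_map_unit (algebraMap A B) _ this)

lemma ramificationIdx'_eq {ϖA : A} (hA : Irreducible ϖA) {ϖB : B} (hB : Irreducible ϖB)
    (e : ℕ) (w : Bˣ) (hw : algebraMap A B ϖA = w * ϖB ^ e) :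
    Ideal.ramificationIdx' (maximalIdeal A) (maximalIdeal B) = e := by
  have hmap : Ideal.map (algebraMap A B) (maximalIdeal A) = Ideal.span {ϖB ^ e} := by
    rw [hA.maximalIdeal_eq, Ideal.map_span, Set.image_singleton, hw,
      Ideal.span_singleton_eq_span_singleton]
    exact ⟨w⁻¹, by rw [mul_comm, ← mul_assoc, Units.inv_mul, one_mul]⟩
  apply Ideal.ramificationIdx'_spec
  · rw [hmap, hB.maximalIdeal_eq, Ideal.span_singleton_pow]
  · rw [hmap, hB.maximalIdeal_eq, Ideal.span_singleton_pow, Ideal.span_singleton_le_span_singleton,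
      pow_dvd_pow_iff hB.ne_zero hB.not_isUnit]
    omega

end

section main

variable (A B K L : Type u) [CommRing A] [IsDomain A] [IsDiscreteValuationRing A] [CommRing B]
  [IsDomain B] [IsDiscreteValuationRing B] [Algebra A B]
  [Field K] [Field L] [Algebra A K] [IsFractionRing A K] [Algebra B L] [IsFractionRing B L]
  [Algebra K L] [Algebra A L] [IsScalarTower A K L] [IsScalarTower A B L]

variable {A B K L} in
/-- the key computation: a relation `ϖB^j' = a * w * ϖB^j` with `a ∈ Kˣ`, `w ∈ Bˣ` forces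
`j ≡ j'` modulo `e`. -/
lemma exponent_congr
    {ϖA : A} (hA : Irreducible ϖA) {ϖB : B} (hB : Irreducible ϖB)
    (e : ℕ) (w0 : Bˣ) (hw0 : algebraMap A B ϖA = w0 * ϖB ^ e)
    (j j' : ℕ) (a : Kˣ) (w : Bˣ)
    (h : algebraMap B L ϖB ^ j' = algebraMap K L a * algebraMap B L w * algebraMap B L ϖB ^ j) :
    ∃ m m' : ℕ, e * m + j' = e * m' + j := by
  obtain ⟨x, y, hy, hxy⟩ := IsFractionRing.div_surjective (A := A) (a : K)
  have hy0 : y ≠ 0 := nonZeroDivisors.ne_zero hy
  have hx0 : x ≠ 0 := by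
    rintro rfl
    rw [map_zero, zero_div] at hxy
    exact a.ne_zero hxy.symm
  obtain ⟨m', ux, hx⟩ := IsDiscreteValuationRing.eq_unit_mul_pow_irreducible hx0 hA
  obtain ⟨m, uy, hy'⟩ := IsDiscreteValuationRing.eq_unit_mul_pow_irreducible hy0 hA
  refine ⟨m, m', ?_⟩
  have hyK : algebraMap A K y ≠ 0 := by
    rw [Ne, map_eq_zero_iff _ (IsFractionRing.injective A K)]
    exact hy0
  -- equation in `B`
  have hB' : algebraMap A B y * ϖB ^ j' = algebraMap A B x * w * ϖB ^ j := by
    apply IsFractionRing.injective B L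
    simp only [map_mul, map_pow]
    rw [← IsScalarTower.algebraMap_apply A B L, ← IsScalarTower.algebraMap_apply A B L,
      IsScalarTower.algebraMap_apply A K L, IsScalarTower.algebraMap_apply A K L, h, ← hxy,
      map_div₀]
    have hyL : algebraMap K L (algebraMap A K y) ≠ 0 := by
      rwa [Ne, map_eq_zero]
    field_simp
  rw [hx, hy'] at hB'
  simp only [map_mul, map_pow, hw0] at hB'
  have key : ((Units.map (algebraMap A B).toMonoidHom uy * w0 ^ m : Bˣ) : B) * ϖB ^ (e * m + j') =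
      ((Units.map (algebraMap A B).toMonoidHom ux * w0 ^ m' * w : Bˣ) : B) * ϖB ^ (e * m' + j) := by
    simp only [Units.val_mul, Units.val_pow_eq_pow_val, Units.coe_map, RingHom.toMonoidHom_eq_coe,
      MonoidHom.coe_coe]
    rw [pow_add, pow_add, pow_mul, pow_mul]
    linear_combination hB'
  exact IsDiscreteValuationRing.unit_mul_pow_congr_pow hB hB _ _ _ _ key

theorem main (hinj : Function.Injective (algebraMap A B)) [IsLocalHom (algebraMap A B)]
    [FiniteDimensional K L] :
    Module.Finite (ResidueField A) (ResidueField B) ∧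
      Ideal.ramificationIdx' (maximalIdeal A) (maximalIdeal B) *
          Module.finrank (ResidueField A) (ResidueField B) ≤ Module.finrank K L := by
  classical
  obtain ⟨ϖA, hA⟩ := IsDiscreteValuationRing.exists_irreducible A
  obtain ⟨ϖB, hB⟩ := IsDiscreteValuationRing.exists_irreducible B
  obtain ⟨e, w0, he, hw0⟩ := exists_exponent hinj hA hB
  rw [ramificationIdx'_eq hA hB e w0 hw0]
  obtain ⟨hfin, hidx, hle⟩ := Groth.Agent.Lib.helper10.ValEF.main A B K L
  refine ⟨hfin, le_trans (Nat.mul_le_mul_right _ ?_) hle⟩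
  set UB : Subgroup Lˣ := (Units.map (algebraMap B L).toMonoidHom).range with hUB
  set ΓA : Subgroup (Lˣ ⧸ UB) :=
    ((QuotientGroup.mk' UB).comp (Units.map (algebraMap K L).toMonoidHom)).range with hΓA
  have hϖL : algebraMap B L ϖB ≠ 0 := by
    rw [Ne, map_eq_zero_iff _ (IsFractionRing.injective B L)]
    exact hB.ne_zero
  let π : Fin e → Lˣ := fun j => Units.mk0 (algebraMap B L ϖB ^ (j : ℕ)) (pow_ne_zero _ hϖL)
  have hinjπ : Function.Injective
      (fun j : Fin e => (QuotientGroup.mk (QuotientGroup.mk (π j) : Lˣ ⧸ UB) : (Lˣ ⧸ UB) ⧸ ΓA)) := by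
    intro j j' hjj'
    rw [QuotientGroup.eq] at hjj'
    obtain ⟨a, ha⟩ := hjj'
    have ha' : (QuotientGroup.mk (Units.map (algebraMap K L).toMonoidHom a) : Lˣ ⧸ UB) =
        QuotientGroup.mk ((π j)⁻¹ * π j') := ha
    rw [QuotientGroup.eq] at ha'
    obtain ⟨w, hw⟩ := ha'
    have hrel : π j' = Units.map (algebraMap K L).toMonoidHom a *
        Units.map (algebraMap B L).toMonoidHom w * π j := by
      rw [hw, mul_inv_cancel_left, mul_comm ((π j)⁻¹), inv_mul_cancel_right]
    have hrel' : algebraMap B L ϖB ^ (j' : ℕ) =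
        algebraMap K L a * algebraMap B L w * algebraMap B L ϖB ^ (j : ℕ) :=
      congrArg Units.val hrel
    obtain ⟨m, m', hmm⟩ := exponent_congr hA hB e w0 hw0 j j' a w hrel'
    have hj := j.2
    have hj' := j'.2
    apply Fin.ext
    have h1 : (e * m + j') % e = (e * m' + j) % e := by rw [hmm]
    rw [Nat.mul_add_mod, Nat.mul_add_mod, Nat.mod_eq_of_lt hj, Nat.mod_eq_of_lt hj'] at h1
    exact h1.symm
  have hfinQ : Finite ((Lˣ ⧸ UB) ⧸ ΓA) := Subgroup.index_ne_zero_iff_finite.mp hidx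
  have := Nat.card_le_card_of_injective _ hinjπ
  rwa [Nat.card_eq_fintype_card, Fintype.card_fin] at this

end main

end Groth.Agent.Lib.helper10.DvrEF
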