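import Groth.Agent.Lib.helper10.DvrEF

open IsLocalRing

namespace Groth.Agent.Lib.helper10.DvrEF

universe u

theorem pinsep (A B K L : Type u) [CommRing A] [IsDomain A]
    [IsDiscreteValuationRing A] [CommRing B] [IsDomain B] [IsDiscreteValuationRing B] [Algebra A B]
    (hinj : Function.Injective (algebraMap A B)) [IsLocalHom (algebraMap A B)]
    [Field K] [Field L] [Algebra A K] [IsFractionRing A K] [Algebra B L] [IsFractionRing B L]
    [Algebra K L] [Algebra A L] [IsScalarTower A K L] [IsScalarTower A B L]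
    (p : ℕ) (hp : p.Prime) [CharP K p] [IsPurelyInseparable K L] :
    ∃ k : ℕ, Ideal.ramificationIdx' (IsLocalRing.maximalIdeal A) (IsLocalRing.maximalIdeal B) =
      p ^ k := by
  obtain ⟨ϖA, hA⟩ := IsDiscreteValuationRing.exists_irreducible A
  obtain ⟨ϖB, hB⟩ := IsDiscreteValuationRing.exists_irreducible B
  obtain ⟨e, w0, he, hw0⟩ := exists_exponent hinj hA hB
  rw [ramificationIdx'_eq hA hB e w0 hw0]
  have : ExpChar K p := ExpChar.prime hp
  obtain ⟨n, a, ha⟩ := IsPurelyInseparable.pow_mem K p (algebraMap B L ϖB)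
  have hϖL : algebraMap B L ϖB ≠ 0 := by
    rw [Ne, map_eq_zero_iff _ (IsFractionRing.injective B L)]
    exact hB.ne_zero
  have ha0 : a ≠ 0 := by
    rintro rfl
    rw [map_zero] at ha
    exact pow_ne_zero _ hϖL ha.symm
  obtain ⟨m, m', hmm⟩ := exponent_congr hA hB e w0 hw0 0 (p ^ n) (Units.mk0 a ha0) 1 (by
    rw [Units.val_mk0, ha, Units.val_one, map_one, mul_one, pow_zero, mul_one])
  have hdvd : e ∣ p ^ n := by
    refine ⟨m' - m, ?_⟩
    have : m ≤ m' := by
      by_contra hlt
      push Not at hlt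
      have : e * m' < e * m := Nat.mul_lt_mul_of_pos_left hlt (Nat.pos_of_ne_zero he)
      have : 0 < p ^ n := pow_pos hp.pos n
      omega
    rw [Nat.mul_sub]
    omega
  obtain ⟨k, _, hk⟩ := (Nat.dvd_prime_pow hp).mp hdvd
  exact ⟨k, hk⟩

end Groth.Agent.Lib.helper10.DvrEF
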