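import Groth.Prelude.Def_DRing4
import Mathlib.Algebra.Homology.HomotopyCategory.KInjective
import Mathlib.Algebra.Algebra.Epi
import Mathlib.Algebra.Category.Ring.Epi

set_option autoImplicit false
set_option maxHeartbeats 400000
universe u
open CategoryTheory CategoryTheory.Limits MonoidalCategory TensorProduct

namespace Groth.Agent.Lib.helper10.EpiLinear

/-- An `R`-linear map between `A`-modules is `A`-linear when `R → A` is a ring epimorphism. -/
lemma map_smul_of_isEpi {R A M N : Type*} [CommRing R] [CommRing A] [Algebra R A]
    [Algebra.IsEpi R A] [AddCommGroup M] [AddCommGroup N] [Module R M] [Module A M]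
    [IsScalarTower R A M] [Module R N] [Module A N] [IsScalarTower R A N]
    (g : M →ₗ[R] N) (a : A) (m : M) : g (a • m) = a • g m := by
  let f : A ⊗[R] A →ₗ[R] N := TensorProduct.lift
    { toFun x :=
      { toFun y := x • g (y • m)
        map_add' := by intro y z; simp [add_smul]
        map_smul' := by intro r y; simp [smul_comm x r] }
      map_add' := by intro x y; ext z; simp [add_smul]
      map_smul' := by intro r x; ext z; simp }
  have := congr_arg f ((Algebra.isEpi_iff_forall_one_tmul_eq R A).mp inferInstance a)
  simpa [f] using this

/-- Restriction of scalars along a ring epimorphism is full. -/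
lemma restrictScalars_map_surjective {R S : Type u} [CommRing R] [CommRing S] (φ : R →+* S)
    (hφ : Epi (CommRingCat.ofHom φ)) (M N : ModuleCat.{u} S)
    (g : (ModuleCat.restrictScalars φ).obj M ⟶ (ModuleCat.restrictScalars φ).obj N) :
    ∃ g' : M ⟶ N, (ModuleCat.restrictScalars φ).map g' = g := by
  let : Algebra R S := φ.toAlgebra
  have : Algebra.IsEpi R S := CommRingCat.epi_iff_epi.mp hφ
  let : Module R M := Module.compHom M φ
  let : Module R N := Module.compHom N φ
  have : IsScalarTower R S M := ⟨fun r s m => by
    change (φ r * s) • m = φ r • (s • m); rw [mul_smul]⟩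
  have : IsScalarTower R S N := ⟨fun r s m => by
    change (φ r * s) • m = φ r • (s • m); rw [mul_smul]⟩
  let g₀ : M →ₗ[R] N :=
    { toFun := fun x => g.hom x
      map_add' := fun x y => map_add g.hom x y
      map_smul' := fun r x => map_smul g.hom r x }
  refine ⟨ModuleCat.ofHom
    { toFun := fun x => g.hom x
      map_add' := fun x y => map_add g.hom x y
      map_smul' := fun s x => map_smul_of_isEpi g₀ s x }, ?_⟩
  ext x
  rfl


/-- Restriction of scalars preserves acyclicity. -/
lemma restrictCx_acyclic {R S : Type u} [CommRing R] [CommRing S] (φ : R →+* S)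
    (K : DRing.Cx S) (hK : K.Acyclic) : ((DRing.restrictCx φ).obj K).Acyclic := by
  intro i
  have h := hK i
  rw [HomologicalComplex.exactAt_iff] at h ⊢
  exact h.map (ModuleCat.restrictScalars φ)

end Groth.Agent.Lib.helper10.EpiLinear

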