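import Mathlib

set_option autoImplicit false
set_option backward.isDefEq.respectTransparency.types true
set_option maxHeartbeats 400000
universe u

namespace H10S9167

open TensorProduct

theorem isBaseChange_mkQ {R : Type u} [CommRing R] (I : Ideal R) (M : Type u) [AddCommGroup M]
    [Module R M] : IsBaseChange (R ⧸ I) ((I • ⊤ : Submodule R M).mkQ) := by
  refine IsBaseChange.of_equiv
    ((quotTensorEquivQuotSMul M I).extendScalarsOfSurjective Ideal.Quotient.mk_surjective) ?_
  intro x
  simp

/-- a finitely presented module over a ring `R'` in which every element is a fraction of images of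
elements of `R` is a base change of a finitely presented `R`-module -/
theorem exists_isBaseChange {R : Type u} [CommRing R] (R' : Type u) [CommRing R'] [Algebra R R']
    (S : Submonoid R) (hS : ∀ s ∈ S, IsUnit (algebraMap R R' s))
    (hsurj : ∀ x : R', ∃ s ∈ S, ∃ r : R, algebraMap R R' r = algebraMap R R' s * x)
    (M' : Type u) [AddCommGroup M'] [Module R' M'] [Module R M'] [IsScalarTower R R' M']
    [Module.FinitePresentation R' M'] :
    ∃ (n : ℕ) (K : Submodule R (Fin n → R)) (_ : K.FG) (ψ : ((Fin n → R) ⧸ K) →ₗ[R] M'),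
      IsBaseChange R' ψ := by
  obtain ⟨n, m, f, g, hf, hfg⟩ := Module.FinitePresentation.exists_fin' R' M'
  -- common denominator
  have hden : ∃ t ∈ S, ∀ p : Fin m × Fin n, ∃ r : R,
      algebraMap R R' r = algebraMap R R' t * g (Pi.single p.1 1) p.2 := by
    have : ∀ s : Finset (Fin m × Fin n), ∃ t ∈ S, ∀ p ∈ s, ∃ r : R,
        algebraMap R R' r = algebraMap R R' t * g (Pi.single p.1 1) p.2 := by
      intro s
      induction s using Finset.induction_on with
      | empty => exact ⟨1, S.one_mem, by simp⟩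
      | insert a s _ ih =>
        obtain ⟨t, ht, h⟩ := ih
        obtain ⟨t', ht', r', hr'⟩ := hsurj (algebraMap R R' t * g (Pi.single a.1 1) a.2)
        refine ⟨t' * t, S.mul_mem ht' ht, ?_⟩
        intro p hp
        rcases Finset.mem_insert.1 hp with rfl | hp
        · exact ⟨r', by rw [hr', map_mul, mul_assoc]⟩
        · obtain ⟨r, hr⟩ := h p hp
          exact ⟨t' * r, by rw [map_mul, map_mul, hr, mul_assoc]⟩
    obtain ⟨t, ht, h⟩ := this Finset.univ
    exact ⟨t, ht, fun p => h p (Finset.mem_univ _)⟩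
  obtain ⟨t, ht, h⟩ := hden
  choose r hr using h
  set β : R' := algebraMap R R' t with hβ
  have hβu : IsUnit β := hS t ht
  let Mat : Matrix (Fin n) (Fin m) R := fun k l => r (l, k)
  let g₀ : (Fin m → R) →ₗ[R] (Fin n → R) := Matrix.toLin' Mat
  let h₁ : (Fin m → R) →ₗ[R] (Fin m → R') := (Algebra.linearMap R R').compLeft (Fin m)
  let h₂ : (Fin n → R) →ₗ[R] (Fin n → R') := (Algebra.linearMap R R').compLeft (Fin n)
  have isb₁ : IsBaseChange R' h₁ := IsBaseChange.finitePow (Fin m) (IsBaseChange.linearMap R R')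
  have isb₂ : IsBaseChange R' h₂ := IsBaseChange.finitePow (Fin n) (IsBaseChange.linearMap R R')
  have comm₁ : h₂.comp g₀ = ((β • g).restrictScalars R).comp h₁ := by
    refine LinearMap.pi_ext fun l x => ?_
    ext k
    have hx : (Pi.single l x : Fin m → R) = x • Pi.single l 1 := by
      rw [← Pi.single_smul, smul_eq_mul, mul_one]
    rw [hx, map_smul, map_smul]
    congr 1
    simp only [LinearMap.coe_comp, Function.comp_apply, LinearMap.coe_restrictScalars,
      LinearMap.smul_apply, Pi.smul_apply, smul_eq_mul, h₂, h₁, g₀, LinearMap.compLeft_apply,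
      Algebra.linearMap_apply, Matrix.toLin'_apply, Matrix.mulVec_single_one]
    have h1 : ((Algebra.linearMap R R').compLeft (Fin m)) (Pi.single l 1) = Pi.single l 1 := by
      ext j
      rw [LinearMap.compLeft_apply, Function.comp_apply, Pi.single_apply, Pi.single_apply]
      split_ifs <;> simp
    rw [h1, ← hr (l, k)]
    rfl
  -- exactness of the rescaled presentation
  have hex₂ : Function.Exact (β • g) f := by
    intro y
    rw [hfg y]
    constructor
    · rintro ⟨x, rfl⟩
      obtain ⟨u, hu⟩ := hβu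
      refine ⟨(↑u⁻¹ : R') • x, ?_⟩
      rw [LinearMap.smul_apply, map_smul, smul_smul, ← hu, Units.mul_inv, one_smul]
    · rintro ⟨x, rfl⟩
      exact ⟨β • x, by rw [map_smul, LinearMap.smul_apply]⟩
  -- the comparison map
  have hker : LinearMap.range g₀ ≤ LinearMap.ker ((f.restrictScalars R).comp h₂) := by
    rintro _ ⟨x, rfl⟩
    rw [LinearMap.mem_ker, ← LinearMap.comp_apply, LinearMap.comp_assoc, comm₁]
    simp only [LinearMap.coe_comp, Function.comp_apply, LinearMap.coe_restrictScalars]
    exact (hex₂ _).2 ⟨_, rfl⟩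
  let ψ : ((Fin n → R) ⧸ LinearMap.range g₀) →ₗ[R] M' :=
    (LinearMap.range g₀).liftQ ((f.restrictScalars R).comp h₂) hker
  have comm₂ : ψ.comp (LinearMap.range g₀).mkQ = (f.restrictScalars R).comp h₂ :=
    Submodule.liftQ_mkQ _ _ _
  refine ⟨n, LinearMap.range g₀, ?_, ψ, ?_⟩
  · rw [LinearMap.range_eq_map]
    exact Module.Finite.fg_top.map g₀
  · exact IsBaseChange.of_right_exact R' h₁ h₂ ψ comm₁ comm₂ isb₁ isb₂
      (LinearMap.exact_map_mkQ_range g₀) (Submodule.mkQ_surjective _) hex₂ hf


theorem main (R : Type u) [CommRing R] (I : Ideal R) (S : Submonoid R) (M' : Type u)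
    [AddCommGroup M'] [Module (Localization (S.map (Ideal.Quotient.mk I))) M']
    [Module.FinitePresentation (Localization (S.map (Ideal.Quotient.mk I))) M'] :
    ∃ (M : Type u) (_ : AddCommGroup M) (_ : Module R M), Module.FinitePresentation R M ∧
      Nonempty (LocalizedModule (S.map (Ideal.Quotient.mk I)) (M ⧸ (I • ⊤ : Submodule R M))
        ≃ₗ[Localization (S.map (Ideal.Quotient.mk I))] M') := by
  let R' := Localization (S.map (Ideal.Quotient.mk I))
  let _ : Module R M' := Module.compHom M' (algebraMap R R')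
  have : IsScalarTower R R' M' := IsScalarTower.of_algebraMap_smul fun _ _ => rfl
  have hS : ∀ s ∈ S, IsUnit (algebraMap R R' s) := by
    intro s hs
    rw [IsScalarTower.algebraMap_apply R (R ⧸ I) R']
    exact IsLocalization.map_units R' (⟨Ideal.Quotient.mk I s, Submonoid.mem_map.2 ⟨s, hs, rfl⟩⟩ :
      S.map (Ideal.Quotient.mk I))
  have hsurj : ∀ x : R', ∃ s ∈ S, ∃ r : R, algebraMap R R' r = algebraMap R R' s * x := by
    intro x
    obtain ⟨rb, sb, rfl⟩ := IsLocalization.exists_mk'_eq (S.map (Ideal.Quotient.mk I)) x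
    obtain ⟨s, hs, hsb⟩ := Submonoid.mem_map.1 sb.2
    obtain ⟨r, rfl⟩ := Ideal.Quotient.mk_surjective rb
    refine ⟨s, hs, r, ?_⟩
    rw [IsScalarTower.algebraMap_apply R (R ⧸ I) R', IsScalarTower.algebraMap_apply R (R ⧸ I) R',
      Ideal.Quotient.algebraMap_eq, hsb]
    exact (IsLocalization.mk'_spec' R' _ _).symm
  obtain ⟨n, K, hK, ψ, hψ⟩ := exists_isBaseChange R' S hS hsurj M'
  refine ⟨(Fin n → R) ⧸ K, inferInstance, inferInstance, ?_, ⟨?_⟩⟩
  · exact Module.finitePresentation_of_free_of_surjective K.mkQ K.mkQ_surjective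
      (by rwa [Submodule.ker_mkQ])
  · have h1 : IsBaseChange (R ⧸ I) ((I • ⊤ : Submodule R ((Fin n → R) ⧸ K)).mkQ) :=
      isBaseChange_mkQ I _
    have h2 : IsBaseChange R' (LocalizedModule.mkLinearMap (S.map (Ideal.Quotient.mk I))
        (((Fin n → R) ⧸ K) ⧸ (I • ⊤ : Submodule R ((Fin n → R) ⧸ K)))) :=
      IsLocalizedModule.isBaseChange (S.map (Ideal.Quotient.mk I)) R' _
    have h3 := IsBaseChange.comp h1 h2
    exact h3.equiv.symm ≪≫ₗ hψ.equiv

end H10S9167
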