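import Mathlib

/-!
Rank of the span of the multiplication endomorphisms on a fibre, rewritten as the rank of the
base change of a map between finite flat modules.
-/

set_option autoImplicit false
universe u

open TensorProduct

namespace Groth.Agent.Lib.helper10.FibreSpanRank

theorem range_baseChange {A : Type*} [CommRing A] (κ : Type*) [CommRing κ] [Algebra A κ]
    {M N : Type*} [AddCommGroup M] [Module A M] [AddCommGroup N] [Module A N] (f : M →ₗ[A] N) :
    LinearMap.range (f.baseChange κ) = (LinearMap.range f).baseChange κ := by
  have h1 : f = (LinearMap.range f).subtype ∘ₗ f.rangeRestrict := rfl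
  conv_lhs => rw [h1, LinearMap.baseChange_comp]
  rw [LinearMap.range_comp_of_range_eq_top]
  · rfl
  · rw [LinearMap.range_eq_top]
    exact LinearMap.baseChange_surjective κ f.surjective_rangeRestrict

section

variable {A : Type u} [CommRing A] {S : Type u} [CommRing S] [Algebra A S]
  {Q : Type u} [AddCommGroup Q] [Module A Q] [Module S Q] [IsScalarTower A S Q]
  (κ : Type u) [Field κ] [Algebra A κ] {r : ℕ} (q : Fin r → Q)

/-- evaluation of an endomorphism of the fibre on the generators -/
noncomputable def Θ : Module.End κ (κ ⊗[A] Q) →ₗ[κ] κ ⊗[A] (Fin r → Q) :=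
  (TensorProduct.piRight A κ κ (fun _ : Fin r => Q)).symm.toLinearMap ∘ₗ
    LinearMap.pi (fun j => LinearMap.applyₗ ((1 : κ) ⊗ₜ[A] q j))

theorem Θ_injective (hq : Submodule.span A (Set.range q) = ⊤) :
    Function.Injective (Θ (A := A) κ q) := by
  refine (injective_iff_map_eq_zero _).mpr ?_
  intro f hf
  have h2 : ∀ j, f ((1 : κ) ⊗ₜ[A] q j) = 0 := by
    intro j
    have := congrArg (TensorProduct.piRight A κ κ (fun _ : Fin r => Q)) hf
    simp only [Θ, LinearMap.coe_comp, LinearEquiv.coe_coe, Function.comp_apply,
      LinearEquiv.apply_symm_apply, map_zero] at this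
    have := congrFun this j
    simpa using this
  have h3 : ∀ x : Q, f ((1 : κ) ⊗ₜ[A] x) = 0 := by
    intro x
    have hx : x ∈ Submodule.span A (Set.range q) := hq ▸ Submodule.mem_top
    induction hx using Submodule.span_induction with
    | mem x hx => obtain ⟨j, rfl⟩ := hx; exact h2 j
    | zero => simp
    | add x y _ _ hx hy => rw [TensorProduct.tmul_add, map_add, hx, hy, add_zero]
    | smul a x _ hx =>
      rw [TensorProduct.tmul_smul, ← algebraMap_smul κ a, map_smul, hx, smul_zero]
  ext x
  simpa using h3 x

theorem Θ_baseChange (s : S) :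
    Θ (A := A) κ q (LinearMap.baseChange κ (DistribSMul.toLinearMap A Q s)) =
      (1 : κ) ⊗ₜ[A] (fun j => s • q j) := by
  simp only [Θ, LinearMap.coe_comp, LinearEquiv.coe_coe, Function.comp_apply]
  rw [LinearEquiv.symm_apply_eq]
  ext j
  simp

theorem finrank_span_eq (hq : Submodule.span A (Set.range q) = ⊤) {m : ℕ}
    (n : Fin m → (Fin r → Q))
    (hn : Submodule.span A (Set.range n) =
      Submodule.span A (Set.range fun s : S => (fun j => s • q j))) :
    Module.finrank κ (Submodule.span κ (Set.range fun s : S =>
      LinearMap.baseChange κ (DistribSMul.toLinearMap A Q s))) =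
    Module.finrank κ (LinearMap.range ((Fintype.linearCombination A n).baseChange κ)) := by
  set V := Submodule.span κ (Set.range fun s : S =>
      LinearMap.baseChange κ (DistribSMul.toLinearMap A Q s)) with hV
  have h1 : Module.finrank κ V = Module.finrank κ (V.map (Θ (A := A) κ q)) :=
    (Submodule.equivMapOfInjective _ (Θ_injective κ q hq) V).finrank_eq
  have h2 : V.map (Θ (A := A) κ q) =
      LinearMap.range ((Fintype.linearCombination A n).baseChange κ) := by
    rw [range_baseChange, Fintype.range_linearCombination, hn, Submodule.baseChange_span, hV,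
      Submodule.map_span]
    congr 1
    ext x
    simp only [Set.mem_image, Set.mem_range, exists_exists_eq_and]
    constructor
    · rintro ⟨s, rfl⟩
      exact ⟨s, (Θ_baseChange κ q s).symm⟩
    · rintro ⟨s, rfl⟩
      exact ⟨s, Θ_baseChange κ q s⟩
  rw [h1, h2]

end

end Groth.Agent.Lib.helper10.FibreSpanRank
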