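import Mathlib

set_option maxHeartbeats 400000
set_option autoImplicit false

universe u

namespace H10S6318

open CategoryTheory

variable (R : Type u) [CommRing R]

lemma exists_cover [IsNoetherianRing R] {X Y : ModuleCat.{u} R} (f : X ⟶ Y) :
    ∃ (ι : Type u) (p : (ι →₀ R) →ₗ[R] X),
      LinearMap.range p = LinearMap.ker f.hom ∧ (Module.Finite R X → Finite ι) := by
  classical
  by_cases hfin : Module.Finite R X
  · have hN : IsNoetherian R X := isNoetherian_of_isNoetherianRing_of_finite R X
    obtain ⟨S, hS⟩ := IsNoetherian.noetherian (LinearMap.ker f.hom)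
    refine ⟨S, Finsupp.linearCombination R (fun s : S => (s : X)), ?_, fun _ => inferInstance⟩
    rw [Finsupp.range_linearCombination (R := R), Subtype.range_coe_subtype]
    exact hS
  · refine ⟨LinearMap.ker f.hom, Finsupp.linearCombination R (fun k : LinearMap.ker f.hom => (k : X)),
      ?_, fun h => absurd h hfin⟩
    rw [Finsupp.range_linearCombination (R := R), Subtype.range_coe_subtype]
    exact Submodule.span_eq (LinearMap.ker f.hom)

variable [IsNoetherianRing R]

noncomputable def syzIdx {X Y : ModuleCat.{u} R} (f : X ⟶ Y) : Type u :=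
  (exists_cover R f).choose

noncomputable def syzMap {X Y : ModuleCat.{u} R} (f : X ⟶ Y) : (syzIdx R f →₀ R) →ₗ[R] X :=
  (exists_cover R f).choose_spec.choose

lemma syzMap_range {X Y : ModuleCat.{u} R} (f : X ⟶ Y) :
    LinearMap.range (syzMap R f) = LinearMap.ker f.hom :=
  (exists_cover R f).choose_spec.choose_spec.1

lemma syzIdx_finite {X Y : ModuleCat.{u} R} (f : X ⟶ Y) (h : Module.Finite R X) :
    Finite (syzIdx R f) :=
  (exists_cover R f).choose_spec.choose_spec.2 h

noncomputable def fsyz {X Y : ModuleCat.{u} R} (f : X ⟶ Y) : ModuleCat.{u} R :=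
  ModuleCat.of R (syzIdx R f →₀ R)

noncomputable def fd {X Y : ModuleCat.{u} R} (f : X ⟶ Y) : fsyz R f ⟶ X :=
  ModuleCat.ofHom (syzMap R f)

lemma fd_comp {X Y : ModuleCat.{u} R} (f : X ⟶ Y) : fd R f ≫ f = 0 := by
  ext x
  have : syzMap R f x ∈ LinearMap.ker f.hom := by
    rw [← syzMap_range]; exact ⟨x, rfl⟩
  exact this

lemma fd_exact {X Y : ModuleCat.{u} R} (f : X ⟶ Y) :
    (ShortComplex.mk (fd R f) f (fd_comp R f)).Exact := by
  rw [ShortComplex.moduleCat_exact_iff_range_eq_ker]
  exact syzMap_range R f

instance {X Y : ModuleCat.{u} R} (f : X ⟶ Y) : Module.Free R (fsyz R f) :=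
  inferInstanceAs (Module.Free R (syzIdx R f →₀ R))

lemma fsyz_finite {X Y : ModuleCat.{u} R} (f : X ⟶ Y) (h : Module.Finite R X) :
    Module.Finite R (fsyz R f) := by
  have := syzIdx_finite R f h
  exact inferInstanceAs (Module.Finite R (syzIdx R f →₀ R))

structure Stage where
  X : ModuleCat.{u} R
  Y : ModuleCat.{u} R
  f : X ⟶ Y

noncomputable def Stage.next (s : Stage R) : Stage R := ⟨fsyz R s.f, s.X, fd R s.f⟩

noncomputable def stage (M : ModuleCat.{u} R) : ℕ → Stage R
  | 0 => ⟨fsyz R (0 : M ⟶ ModuleCat.of R PUnit), M, fd R _⟩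
  | n + 1 => (stage M n).next

lemma stage_free (M : ModuleCat.{u} R) (n : ℕ) : Module.Free R (stage R M n).X := by
  cases n with
  | zero => exact inferInstanceAs (Module.Free R (fsyz R _))
  | succ n => exact inferInstanceAs (Module.Free R (fsyz R _))

lemma stage_finite (M : ModuleCat.{u} R) [Module.Finite R M] (n : ℕ) :
    Module.Finite R (stage R M n).X := by
  induction n with
  | zero => exact fsyz_finite R _ inferInstance
  | succ n ih => exact fsyz_finite R _ ih

noncomputable def cx (M : ModuleCat.{u} R) : ChainComplex (ModuleCat.{u} R) ℕ :=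
  ChainComplex.of (fun n => (stage R M n).X) (fun n => (stage R M (n + 1)).f)
    (fun n => fd_comp R (stage R M (n + 1)).f)

lemma cx_d (M : ModuleCat.{u} R) (n : ℕ) :
    (cx R M).d (n + 1) n = (stage R M (n + 1)).f := by
  simp [cx]

set_option backward.isDefEq.respectTransparency.types false in
lemma cx_exactAt_succ (M : ModuleCat.{u} R) (n : ℕ) : (cx R M).ExactAt (n + 1) := by
  rw [HomologicalComplex.exactAt_iff' _ (n + 1 + 1) (n + 1) n (by simp) (by simp)]
  simp only [HomologicalComplex.sc', HomologicalComplex.shortComplexFunctor', cx,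
    ChainComplex.of_d]
  exact fd_exact R (stage R M (n + 1)).f

instance (M : ModuleCat.{u} R) (n : ℕ) : Projective ((cx R M).X n) := by
  have : Module.Free R ((cx R M).X n) := stage_free R M n
  exact (IsProjective.iff_projective (R := R) (P := (cx R M).X n)).mp inferInstance

lemma stage_zero_f_epi (M : ModuleCat.{u} R) : Epi (stage R M 0).f := by
  rw [ModuleCat.epi_iff_range_eq_top]
  change LinearMap.range (syzMap R (0 : M ⟶ ModuleCat.of R PUnit)) = ⊤
  rw [syzMap_range]
  ext x
  simp

set_option backward.defeqAttrib.useBackward true in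
set_option backward.isDefEq.respectTransparency false in
noncomputable def res (M : ModuleCat.{u} R) : ProjectiveResolution M where
  complex := cx R M
  π := (ChainComplex.toSingle₀Equiv _ _).symm ⟨(stage R M 0).f, by
          rw [cx_d]; exact fd_comp R (stage R M 0).f⟩
  quasiIso := ⟨fun n => by
    cases n
    · rw [ChainComplex.quasiIsoAt₀_iff, ShortComplex.quasiIso_iff_of_zeros']
      · dsimp
        refine (ShortComplex.exact_and_epi_g_iff_of_iso ?_).2
          ⟨fd_exact R (stage R M 0).f, stage_zero_f_epi R M⟩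
        exact ShortComplex.isoMk (Iso.refl _) (Iso.refl _) (Iso.refl _)
          (by
            have h : (cx R M).d 1 0 = (stage R M 1).f := cx_d R M 0
            simp [h, stage, Stage.next]) (by simp)
      all_goals rfl
    · rw [quasiIsoAt_iff_exactAt']
      · apply cx_exactAt_succ
      · apply ChainComplex.exactAt_succ_single_obj⟩

theorem main (M : Type u) [AddCommGroup M] [Module R M] [Module.Finite R M] :
    ∃ F : ProjectiveResolution (ModuleCat.of R M),
      ∀ n : ℕ, Module.Finite R (F.complex.X n) ∧ Module.Free R (F.complex.X n) := by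
  refine ⟨res R (ModuleCat.of R M), fun n => ⟨?_, ?_⟩⟩
  · exact stage_finite R (ModuleCat.of R M) n
  · exact stage_free R (ModuleCat.of R M) n

end H10S6318
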