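import Mathlib.Algebra.Homology.HomologicalComplex
import Mathlib.Algebra.Category.ModuleCat.Basic
import Mathlib.LinearAlgebra.Basis.Basic
import Mathlib.LinearAlgebra.FreeModule.Basic
import Mathlib.LinearAlgebra.FreeModule.Finite.Basic
import Mathlib.LinearAlgebra.Dimension.Free

set_option maxHeartbeats 400000
open CategoryTheory CategoryTheory.Limits
universe u

namespace Groth.Agent.Lib.helper10.FinSubCx

variable {R : Type u} [CommRing R] (F : CochainComplex (ModuleCat.{u} R) ℤ)
  {I : ℤ → Type u} (B : ∀ n : ℤ, Module.Basis (I n) R (F.X n))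
  {N : ℕ} (deg : Fin N → ℤ) (f : ∀ i : Fin N, F.X (deg i)) (a : ℤ)

open Classical in
noncomputable def gens (n : ℤ) : Finset (I n) :=
  Finset.univ.biUnion fun i : Fin N =>
    if h : deg i = n then h ▸ ((B (deg i)).repr (f i)).support else ∅

open Classical in
noncomputable def step (S : ∀ n : ℤ, Finset (I n)) : ∀ n : ℤ, Finset (I n) := fun n =>
  gens F B deg f n ∪
    (S (n - 1)).biUnion fun c => ((B n).repr ((F.d (n - 1) n).hom (B (n - 1) c))).support

noncomputable def Sfam (n : ℤ) : Finset (I n) :=
  ((step F B deg f)^[(n - a + 1).toNat] (fun _ => ∅)) n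

lemma Sfam_eq_empty (n : ℤ) (h : n < a) : Sfam F B deg f a n = ∅ := by
  have : (n - a + 1).toNat = 0 := by omega
  simp [Sfam, this]

lemma gens_subset (n : ℤ) (h : a ≤ n) : gens F B deg f n ⊆ Sfam F B deg f a n := by
  classical
  obtain ⟨k, hk⟩ : ∃ k, (n - a + 1).toNat = k + 1 := ⟨(n - a).toNat, by omega⟩
  rw [Sfam, hk, Function.iterate_succ_apply']
  exact Finset.subset_union_left

lemma closure_subset (j : ℤ) (c : I (j - 1)) (hc : c ∈ Sfam F B deg f a (j - 1)) :
    ((B j).repr ((F.d (j - 1) j).hom (B (j - 1) c))).support ⊆ Sfam F B deg f a j := by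
  classical
  by_cases h : j - 1 < a
  · rw [Sfam_eq_empty F B deg f a _ h] at hc
    simp at hc
  · have hk : (j - a + 1).toNat = (j - 1 - a + 1).toNat + 1 := by omega
    rw [Sfam, hk, Function.iterate_succ_apply']
    refine subset_trans ?_ Finset.subset_union_right
    exact Finset.subset_biUnion_of_mem
      (fun c => ((B j).repr ((F.d (j - 1) j).hom (B (j - 1) c))).support) hc

noncomputable def Gsub (n : ℤ) : Submodule R (F.X n) :=
  Submodule.span R (B n '' (Sfam F B deg f a n : Set (I n)))

lemma f_mem (ha : ∀ i, a ≤ deg i) (i : Fin N) : f i ∈ Gsub F B deg f a (deg i) := by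
  classical
  rw [Gsub, Module.Basis.mem_span_image]
  refine subset_trans ?_ (Finset.coe_subset.mpr (gens_subset F B deg f a _ (ha i)))
  rw [Finset.coe_subset]
  intro c hc
  rw [gens, Finset.mem_biUnion]
  exact ⟨i, Finset.mem_univ _, by rw [dif_pos rfl]; exact hc⟩

lemma d_mem (i j : ℤ) (x : F.X i) (hx : x ∈ Gsub F B deg f a i) :
    (F.d i j).hom x ∈ Gsub F B deg f a j := by
  by_cases hij : i + 1 = j
  · obtain rfl : i = j - 1 := by omega
    rw [Gsub] at hx
    refine Submodule.span_induction ?_ ?_ ?_ ?_ hx
    · rintro _ ⟨c, hc, rfl⟩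
      rw [Gsub, Module.Basis.mem_span_image]
      exact Finset.coe_subset.mpr (closure_subset F B deg f a j c hc)
    · simp
    · intro x y _ _ hx hy
      rw [map_add]; exact Submodule.add_mem _ hx hy
    · intro r x _ hx
      rw [map_smul]; exact Submodule.smul_mem _ _ hx
  · rw [F.shape i j hij]
    simp

noncomputable def G : CochainComplex (ModuleCat.{u} R) ℤ where
  X n := ModuleCat.of R (Gsub F B deg f a n)
  d i j := ModuleCat.ofHom ((F.d i j).hom.restrict (d_mem F B deg f a i j))
  shape i j h := by
    ext x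
    simp [F.shape i j h]
  d_comp_d' i j k _ _ := by
    ext x
    have h1 : (F.d i j ≫ F.d j k).hom (x : F.X i) = 0 := by
      rw [F.d_comp_d i j k]; rfl
    exact h1

noncomputable def ι : G F B deg f a ⟶ F where
  f n := ModuleCat.ofHom (Gsub F B deg f a n).subtype
  comm' i j _ := by
    ext x
    rfl

lemma ι_injective (n : ℤ) : Function.Injective ((ι F B deg f a).f n) :=
  Subtype.val_injective

lemma isZero_of_lt (n : ℤ) (h : n < a) : IsZero ((G F B deg f a).X n) := by
  have : Subsingleton (Gsub F B deg f a n) := by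
    rw [Gsub, Sfam_eq_empty F B deg f a n h]
    simp only [Finset.coe_empty, Set.image_empty, Submodule.span_empty]
    infer_instance
  exact ModuleCat.isZero_of_subsingleton (ModuleCat.of R (Gsub F B deg f a n))

lemma isZero_of_isZero (n : ℤ) (h : IsZero (F.X n)) : IsZero ((G F B deg f a).X n) := by
  have : Subsingleton (F.X n) := ModuleCat.subsingleton_of_isZero h
  have : Subsingleton (Gsub F B deg f a n) := inferInstance
  exact ModuleCat.isZero_of_subsingleton (ModuleCat.of R (Gsub F B deg f a n))

noncomputable def basisG (n : ℤ) :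
    Module.Basis (Sfam F B deg f a n) R (Gsub F B deg f a n) := by
  have e : Gsub F B deg f a n =
      Submodule.span R (Set.range fun c : Sfam F B deg f a n => B n c) := by
    rw [Gsub, Set.image_eq_range]
    rfl
  exact (Module.Basis.span ((B n).linearIndependent.comp _ Subtype.val_injective)).map
    (LinearEquiv.ofEq _ _ e.symm)

lemma finite_free (n : ℤ) :
    Module.Finite R ((G F B deg f a).X n) ∧ Module.Free R ((G F B deg f a).X n) := by
  change Module.Finite R (Gsub F B deg f a n) ∧ Module.Free R (Gsub F B deg f a n)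
  exact ⟨Module.Finite.of_basis (basisG F B deg f a n),
    Module.Free.of_basis (basisG F B deg f a n)⟩

end Groth.Agent.Lib.helper10.FinSubCx
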