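import Mathlib
import Groth.Agent.Lib.Helper12.EtaleAdjoinRoot

set_option autoImplicit false
universe u

open Polynomial IsLocalRing

namespace Groth.Agent.Lib.helper10.FiniteEtaleLocal

theorem main (A : Type u) [CommRing A] [IsLocalRing A] (l : Type u) [Field l]
    [Algebra (ResidueField A) l] [FiniteDimensional (ResidueField A) l]
    [Algebra.IsSeparable (ResidueField A) l] :
    ∃ (E : Type u) (_ : CommRing E) (_ : IsLocalRing E) (_ : Algebra A E)
      (_ : IsLocalHom (algebraMap A E)),
      Module.Finite A E ∧ Algebra.Etale A E ∧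
        Nonempty (ResidueField E ≃ₐ[ResidueField A] l) := by
  classical
  obtain ⟨θ, hθ⟩ := Field.exists_primitive_element (ResidueField A) l
  have hint : IsIntegral (ResidueField A) θ := Algebra.IsIntegral.isIntegral θ
  set g := minpoly (ResidueField A) θ with hg
  have hgm : g.Monic := minpoly.monic hint
  have hgsep : g.Separable := Algebra.IsSeparable.isSeparable (ResidueField A) θ
  obtain ⟨f, hfmap, -, hfm⟩ := Polynomial.lifts_and_natDegree_eq_and_monic
    (f := residue A) (p := g)
    ((Polynomial.mem_lifts _).2 (Polynomial.map_surjective _ residue_surjective g)) hgm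
  let E := AdjoinRoot f
  have hfin : Module.Finite A E := hfm.finite_adjoinRoot
  have het : Algebra.Etale A E :=
    Groth.Agent.Lib.Helper12.etale_adjoinRoot_of_separable_map_residue f hfm (hfmap ▸ hgsep)
  let _ : Algebra A l := ((algebraMap (ResidueField A) l).comp (residue A)).toAlgebra
  have : IsScalarTower A (ResidueField A) l := IsScalarTower.of_algebraMap_eq fun a => rfl
  have hroot : ∀ p : A[X], aeval θ p = aeval θ (p.map (residue A)) := by
    intro p
    rw [← ResidueField.algebraMap_eq, aeval_map_algebraMap]
  let φ : E →ₐ[A] l := AdjoinRoot.liftAlgHom f (Algebra.ofId A l) θ (by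
    have := hroot f
    rw [hfmap, minpoly.aeval] at this
    simpa [aeval_def] using this)
  have hφmk : ∀ p : A[X], φ (AdjoinRoot.mk f p) = aeval θ p := by
    intro p
    rw [aeval_def]
    rfl
  have hφsurj : Function.Surjective φ := by
    intro y
    have hy : y ∈ (IntermediateField.adjoin (ResidueField A) {θ}).toSubalgebra := by
      rw [hθ]; trivial
    rw [IntermediateField.adjoin_simple_toSubalgebra_of_isAlgebraic
      (Algebra.IsAlgebraic.isAlgebraic θ), Algebra.adjoin_singleton_eq_range_aeval] at hy
    obtain ⟨q, rfl⟩ := hy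
    obtain ⟨p, rfl⟩ := Polynomial.map_surjective _ residue_surjective q
    exact ⟨AdjoinRoot.mk f p, by rw [hφmk, hroot]; rfl⟩
  have hker : (RingHom.ker φ).IsMaximal := RingHom.ker_isMaximal_of_surjective φ hφsurj
  have hkerle : RingHom.ker φ ≤ Ideal.map (algebraMap A E) (maximalIdeal A) := by
    intro y hy
    obtain ⟨p, rfl⟩ := AdjoinRoot.mk_surjective y
    rw [RingHom.mem_ker] at hy
    have hy' : aeval θ p = 0 := by rw [← hφmk]; exact hy
    rw [hroot] at hy'
    obtain ⟨q, hq⟩ := minpoly.dvd (ResidueField A) θ hy'
    obtain ⟨q', rfl⟩ := Polynomial.map_surjective _ residue_surjective q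
    rw [← hg, ← hfmap, ← Polynomial.map_mul] at hq
    have hcoeff : ∀ i, (p - f * q').coeff i ∈ maximalIdeal A := by
      intro i
      rw [← residue_eq_zero_iff, ← Polynomial.coeff_map, Polynomial.map_sub, hq, sub_self,
        coeff_zero]
    have := Groth.Agent.Lib.Helper12.aeval_mem_map_of_coeff_mem (p - f * q') (maximalIdeal A)
      hcoeff (AdjoinRoot.root f)
    rw [AdjoinRoot.aeval_eq, map_sub, map_mul, AdjoinRoot.mk_self, zero_mul, sub_zero] at this
    exact this
  have hloc : IsLocalRing E := by
    apply IsLocalRing.of_unique_max_ideal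
    refine ⟨RingHom.ker φ, hker, fun M hM => ?_⟩
    have hMc : (M.comap (algebraMap A E)).IsMaximal :=
      Ideal.isMaximal_comap_of_isIntegral_of_isMaximal M
    have hle : Ideal.map (algebraMap A E) (maximalIdeal A) ≤ M := by
      rw [Ideal.map_le_iff_le_comap, IsLocalRing.eq_maximalIdeal hMc]
    exact (hker.eq_of_le hM.ne_top (hkerle.trans hle)).symm
  have hmax : maximalIdeal E = RingHom.ker φ := (IsLocalRing.eq_maximalIdeal hker).symm
  have hlochom : IsLocalHom (algebraMap A E) := by
    constructor
    intro a ha
    by_contra hna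
    have hmem : a ∈ maximalIdeal A := (IsLocalRing.mem_maximalIdeal a).2 hna
    have : algebraMap A E a ∈ maximalIdeal E := by
      rw [hmax, RingHom.mem_ker]
      change φ (algebraMap A E a) = 0
      rw [AlgHom.commutes]
      change algebraMap (ResidueField A) l (residue A a) = 0
      rw [(residue_eq_zero_iff a).2 hmem, map_zero]
    exact (IsLocalRing.mem_maximalIdeal _).1 this ha
  refine ⟨E, inferInstance, hloc, inferInstance, hlochom, hfin, het, ?_⟩
  let ψ : ResidueField E →+* l := Ideal.Quotient.lift (maximalIdeal E) (φ : E →+* l) (by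
    intro y hy
    rw [hmax] at hy
    exact hy)
  have hψ : Function.Bijective ψ := by
    refine ⟨RingHom.injective ψ, fun y => ?_⟩
    obtain ⟨x, rfl⟩ := hφsurj y
    exact ⟨residue E x, rfl⟩
  refine ⟨AlgEquiv.ofRingEquiv (f := RingEquiv.ofBijective ψ hψ) ?_⟩
  intro c
  obtain ⟨a, rfl⟩ := residue_surjective c
  change ψ (residue E (algebraMap A E a)) = _
  change φ (algebraMap A E a) = _
  rw [AlgHom.commutes]
  rfl

end Groth.Agent.Lib.helper10.FiniteEtaleLocal
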