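import Mathlib
import Groth.Agent.Lib.helper19.RegularLocal

/-!
# Quotients of a regular local ring by an ideal `J` with `J ⊓ 𝔪² ≤ 𝔪 J`, and the Reynolds operator
-/

set_option autoImplicit false
set_option linter.unusedSectionVars false

namespace Groth.Agent.Lib.helper10.FixedReg

open IsLocalRing

universe u

theorem withBot_add_one_eq {a : WithBot ℕ∞} {m : ℕ} (h : a + 1 = (m : WithBot ℕ∞)) :
    ∃ k : ℕ, a = k ∧ k + 1 = m := by
  induction a using WithBot.recBotCoe with
  | bot =>
    rw [WithBot.bot_add] at h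
    exact absurd h (by exact_mod_cast WithBot.bot_ne_coe)
  | coe a =>
    induction a using ENat.recTopCoe with
    | top =>
      exfalso
      have h' : ((⊤ : ℕ∞) + 1 : ℕ∞) = (m : ℕ∞) := by exact_mod_cast h
      simp at h'
    | coe k =>
      refine ⟨k, rfl, ?_⟩
      exact_mod_cast h

theorem eq_bot_of_le_sq {A : Type u} [CommRing A] [IsLocalRing A] [IsNoetherianRing A]
    (J : Ideal A) (h1 : J ≤ maximalIdeal A ^ 2)
    (h2 : J ⊓ maximalIdeal A ^ 2 ≤ maximalIdeal A * J) : J = ⊥ := by
  apply Submodule.eq_bot_of_le_smul_of_le_jacobson_bot (maximalIdeal A) J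
    (IsNoetherian.noetherian J)
  · rw [smul_eq_mul]; exact le_trans (le_inf le_rfl h1) h2
  · exact (IsLocalRing.jacobson_eq_maximalIdeal _ bot_ne_top).ge

theorem regular_quot_aux (n : ℕ) : ∀ (A : Type u) [CommRing A] [IsRegularLocalRing A]
    (J : Ideal A), ringKrullDim A = n → J ≤ maximalIdeal A →
    J ⊓ maximalIdeal A ^ 2 ≤ maximalIdeal A * J → IsRegularLocalRing (A ⧸ J) := by
  induction n with
  | zero =>
    intro A _ _ J hdim hJM hJ
    by_cases hsq : J ≤ maximalIdeal A ^ 2
    · obtain rfl := eq_bot_of_le_sq J hsq hJ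
      exact IsRegularLocalRing.of_ringEquiv (RingEquiv.quotientBot A).symm
    · exfalso
      obtain ⟨x, hxJ, hx2⟩ := SetLike.not_le_iff_exists.1 hsq
      obtain ⟨hreg, hd⟩ :=
        Groth.Agent.Lib.helper19.isRegularLocalRing_quotient_span_singleton (hJM hxJ) hx2
      rw [hdim] at hd
      obtain ⟨k, -, hk⟩ := withBot_add_one_eq hd
      omega
  | succ n ih =>
    intro A _ _ J hdim hJM hJ
    by_cases hsq : J ≤ maximalIdeal A ^ 2
    · obtain rfl := eq_bot_of_le_sq J hsq hJ
      exact IsRegularLocalRing.of_ringEquiv (RingEquiv.quotientBot A).symm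
    · obtain ⟨x, hxJ, hx2⟩ := SetLike.not_le_iff_exists.1 hsq
      obtain ⟨hreg, hd⟩ :=
        Groth.Agent.Lib.helper19.isRegularLocalRing_quotient_span_singleton (hJM hxJ) hx2
      rw [hdim] at hd
      have hd' : ringKrullDim (A ⧸ Ideal.span ({x} : Set A)) = n := by
        obtain ⟨k, hk1, hk⟩ := withBot_add_one_eq hd
        rw [hk1]
        have : k = n := by omega
        rw [this]
      have hxle : Ideal.span ({x} : Set A) ≤ J := (Ideal.span_singleton_le_iff_mem _).2 hxJ
      have hM' : maximalIdeal (A ⧸ Ideal.span ({x} : Set A)) =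
          (maximalIdeal A).map (Ideal.Quotient.mk _) :=
        Groth.Agent.Lib.helper19.maximalIdeal_quotient _
      have key := ih (A ⧸ Ideal.span ({x} : Set A)) (J.map (Ideal.Quotient.mk _)) hd'
        (by rw [hM']; exact Ideal.map_mono hJM)
        (by
          rw [hM', ← Ideal.map_pow, ← Ideal.map_mul]
          rintro z ⟨hz1, hz2⟩
          obtain ⟨y, hy, rfl⟩ :=
            (Ideal.mem_map_iff_of_surjective _ Ideal.Quotient.mk_surjective).1 hz1
          obtain ⟨m, hm, hmy⟩ :=
            (Ideal.mem_map_iff_of_surjective _ Ideal.Quotient.mk_surjective).1 hz2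
          have hmJ : m ∈ J := by
            have h1 : m - y ∈ Ideal.span ({x} : Set A) := by
              rw [← Ideal.Quotient.eq_zero_iff_mem, map_sub, hmy, sub_self]
            have h2 : m - y ∈ J := hxle h1
            have := J.add_mem h2 hy
            simpa using this
          rw [← hmy]
          exact Ideal.mem_map_of_mem _ (hJ ⟨hmJ, hm⟩))
      exact IsRegularLocalRing.of_ringEquiv (DoubleQuot.quotQuotEquivQuotOfLE hxle)

/-- If `A` is a regular local ring and `J ≤ 𝔪` is an ideal with `J ⊓ 𝔪² ≤ 𝔪 J`, then `A ⧸ J` is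
a regular local ring. -/
theorem isRegularLocalRing_quotient_of_inf_sq_le {A : Type u} [CommRing A] [IsRegularLocalRing A]
    (J : Ideal A) (hJM : J ≤ maximalIdeal A)
    (hJ : J ⊓ maximalIdeal A ^ 2 ≤ maximalIdeal A * J) : IsRegularLocalRing (A ⧸ J) := by
  have hA : ((maximalIdeal A).spanFinrank : WithBot ℕ∞) = ringKrullDim A :=
    IsRegularLocalRing.spanFinrank_maximalIdeal
  exact regular_quot_aux _ A J hA.symm hJM hJ

section Reynolds

variable (k : Type*) [Field k] {A : Type*} [CommRing A] [Algebra k A]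
  (G : Type*) [Group G] [Fintype G] [MulSemiringAction G A] [SMulCommClass G k A]

/-- The Reynolds operator `a ↦ |G|⁻¹ ∑ g • a`. -/
noncomputable def rey : A →ₗ[k] A :=
  ((Fintype.card G : k))⁻¹ • ∑ g : G, (MulSemiringAction.toAlgHom k A g).toLinearMap

theorem rey_apply (a : A) : rey k G a = ((Fintype.card G : k))⁻¹ • ∑ g : G, g • a := by
  simp [rey, LinearMap.sum_apply]

theorem rey_smul (g : G) (a : A) : rey k G (g • a) = rey k G a := by
  rw [rey_apply, rey_apply]
  congr 1
  simp only [← mul_smul]
  exact Fintype.sum_equiv (Equiv.mulRight g) _ _ (fun h => rfl)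

theorem sub_rey (hN : (Fintype.card G : k) ≠ 0) (a : A) :
    a - rey k G a = ((Fintype.card G : k))⁻¹ • ∑ g : G, (a - g • a) := by
  rw [rey_apply, Finset.sum_sub_distrib, smul_sub, Finset.sum_const, Finset.card_univ,
    ← Nat.cast_smul_eq_nsmul k, smul_smul, inv_mul_cancel₀ hN, one_smul]

theorem sub_rey_mem (hN : (Fintype.card G : k) ≠ 0) (I : Ideal A) (a : A)
    (h : ∀ g : G, a - g • a ∈ I) : a - rey k G a ∈ I := by
  rw [sub_rey k G hN, Algebra.smul_def]
  exact I.mul_mem_left _ (I.sum_mem fun g _ => h g)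

theorem rey_mem (I : Ideal A) (a : A) (h : ∀ g : G, g • a ∈ I) : rey k G a ∈ I := by
  rw [rey_apply, Algebra.smul_def]
  exact I.mul_mem_left _ (I.sum_mem fun g _ => h g)

variable (A) in
/-- The ideal generated by the `g • a - a`. -/
def coinv : Ideal A := Ideal.span {x : A | ∃ (g : G) (a : A), x = g • a - a}

theorem smul_sub_mem (g : G) (a : A) : g • a - a ∈ coinv A G :=
  Ideal.subset_span ⟨g, a, rfl⟩

theorem sub_smul_mem (g : G) (a : A) : a - g • a ∈ coinv A G := by
  have := (coinv A G).neg_mem (smul_sub_mem G g a)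
  simpa using this

theorem smul_gen_mem (h g : G) (a : A) : h • (g • a - a) ∈ coinv A G := by
  have : h • (g • a - a) = ((h * g) • a - a) - (h • a - a) := by
    rw [smul_sub, mul_smul]; ring
  rw [this]
  exact (coinv A G).sub_mem (smul_sub_mem G _ a) (smul_sub_mem G _ a)

theorem smul_mem_maximalIdeal [IsLocalRing A] (g : G) {m : A} (hm : m ∈ maximalIdeal A) :
    g • m ∈ maximalIdeal A := by
  rw [mem_maximalIdeal, mem_nonunits_iff] at hm ⊢
  intro hu
  apply hm
  have := hu.map (MulSemiringAction.toRingHom G A g⁻¹)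
  rwa [MulSemiringAction.toRingHom_apply, inv_smul_smul] at this

theorem exists_sub_algebraMap_mem [IsLocalRing A]
    (hres : Function.Surjective (algebraMap k (ResidueField A))) (a : A) :
    ∃ c : k, a - algebraMap k A c ∈ maximalIdeal A := by
  obtain ⟨c, hc⟩ := hres (residue A a)
  refine ⟨c, ?_⟩
  rw [← residue_eq_zero_iff, map_sub, ← hc, sub_eq_zero]
  exact IsScalarTower.algebraMap_apply k A (ResidueField A) c

theorem coinv_le_maximalIdeal [IsLocalRing A]
    (hres : Function.Surjective (algebraMap k (ResidueField A))) :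
    coinv A G ≤ maximalIdeal A := by
  apply Ideal.span_le.2
  rintro x ⟨g, a, rfl⟩
  obtain ⟨c, hc⟩ := exists_sub_algebraMap_mem k hres a
  have : g • a - a = g • (a - algebraMap k A c) - (a - algebraMap k A c) := by
    rw [smul_sub, smul_algebraMap]; ring
  rw [this]
  exact (maximalIdeal A).sub_mem (smul_mem_maximalIdeal G g hc) hc

theorem rey_mem_mul_of_mem [IsLocalRing A]
    (hres : Function.Surjective (algebraMap k (ResidueField A))) {x : A}
    (hx : x ∈ coinv A G) : rey k G x ∈ maximalIdeal A * coinv A G := by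
  suffices h : ∀ b : A, rey k G (b * x) ∈ maximalIdeal A * coinv A G by
    simpa using h 1
  induction hx using Submodule.span_induction with
  | mem x hx =>
    obtain ⟨g, a, rfl⟩ := hx
    intro b
    obtain ⟨c, hc⟩ := exists_sub_algebraMap_mem k hres b
    have h1 : b * (g • a - a) =
        c • (g • a - a) + (b - algebraMap k A c) * (g • a - a) := by
      rw [Algebra.smul_def]; ring
    rw [h1, map_add, map_smul, map_sub, rey_smul, sub_self, smul_zero, zero_add]
    apply rey_mem
    intro h
    rw [smul_mul']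
    exact Ideal.mul_mem_mul (smul_mem_maximalIdeal G h hc) (smul_gen_mem G h g a)
  | zero => intro b; simp
  | add x y _ _ hx hy =>
    intro b
    rw [mul_add, map_add]
    exact Ideal.add_mem _ (hx b) (hy b)
  | smul r x _ hx =>
    intro b
    rw [smul_eq_mul, ← mul_assoc]
    exact hx (b * r)

theorem sub_rey_mem_mul_of_mem_sq [IsLocalRing A] (hN : (Fintype.card G : k) ≠ 0) {x : A}
    (hx : x ∈ maximalIdeal A ^ 2) : x - rey k G x ∈ maximalIdeal A * coinv A G := by
  rw [pow_two] at hx
  refine Submodule.mul_induction_on hx ?_ ?_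
  · intro a ha b hb
    apply sub_rey_mem k G hN
    intro g
    have : a * b - g • (a * b) = a * (b - g • b) + (g • b) * (a - g • a) := by
      rw [smul_mul']; ring
    rw [this]
    exact Ideal.add_mem _ (Ideal.mul_mem_mul ha (sub_smul_mem G g b))
      (Ideal.mul_mem_mul (smul_mem_maximalIdeal G g hb) (sub_smul_mem G g a))
  · intro x y hx hy
    have : x + y - rey k G (x + y) = (x - rey k G x) + (y - rey k G y) := by
      rw [map_add]; ring
    rw [this]
    exact Ideal.add_mem _ hx hy

theorem coinv_inf_sq_le [IsLocalRing A]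
    (hres : Function.Surjective (algebraMap k (ResidueField A)))
    (hN : (Fintype.card G : k) ≠ 0) :
    coinv A G ⊓ maximalIdeal A ^ 2 ≤ maximalIdeal A * coinv A G := by
  rintro x ⟨hx1, hx2⟩
  have : x = (x - rey k G x) + rey k G x := by ring
  rw [this]
  exact Ideal.add_mem _ (sub_rey_mem_mul_of_mem_sq k G hN hx2) (rey_mem_mul_of_mem k G hres hx1)

end Reynolds

/-- The fixed locus of a finite group of invertible order acting on a regular local `k`-algebra
with residue field `k` is regular at the point. -/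
theorem isRegularLocalRing_quotient_coinv (k : Type*) [Field k] (A : Type u) [CommRing A]
    [Algebra k A] [IsRegularLocalRing A]
    (hres : Function.Surjective (algebraMap k (ResidueField A)))
    (G : Type*) [Group G] [Fintype G] [MulSemiringAction G A] [SMulCommClass G k A]
    (hN : (Fintype.card G : k) ≠ 0) : IsRegularLocalRing (A ⧸ coinv A G) :=
  isRegularLocalRing_quotient_of_inf_sq_le _ (coinv_le_maximalIdeal k G hres)
    (coinv_inf_sq_le k G hres hN)

end Groth.Agent.Lib.helper10.FixedReg
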