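import Mathlib.Algebra.Category.Ring.Epi
import Mathlib.RingTheory.RingHom.Flat
import Mathlib.RingTheory.Flat.FaithfullyFlat.Algebra
import Mathlib.RingTheory.Localization.AtPrime.Basic

/-!
# Flat epimorphisms of rings

* `bijective_of_faithfullyFlat_of_isEpi`: a faithfully flat epimorphism is bijective.
* `bijective_localRingHom_of_flat_of_isEpi`: a flat epimorphism induces isomorphisms on the local
  rings.
-/

set_option autoImplicit false
set_option linter.style.haveILetI false

universe u

namespace Groth.Agent.Lib.helper10.FlatEpi

open TensorProduct CategoryTheory

/-- A faithfully flat epimorphism of rings is bijective. -/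
theorem bijective_of_faithfullyFlat_of_isEpi (A B : Type*) [CommRing A] [CommRing B]
    [Algebra A B] [Module.FaithfullyFlat A B] [Algebra.IsEpi A B] :
    Function.Bijective (algebraMap A B) := by
  have h1 : Function.Bijective ((Algebra.linearMap A B).lTensor B) := by
    have hcomp : ∀ t : B ⊗[A] A,
        TensorProduct.lid' A B B ((Algebra.linearMap A B).lTensor B t) =
          TensorProduct.rid A B t := by
      intro t
      induction t using TensorProduct.induction_on with
      | zero => simp
      | tmul b a =>
        rw [LinearMap.lTensor_tmul, TensorProduct.lid'_apply_tmul, TensorProduct.rid_tmul,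
          Algebra.linearMap_apply, smul_eq_mul, Algebra.smul_def, mul_comm]
      | add x y hx hy => rw [map_add, map_add, map_add, hx, hy]
    have h2 : Function.Bijective
        ((TensorProduct.lid' A B B) ∘ ((Algebra.linearMap A B).lTensor B)) := by
      have : ((TensorProduct.lid' A B B) ∘ ((Algebra.linearMap A B).lTensor B)) =
          (TensorProduct.rid A B) := funext hcomp
      rw [this]
      exact (TensorProduct.rid A B).bijective
    exact (Function.Bijective.of_comp_iff' (TensorProduct.lid' A B B).bijective _).1 h2
  exact (Module.FaithfullyFlat.lTensor_bijective_iff_bijective A B (Algebra.linearMap A B)).1 h1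

/-- A localization map is an epimorphism of commutative rings. -/
theorem epi_of_isLocalization {R S : Type u} [CommRing R] [CommRing S] [Algebra R S]
    (M : Submonoid R) [IsLocalization M S] : Epi (CommRingCat.ofHom (algebraMap R S)) := by
  constructor
  intro T g h e
  apply CommRingCat.hom_ext
  apply IsLocalization.ringHom_ext M
  exact congrArg CommRingCat.Hom.hom e

/-- A flat epimorphism of rings induces bijections on local rings. -/
theorem bijective_localRingHom_of_flat_of_isEpi {A B : Type u} [CommRing A] [CommRing B]
    (f : A →+* B) (hflat : f.Flat) (hepi : Epi (CommRingCat.ofHom f)) (P : Ideal B) [P.IsPrime] :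
    Function.Bijective (Localization.localRingHom (P.comap f) P f rfl) := by
  letI : Algebra (Localization.AtPrime (P.comap f)) (Localization.AtPrime P) :=
    (Localization.localRingHom (P.comap f) P f rfl).toAlgebra
  haveI : Module.Flat (Localization.AtPrime (P.comap f)) (Localization.AtPrime P) :=
    hflat.localRingHom P (P.comap f) rfl
  haveI : IsLocalHom (algebraMap (Localization.AtPrime (P.comap f)) (Localization.AtPrime P)) :=
    Localization.isLocalHom_localRingHom (P.comap f) P f rfl
  haveI : Module.FaithfullyFlat (Localization.AtPrime (P.comap f)) (Localization.AtPrime P) :=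
    Module.FaithfullyFlat.of_flat_of_isLocalHom
  haveI : Algebra.IsEpi (Localization.AtPrime (P.comap f)) (Localization.AtPrime P) := by
    rw [← CommRingCat.epi_iff_epi]
    have e1 : Epi (CommRingCat.ofHom (algebraMap B (Localization.AtPrime P))) :=
      epi_of_isLocalization P.primeCompl
    have e2 : Epi (CommRingCat.ofHom f ≫
        CommRingCat.ofHom (algebraMap B (Localization.AtPrime P))) := epi_comp _ _
    have e3 : CommRingCat.ofHom f ≫ CommRingCat.ofHom (algebraMap B (Localization.AtPrime P)) =
        CommRingCat.ofHom (algebraMap A (Localization.AtPrime (P.comap f))) ≫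
          CommRingCat.ofHom (algebraMap (Localization.AtPrime (P.comap f))
            (Localization.AtPrime P)) := by
      apply CommRingCat.hom_ext
      apply RingHom.ext
      intro a
      exact (Localization.localRingHom_to_map (P.comap f) P f rfl a).symm
    rw [e3] at e2
    exact epi_of_epi (CommRingCat.ofHom (algebraMap A (Localization.AtPrime (P.comap f)))) _
  exact bijective_of_faithfullyFlat_of_isEpi _ _

end Groth.Agent.Lib.helper10.FlatEpi
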