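import Mathlib

set_option backward.isDefEq.respectTransparency.types true
set_option maxHeartbeats 400000
set_option autoImplicit false
universe u
open TensorProduct

namespace H10S6263

variable {R S : Type u} [CommRing R] [CommRing S] [Algebra R S] (N : Type u) [AddCommGroup N]
  [Module S N] [Module R N] [IsScalarTower R S N]

/-- flatness: multiplication by `u ∉ p` is injective on `N / pN`. -/
theorem mem_of_smul_mem [Module.Flat R N] (p : Ideal R) [p.IsPrime] {u : R} (hu : u ∉ p) {x : N}
    (hx : u • x ∈ (p • ⊤ : Submodule R N)) : x ∈ (p • ⊤ : Submodule R N) := by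
  let f : (R ⧸ p) →ₗ[R] (R ⧸ p) := LinearMap.lsmul R (R ⧸ p) u
  have hf : Function.Injective f := by
    rw [injective_iff_map_eq_zero]
    intro y hy
    obtain ⟨y, rfl⟩ := Ideal.Quotient.mk_surjective y
    have : Ideal.Quotient.mk p (u * y) = 0 := by
      simpa [f, Algebra.smul_def] using hy
    rw [Ideal.Quotient.eq_zero_iff_mem] at this ⊢
    exact (Ideal.IsPrime.mem_or_mem inferInstance this).resolve_left hu
  have hinj := Module.Flat.rTensor_preserves_injective_linearMap (M := N) f hf
  let e := TensorProduct.quotTensorEquivQuotSMul N p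
  let z : (R ⧸ p) ⊗[R] N := (1 : R ⧸ p) ⊗ₜ x
  have h1 : f.rTensor N z = u • z := by
    simp only [z, LinearMap.rTensor_tmul, f, LinearMap.lsmul_apply, TensorProduct.smul_tmul']
  have h2 : e (u • z) = 0 := by
    rw [map_smul]
    simp only [e, z, TensorProduct.quotTensorEquivQuotSMul_mk_one_tmul]
    rw [← Submodule.Quotient.mk_smul, Submodule.Quotient.mk_eq_zero]
    exact hx
  have h3 : z = 0 := by
    apply hinj
    rw [h1, map_zero]
    exact e.injective (by rw [h2, map_zero])
  have h4 : e z = 0 := by rw [h3, map_zero]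
  simp only [e, z, TensorProduct.quotTensorEquivQuotSMul_mk_one_tmul,
    Submodule.Quotient.mk_eq_zero] at h4
  exact h4


theorem main [Module.Finite S N] [Module.Flat R N] (p p' : Ideal R) [p.IsPrime] [p'.IsPrime]
    (hle : p ≤ p') (q' : PrimeSpectrum S) (hq' : q' ∈ Module.support S N)
    (hover : q'.asIdeal.under R = p') :
    ∃ q : PrimeSpectrum S, q ≤ q' ∧ q ∈ Module.support S N ∧ q.asIdeal.under R = p := by
  classical
  let I : Ideal S := Ideal.map (algebraMap R S) p ⊔ Module.annihilator S N
  let W : Submonoid S := q'.asIdeal.primeCompl ⊔ Submonoid.map (algebraMap R S) p.primeCompl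
  have hdisj : Disjoint (I : Set S) W := by
    rw [Set.disjoint_left]
    intro x hxI hxW
    obtain ⟨a, ha, b, hb, rfl⟩ := Submodule.mem_sup.1 hxI
    obtain ⟨t, ht, _, ⟨u, hu, rfl⟩, htu⟩ := Submonoid.mem_sup.1 hxW
    have c1 : ∀ n : N, a • n ∈ (p • ⊤ : Submodule R N) := by
      have : ∀ a ∈ Ideal.map (algebraMap R S) p, ∀ n : N, a • n ∈ (p • ⊤ : Submodule R N) := by
        intro a ha
        refine Submodule.span_induction ?_ ?_ ?_ ?_ ha
        · rintro _ ⟨r, hr, rfl⟩ n
          rw [algebraMap_smul]
          exact Submodule.smul_mem_smul hr trivial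
        · intro n; rw [zero_smul]; exact zero_mem _
        · intro x y _ _ hx hy n; rw [add_smul]; exact add_mem (hx n) (hy n)
        · intro s x _ hx n; rw [smul_eq_mul, mul_comm, mul_smul]; exact hx _
      exact this a ha
    have c2 : ∀ n : N, t • n ∈ (p • ⊤ : Submodule R N) := by
      intro n
      apply mem_of_smul_mem N p hu
      have : u • t • n = a • n := by
        have h1 : (t * algebraMap R S u) • n = (a + b) • n := by rw [htu]
        rw [add_smul, Module.mem_annihilator.1 hb n, add_zero] at h1
        rw [← h1, mul_comm, mul_smul, algebraMap_smul]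
      rw [this]; exact c1 n
    have hnt := (Module.mem_support_iff_nontrivial_residueField_tensorProduct q').1 hq'
    have c3 : ∀ y ∈ (p • ⊤ : Submodule R N), (1 : q'.asIdeal.ResidueField) ⊗ₜ[S] y = 0 := by
      intro y hy
      refine Submodule.smul_induction_on hy ?_ ?_
      · intro r hr m _
        rw [← algebraMap_smul S r m, ← TensorProduct.smul_tmul, Algebra.smul_def, mul_one]
        have : algebraMap S q'.asIdeal.ResidueField (algebraMap R S r) = 0 := by
          rw [Ideal.algebraMap_residueField_eq_zero]
          have : r ∈ q'.asIdeal.under R := by rw [hover]; exact hle hr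
          exact this
        rw [this, zero_tmul]
      · intro x y hx hy; rw [tmul_add, hx, hy, add_zero]
    have c4 : ∀ n : N, (1 : q'.asIdeal.ResidueField) ⊗ₜ[S] n = 0 := by
      intro n
      have h1 := c3 _ (c2 n)
      rw [← TensorProduct.smul_tmul, Algebra.smul_def, mul_one] at h1
      have hne : algebraMap S q'.asIdeal.ResidueField t ≠ 0 := by
        rw [Ne, Ideal.algebraMap_residueField_eq_zero]; exact ht
      have : (1 : q'.asIdeal.ResidueField) ⊗ₜ[S] n =
          (algebraMap S q'.asIdeal.ResidueField t)⁻¹ •
            ((algebraMap S q'.asIdeal.ResidueField t) ⊗ₜ[S] n) := by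
        rw [TensorProduct.smul_tmul', smul_eq_mul, inv_mul_cancel₀ hne]
      rw [this, h1, smul_zero]
    have hss : Subsingleton (q'.asIdeal.ResidueField ⊗[S] N) := by
      refine ⟨fun x y => ?_⟩
      have h0 : ∀ z : q'.asIdeal.ResidueField ⊗[S] N, z = 0 := by
        intro z
        induction z using TensorProduct.induction_on with
        | zero => rfl
        | tmul k n =>
          have : k ⊗ₜ[S] n = k • ((1 : q'.asIdeal.ResidueField) ⊗ₜ[S] n) := by
            rw [TensorProduct.smul_tmul', smul_eq_mul, mul_one]
          rw [this, c4, smul_zero]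
        | add x y hx hy => rw [hx, hy, add_zero]
      rw [h0 x, h0 y]
    exact not_subsingleton _ hss
  obtain ⟨q, hqprime, hIq, hqW⟩ := Ideal.exists_le_prime_disjoint I W hdisj
  refine ⟨⟨q, hqprime⟩, ?_, ?_, ?_⟩
  · intro s hs
    by_contra hsq
    exact Set.disjoint_left.1 hqW hs (Submonoid.mem_sup_left hsq)
  · rw [Module.mem_support_iff_of_finite]
    exact le_sup_right.trans hIq
  · ext r
    rw [Ideal.under_def, Ideal.mem_comap]
    constructor
    · intro hr
      by_contra hrp
      exact Set.disjoint_left.1 hqW hr (Submonoid.mem_sup_right ⟨r, hrp, rfl⟩)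
    · intro hr
      exact hIq (Ideal.mem_sup_left (Ideal.mem_map_of_mem _ hr))

end H10S6263
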