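import Mathlib

set_option maxHeartbeats 400000
set_option autoImplicit false

universe v u

namespace H10S6322

open CategoryTheory Category Limits ChainComplex HomologicalComplex Projective

variable {C : Type u} [Category.{v} C] [Abelian C]

/-- An augmented chain complex with projective terms (no exactness assumed). -/
structure ProjAug (Z : C) where
  complex : ChainComplex C ℕ
  projective : ∀ n, Projective (complex.X n)
  π : complex ⟶ (ChainComplex.single₀ C).obj Z

/-- A resolution (no projectivity assumed). -/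
structure Resol (Z : C) where
  complex : ChainComplex C ℕ
  π : complex ⟶ (ChainComplex.single₀ C).obj Z
  quasiIso : QuasiIso π

attribute [instance] ProjAug.projective Resol.quasiIso

namespace ProjAug

variable {Z : C} (P : ProjAug Z)

@[simp]
theorem π_f_succ (n : ℕ) : P.π.f (n + 1) = 0 :=
  (isZero_single_obj_X _ _ _ _ (by simp)).eq_of_tgt _ _

@[reassoc (attr := simp)]
theorem complex_d_comp_π_f_zero :
    P.complex.d 1 0 ≫ P.π.f 0 = 0 := by
  rw [← P.π.comm 1 0, single_obj_d, comp_zero]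

end ProjAug

namespace Resol

variable {Z : C} (P : Resol Z)

lemma complex_exactAt_succ (n : ℕ) :
    P.complex.ExactAt (n + 1) := by
  rw [← quasiIsoAt_iff_exactAt' P.π (n + 1) (exactAt_succ_single_obj _ _)]
  infer_instance

lemma exact_succ (n : ℕ) :
    (ShortComplex.mk _ _ (P.complex.d_comp_d (n + 2) (n + 1) n)).Exact :=
  ((HomologicalComplex.exactAt_iff' _ (n + 2) (n + 1) n) (by simp only [prev]; rfl)
    (by simp)).1 (P.complex_exactAt_succ n)

@[simp]
theorem π_f_succ (n : ℕ) : P.π.f (n + 1) = 0 :=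
  (isZero_single_obj_X _ _ _ _ (by simp)).eq_of_tgt _ _

@[reassoc (attr := simp)]
theorem complex_d_comp_π_f_zero :
    P.complex.d 1 0 ≫ P.π.f 0 = 0 := by
  rw [← P.π.comm 1 0, single_obj_d, comp_zero]

/-- The cokernel cofork. -/
@[simp]
noncomputable def cokernelCofork : CokernelCofork (P.complex.d 1 0) :=
  CokernelCofork.ofπ _ P.complex_d_comp_π_f_zero

set_option backward.isDefEq.respectTransparency.types false in
set_option backward.defeqAttrib.useBackward true in
noncomputable def isColimitCokernelCofork : IsColimit (P.cokernelCofork) := by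
  refine IsColimit.ofIsoColimit (P.complex.opcyclesIsCokernel 1 0 (by simp)) ?_
  refine Cofork.ext (P.complex.isoHomologyι₀.symm ≪≫ isoOfQuasiIsoAt P.π 0 ≪≫
    singleObjHomologySelfIso _ _ _) ?_
  rw [← cancel_mono (singleObjHomologySelfIso (ComplexShape.down ℕ) 0 _).inv,
    ← cancel_mono (isoHomologyι₀ _).hom]
  dsimp
  simp only [isoHomologyι₀_inv_naturality_assoc, p_opcyclesMap_assoc, single₀_obj_zero, assoc,
    Iso.hom_inv_id, comp_id, isoHomologyι_inv_hom_id, singleObjHomologySelfIso_inv_homologyι,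
    singleObjOpcyclesSelfIso_hom, single₀ObjXSelf, Iso.refl_inv, id_comp]

set_option backward.isDefEq.respectTransparency false in
instance (n : ℕ) : Epi (P.π.f n) := by
  cases n
  · exact epi_of_isColimit_cofork P.isColimitCokernelCofork
  · rw [π_f_succ]; infer_instance

lemma exact₀ :
    (ShortComplex.mk _ _ P.complex_d_comp_π_f_zero).Exact :=
  ShortComplex.exact_of_g_is_cokernel _ P.isColimitCokernelCofork

end Resol

noncomputable section

set_option backward.isDefEq.respectTransparency false in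
/-- Auxiliary construction for `lift`. -/
def liftFZero {Y Z : C} (f : Y ⟶ Z) (P : ProjAug Y) (Q : Resol Z) :
    P.complex.X 0 ⟶ Q.complex.X 0 :=
  Projective.factorThru (P.π.f 0 ≫ f) (Q.π.f 0)

set_option backward.isDefEq.respectTransparency false in
/-- Auxiliary construction for `lift`. -/
def liftFOne {Y Z : C} (f : Y ⟶ Z) (P : ProjAug Y) (Q : Resol Z) :
    P.complex.X 1 ⟶ Q.complex.X 1 :=
  Q.exact₀.liftFromProjective (P.complex.d 1 0 ≫ liftFZero f P Q) (by simp [liftFZero])

@[simp]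
theorem liftFOne_zero_comm {Y Z : C} (f : Y ⟶ Z) (P : ProjAug Y)
    (Q : Resol Z) :
    liftFOne f P Q ≫ Q.complex.d 1 0 = P.complex.d 1 0 ≫ liftFZero f P Q := by
  apply Q.exact₀.liftFromProjective_comp

/-- Auxiliary construction for `lift`. -/
def liftFSucc {Y Z : C} (P : ProjAug Y) (Q : Resol Z) (n : ℕ)
    (g : P.complex.X n ⟶ Q.complex.X n) (g' : P.complex.X (n + 1) ⟶ Q.complex.X (n + 1))
    (w : g' ≫ Q.complex.d (n + 1) n = P.complex.d (n + 1) n ≫ g) :
    Σ' g'' : P.complex.X (n + 2) ⟶ Q.complex.X (n + 2),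
      g'' ≫ Q.complex.d (n + 2) (n + 1) = P.complex.d (n + 2) (n + 1) ≫ g' :=
  ⟨(Q.exact_succ n).liftFromProjective
    (P.complex.d (n + 2) (n + 1) ≫ g') (by simp [w]),
      (Q.exact_succ n).liftFromProjective_comp _ _⟩

/-- A morphism in `C` lifts to a chain map. -/
def lift {Y Z : C} (f : Y ⟶ Z) (P : ProjAug Y) (Q : Resol Z) :
    P.complex ⟶ Q.complex :=
  ChainComplex.mkHom _ _ (liftFZero f _ _) (liftFOne f _ _) (liftFOne_zero_comm f P Q)
    fun n ⟨g, g', w⟩ => ⟨(liftFSucc P Q n g g' w).1, (liftFSucc P Q n g g' w).2⟩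

set_option backward.isDefEq.respectTransparency.types false in
/-- The resolution maps intertwine the lift of a morphism and that morphism. -/
@[reassoc (attr := simp)]
theorem lift_commutes {Y Z : C} (f : Y ⟶ Z) (P : ProjAug Y)
    (Q : Resol Z) : lift f P Q ≫ Q.π = P.π ≫ (ChainComplex.single₀ C).map f := by
  ext
  simp [lift, liftFZero, liftFOne]

/-- An auxiliary definition for `liftHomotopyZero`. -/
def liftHomotopyZeroZero {Y Z : C} {P : ProjAug Y} {Q : Resol Z}
    (f : P.complex ⟶ Q.complex) (comm : f ≫ Q.π = 0) : P.complex.X 0 ⟶ Q.complex.X 1 :=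
  Q.exact₀.liftFromProjective (f.f 0) (congr_fun (congr_arg HomologicalComplex.Hom.f comm) 0)

@[reassoc (attr := simp)]
lemma liftHomotopyZeroZero_comp {Y Z : C} {P : ProjAug Y} {Q : Resol Z}
    (f : P.complex ⟶ Q.complex) (comm : f ≫ Q.π = 0) :
    liftHomotopyZeroZero f comm ≫ Q.complex.d 1 0 = f.f 0 :=
  Q.exact₀.liftFromProjective_comp _ _

/-- An auxiliary definition for `liftHomotopyZero`. -/
def liftHomotopyZeroOne {Y Z : C} {P : ProjAug Y} {Q : Resol Z}
    (f : P.complex ⟶ Q.complex) (comm : f ≫ Q.π = 0) :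
    P.complex.X 1 ⟶ Q.complex.X 2 :=
  (Q.exact_succ 0).liftFromProjective (f.f 1 - P.complex.d 1 0 ≫ liftHomotopyZeroZero f comm)
    (by rw [Preadditive.sub_comp, assoc, HomologicalComplex.Hom.comm,
              liftHomotopyZeroZero_comp, sub_self])

@[reassoc (attr := simp)]
lemma liftHomotopyZeroOne_comp {Y Z : C} {P : ProjAug Y} {Q : Resol Z}
    (f : P.complex ⟶ Q.complex) (comm : f ≫ Q.π = 0) :
    liftHomotopyZeroOne f comm ≫ Q.complex.d 2 1 =
      f.f 1 - P.complex.d 1 0 ≫ liftHomotopyZeroZero f comm :=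
  (Q.exact_succ 0).liftFromProjective_comp _ _

/-- An auxiliary definition for `liftHomotopyZero`. -/
def liftHomotopyZeroSucc {Y Z : C} {P : ProjAug Y} {Q : Resol Z}
    (f : P.complex ⟶ Q.complex) (n : ℕ) (g : P.complex.X n ⟶ Q.complex.X (n + 1))
    (g' : P.complex.X (n + 1) ⟶ Q.complex.X (n + 2))
    (w : f.f (n + 1) = P.complex.d (n + 1) n ≫ g + g' ≫ Q.complex.d (n + 2) (n + 1)) :
    P.complex.X (n + 2) ⟶ Q.complex.X (n + 3) :=
  (Q.exact_succ (n + 1)).liftFromProjective (f.f (n + 2) - P.complex.d _ _ ≫ g') (by simp [w])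

@[reassoc (attr := simp)]
lemma liftHomotopyZeroSucc_comp {Y Z : C} {P : ProjAug Y} {Q : Resol Z}
    (f : P.complex ⟶ Q.complex) (n : ℕ) (g : P.complex.X n ⟶ Q.complex.X (n + 1))
    (g' : P.complex.X (n + 1) ⟶ Q.complex.X (n + 2))
    (w : f.f (n + 1) = P.complex.d (n + 1) n ≫ g + g' ≫ Q.complex.d (n + 2) (n + 1)) :
    liftHomotopyZeroSucc f n g g' w ≫ Q.complex.d (n + 3) (n + 2) =
      f.f (n + 2) - P.complex.d _ _ ≫ g' :=
  (Q.exact_succ (n + 1)).liftFromProjective_comp _ _

/-- Any lift of the zero morphism is homotopic to zero. -/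
def liftHomotopyZero {Y Z : C} {P : ProjAug Y} {Q : Resol Z}
    (f : P.complex ⟶ Q.complex) (comm : f ≫ Q.π = 0) : Homotopy f 0 :=
  Homotopy.mkInductive _ (liftHomotopyZeroZero f comm) (by simp)
    (liftHomotopyZeroOne f comm) (by simp) fun n ⟨g, g', w⟩ =>
    ⟨liftHomotopyZeroSucc f n g g' w, by simp⟩

/-- Two lifts of the same morphism are homotopic. -/
def liftHomotopy {Y Z : C} (f : Y ⟶ Z) {P : ProjAug Y} {Q : Resol Z}
    (g h : P.complex ⟶ Q.complex) (g_comm : g ≫ Q.π = P.π ≫ (ChainComplex.single₀ C).map f)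
    (h_comm : h ≫ Q.π = P.π ≫ (ChainComplex.single₀ C).map f) : Homotopy g h :=
  Homotopy.equivSubZero.invFun (liftHomotopyZero _ (by simp [g_comm, h_comm]))

end

end H10S6322

namespace H10S6322

open CategoryTheory

theorem main (R : Type u) [CommRing R] (M N : ModuleCat.{u} R) (g : M ⟶ N)
    (F Nc : ChainComplex (ModuleCat.{u} R) ℕ) (hF : ∀ i, Module.Free R (F.X i))
    (εF : F ⟶ (ChainComplex.single₀ (ModuleCat.{u} R)).obj M)
    (εN : Nc ⟶ (ChainComplex.single₀ (ModuleCat.{u} R)).obj N) [QuasiIso εN] :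
    (∃ φ : F ⟶ Nc, φ ≫ εN = εF ≫ (ChainComplex.single₀ (ModuleCat.{u} R)).map g) ∧
    ∀ α β : F ⟶ Nc, α ≫ εN = εF ≫ (ChainComplex.single₀ (ModuleCat.{u} R)).map g →
      β ≫ εN = εF ≫ (ChainComplex.single₀ (ModuleCat.{u} R)).map g →
      Nonempty (Homotopy α β) := by
  have hproj : ∀ n, Projective (F.X n) := fun n => by
    have := hF n
    exact (IsProjective.iff_projective (R := R) (P := F.X n)).mp inferInstance
  let P : ProjAug M := ⟨F, hproj, εF⟩
  let Q : Resol N := ⟨Nc, εN, inferInstance⟩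
  exact ⟨⟨lift g P Q, lift_commutes g P Q⟩,
    fun α β hα hβ => ⟨liftHomotopy g (P := P) (Q := Q) α β hα hβ⟩⟩

end H10S6322
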