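import Mathlib
import Groth.Prelude
import Groth.Agent.Lib.Helper5.GorFlatC

/-!
# Frobenius functionals and Gorenstein finite-dimensional algebras
-/

set_option autoImplicit false

namespace Groth.Agent.Lib.helper10.FrobGor

open CategoryTheory IsLocalRing

universe u

variable {κ : Type u} [Field κ]

/-- A `κ`-linear functional `ψ` on a `κ`-algebra is nondegenerate if `ψ (c * -) = 0` forces
`c = 0`. -/
def Nondeg {C : Type u} [CommRing C] [Algebra κ C] (ψ : C →ₗ[κ] κ) : Prop :=
  ∀ c : C, (∀ x, ψ (c * x) = 0) → c = 0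

section Local

variable {D : Type u} [CommRing D] [Algebra κ D]

/-- `Hom_κ(D, κ)` is an injective `D`-module. -/
theorem baer_omega : Module.Baer D (Disc.Omega κ D) := by
  intro I f
  -- `g x = (f x) 1`
  let g : (I.restrictScalars κ) →ₗ[κ] κ :=
    { toFun := fun x => (f ⟨x.1, show x.1 ∈ I from x.2⟩).toLinearMap 1
      map_add' := fun x y => by
        have : (⟨(x + y).1, show (x + y).1 ∈ I from (x + y).2⟩ : I) =
            ⟨x.1, show x.1 ∈ I from x.2⟩ + ⟨y.1, show y.1 ∈ I from y.2⟩ := rfl
        rw [this, map_add]; rfl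
      map_smul' := fun c x => by
        have : (⟨(c • x).1, show (c • x).1 ∈ I from (c • x).2⟩ : I) =
            (algebraMap κ D c) • (⟨x.1, show x.1 ∈ I from x.2⟩ : I) := by
          apply Subtype.ext
          change c • x.1 = algebraMap κ D c * x.1
          rw [Algebra.smul_def]
        rw [this, map_smul, Disc.Omega.smul_toLinearMap_apply, mul_one,
          Algebra.algebraMap_eq_smul_one, map_smul]
        rfl }
  obtain ⟨g', hg'⟩ := LinearMap.exists_extend g
  refine ⟨LinearMap.toSpanSingleton D _ ⟨g'⟩, ?_⟩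
  intro x hx
  apply Disc.Omega.ext
  ext y
  rw [LinearMap.toSpanSingleton_apply, Disc.Omega.smul_toLinearMap_apply]
  have h1 : g' (x * y) = g ⟨x * y, I.mul_mem_right y hx⟩ := by
    have := LinearMap.congr_fun hg' ⟨x * y, I.mul_mem_right y hx⟩
    simpa using this
  rw [h1]
  change (f ⟨x * y, _⟩).toLinearMap 1 = _
  have h2 : (⟨x * y, I.mul_mem_right y hx⟩ : I) = y • (⟨x, hx⟩ : I) := by
    apply Subtype.ext
    change x * y = y * x
    ring
  rw [h2, map_smul, Disc.Omega.smul_toLinearMap_apply, mul_one]

variable [Module.Finite κ D]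

/-- The `D`-linear map `D → Hom_κ(D, κ)`, `d ↦ ψ (d * -)`. -/
noncomputable def toOmega (ψ : D →ₗ[κ] κ) : D →ₗ[D] Disc.Omega κ D :=
  LinearMap.toSpanSingleton D _ ⟨ψ⟩

lemma toOmega_apply (ψ : D →ₗ[κ] κ) (d x : D) : (toOmega ψ d).toLinearMap x = ψ (d * x) := by
  rw [toOmega, LinearMap.toSpanSingleton_apply, Disc.Omega.smul_toLinearMap_apply]

/-- `Omega κ D ≃ Hom_κ(D, κ)` as `κ`-vector spaces (the scalar action of `κ` through `D`). -/
theorem toOmega_bijective (ψ : D →ₗ[κ] κ) (hψ : Nondeg ψ) : Function.Bijective (toOmega ψ) := by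
  -- work with the κ-linear map `D → Module.Dual κ D`
  let T : D →ₗ[κ] Module.Dual κ D :=
    { toFun := fun d => ψ ∘ₗ LinearMap.mulLeft κ d
      map_add' := fun a b => by ext x; simp [add_mul]
      map_smul' := fun c a => by ext x; simp }
  have hTinj : Function.Injective T := by
    rw [← LinearMap.ker_eq_bot, LinearMap.ker_eq_bot']
    intro d hd
    apply hψ d
    intro x
    have := LinearMap.congr_fun hd x
    simpa [T] using this
  have hTsurj : Function.Surjective T :=
    (LinearMap.injective_iff_surjective_of_finrank_eq_finrank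
      (Subspace.dual_finrank_eq (K := κ) (V := D)).symm).mp hTinj
  constructor
  · intro a b hab
    apply hTinj
    ext x
    have := congrArg (fun w => w.toLinearMap x) hab
    simpa [toOmega_apply, T] using this
  · intro w
    obtain ⟨d, hd⟩ := hTsurj w.toLinearMap
    refine ⟨d, ?_⟩
    apply Disc.Omega.ext
    ext x
    rw [toOmega_apply, ← hd]
    simp [T]

variable [IsLocalRing D]

/-- A local finite-dimensional algebra with a nondegenerate functional is Gorenstein. -/
theorem isGorensteinLocalRing_of_nondeg (ψ : D →ₗ[κ] κ) (hψ : Nondeg ψ) :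
    LocCoh.IsGorensteinLocalRing D := by
  have hart : IsArtinianRing D := IsArtinianRing.of_finite κ D
  have hN : IsNoetherianRing D := inferInstance
  let e : D ≃ₗ[D] Disc.Omega κ D := LinearEquiv.ofBijective (toOmega ψ) (toOmega_bijective ψ hψ)
  have hB : Module.Baer D D := Module.Baer.of_equiv e.symm baer_omega
  have hinj : Module.Injective D D := hB.injective
  have : Injective (ModuleCat.of D D) := Module.injective_object_of_injective_module D D
  exact { exists_hasInjectiveDimensionLT := ⟨1, inferInstance⟩ }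

/-- A Gorenstein local finite-dimensional algebra has a nondegenerate functional. -/
theorem exists_nondeg_of_isGorensteinLocalRing (hG : LocCoh.IsGorensteinLocalRing D) :
    ∃ ψ : D →ₗ[κ] κ, Nondeg ψ := by
  have hart : IsArtinianRing D := IsArtinianRing.of_finite κ D
  have hN : IsNoetherianRing D := inferInstance
  have h0 : ringKrullDim D = 0 := ringKrullDimZero_iff_ringKrullDim_eq_zero.mp inferInstance
  obtain ⟨s, hs1, hs2⟩ := Groth.Agent.Lib.Helper5.GorFlat.exists_socle_generator D hG h0
  have hs0 : s ≠ 0 := by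
    intro h
    have := (hs1 1).mp (by rw [h, mul_zero])
    exact (Ideal.ne_top_iff_one _).mp (maximalIdeal.isMaximal D).ne_top this
  obtain ⟨ψ, hψs⟩ : ∃ ψ : Module.Dual κ D, ψ s ≠ 0 := by
    by_contra h
    push Not at h
    exact hs0 ((Module.forall_dual_apply_eq_zero_iff κ s).mp h)
  refine ⟨ψ, ?_⟩
  -- every nonzero `d` has a multiple equal to `s`
  have key : ∀ j : ℕ, ∀ d : D, d ≠ 0 → (∀ a ∈ (maximalIdeal D) ^ j, a * d = 0) →
      ∃ y, d * y = s := by
    intro j
    induction j with
    | zero =>
      intro d hd h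
      exact absurd (by simpa using h 1 (by simp)) hd
    | succ j ih =>
      intro d hd h
      by_cases hsoc : ∀ a ∈ maximalIdeal D, a * d = 0
      · obtain ⟨c, hc⟩ := hs2 d hsoc
        have hcu : IsUnit c := by
          by_contra hcu
          have : c ∈ maximalIdeal D := (mem_maximalIdeal c).mpr hcu
          rw [(hs1 c).mpr this] at hc
          exact hd hc
        obtain ⟨c', hc'⟩ := hcu.exists_left_inv
        exact ⟨c', by rw [hc, mul_comm, ← mul_assoc, hc', one_mul]⟩
      · push Not at hsoc
        obtain ⟨a, ha, had⟩ := hsoc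
        obtain ⟨y, hy⟩ := ih (a * d) had (fun a' ha' => by
          rw [← mul_assoc]
          exact h _ (by rw [pow_succ]; exact Ideal.mul_mem_mul ha' ha))
        exact ⟨a * y, by rw [← hy]; ring⟩
  obtain ⟨N, hN⟩ := IsArtinianRing.isNilpotent_jacobson_bot (R := D)
  intro d hd
  by_contra hd0
  obtain ⟨y, hy⟩ := key N d hd0 (fun a ha => by
    rw [IsLocalRing.jacobson_eq_maximalIdeal ⊥ bot_ne_top] at hN
    rw [hN] at ha
    rw [(Ideal.mem_bot).mp ha, zero_mul])
  exact hψs (by rw [← hy]; exact hd y)

end Local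

section Pi

variable {ι : Type u} [Fintype ι] [DecidableEq ι] (R : ι → Type u) [∀ i, CommRing (R i)]
  [∀ i, Algebra κ (R i)]

theorem nondeg_pi (ψ : ∀ i, R i →ₗ[κ] κ) (hψ : ∀ i, Nondeg (ψ i)) :
    Nondeg (∑ i, (ψ i) ∘ₗ (LinearMap.proj i : (∀ i, R i) →ₗ[κ] R i)) := by
  intro c hc
  funext i
  apply hψ i
  intro y
  have := hc (Pi.single i y)
  rw [LinearMap.sum_apply] at this
  rw [Finset.sum_eq_single i] at this
  · simpa using this
  · intro j _ hji
    simp [Pi.single_eq_of_ne hji]
  · intro h; exact absurd (Finset.mem_univ i) h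

theorem nondeg_single (ψ : (∀ i, R i) →ₗ[κ] κ) (hψ : Nondeg ψ) (i : ι) :
    Nondeg (ψ ∘ₗ (LinearMap.single κ R i)) := by
  intro d hd
  have h0 : Pi.single i d = (0 : ∀ i, R i) := by
    apply hψ
    intro x
    have := hd (x i)
    have h1 : (Pi.single i d : ∀ i, R i) * x = Pi.single i (d * x i) := by
      funext j
      by_cases hj : j = i
      · subst hj; simp
      · simp [Pi.single_eq_of_ne hj]
    rw [h1]
    simpa using this
  have := congrFun h0 i
  simpa using this

end Pi

theorem nondeg_comp_algEquiv {C C' : Type u} [CommRing C] [CommRing C'] [Algebra κ C]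
    [Algebra κ C'] (e : C ≃ₐ[κ] C') (ψ : C' →ₗ[κ] κ) (hψ : Nondeg ψ) :
    Nondeg (ψ ∘ₗ e.toLinearMap) := by
  intro c hc
  have : e c = 0 := by
    apply hψ
    intro x
    have := hc (e.symm x)
    simpa using this
  simpa using this

section Global

variable (C : Type u) [CommRing C] [Algebra κ C] [Module.Finite κ C]

/-- A finite-dimensional algebra is Gorenstein iff it carries a nondegenerate functional. -/
theorem isGorensteinRing_iff_exists_nondeg :
    LocCoh.IsGorensteinRing C ↔ ∃ ψ : C →ₗ[κ] κ, Nondeg ψ := by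
  classical
  have hart : IsArtinianRing C := IsArtinianRing.of_finite κ C
  have hfin : Fintype (PrimeSpectrum C) := Fintype.ofFinite _
  let E : C ≃ₐ[κ] PrimeSpectrum.PiLocalization C :=
    (PrimeSpectrum.toPiLocalizationEquiv C).restrictScalars κ
  have hfinq : ∀ q : PrimeSpectrum C, Module.Finite κ (Localization q.asIdeal.primeCompl) := by
    intro q
    exact Module.Finite.of_surjective
      (Algebra.algHom κ C (Localization q.asIdeal.primeCompl)).toLinearMap
      (IsArtinianRing.localization_surjective q.asIdeal.primeCompl _)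
  constructor
  · intro hG
    have : ∀ q : PrimeSpectrum C, ∃ ψ : Localization q.asIdeal.primeCompl →ₗ[κ] κ, Nondeg ψ := by
      intro q
      have := hfinq q
      exact exists_nondeg_of_isGorensteinLocalRing
        (hG.isGorensteinLocalRing_localization q.asIdeal)
    choose ψ hψ using this
    exact ⟨_, nondeg_comp_algEquiv E _
      (nondeg_pi (fun q : PrimeSpectrum C => Localization q.asIdeal.primeCompl) ψ hψ)⟩
  · rintro ⟨ψ, hψ⟩
    have hψ' := nondeg_comp_algEquiv E.symm ψ hψ
    refine { isGorensteinLocalRing_localization := fun q hq => ?_ }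
    have := hfinq ⟨q, hq⟩
    exact isGorensteinLocalRing_of_nondeg _
      (nondeg_single (fun q : PrimeSpectrum C => Localization q.asIdeal.primeCompl) _ hψ' ⟨q, hq⟩)

end Global

end Groth.Agent.Lib.helper10.FrobGor
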