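import Mathlib.LinearAlgebra.TensorProduct.Basis
import Mathlib.LinearAlgebra.Dimension.Free
import Mathlib.LinearAlgebra.FiniteDimensional.Defs
import Mathlib.RepresentationTheory.Basic
import Mathlib.Data.ZMod.Basic
import Mathlib.Algebra.Field.ZMod
import Mathlib.LinearAlgebra.Basis.VectorSpace

set_option maxHeartbeats 400000
open scoped TensorProduct
universe u v

namespace Groth.Agent.Lib.helper10.GalSplit

variable {V : Type v} [AddCommGroup V] [Module (ZMod 2) V] (b : Module.Basis (Fin 2) (ZMod 2) V)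

noncomputable def cc (i j : Fin 2) : V ⊗[ZMod 2] V →ₗ[ZMod 2] ZMod 2 :=
  (b.tensorProduct b).coord (i, j)

lemma cc_tmul (i j : Fin 2) (x y : V) : cc b i j (x ⊗ₜ y) = b.repr x i * b.repr y j := by
  simp [cc, mul_comm]

lemma expand (z : V ⊗[ZMod 2] V) :
    z = cc b 0 0 z • (b 0 ⊗ₜ[ZMod 2] b 0) + cc b 0 1 z • (b 0 ⊗ₜ[ZMod 2] b 1)
      + cc b 1 0 z • (b 1 ⊗ₜ[ZMod 2] b 0) + cc b 1 1 z • (b 1 ⊗ₜ[ZMod 2] b 1) := by
  have h := ((b.tensorProduct b).sum_repr z).symm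
  rw [Fintype.sum_prod_type, Fin.sum_univ_two, Fin.sum_univ_two, Fin.sum_univ_two] at h
  simp only [Module.Basis.tensorProduct_apply] at h
  rw [← add_assoc] at h
  exact h


noncomputable def f1 : V ⊗[ZMod 2] V →ₗ[ZMod 2] ZMod 2 := cc b 0 0 + cc b 1 1
noncomputable def f2 : V ⊗[ZMod 2] V →ₗ[ZMod 2] ZMod 2 := cc b 0 0 + cc b 0 1 + cc b 1 0
noncomputable def f3 : V ⊗[ZMod 2] V →ₗ[ZMod 2] ZMod 2 := cc b 0 1 + cc b 1 0

noncomputable def W : Submodule (ZMod 2) (V ⊗[ZMod 2] V) :=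
  LinearMap.ker (f1 b) ⊓ LinearMap.ker (f2 b)

variable (V) in
abbrev Na : Submodule (ZMod 2) (V ⊗[ZMod 2] V) :=
  Submodule.span (ZMod 2) (Set.range fun v : V => v ⊗ₜ[ZMod 2] v)

variable (V) in
abbrev Ns : Submodule (ZMod 2) (V ⊗[ZMod 2] V) :=
  Submodule.span (ZMod 2) (Set.range fun p : V × V => p.1 ⊗ₜ[ZMod 2] p.2 + p.2 ⊗ₜ[ZMod 2] p.1)

lemma Na_le_ker_f3 : Na V ≤ LinearMap.ker (f3 b) := by
  rw [Submodule.span_le]
  rintro _ ⟨v, rfl⟩
  simp only [SetLike.mem_coe, LinearMap.mem_ker, f3, LinearMap.add_apply, cc_tmul]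
  generalize b.repr v 0 = p
  generalize b.repr v 1 = q
  revert p q
  decide

lemma Ns_le_Na : Ns V ≤ Na V := by
  rw [Submodule.span_le]
  rintro _ ⟨⟨x, y⟩, rfl⟩
  have h : x ⊗ₜ[ZMod 2] y + y ⊗ₜ[ZMod 2] x =
      (x + y) ⊗ₜ[ZMod 2] (x + y) - x ⊗ₜ[ZMod 2] x - y ⊗ₜ[ZMod 2] y := by
    simp only [TensorProduct.add_tmul, TensorProduct.tmul_add]
    abel
  simp only [SetLike.mem_coe]
  rw [h]
  exact Submodule.sub_mem _ (Submodule.sub_mem _ (Submodule.subset_span ⟨x + y, rfl⟩)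
    (Submodule.subset_span ⟨x, rfl⟩)) (Submodule.subset_span ⟨y, rfl⟩)

lemma Ns_le_W : Ns V ≤ W b := by
  rw [Submodule.span_le]
  rintro _ ⟨⟨x, y⟩, rfl⟩
  simp only [SetLike.mem_coe, W, Submodule.mem_inf, LinearMap.mem_ker, f1, f2,
    LinearMap.add_apply, map_add, cc_tmul]
  generalize b.repr x 0 = p
  generalize b.repr x 1 = q
  generalize b.repr y 0 = r
  generalize b.repr y 1 = s
  revert p q r s
  decide

lemma e01_add_e10_mem_Na : b 0 ⊗ₜ[ZMod 2] b 1 + b 1 ⊗ₜ[ZMod 2] b 0 ∈ Na V :=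
  Ns_le_Na (Submodule.subset_span ⟨(b 0, b 1), rfl⟩)

lemma ker_f3_le_Na : LinearMap.ker (f3 b) ≤ Na V := by
  intro z hz
  simp only [LinearMap.mem_ker, f3, LinearMap.add_apply] at hz
  have h01 : cc b 1 0 z = cc b 0 1 z := by
    revert hz
    generalize cc b 0 1 z = p
    generalize cc b 1 0 z = q
    revert p q
    decide
  rw [expand b z, h01]
  have e : cc b 0 0 z • (b 0 ⊗ₜ[ZMod 2] b 0) + cc b 0 1 z • (b 0 ⊗ₜ[ZMod 2] b 1)
      + cc b 0 1 z • (b 1 ⊗ₜ[ZMod 2] b 0) + cc b 1 1 z • (b 1 ⊗ₜ[ZMod 2] b 1) =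
      cc b 0 0 z • (b 0 ⊗ₜ[ZMod 2] b 0) + cc b 0 1 z • (b 0 ⊗ₜ[ZMod 2] b 1 + b 1 ⊗ₜ[ZMod 2] b 0)
      + cc b 1 1 z • (b 1 ⊗ₜ[ZMod 2] b 1) := by
    rw [smul_add]; abel
  rw [e]
  exact Submodule.add_mem _ (Submodule.add_mem _
    (Submodule.smul_mem _ _ (Submodule.subset_span ⟨b 0, rfl⟩))
    (Submodule.smul_mem _ _ (e01_add_e10_mem_Na b)))
    (Submodule.smul_mem _ _ (Submodule.subset_span ⟨b 1, rfl⟩))

lemma W_inf_ker_f3_le_Ns : W b ⊓ LinearMap.ker (f3 b) ≤ Ns V := by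
  intro z hz
  simp only [W, Submodule.mem_inf, LinearMap.mem_ker, f1, f2, f3, LinearMap.add_apply] at hz
  obtain ⟨⟨h1, h2⟩, h3⟩ := hz
  have key : cc b 0 0 z = 0 ∧ cc b 1 1 z = 0 ∧ cc b 1 0 z = cc b 0 1 z := by
    revert h1 h2 h3
    generalize cc b 0 0 z = p
    generalize cc b 0 1 z = q
    generalize cc b 1 0 z = r
    generalize cc b 1 1 z = s
    revert p q r s
    decide
  obtain ⟨k1, k2, k3⟩ := key
  rw [expand b z, k1, k2, k3, zero_smul, zero_smul, zero_add, add_zero, ← smul_add]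
  exact Submodule.smul_mem _ _ (Submodule.subset_span ⟨(b 0, b 1), rfl⟩)

noncomputable def t : V ⊗[ZMod 2] V :=
  b 0 ⊗ₜ[ZMod 2] b 0 + b 0 ⊗ₜ[ZMod 2] b 1 + b 1 ⊗ₜ[ZMod 2] b 1

lemma t_mem_W : t b ∈ W b := by
  simp only [W, t, Submodule.mem_inf, LinearMap.mem_ker, f1, f2, LinearMap.add_apply, map_add,
    cc_tmul, Module.Basis.repr_self, Finsupp.single_apply]
  decide

lemma f3_t : f3 b (t b) = 1 := by
  simp only [t, f3, LinearMap.add_apply, map_add, cc_tmul, Module.Basis.repr_self,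
    Finsupp.single_apply]
  decide

theorem sup_eq_top : W b ⊔ Na V = ⊤ := by
  rw [eq_top_iff]
  intro z _
  have hz : z = f3 b z • t b + (z - f3 b z • t b) := by abel
  rw [hz]
  refine Submodule.add_mem_sup (Submodule.smul_mem _ _ (t_mem_W b)) (ker_f3_le_Na b ?_)
  rw [LinearMap.mem_ker, map_sub, map_smul, f3_t, smul_eq_mul, mul_one, sub_self]

theorem inf_eq : W b ⊓ Na V = Ns V := by
  apply le_antisymm
  · exact le_trans (inf_le_inf_left _ (Na_le_ker_f3 b)) (W_inf_ker_f3_le_Ns b)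
  · exact le_inf (Ns_le_W b) Ns_le_Na

lemma eq_zero_of_repr (x : V) (h0 : b.repr x 0 = 0) (h1 : b.repr x 1 = 0) : x = 0 := by
  apply b.ext_elem
  intro i
  fin_cases i <;> simp [h0, h1]

theorem stable (φ : V →ₗ[ZMod 2] V) (hφ : Function.Injective φ) (w : V ⊗[ZMod 2] V)
    (hw : w ∈ W b) : TensorProduct.map φ φ w ∈ W b := by
  have c0 : ¬ (b.repr (φ (b 0)) 0 = 0 ∧ b.repr (φ (b 0)) 1 = 0) := by
    rintro ⟨h0, h1⟩
    have := eq_zero_of_repr b _ h0 h1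
    rw [← map_zero φ] at this
    exact b.ne_zero 0 (hφ this)
  have c1 : ¬ (b.repr (φ (b 1)) 0 = 0 ∧ b.repr (φ (b 1)) 1 = 0) := by
    rintro ⟨h0, h1⟩
    have := eq_zero_of_repr b _ h0 h1
    rw [← map_zero φ] at this
    exact b.ne_zero 1 (hφ this)
  have c2 : ¬ (b.repr (φ (b 0)) 0 + b.repr (φ (b 1)) 0 = 0 ∧
      b.repr (φ (b 0)) 1 + b.repr (φ (b 1)) 1 = 0) := by
    rintro ⟨h0, h1⟩
    have := eq_zero_of_repr b (φ (b 0 + b 1)) (by simpa using h0) (by simpa using h1)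
    rw [← map_zero φ] at this
    have h := congrArg (fun x => b.repr x 0) (hφ this)
    simp at h
  simp only [W, Submodule.mem_inf, LinearMap.mem_ker, f1, f2, LinearMap.add_apply] at hw
  obtain ⟨h1, h2⟩ := hw
  rw [expand b w]
  simp only [W, Submodule.mem_inf, LinearMap.mem_ker, f1, f2, LinearMap.add_apply, map_add,
    map_smul, TensorProduct.map_tmul, cc_tmul, smul_eq_mul]
  revert h1 h2 c0 c1 c2
  generalize cc b 0 0 w = p
  generalize cc b 0 1 w = q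
  generalize cc b 1 0 w = r
  generalize cc b 1 1 w = s
  generalize b.repr (φ (b 0)) 0 = a0
  generalize b.repr (φ (b 0)) 1 = a1
  generalize b.repr (φ (b 1)) 0 = b0
  generalize b.repr (φ (b 1)) 1 = b1
  intro c0 c1 c2 h1 h2
  have hs : ∀ p s : ZMod 2, p + s = 0 → s = p := by decide
  have hr : ∀ p q r : ZMod 2, p + q + r = 0 → r = p + q := by decide
  have hs := hs p s h1
  have hr := hr p q r h2
  subst hs hr
  clear h1 h2
  revert c0 c1 c2
  revert s q a0 a1 b0 b1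
  decide

end Groth.Agent.Lib.helper10.GalSplit
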