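import Mathlib.LinearAlgebra.TensorProduct.Basis
import Mathlib.LinearAlgebra.Dimension.Free
import Mathlib.LinearAlgebra.Dimension.Constructions
import Mathlib.LinearAlgebra.FiniteDimensional.Defs
import Mathlib.LinearAlgebra.FiniteDimensional.Lemmas
import Mathlib.RepresentationTheory.Basic
import Mathlib.Data.ZMod.Basic
import Mathlib.Algebra.Field.ZMod
import Mathlib.LinearAlgebra.Basis.VectorSpace

set_option maxHeartbeats 400000
set_option autoImplicit false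
open scoped TensorProduct
universe u v

namespace Groth.Agent.Lib.helper10.GalSplit3

variable {V : Type v} [AddCommGroup V] [Module (ZMod 2) V]

variable (V) in
abbrev Na : Submodule (ZMod 2) (V ⊗[ZMod 2] V) :=
  Submodule.span (ZMod 2) (Set.range fun v : V => v ⊗ₜ[ZMod 2] v)

variable (V) in
abbrev Ns : Submodule (ZMod 2) (V ⊗[ZMod 2] V) :=
  Submodule.span (ZMod 2) (Set.range fun p : V × V => p.1 ⊗ₜ[ZMod 2] p.2 + p.2 ⊗ₜ[ZMod 2] p.1)

lemma Ns_le_Na : Ns V ≤ Na V := by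
  rw [Submodule.span_le]
  rintro _ ⟨⟨x, y⟩, rfl⟩
  have h : x ⊗ₜ[ZMod 2] y + y ⊗ₜ[ZMod 2] x =
      (x + y) ⊗ₜ[ZMod 2] (x + y) - x ⊗ₜ[ZMod 2] x - y ⊗ₜ[ZMod 2] y := by
    simp only [TensorProduct.add_tmul, TensorProduct.tmul_add]
    abel
  simp only [SetLike.mem_coe]
  rw [h]
  exact Submodule.sub_mem _ (Submodule.sub_mem _ (Submodule.subset_span ⟨x + y, rfl⟩)
    (Submodule.subset_span ⟨x, rfl⟩)) (Submodule.subset_span ⟨y, rfl⟩)

lemma sq_mem (x : V) : x ⊗ₜ[ZMod 2] x ∈ Na V := Submodule.subset_span ⟨x, rfl⟩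

lemma symm_mem (x y : V) : x ⊗ₜ[ZMod 2] y + y ⊗ₜ[ZMod 2] x ∈ Ns V :=
  Submodule.subset_span ⟨(x, y), rfl⟩

lemma Na_stable (φ : V →ₗ[ZMod 2] V) (z : V ⊗[ZMod 2] V) (hz : z ∈ Na V) :
    TensorProduct.map φ φ z ∈ Na V := by
  induction hz using Submodule.span_induction with
  | mem z hz =>
    obtain ⟨v, rfl⟩ := hz
    rw [TensorProduct.map_tmul]
    exact sq_mem _
  | zero => rw [map_zero]; exact Submodule.zero_mem _
  | add a b _ _ ha hb => rw [map_add]; exact Submodule.add_mem _ ha hb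
  | smul c a _ ha => rw [map_smul]; exact Submodule.smul_mem _ _ ha

section basis
variable (b : Module.Basis (Fin 3) (ZMod 2) V)

noncomputable def cc (i j : Fin 3) : V ⊗[ZMod 2] V →ₗ[ZMod 2] ZMod 2 :=
  (b.tensorProduct b).coord (i, j)

lemma cc_tmul (i j : Fin 3) (x y : V) : cc b i j (x ⊗ₜ y) = b.repr x i * b.repr y j := by
  simp [cc, mul_comm]

lemma expand (z : V ⊗[ZMod 2] V) :
    z = cc b 0 0 z • (b 0 ⊗ₜ[ZMod 2] b 0) + cc b 0 1 z • (b 0 ⊗ₜ[ZMod 2] b 1)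
      + cc b 0 2 z • (b 0 ⊗ₜ[ZMod 2] b 2)
      + (cc b 1 0 z • (b 1 ⊗ₜ[ZMod 2] b 0) + cc b 1 1 z • (b 1 ⊗ₜ[ZMod 2] b 1)
      + cc b 1 2 z • (b 1 ⊗ₜ[ZMod 2] b 2))
      + (cc b 2 0 z • (b 2 ⊗ₜ[ZMod 2] b 0) + cc b 2 1 z • (b 2 ⊗ₜ[ZMod 2] b 1)
      + cc b 2 2 z • (b 2 ⊗ₜ[ZMod 2] b 2)) := by
  have h := ((b.tensorProduct b).sum_repr z).symm
  rw [Fintype.sum_prod_type, Fin.sum_univ_three, Fin.sum_univ_three, Fin.sum_univ_three,
    Fin.sum_univ_three] at h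
  simp only [Module.Basis.tensorProduct_apply] at h
  exact h

lemma Na_symm (z : V ⊗[ZMod 2] V) (hz : z ∈ Na V) (i j : Fin 3) :
    cc b i j z = cc b j i z := by
  induction hz using Submodule.span_induction with
  | mem z hz =>
    obtain ⟨v, rfl⟩ := hz
    rw [cc_tmul, cc_tmul, mul_comm]
  | zero => simp
  | add a c _ _ ha hc => rw [map_add, map_add, ha, hc]
  | smul c a _ ha => rw [map_smul, map_smul, ha]

lemma mem_Na_of_symm (z : V ⊗[ZMod 2] V) (h01 : cc b 0 1 z = cc b 1 0 z)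
    (h02 : cc b 0 2 z = cc b 2 0 z) (h12 : cc b 1 2 z = cc b 2 1 z) : z ∈ Na V := by
  rw [expand b z, ← h01, ← h02, ← h12]
  have e : cc b 0 0 z • (b 0 ⊗ₜ[ZMod 2] b 0) + cc b 0 1 z • (b 0 ⊗ₜ[ZMod 2] b 1)
      + cc b 0 2 z • (b 0 ⊗ₜ[ZMod 2] b 2)
      + (cc b 0 1 z • (b 1 ⊗ₜ[ZMod 2] b 0) + cc b 1 1 z • (b 1 ⊗ₜ[ZMod 2] b 1)
      + cc b 1 2 z • (b 1 ⊗ₜ[ZMod 2] b 2))
      + (cc b 0 2 z • (b 2 ⊗ₜ[ZMod 2] b 0) + cc b 1 2 z • (b 2 ⊗ₜ[ZMod 2] b 1)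
      + cc b 2 2 z • (b 2 ⊗ₜ[ZMod 2] b 2)) =
      cc b 0 0 z • (b 0 ⊗ₜ[ZMod 2] b 0) + cc b 1 1 z • (b 1 ⊗ₜ[ZMod 2] b 1)
      + cc b 2 2 z • (b 2 ⊗ₜ[ZMod 2] b 2)
      + (cc b 0 1 z • (b 0 ⊗ₜ[ZMod 2] b 1 + b 1 ⊗ₜ[ZMod 2] b 0)
      + cc b 0 2 z • (b 0 ⊗ₜ[ZMod 2] b 2 + b 2 ⊗ₜ[ZMod 2] b 0)
      + cc b 1 2 z • (b 1 ⊗ₜ[ZMod 2] b 2 + b 2 ⊗ₜ[ZMod 2] b 1)) := by
    simp only [smul_add]; abel
  rw [e]
  refine Submodule.add_mem _ (Submodule.add_mem _ (Submodule.add_mem _ ?_ ?_) ?_)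
    (Submodule.add_mem _ (Submodule.add_mem _ ?_ ?_) ?_)
  · exact Submodule.smul_mem _ _ (sq_mem _)
  · exact Submodule.smul_mem _ _ (sq_mem _)
  · exact Submodule.smul_mem _ _ (sq_mem _)
  · exact Submodule.smul_mem _ _ (Ns_le_Na (symm_mem _ _))
  · exact Submodule.smul_mem _ _ (Ns_le_Na (symm_mem _ _))
  · exact Submodule.smul_mem _ _ (Ns_le_Na (symm_mem _ _))

lemma mem_Ns_of (z : V ⊗[ZMod 2] V) (hd0 : cc b 0 0 z = 0) (hd1 : cc b 1 1 z = 0)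
    (hd2 : cc b 2 2 z = 0) (h01 : cc b 0 1 z = cc b 1 0 z)
    (h02 : cc b 0 2 z = cc b 2 0 z) (h12 : cc b 1 2 z = cc b 2 1 z) : z ∈ Ns V := by
  rw [expand b z, ← h01, ← h02, ← h12, hd0, hd1, hd2]
  have e : (0 : ZMod 2) • (b 0 ⊗ₜ[ZMod 2] b 0) + cc b 0 1 z • (b 0 ⊗ₜ[ZMod 2] b 1)
      + cc b 0 2 z • (b 0 ⊗ₜ[ZMod 2] b 2)
      + (cc b 0 1 z • (b 1 ⊗ₜ[ZMod 2] b 0) + (0 : ZMod 2) • (b 1 ⊗ₜ[ZMod 2] b 1)
      + cc b 1 2 z • (b 1 ⊗ₜ[ZMod 2] b 2))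
      + (cc b 0 2 z • (b 2 ⊗ₜ[ZMod 2] b 0) + cc b 1 2 z • (b 2 ⊗ₜ[ZMod 2] b 1)
      + (0 : ZMod 2) • (b 2 ⊗ₜ[ZMod 2] b 2)) =
      (cc b 0 1 z • (b 0 ⊗ₜ[ZMod 2] b 1 + b 1 ⊗ₜ[ZMod 2] b 0)
      + cc b 0 2 z • (b 0 ⊗ₜ[ZMod 2] b 2 + b 2 ⊗ₜ[ZMod 2] b 0)
      + cc b 1 2 z • (b 1 ⊗ₜ[ZMod 2] b 2 + b 2 ⊗ₜ[ZMod 2] b 1)) := by
    simp only [smul_add, zero_smul]; abel
  rw [e]
  refine Submodule.add_mem _ (Submodule.add_mem _ ?_ ?_) ?_
  · exact Submodule.smul_mem _ _ (symm_mem _ _)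
  · exact Submodule.smul_mem _ _ (symm_mem _ _)
  · exact Submodule.smul_mem _ _ (symm_mem _ _)

include b in
/-- every class modulo `N_a` is decomposable. -/
lemma exists_decomp (t : V ⊗[ZMod 2] V) : ∃ x y : V, t - x ⊗ₜ[ZMod 2] y ∈ Na V := by
  obtain ⟨a, ha⟩ : ∃ a, a = cc b 0 1 t + cc b 1 0 t := ⟨_, rfl⟩
  obtain ⟨b', hb'⟩ : ∃ b', b' = cc b 0 2 t + cc b 2 0 t := ⟨_, rfl⟩
  obtain ⟨c, hc⟩ : ∃ c, c = cc b 1 2 t + cc b 2 1 t := ⟨_, rfl⟩
  refine ⟨a • b 0 + ((1 + a) * b') • b 0 + ((1 + a) * c) • b 1 + (a * c) • b 2,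
    a • b 1 + (a * b') • b 2 + (1 + a) • b 2, ?_⟩
  subst ha hb' hc
  apply mem_Na_of_symm b
  all_goals
    simp only [map_sub, cc_tmul, map_add, map_smul, Module.Basis.repr_self, Finsupp.coe_add,
      Finsupp.coe_smul, Pi.add_apply, Pi.smul_apply, Finsupp.single_apply, smul_eq_mul]
    generalize cc b 0 1 t = p01
    generalize cc b 1 0 t = p10
    generalize cc b 0 2 t = p02
    generalize cc b 2 0 t = p20
    generalize cc b 1 2 t = p12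
    generalize cc b 2 1 t = p21
    simp
    revert p01 p10 p02 p20 p12 p21
    decide

end basis

lemma dep_mem (x y : V) (h : ¬ LinearIndependent (ZMod 2) ![x, y]) : x ⊗ₜ[ZMod 2] y ∈ Na V := by
  rw [LinearIndependent.pair_iff] at h
  push Not at h
  obtain ⟨s, t, hst, hne⟩ := h
  have h01 : ∀ s : ZMod 2, s = 0 ∨ s = 1 := by decide
  have hs := h01 s
  have ht := h01 t
  rcases hs with rfl | rfl <;> rcases ht with rfl | rfl
  · exact absurd rfl (hne rfl)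
  · rw [zero_smul, one_smul, zero_add] at hst
    rw [hst, TensorProduct.tmul_zero]; exact Submodule.zero_mem _
  · rw [zero_smul, one_smul, add_zero] at hst
    rw [hst, TensorProduct.zero_tmul]; exact Submodule.zero_mem _
  · rw [one_smul, one_smul] at hst
    have : y = -x := by rw [eq_neg_iff_add_eq_zero, add_comm]; exact hst
    rw [this, TensorProduct.tmul_neg]
    exact Submodule.neg_mem _ (sq_mem x)

theorem main (G : Type u) [Group G] (hV : Module.finrank (ZMod 2) V = 3)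
    (ρ : Representation (ZMod 2) G V) (t : V ⊗[ZMod 2] V)
    (ht : ∀ g : G, ρ.tprod ρ g t - t ∈ Na V) :
    ∃ t' : V ⊗[ZMod 2] V, t' - t ∈ Na V ∧ ∀ g : G, ρ.tprod ρ g t' - t' ∈ Ns V := by
  have hfin : Module.Finite (ZMod 2) V := Module.finite_of_finrank_pos (by omega)
  let b0 : Module.Basis (Fin 3) (ZMod 2) V := Module.finBasisOfFinrankEq (ZMod 2) V hV
  obtain ⟨x, y, hxy⟩ := exists_decomp b0 t
  by_cases hli : LinearIndependent (ZMod 2) ![x, y]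
  · -- extend to a basis
    obtain ⟨z, hz⟩ : ∃ z, z ∉ Submodule.span (ZMod 2) (Set.range ![x, y]) := by
      by_contra hcon
      push Not at hcon
      have htop : Submodule.span (ZMod 2) (Set.range ![x, y]) = ⊤ :=
        eq_top_iff.2 fun z _ => hcon z
      have h1 := finrank_range_le_card (R := ZMod 2) ![x, y]
      rw [Set.finrank, htop, finrank_top, hV] at h1
      simp at h1
    have hli3 : LinearIndependent (ZMod 2) (Fin.cons z ![x, y] : Fin 3 → V) :=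
      linearIndependent_finCons.2 ⟨hli, hz⟩
    obtain ⟨b, hb⟩ : ∃ b : Module.Basis (Fin 3) (ZMod 2) V,
        ⇑b = (Fin.cons z ![x, y] : Fin 3 → V) :=
      ⟨basisOfLinearIndependentOfCardEqFinrank hli3 (by simp [hV]),
        coe_basisOfLinearIndependentOfCardEqFinrank hli3 _⟩
    have hb1 : b 1 = x := by rw [hb]; rfl
    have hb2 : b 2 = y := by rw [hb]; rfl
    refine ⟨x ⊗ₜ[ZMod 2] x + x ⊗ₜ[ZMod 2] y + y ⊗ₜ[ZMod 2] y, ?_, fun g => ?_⟩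
    · have : x ⊗ₜ[ZMod 2] x + x ⊗ₜ[ZMod 2] y + y ⊗ₜ[ZMod 2] y - t =
          x ⊗ₜ[ZMod 2] x + y ⊗ₜ[ZMod 2] y - (t - x ⊗ₜ[ZMod 2] y) := by abel
      rw [this]
      exact Submodule.sub_mem _ (Submodule.add_mem _ (sq_mem x) (sq_mem y)) hxy
    · have hkey : (ρ g x) ⊗ₜ[ZMod 2] (ρ g y) - x ⊗ₜ[ZMod 2] y ∈ Na V := by
        have e : (ρ g x) ⊗ₜ[ZMod 2] (ρ g y) - x ⊗ₜ[ZMod 2] y =
            (ρ.tprod ρ g t - t) + (t - x ⊗ₜ[ZMod 2] y)
              - TensorProduct.map (ρ g) (ρ g) (t - x ⊗ₜ[ZMod 2] y) := by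
          rw [map_sub, TensorProduct.map_tmul, Representation.tprod_apply]
          abel
        rw [e]
        exact Submodule.sub_mem _ (Submodule.add_mem _ (ht g) hxy) (Na_stable _ _ hxy)
      have h01 := Na_symm b _ hkey 0 1
      have h02 := Na_symm b _ hkey 0 2
      have h12 := Na_symm b _ hkey 1 2
      rw [Representation.tprod_apply]
      simp only [map_add, TensorProduct.map_tmul]
      rw [← hb1, ← hb2] at h01 h02 h12 ⊢
      simp only [map_sub, cc_tmul, Module.Basis.repr_self, Finsupp.single_apply]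
        at h01 h02 h12
      apply mem_Ns_of b
      all_goals
        simp only [map_sub, map_add, cc_tmul, Module.Basis.repr_self, Finsupp.single_apply]
        revert h01 h02 h12
        generalize b.repr (ρ g (b 1)) 0 = a0
        generalize b.repr (ρ g (b 1)) 1 = a1
        generalize b.repr (ρ g (b 1)) 2 = a2
        generalize b.repr (ρ g (b 2)) 0 = c0
        generalize b.repr (ρ g (b 2)) 1 = c1
        generalize b.repr (ρ g (b 2)) 2 = c2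
        simp
        revert a0 a1 a2 c0 c1 c2
        decide
  · refine ⟨0, ?_, fun g => ?_⟩
    · have : (0 : V ⊗[ZMod 2] V) - t = -((t - x ⊗ₜ[ZMod 2] y) + x ⊗ₜ[ZMod 2] y) := by abel
      rw [this]
      exact Submodule.neg_mem _ (Submodule.add_mem _ hxy (dep_mem x y hli))
    · rw [map_zero, sub_zero]; exact Submodule.zero_mem _

end Groth.Agent.Lib.helper10.GalSplit3
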