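import Mathlib

set_option maxHeartbeats 400000
set_option autoImplicit false
universe u
open DirectSum

namespace H10S9617

variable {A S : Type u} [CommRing A] [CommRing S] [Algebra A S] (𝒜 : ℕ → Submodule A S)
  [GradedAlgebra 𝒜]

/-- the ideal generated by elements of degree `> n` -/
def Igt (n : ℕ) : Ideal S := Ideal.span (⋃ m ∈ Set.Ioi n, (𝒜 m : Set S))

omit [GradedAlgebra 𝒜] in
theorem mem_Igt {n m : ℕ} (h : n < m) {s : S} (hs : s ∈ 𝒜 m) : s ∈ Igt 𝒜 n :=
  Ideal.subset_span (Set.mem_biUnion (Set.mem_Ioi.2 h) hs)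

theorem isIntegral_quot (h0 : ∀ s ∈ 𝒜 0, s ∈ Set.range (algebraMap A S))
    [Algebra.FiniteType A S] (n : ℕ) : Algebra.IsIntegral A (S ⧸ Igt 𝒜 n) := by
  classical
  have : IsScalarTower A (𝒜 0) S := ⟨fun a b s => by
    show (↑(a • b) : S) * s = a • ((b : S) * s)
    rw [Submodule.coe_smul, smul_mul_assoc]⟩
  have : Algebra.FiniteType (𝒜 0) S := Algebra.FiniteType.of_restrictScalars_finiteType A (𝒜 0) S
  obtain ⟨s, hs, hs'⟩ := GradedAlgebra.exists_finset_adjoin_eq_top_and_homogeneous_ne_zero 𝒜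
  constructor
  intro x
  obtain ⟨x, rfl⟩ := Ideal.Quotient.mk_surjective x
  have hx : x ∈ Algebra.adjoin (𝒜 0) (s : Set S) := hs ▸ Algebra.mem_top
  induction hx using Algebra.adjoin_induction with
  | mem x hx =>
    obtain ⟨d, hd, hxd⟩ := hs' x hx
    have hnil : (Ideal.Quotient.mk (Igt 𝒜 n) x) ^ (n + 1) = 0 := by
      rw [← map_pow, Ideal.Quotient.eq_zero_iff_mem]
      refine mem_Igt 𝒜 (m := (n + 1) • d) ?_ (SetLike.pow_mem_graded (n + 1) hxd)
      have : 1 ≤ d := Nat.one_le_iff_ne_zero.2 hd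
      calc n < n + 1 := Nat.lt_succ_self n
        _ = (n + 1) * 1 := (mul_one _).symm
        _ ≤ (n + 1) * d := Nat.mul_le_mul_left _ this
    exact ⟨Polynomial.X ^ (n + 1), Polynomial.monic_X_pow _, by simp [hnil]⟩
  | algebraMap r =>
    obtain ⟨a, ha⟩ := h0 r.1 r.2
    have : (Ideal.Quotient.mk (Igt 𝒜 n)) (algebraMap (𝒜 0) S r) =
        algebraMap A (S ⧸ Igt 𝒜 n) a := by
      rw [SetLike.GradeZero.algebraMap_apply, ← ha]; rfl
    rw [this]; exact isIntegral_algebraMap
  | add x y _ _ hx hy => rw [map_add]; exact hx.add hy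
  | mul x y _ _ hx hy => rw [map_mul]; exact hx.mul hy

theorem main (h0 : ∀ s ∈ 𝒜 0, s ∈ Set.range (algebraMap A S)) [Algebra.FiniteType A S]
    (M : Type u) [AddCommGroup M] [Module A M] [Module S M] [IsScalarTower A S M]
    [Module.Finite S M] (ℳ : ℕ → Submodule A M) [DirectSum.Decomposition ℳ]
    [SetLike.GradedSMul 𝒜 ℳ] (n : ℕ) : Module.Finite A (ℳ n) := by
  classical
  let I := Igt 𝒜 n
  have := isIntegral_quot 𝒜 h0 n
  have : Algebra.FiniteType A (S ⧸ I) :=
    Algebra.FiniteType.of_surjective (Ideal.Quotient.mkₐ A I) (Ideal.Quotient.mkₐ_surjective A I)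
  have : Module.Finite A (S ⧸ I) := Algebra.IsIntegral.finite
  let M' := M ⧸ (I • (⊤ : Submodule S M))
  have : IsScalarTower S (S ⧸ I) M' := IsScalarTower.of_algebraMap_smul (fun s m' => by
    obtain ⟨y, rfl⟩ := Submodule.Quotient.mk_surjective _ m'
    rfl)
  have : IsScalarTower A (S ⧸ I) M' := IsScalarTower.of_algebraMap_smul (fun a m' => by
    rw [IsScalarTower.algebraMap_apply A S (S ⧸ I), algebraMap_smul, algebraMap_smul])
  have : Module.Finite (S ⧸ I) M' := Module.Finite.of_restrictScalars_finite S (S ⧸ I) M'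
  have : Module.Finite A M' := Module.Finite.trans (S ⧸ I) M'
  let pr : M →ₗ[A] ℳ n := (DirectSum.component A ℕ (fun i => ℳ i) n) ∘ₗ
    (DirectSum.decomposeLinearEquiv ℳ).toLinearMap
  have hpr : ∀ y, pr y = DirectSum.decompose ℳ y n := fun y => rfl
  have hkill1 : ∀ m, n < m → ∀ r ∈ 𝒜 m, ∀ y : M, pr (r • y) = 0 := by
    intro m hm r hr y
    rw [← DirectSum.sum_support_decompose ℳ y, Finset.smul_sum, map_sum]
    refine Finset.sum_eq_zero fun k _ => ?_
    have hmem : r • (DirectSum.decompose ℳ y k : M) ∈ ℳ (m +ᵥ k) :=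
      SetLike.GradedSMul.smul_mem hr (SetLike.coe_mem _)
    rw [vadd_eq_add] at hmem
    rw [hpr]
    ext
    rw [DirectSum.decompose_of_mem_ne ℳ hmem (by omega)]; rfl
  have hkill2 : ∀ r ∈ I, ∀ y : M, pr (r • y) = 0 := by
    intro r hr
    refine Submodule.span_induction ?_ ?_ ?_ ?_ hr
    · intro r hr y
      obtain ⟨m, hm, hrm⟩ := Set.mem_iUnion₂.1 hr
      exact hkill1 m hm r hrm y
    · intro y; rw [zero_smul, map_zero]
    · intro a b _ _ ha hb y; rw [add_smul, map_add, ha, hb, add_zero]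
    · intro c r _ hr y; rw [smul_eq_mul, mul_comm, mul_smul]; exact hr _
  have hker : (I • (⊤ : Submodule S M)).restrictScalars A ≤ LinearMap.ker pr := by
    intro x hx
    rw [Submodule.restrictScalars_mem] at hx
    refine Submodule.smul_induction_on hx ?_ ?_
    · intro r hr y _; exact hkill2 r hr y
    · intro x y hx hy
      rw [LinearMap.mem_ker] at *
      rw [map_add, hx, hy, add_zero]
  let f : M' →ₗ[A] ℳ n :=
    ((I • (⊤ : Submodule S M)).restrictScalars A).liftQ pr hker ∘ₗ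
      (Submodule.Quotient.restrictScalarsEquiv A (I • (⊤ : Submodule S M))).symm.toLinearMap
  refine Module.Finite.of_surjective f ?_
  intro y
  refine ⟨Submodule.Quotient.mk y.1, ?_⟩
  show ((I • (⊤ : Submodule S M)).restrictScalars A).liftQ pr hker
    ((Submodule.Quotient.restrictScalarsEquiv A (I • (⊤ : Submodule S M))).symm
      (Submodule.Quotient.mk y.1)) = y
  rw [Submodule.Quotient.restrictScalarsEquiv_symm_mk, Submodule.liftQ_apply, hpr]
  ext; exact DirectSum.decompose_of_mem_same ℳ y.2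

end H10S9617
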