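import Mathlib

set_option maxHeartbeats 400000
set_option autoImplicit false
universe u
open DirectSum

namespace H10S4392

variable {R A : Type u} [CommRing R] [CommRing A] [Algebra R A] (𝒜 : ℕ → Submodule R A)
  [GradedAlgebra 𝒜]
  {M : Type u} [AddCommGroup M] [Module R M] [Module A M] [IsScalarTower R A M]
  (ℳ : ℕ → Submodule R M) [DirectSum.Decomposition ℳ] [SetLike.GradedSMul 𝒜 ℳ]

omit [GradedAlgebra 𝒜] [IsScalarTower R A M] [DirectSum.Decomposition ℳ] in
theorem smul_mem_graded {h k : ℕ} {g : A} {m : M} (hg : g ∈ 𝒜 h) (hm : m ∈ ℳ k) :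
    g • m ∈ ℳ (h + k) := by
  have := SetLike.GradedSMul.smul_mem hg hm
  rwa [vadd_eq_add] at this

omit [GradedAlgebra 𝒜] [IsScalarTower R A M] in
/-- projection formula -/
theorem proj_smul {g : A} {h : ℕ} (hg : g ∈ 𝒜 h) (m : M) (N : ℕ) (hN : h ≤ N) :
    (decompose ℳ (g • m) N : M) = g • (decompose ℳ m (N - h) : M) := by
  classical
  conv_lhs => rw [← DirectSum.sum_support_decompose ℳ m]
  rw [Finset.smul_sum, decompose_sum, DFinsupp.finsetSum_apply, AddSubmonoidClass.coe_finsetSum]
  have hterm : ∀ k, (decompose ℳ (g • (decompose ℳ m k : M)) N : M) =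
      if h + k = N then g • (decompose ℳ m k : M) else 0 := by
    intro k
    have hmem := smul_mem_graded 𝒜 ℳ hg (SetLike.coe_mem (decompose ℳ m k))
    split_ifs with hk
    · subst hk
      exact decompose_of_mem_same ℳ hmem
    · exact decompose_of_mem_ne ℳ hmem hk
  simp_rw [hterm]
  rw [Finset.sum_eq_single (N - h)]
  · rw [if_pos (by omega)]
  · intro k _ hk
    rw [if_neg (by omega)]
  · intro hk
    have : (decompose ℳ m (N - h) : M) = 0 := by
      rw [DFinsupp.notMem_support_iff] at hk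
      rw [hk]; rfl
    rw [this, smul_zero, ite_self]

set_option maxHeartbeats 2000000 in
theorem main [Algebra.FiniteType (𝒜 0) A] [Module.Finite A M] :
    ∃ (n₁ h : ℕ), 0 < h ∧ ∀ n : ℕ, n₁ ≤ n →
      ℳ (n + h) = (𝒜 h : Submodule R A) • (ℳ n : Submodule R M) := by
  classical
  obtain ⟨s, hs, hs'⟩ := GradedAlgebra.exists_finset_adjoin_eq_top_and_homogeneous_ne_zero 𝒜
  choose! d hd0 hd using hs'
  let h : ℕ := ∏ i ∈ s, d i
  have hpos : 0 < h := Finset.prod_pos (fun i hi => Nat.pos_of_ne_zero (hd0 i hi))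
  let g : A → A := fun i => i ^ (h / d i)
  have hg : ∀ i ∈ s, g i ∈ 𝒜 h := by
    intro i hi
    have := SetLike.pow_mem_graded (h / d i) (hd i hi)
    rwa [smul_eq_mul, Nat.div_mul_cancel (Finset.dvd_prod_of_mem d hi)] at this
  let J : Ideal A := Ideal.span (g '' (s : Set A))
  have hint : Algebra.IsIntegral (𝒜 0) (A ⧸ J) := by
    constructor
    intro x
    obtain ⟨x, rfl⟩ := Ideal.Quotient.mk_surjective x
    have hx : x ∈ Algebra.adjoin (𝒜 0) (s : Set A) := hs ▸ Algebra.mem_top
    induction hx using Algebra.adjoin_induction with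
    | mem x hx =>
      have hnil : (Ideal.Quotient.mk J x) ^ (h / d x) = 0 := by
        rw [← map_pow, Ideal.Quotient.eq_zero_iff_mem]
        exact Ideal.subset_span ⟨x, hx, rfl⟩
      exact ⟨Polynomial.X ^ (h / d x), Polynomial.monic_X_pow _, by simp [hnil]⟩
    | algebraMap r => exact isIntegral_algebraMap (R := 𝒜 0) (A := A ⧸ J) (x := r)
    | add x y _ _ hx hy => rw [map_add]; exact hx.add hy
    | mul x y _ _ hx hy => rw [map_mul]; exact hx.mul hy
  have : Algebra.FiniteType (𝒜 0) (A ⧸ J) :=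
    Algebra.FiniteType.of_surjective (Ideal.Quotient.mkₐ (𝒜 0) J)
      (Ideal.Quotient.mkₐ_surjective _ J)
  have hfin : Module.Finite (𝒜 0) (A ⧸ J) := Algebra.IsIntegral.finite
  let _ : Module (𝒜 0) M := Module.compHom M (algebraMap (𝒜 0) A)
  have hsm : ∀ (c : 𝒜 0) (m : M), c • m = (c : A) • m := fun c m => rfl
  have : IsScalarTower (𝒜 0) A M := ⟨fun c a m => by
    rw [hsm, Algebra.smul_def, mul_smul]; rfl⟩
  let M' := M ⧸ (J • (⊤ : Submodule A M))
  have : IsScalarTower A (A ⧸ J) M' := IsScalarTower.of_algebraMap_smul (fun s m' => by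
    obtain ⟨y, rfl⟩ := Submodule.Quotient.mk_surjective _ m'
    rfl)
  have : IsScalarTower (𝒜 0) (A ⧸ J) M' :=
      IsScalarTower.of_algebraMap_smul (fun (a : 𝒜 0) (m' : M') => by
    have e1 : algebraMap (𝒜 0) (A ⧸ J) a = algebraMap A (A ⧸ J) (algebraMap (𝒜 0) A a) :=
      IsScalarTower.algebraMap_apply (𝒜 0) A (A ⧸ J) a
    rw [e1, algebraMap_smul (A ⧸ J) (algebraMap (𝒜 0) A a) m', algebraMap_smul A a m'])
  have : Module.Finite (A ⧸ J) M' := Module.Finite.of_restrictScalars_finite A (A ⧸ J) M'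
  have : Module.Finite (𝒜 0) M' := Module.Finite.trans (A ⧸ J) M'
  obtain ⟨T, hT⟩ := (Module.Finite.fg_top : (⊤ : Submodule (𝒜 0) M').FG)
  let mkq : M →ₗ[𝒜 0] M' := (J • (⊤ : Submodule A M)).mkQ.restrictScalars (𝒜 0)
  have hmkq : Function.Surjective mkq := Submodule.mkQ_surjective _
  let Y : Finset M := T.image (Function.surjInv hmkq)
  have hY : ∀ x : M, ∃ z ∈ Submodule.span (𝒜 0) (Y : Set M),
      x - z ∈ J • (⊤ : Submodule A M) := by
    intro x
    have h1 : Submodule.map mkq (Submodule.span (𝒜 0) (Y : Set M)) = ⊤ := by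
      rw [Submodule.map_span, ← hT, Finset.coe_image, Set.image_image]
      simp only [Function.surjInv_eq hmkq, Set.image_id']
    have : mkq x ∈ Submodule.map mkq (Submodule.span (𝒜 0) (Y : Set M)) := by
      rw [h1]; trivial
    obtain ⟨z, hz, hzx⟩ := this
    refine ⟨z, hz, ?_⟩
    have : mkq (x - z) = 0 := by rw [map_sub, hzx, sub_self]
    exact (Submodule.Quotient.mk_eq_zero _).1 this
  let n₁ : ℕ := (Y.sup fun y => (decompose ℳ y).support.sup id) + 1
  have hYN : ∀ y ∈ Y, ∀ N, n₁ ≤ N → (decompose ℳ y N : M) = 0 := by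
    intro y hy N hN
    by_contra hne
    have hmem : N ∈ (decompose ℳ y).support := by
      rw [DFinsupp.mem_support_iff]; intro h0; exact hne (by rw [h0]; rfl)
    have h1 : N ≤ (decompose ℳ y).support.sup id := Finset.le_sup (f := id) hmem
    have h2 : (decompose ℳ y).support.sup id ≤
        Y.sup fun y => (decompose ℳ y).support.sup id :=
      Finset.le_sup (f := fun y => (decompose ℳ y).support.sup id) hy
    omega
  have hzN : ∀ z ∈ Submodule.span (𝒜 0) (Y : Set M), ∀ N, n₁ ≤ N →
      (decompose ℳ z N : M) = 0 := by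
    intro z hz N hN
    induction hz using Submodule.span_induction with
    | mem y hy => exact hYN y hy N hN
    | zero => simp
    | add a b _ _ ha hb =>
      rw [decompose_add, DirectSum.add_apply, Submodule.coe_add, ha, hb, add_zero]
    | smul c a _ ha =>
      rw [hsm, proj_smul 𝒜 ℳ c.2 a N (Nat.zero_le N), Nat.sub_zero, ha, smul_zero]
  have hgm : ∀ r ∈ J, ∀ m : M, ∀ n, (decompose ℳ (r • m) (n + h) : M) ∈
      (𝒜 h : Submodule R A) • (ℳ n : Submodule R M) := by
    intro r hr
    induction hr using Submodule.span_induction with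
    | mem r hr =>
      obtain ⟨i, hi, rfl⟩ := hr
      intro m n
      rw [proj_smul 𝒜 ℳ (hg i hi) m (n + h) (Nat.le_add_left h n), Nat.add_sub_cancel]
      exact Submodule.smul_mem_smul (hg i hi) (SetLike.coe_mem _)
    | zero => intro m n; simp
    | add a b _ _ ha hb =>
      intro m n
      rw [add_smul, decompose_add, DirectSum.add_apply, Submodule.coe_add]
      exact add_mem (ha m n) (hb m n)
    | smul c a _ ha =>
      intro m n
      rw [smul_eq_mul, mul_comm, mul_smul]; exact ha _ n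
  have hwN : ∀ w ∈ J • (⊤ : Submodule A M), ∀ n, (decompose ℳ w (n + h) : M) ∈
      (𝒜 h : Submodule R A) • (ℳ n : Submodule R M) := by
    intro w hw n
    refine Submodule.smul_induction_on hw ?_ ?_
    · intro r hr m _; exact hgm r hr m n
    · intro a b ha hb
      rw [decompose_add, DirectSum.add_apply, Submodule.coe_add]; exact add_mem ha hb
  refine ⟨n₁, h, hpos, fun n hn => le_antisymm ?_ ?_⟩
  · intro x hx
    obtain ⟨z, hz, hw⟩ := hY x
    have hx' : (decompose ℳ x (n + h) : M) = x := decompose_of_mem_same ℳ hx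
    have e : x = z + (x - z) := by abel
    have e2 := congrArg (fun y => (decompose ℳ y (n + h) : M)) e
    simp only [decompose_add, DirectSum.add_apply, Submodule.coe_add] at e2
    rw [hx', hzN z hz (n + h) (by omega), zero_add] at e2
    rw [e2]
    exact hwN _ hw n
  · rw [Submodule.smul_le]
    intro r hr m hm
    have := smul_mem_graded 𝒜 ℳ hr hm
    rwa [add_comm] at this

end H10S4392
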