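import Mathlib

set_option maxHeartbeats 400000
set_option autoImplicit false

namespace Groth.Agent.Lib.helper10.GrSkolem

universe u v

section proj
variable {k : Type*} {M : Type*} {ι : Type*} [Field k] [AddCommGroup M] [Module k M]
  [DecidableEq ι] (ℳ : ι → Submodule k M) [DirectSum.Decomposition ℳ]

noncomputable def pr (i : ι) : M →ₗ[k] M :=
  (ℳ i).subtype ∘ₗ (DirectSum.component k ι (fun i => ℳ i) i) ∘ₗ
    (DirectSum.decomposeLinearEquiv ℳ).toLinearMap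

theorem pr_apply (i : ι) (x : M) : pr ℳ i x = (DirectSum.decompose ℳ x i : M) := rfl

theorem pr_mem (i : ι) (x : M) : pr ℳ i x ∈ ℳ i := Subtype.property _

theorem pr_of_mem {i : ι} {x : M} (hx : x ∈ ℳ i) : pr ℳ i x = x :=
  DirectSum.decompose_of_mem_same ℳ hx

theorem pr_of_mem_ne {i j : ι} {x : M} (hx : x ∈ ℳ j) (hij : j ≠ i) : pr ℳ i x = 0 :=
  DirectSum.decompose_of_mem_ne ℳ hx hij

theorem eq_zero_of_pr {x : M} (h : ∀ i, pr ℳ i x = 0) : x = 0 := by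
  apply (DirectSum.decompose ℳ).injective
  rw [DirectSum.decompose_zero]
  ext i
  exact h i

/-- a map preserving each piece commutes with projections -/
theorem pr_comm {N : Type*} [AddCommGroup N] [Module k N] (𝒩 : ι → Submodule k N)
    [DirectSum.Decomposition 𝒩] (G : M →ₗ[k] N) (σ : ι → ι) (hσ : Function.Injective σ)
    (hG : ∀ m, ∀ x ∈ ℳ m, G x ∈ 𝒩 (σ m)) (l : ι) :
    pr 𝒩 (σ l) ∘ₗ G = G ∘ₗ pr ℳ l := by
  apply DirectSum.decompose_lhom_ext ℳ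
  intro m
  ext ⟨x, hx⟩
  simp only [LinearMap.comp_apply, Submodule.subtype_apply]
  by_cases hml : m = l
  · subst hml
    rw [pr_of_mem ℳ hx, pr_of_mem 𝒩 (hG m x hx)]
  · rw [pr_of_mem_ne ℳ hx hml, map_zero, pr_of_mem_ne 𝒩 (hG m x hx) (fun h => hml (hσ h))]

end proj


section main
variable (k : Type u) [Field k] (V W : Type v) [AddCommGroup V] [Module k V]
  [AddCommGroup W] [Module k W]

theorem map_eq_of_mem (𝒱 : ℤ → Submodule k V) [DirectSum.Decomposition 𝒱]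
    (𝒲 : ℤ → Submodule k W) [DirectSum.Decomposition 𝒲] (g : V ≃ₗ[k] W) (n : ℤ)
    (h : ∀ i, ∀ v ∈ 𝒱 i, g v ∈ 𝒲 (i + n)) (i : ℤ) :
    Submodule.map (g : V →ₗ[k] W) (𝒱 i) = 𝒲 (i + n) := by
  apply le_antisymm
  · rintro _ ⟨v, hv, rfl⟩
    exact h i v hv
  · intro w hw
    have hcomm := pr_comm 𝒱 𝒲 (g : V →ₗ[k] W) (fun i => i + n) (add_left_injective n) h i
    have h2 := congrArg (fun G : V →ₗ[k] W => G (g.symm w)) hcomm
    simp only [LinearMap.comp_apply, LinearEquiv.coe_coe, LinearEquiv.apply_symm_apply] at h2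
    rw [pr_of_mem 𝒲 hw] at h2
    rw [h2]
    exact ⟨_, pr_mem 𝒱 i _, rfl⟩

theorem main [FiniteDimensional k V] [Nontrivial V] [FiniteDimensional k W]
    (𝒱 : ℤ → Submodule k V) (h𝒱 : DirectSum.IsInternal 𝒱)
    (𝒲 : ℤ → Submodule k W) (h𝒲 : DirectSum.IsInternal 𝒲)
    (φ : Module.End k V ≃ₐ[k] Module.End k W)
    (hφ : ∀ (d : ℤ) (f : Module.End k V), (∀ (i : ℤ) (x : V), x ∈ 𝒱 i → f x ∈ 𝒱 (i + d)) →
      ∀ (i : ℤ) (y : W), y ∈ 𝒲 i → φ f y ∈ 𝒲 (i + d)) :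
    ∃ (n : ℤ) (g : V ≃ₗ[k] W),
      (∀ i : ℤ, Submodule.map (g : V →ₗ[k] W) (𝒱 i) = 𝒲 (i + n)) ∧
      (∀ f : Module.End k V, φ f = (g : V →ₗ[k] W) ∘ₗ f ∘ₗ (g.symm : W →ₗ[k] V)) ∧
      ∀ (n' : ℤ) (g' : V ≃ₗ[k] W),
        (∀ i : ℤ, Submodule.map (g' : V →ₗ[k] W) (𝒱 i) = 𝒲 (i + n')) →
        (∀ f : Module.End k V, φ f = (g' : V →ₗ[k] W) ∘ₗ f ∘ₗ (g'.symm : W →ₗ[k] V)) →
        n' = n ∧ ∃ c : kˣ, ∀ x : V, g' x = c • g x := by
  classical
  let _ := h𝒱.chooseDecomposition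
  let _ := h𝒲.chooseDecomposition
  obtain ⟨T, hT⟩ := AlgEquiv.eq_linearEquivConjAlgEquiv φ
  have hφT : ∀ (f : Module.End k V) (y : W), φ f y = T (f (T.symm y)) := by
    intro f y
    rw [hT]
    rfl
  have hlam : ∀ i, ∀ v ∈ 𝒱 i, v ≠ 0 → ∃ lam : V →ₗ[k] k, lam v = 1 ∧
      ∀ m, m ≠ i → ∀ x ∈ 𝒱 m, lam x = 0 := by
    intro i v hv hv0
    obtain ⟨l0, hl0⟩ := Module.Projective.exists_dual_eq_one k hv0
    refine ⟨l0 ∘ₗ pr 𝒱 i, ?_, ?_⟩
    · rw [LinearMap.comp_apply, pr_of_mem 𝒱 hv, hl0]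
    · intro m hm x hx
      rw [LinearMap.comp_apply, pr_of_mem_ne 𝒱 hx hm, map_zero]
  have claim2 : ∀ (i j l l' : ℤ) (v v' : V), v ∈ 𝒱 i → v' ∈ 𝒱 j → v ≠ 0 → v' ≠ 0 →
      T v ∈ 𝒲 l → T v' ∈ 𝒲 l' → l' = l + (j - i) := by
    intro i j l l' v v' hv hv' hv0 hv'0 hTv hTv'
    obtain ⟨lam, hlam1, hlam0⟩ := hlam i v hv hv0
    have hdeg : ∀ (m : ℤ) (x : V), x ∈ 𝒱 m → (lam.smulRight v') x ∈ 𝒱 (m + (j - i)) := by
      intro m x hx
      rw [LinearMap.smulRight_apply]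
      by_cases hm : m = i
      · subst hm
        rw [show m + (j - m) = j by ring]
        exact Submodule.smul_mem _ _ hv'
      · rw [hlam0 m hm x hx, zero_smul]
        exact Submodule.zero_mem _
    have h1 := hφ (j - i) (lam.smulRight v') hdeg l (T v) hTv
    rw [hφT, LinearEquiv.symm_apply_apply, LinearMap.smulRight_apply, hlam1, one_smul] at h1
    exact DirectSum.degree_eq_of_mem_mem 𝒲 hTv' h1 ((LinearEquiv.map_ne_zero_iff T).2 hv'0)
  have claim1 : ∀ i, ∀ v ∈ 𝒱 i, v ≠ 0 → ∃ l, T v ∈ 𝒲 l := by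
    intro i v hv hv0
    obtain ⟨lam, hlam1, hlam0⟩ := hlam i v hv hv0
    have hdeg : ∀ (m : ℤ) (x : V), x ∈ 𝒱 m → (lam.smulRight v) x ∈ 𝒱 (m + 0) := by
      intro m x hx
      rw [LinearMap.smulRight_apply, add_zero]
      by_cases hm : m = i
      · subst hm
        exact Submodule.smul_mem _ _ hv
      · rw [hlam0 m hm x hx, zero_smul]
        exact Submodule.zero_mem _
    have hF := hφ 0 (lam.smulRight v) hdeg
    have hw0 : T v ≠ 0 := (LinearEquiv.map_ne_zero_iff T).2 hv0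
    have hex : ∃ l, pr 𝒲 l (T v) ≠ 0 := by
      by_contra hcon
      push Not at hcon
      exact hw0 (eq_zero_of_pr 𝒲 hcon)
    obtain ⟨l, hl⟩ := hex
    refine ⟨l, ?_⟩
    have hcomm := pr_comm 𝒲 𝒲 (φ (lam.smulRight v)) id Function.injective_id
      (fun m x hx => by simpa using hF m x hx) l
    have h2 := congrArg (fun G : W →ₗ[k] W => G (T v)) hcomm
    simp only [LinearMap.comp_apply, id] at h2
    rw [hφT, hφT, LinearEquiv.symm_apply_apply, LinearMap.smulRight_apply, hlam1, one_smul,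
      LinearMap.smulRight_apply, map_smul] at h2
    obtain ⟨c, hcdef⟩ : ∃ c, c = lam (T.symm (pr 𝒲 l (T v))) := ⟨_, rfl⟩
    rw [← hcdef] at h2
    have hc : c ≠ 0 := by
      intro h0
      rw [h0, zero_smul] at h2
      exact hl h2
    have h3 : T v = c⁻¹ • pr 𝒲 l (T v) := by
      rw [h2, smul_smul, inv_mul_cancel₀ hc, one_smul]
    rw [h3]
    exact Submodule.smul_mem _ _ (pr_mem 𝒲 l _)
  obtain ⟨i₀, v₀, hv₀, hv₀0⟩ : ∃ i₀ v₀, v₀ ∈ 𝒱 i₀ ∧ v₀ ≠ 0 := by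
    obtain ⟨x, hx⟩ := exists_ne (0 : V)
    have hex : ∃ i, pr 𝒱 i x ≠ 0 := by
      by_contra hcon
      push Not at hcon
      exact hx (eq_zero_of_pr 𝒱 hcon)
    obtain ⟨i, hi⟩ := hex
    exact ⟨i, pr 𝒱 i x, pr_mem 𝒱 i x, hi⟩
  obtain ⟨l₀, hl₀⟩ := claim1 i₀ v₀ hv₀ hv₀0
  have hTmem : ∀ i, ∀ v ∈ 𝒱 i, T v ∈ 𝒲 (i + (l₀ - i₀)) := by
    intro i v hv
    by_cases hv0 : v = 0
    · rw [hv0, map_zero]
      exact Submodule.zero_mem _
    · obtain ⟨l, hl⟩ := claim1 i v hv hv0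
      have := claim2 i₀ i l₀ l v₀ v hv₀ hv hv₀0 hv0 hl₀ hl
      rw [show i + (l₀ - i₀) = l by rw [this]; ring]
      exact hl
  refine ⟨l₀ - i₀, T, map_eq_of_mem k V W 𝒱 𝒲 T _ hTmem, ?_, ?_⟩
  · intro f
    rw [hT]
    rfl
  · intro n' g' hg'map hg'
    have hS : ∀ (f : Module.End k V) (x : V), f (T.symm (g' x)) = T.symm (g' (f x)) := by
      intro f x
      have h1 := congrArg (fun G : Module.End k W => G (g' x)) (hg' f)
      simp only [LinearMap.comp_apply, LinearEquiv.coe_coe, LinearEquiv.symm_apply_apply] at h1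
      rw [hφT] at h1
      rw [← h1, LinearEquiv.symm_apply_apply]
    obtain ⟨lam, hlam1⟩ := Module.Projective.exists_dual_eq_one k hv₀0
    have hscal : ∀ x : V, T.symm (g' x) = lam (T.symm (g' v₀)) • x := by
      intro x
      have := hS (lam.smulRight x) v₀
      rw [LinearMap.smulRight_apply, LinearMap.smulRight_apply, hlam1, one_smul] at this
      exact this.symm
    have hc0 : lam (T.symm (g' v₀)) ≠ 0 := by
      intro h0
      have := hscal v₀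
      rw [h0, zero_smul] at this
      exact hv₀0 (g'.injective (T.symm.injective (by rw [this, map_zero, map_zero])))
    have hg'T : ∀ x : V, g' x = lam (T.symm (g' v₀)) • T x := by
      intro x
      rw [← map_smul, ← hscal x, LinearEquiv.apply_symm_apply]
    refine ⟨?_, Units.mk0 _ hc0, fun x => hg'T x⟩
    have h1 : g' v₀ ∈ 𝒲 (i₀ + n') := by
      rw [← hg'map i₀]
      exact ⟨v₀, hv₀, rfl⟩
    have h2 : g' v₀ ∈ 𝒲 (i₀ + (l₀ - i₀)) := by
      rw [hg'T]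
      exact Submodule.smul_mem _ _ (hTmem i₀ v₀ hv₀)
    have h3 := DirectSum.degree_eq_of_mem_mem 𝒲 h1 h2 ((LinearEquiv.map_ne_zero_iff g').2 hv₀0)
    linarith

end main

end Groth.Agent.Lib.helper10.GrSkolem
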