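import Mathlib
import Groth.Prelude

/-!
# Gram determinants of functionals on a finite free algebra
-/

set_option autoImplicit false

namespace Groth.Agent.Lib.helper10.GramOmega

open Module

universe u v

section Basic

variable {A : Type u} {B : Type v} [CommRing A] [CommRing B] [Algebra A B]
variable {ι : Type*} [Fintype ι] [DecidableEq ι] (b : Basis ι A B)

/-- `x ↦ φ (x * -)`. -/
noncomputable def mulFun (φ : B →ₗ[A] A) : B →ₗ[A] (B →ₗ[A] A) where
  toFun x := φ ∘ₗ LinearMap.mulLeft A x
  map_add' x y := by ext z; simp [add_mul]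
  map_smul' c x := by ext z; simp

@[simp] lemma mulFun_apply (φ : B →ₗ[A] A) (x y : B) : mulFun φ x y = φ (x * y) := rfl

/-- The Gram matrix of `φ`. -/
noncomputable def gram (φ : B →ₗ[A] A) : Matrix ι ι A :=
  LinearMap.toMatrix b b.dualBasis (mulFun φ)

lemma gram_apply (φ : B →ₗ[A] A) (i j : ι) : gram b φ i j = φ (b j * b i) := by
  rw [gram, LinearMap.toMatrix_apply, Basis.dualBasis_repr, mulFun_apply]

/-- The Gram determinant. -/
noncomputable def gdet (φ : B →ₗ[A] A) : A := (gram b φ).det

/-- The adjugate map. -/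
noncomputable def adj (φ : B →ₗ[A] A) : (B →ₗ[A] A) →ₗ[A] B :=
  Matrix.toLin b.dualBasis b (gram b φ).adjugate

lemma mulFun_comp_adj (φ : B →ₗ[A] A) :
    mulFun φ ∘ₗ adj b φ = gdet b φ • LinearMap.id := by
  have h : mulFun φ = Matrix.toLin b b.dualBasis (gram b φ) := by
    rw [gram, Matrix.toLin_toMatrix]
  rw [h, adj, ← Matrix.toLin_mul, Matrix.mul_adjugate, map_smul, Matrix.toLin_one, gdet]

lemma adj_comp_mulFun (φ : B →ₗ[A] A) :
    adj b φ ∘ₗ mulFun φ = gdet b φ • LinearMap.id := by
  have h : mulFun φ = Matrix.toLin b b.dualBasis (gram b φ) := by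
    rw [gram, Matrix.toLin_toMatrix]
  rw [h, adj, ← Matrix.toLin_mul, Matrix.adjugate_mul, map_smul, Matrix.toLin_one, gdet]

lemma mulFun_adj_apply (φ : B →ₗ[A] A) (w : B →ₗ[A] A) (y : B) :
    φ (adj b φ w * y) = gdet b φ * w y := by
  have := LinearMap.congr_fun (LinearMap.congr_fun (mulFun_comp_adj b φ) w) y
  simpa using this

lemma adj_mulFun_apply (φ : B →ₗ[A] A) (x : B) :
    adj b φ (mulFun φ x) = gdet b φ • x := by
  have := LinearMap.congr_fun (adj_comp_mulFun b φ) x
  simpa using this

/-- If multiples (by elements outside a prime `p`) of all the coordinate functionals are of the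
form `φ (x * -)`, then the Gram determinant is not in `p`. -/
theorem gdet_notMem (φ : B →ₗ[A] A) (p : Ideal A) [p.IsPrime]
    (h : ∀ i, ∃ a ∉ p, ∃ x : B, ∀ y, a * b.coord i y = φ (x * y)) :
    gdet b φ ∉ p := by
  choose a ha x hx using h
  let X : Matrix ι ι A := Matrix.of fun i k => b.repr (x i) k
  have hXG : X * (gram b φ) = Matrix.diagonal a := by
    ext i j
    rw [Matrix.mul_apply]
    have h1 : ∑ k, X i k * gram b φ k j = φ (x i * b j) := by
      conv_rhs => rw [← b.sum_repr (x i), Finset.sum_mul, map_sum]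
      refine Finset.sum_congr rfl fun k _ => ?_
      rw [gram_apply, smul_mul_assoc, map_smul, smul_eq_mul, mul_comm (b j) (b k)]
      rfl
    rw [h1, ← hx i (b j), Matrix.diagonal_apply]
    by_cases hij : i = j
    · subst hij; simp
    · simp [hij, Basis.coord_apply, Finsupp.single_apply, Ne.symm hij]
  have hdet : X.det * gdet b φ = ∏ i, a i := by
    rw [gdet, ← Matrix.det_mul, hXG, Matrix.det_diagonal]
  intro hmem
  have : ∏ i, a i ∈ p := by rw [← hdet]; exact p.mul_mem_left _ hmem
  obtain ⟨i, -, hi⟩ := (Ideal.IsPrime.prod_mem_iff).mp this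
  exact ha i hi

end Basic

section BaseChange

variable {A : Type u} {B : Type v} [CommRing A] [CommRing B] [Algebra A B]
variable {ι : Type*} [Fintype ι] [DecidableEq ι] (b : Basis ι A B)
variable (K : Type*) [CommRing K] [Algebra A K]

open TensorProduct

theorem gdet_baseChange (φ : B →ₗ[A] A) (ψ : K ⊗[A] B →ₗ[K] K)
    (h : ∀ x : B, ψ (1 ⊗ₜ x) = algebraMap A K (φ x)) :
    gdet (b.baseChange K) ψ = algebraMap A K (gdet b φ) := by
  rw [gdet, gdet, RingHom.map_det]
  congr 1
  ext i j
  rw [gram_apply, RingHom.mapMatrix_apply, Matrix.map_apply, gram_apply, Basis.baseChange_apply,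
    Basis.baseChange_apply, Algebra.TensorProduct.tmul_mul_tmul, mul_one, h]

end BaseChange

section Field

variable {κ : Type u} [Field κ] {C : Type v} [CommRing C] [Algebra κ C]
variable {ι : Type*} [Fintype ι] [DecidableEq ι] (b : Basis ι κ C)

theorem gdet_ne_zero_iff (ψ : C →ₗ[κ] κ) :
    gdet b ψ ≠ 0 ↔ ∀ c : C, (∀ x, ψ (c * x) = 0) → c = 0 := by
  constructor
  · intro hdet c hc
    have h0 : mulFun ψ c = 0 := by ext x; simpa using hc x
    have := adj_mulFun_apply b ψ c
    rw [h0, map_zero] at this
    exact (smul_eq_zero.mp this.symm).resolve_left hdet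
  · intro hnd
    have : Module.Finite κ C := Module.Finite.of_basis b
    have hinj : Function.Injective (mulFun ψ) := by
      rw [← LinearMap.ker_eq_bot, LinearMap.ker_eq_bot']
      intro c hc
      exact hnd c fun x => by
        have := LinearMap.congr_fun hc x
        simpa using this
    have hsurj : Function.Surjective (mulFun ψ) :=
      (LinearMap.injective_iff_surjective_of_finrank_eq_finrank
        (Subspace.dual_finrank_eq (K := κ) (V := C)).symm).mp hinj
    let e : C ≃ₗ[κ] (C →ₗ[κ] κ) := LinearEquiv.ofBijective (mulFun ψ) ⟨hinj, hsurj⟩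
    have := LinearEquiv.isUnit_det e b b.dualBasis
    exact this.ne_zero

end Field

section Loc

variable {A B : Type u} [CommRing A] [CommRing B] [Algebra A B]
variable {ι : Type*} [Fintype ι] [DecidableEq ι] (b : Basis ι A B)

lemma smul_mk_toLinearMap (φ : B →ₗ[A] A) (x : B) :
    (x • (⟨φ⟩ : Disc.Omega A B)).toLinearMap = mulFun φ x := rfl

theorem nonempty_away_equiv (φ : B →ₗ[A] A) :
    Nonempty (LocalizedModule.Away (algebraMap A B (gdet b φ)) (Disc.Omega A B)
      ≃ₗ[Localization.Away (algebraMap A B (gdet b φ))]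
        Localization.Away (algebraMap A B (gdet b φ))) := by
  set f' := algebraMap A B (gdet b φ) with hf'
  set g : Disc.Omega A B := ⟨φ⟩ with hg
  have h1 : ∀ x : B, adj b φ (x • g).toLinearMap = f' * x := by
    intro x
    rw [smul_mk_toLinearMap, adj_mulFun_apply, Algebra.smul_def]
  have h2 : ∀ w : Disc.Omega A B, (adj b φ w.toLinearMap) • g = f' • w := by
    intro w
    apply Disc.Omega.ext
    ext y
    rw [Disc.Omega.smul_toLinearMap_apply, Disc.Omega.smul_toLinearMap_apply,
      mulFun_adj_apply, hf', ← Algebra.smul_def, map_smul, smul_eq_mul]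
  let S := Submonoid.powers f'
  let L : Localization S →ₗ[Localization S] LocalizedModule S (Disc.Omega A B) :=
    LinearMap.toSpanSingleton _ _ (LocalizedModule.mk g 1)
  have hL : ∀ (x : B) (s : S), L (Localization.mk x s) = LocalizedModule.mk (x • g) s := by
    intro x s
    rw [LinearMap.toSpanSingleton_apply, LocalizedModule.mk_smul_mk, mul_one]
  have hinj : Function.Injective L := by
    rw [← LinearMap.ker_eq_bot, LinearMap.ker_eq_bot']
    intro r hr
    induction r using Localization.induction_on with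
    | H xs =>
      obtain ⟨x, s⟩ := xs
      rw [hL, IsLocalizedModule.mk_eq_mk', IsLocalizedModule.mk'_eq_zero'] at hr
      obtain ⟨t, ht⟩ := hr
      have h3 : ((t : B) * x) • g = 0 := by rw [mul_smul]; exact ht
      have h4 := h1 ((t : B) * x)
      rw [h3] at h4
      simp only [Disc.Omega.zero_toLinearMap, map_zero] at h4
      rw [Localization.mk_eq_mk', IsLocalization.mk'_eq_zero_iff]
      exact ⟨⟨f', Submonoid.mem_powers f'⟩ * t, by
        rw [Submonoid.coe_mul, mul_assoc]; exact h4.symm⟩
  have hsurj : Function.Surjective L := by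
    intro z
    induction z using LocalizedModule.induction_on with
    | h w s =>
      refine ⟨Localization.mk (adj b φ w.toLinearMap) (⟨f', Submonoid.mem_powers f'⟩ * s), ?_⟩
      rw [hL, h2]
      exact LocalizedModule.mk_cancel_common_left ⟨f', Submonoid.mem_powers f'⟩ s w
  exact ⟨(LinearEquiv.ofBijective L ⟨hinj, hsurj⟩).symm⟩

end Loc

section Semilocal

theorem finite_maximalSpectrum_of_finite (R S : Type*) [CommRing R] [IsLocalRing R] [CommRing S]
    [Algebra R S] [Module.Finite R S] : Finite (MaximalSpectrum S) := by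
  let 𝔪 : PrimeSpectrum R := IsLocalRing.closedPoint R
  have : IsArtinianRing (𝔪.asIdeal.Fiber S) :=
    IsArtinianRing.of_finite 𝔪.asIdeal.ResidueField _
  have : Finite (PrimeSpectrum.comap (algebraMap R S) ⁻¹' {𝔪}) :=
    Finite.of_equiv _ (PrimeSpectrum.preimageEquivFiber R S 𝔪).symm
  have : Algebra.IsIntegral R S := inferInstance
  let g : MaximalSpectrum S → (PrimeSpectrum.comap (algebraMap R S) ⁻¹' {𝔪}) := fun M =>
    ⟨M.toPrimeSpectrum, by
      have hM : M.asIdeal.IsMaximal := M.isMaximal
      have := Ideal.isMaximal_comap_of_isIntegral_of_isMaximal (R := R) M.asIdeal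
      rw [Set.mem_preimage, Set.mem_singleton_iff]
      apply PrimeSpectrum.ext
      exact IsLocalRing.eq_maximalIdeal this⟩
  refine Finite.of_injective g ?_
  intro M N h
  have := congrArg (fun z => z.1.asIdeal) h
  exact MaximalSpectrum.ext this

end Semilocal

end Groth.Agent.Lib.helper10.GramOmega
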