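import Mathlib

set_option maxHeartbeats 400000
set_option autoImplicit false

namespace Groth.Agent.Lib.helper10.GrothLemma

open CategoryTheory

universe u

variable {B : Type u} [CommRing B] [IsNoetherianRing B]
  (F : ModuleCat.{u} B ⥤ ModuleCat.{u} B) [F.Additive] [F.Linear B]

omit [IsNoetherianRing B] [F.Linear B] in
theorem isZero_of_exact
    (hex : ∀ S : ShortComplex (ModuleCat.{u} B), S.ShortExact → Module.Finite B S.X₂ →
      (S.map F).Exact)
    {N₁ N₂ N₃ : Type u} [AddCommGroup N₁] [Module B N₁] [AddCommGroup N₂] [Module B N₂]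
    [Module.Finite B N₂] [AddCommGroup N₃] [Module B N₃]
    (f : N₁ →ₗ[B] N₂) (g : N₂ →ₗ[B] N₃) (hf : Function.Injective f)
    (hg : Function.Surjective g) (hfg : Function.Exact f g)
    (h1 : Limits.IsZero (F.obj (ModuleCat.of B N₁)))
    (h3 : Limits.IsZero (F.obj (ModuleCat.of B N₃))) :
    Limits.IsZero (F.obj (ModuleCat.of B N₂)) := by
  let S : ShortComplex (ModuleCat.{u} B) :=
    ShortComplex.mk (ModuleCat.ofHom f) (ModuleCat.ofHom g)
      (by ext x; exact hfg.apply_apply_eq_zero x)
  have hS : S.ShortExact :=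
    { exact := (ShortComplex.ShortExact.moduleCat_exact_iff_function_exact S).mpr hfg
      mono_f := (ModuleCat.mono_iff_injective _).mpr hf
      epi_g := (ModuleCat.epi_iff_surjective _).mpr hg }
  have hE := hex S hS (inferInstanceAs (Module.Finite B N₂))
  exact hE.isZero_X₂ (h1.eq_of_src _ _) (h3.eq_of_tgt _ _)

omit [F.Linear B] in
theorem devissage
    (hex : ∀ S : ShortComplex (ModuleCat.{u} B), S.ShortExact → Module.Finite B S.X₂ →
      (S.map F).Exact)
    (I : Ideal B)
    (hI : ∀ p : PrimeSpectrum B, I ≤ p.asIdeal →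
      Limits.IsZero (F.obj (ModuleCat.of B (B ⧸ p.asIdeal))))
    (M : Type u) [AddCommGroup M] [Module B M] (hM : Module.Finite B M)
    (hIM : ∀ a ∈ I, ∀ m : M, a • m = 0) : Limits.IsZero (F.obj (ModuleCat.of B M)) := by
  refine IsNoetherianRing.induction_on_isQuotientEquivQuotientPrime (A := B) hM
    (motive := fun N _ _ _ => (∀ a ∈ I, ∀ m : N, a • m = 0) →
      Limits.IsZero (F.obj (ModuleCat.of B N))) ?_ ?_ ?_ hIM
  · intro N _ _ _ _ _
    exact F.map_isZero (ModuleCat.isZero_of_subsingleton _)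
  · intro N _ _ _ p e hN
    have hIp : I ≤ p.asIdeal := by
      intro a ha
      have h1 := hN a ha (e.symm 1)
      have h2 : e (a • e.symm 1) = 0 := by rw [h1, map_zero]
      rw [map_smul, LinearEquiv.apply_symm_apply] at h2
      rw [← Ideal.Quotient.eq_zero_iff_mem]
      rw [Algebra.smul_def, mul_one] at h2
      exact h2
    exact Limits.IsZero.of_iso (hI p hIp) (F.mapIso e.toModuleIso)
  · intro N₁ _ _ _ N₂ _ _ _ N₃ _ _ _ f g hf hg hfg h1 h3 hN
    refine isZero_of_exact F hex f g hf hg hfg (h1 ?_) (h3 ?_)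
    · intro a ha m
      apply hf
      rw [map_smul, hN a ha, map_zero]
    · intro a ha m
      obtain ⟨m, rfl⟩ := hg m
      rw [← map_smul, hN a ha, map_zero]


theorem smul_surjective
    (hex : ∀ S : ShortComplex (ModuleCat.{u} B), S.ShortExact → Module.Finite B S.X₂ →
      (S.map F).Exact)
    (p : Ideal B) [p.IsPrime] (x : B) (hx : x ∉ p)
    (hq : ∀ q : Ideal B, p < q → q.IsPrime → Limits.IsZero (F.obj (ModuleCat.of B (B ⧸ q)))) :
    ∀ n : F.obj (ModuleCat.of B (B ⧸ p)), ∃ n' : F.obj (ModuleCat.of B (B ⧸ p)), x • n' = n := by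
  set I : Ideal B := p ⊔ Ideal.span {x} with hIdef
  have hpI : p ≤ I := le_sup_left
  have hxI : x ∈ I := le_sup_right (a := p) (Ideal.mem_span_singleton_self x)
  have hzI : Limits.IsZero (F.obj (ModuleCat.of B (B ⧸ I))) := by
    refine devissage F hex I ?_ (B ⧸ I) inferInstance ?_
    · intro q hIq
      refine hq q.asIdeal (lt_of_le_of_ne (hpI.trans hIq) ?_) q.isPrime
      intro h
      exact hx (h ▸ hIq hxI)
    · intro a ha m
      obtain ⟨b, rfl⟩ := Ideal.Quotient.mk_surjective m
      rw [Algebra.smul_def, Ideal.Quotient.algebraMap_eq, ← map_mul, Ideal.Quotient.eq_zero_iff_mem]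
      exact I.mul_mem_right b ha
  let μ : (B ⧸ p) →ₗ[B] (B ⧸ p) := x • LinearMap.id
  let g : (B ⧸ p) →ₗ[B] (B ⧸ I) := Submodule.mapQ p I LinearMap.id hpI
  have hμ : Function.Injective μ := by
    rw [← LinearMap.ker_eq_bot, LinearMap.ker_eq_bot']
    intro y hy
    obtain ⟨b, rfl⟩ := Ideal.Quotient.mk_surjective y
    change x • (Ideal.Quotient.mk p b) = 0 at hy
    rw [Algebra.smul_def, Ideal.Quotient.algebraMap_eq, ← map_mul,
      Ideal.Quotient.eq_zero_iff_mem] at hy
    rw [Ideal.Quotient.eq_zero_iff_mem]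
    exact (Ideal.IsPrime.mem_or_mem inferInstance hy).resolve_left hx
  have hg : Function.Surjective g := by
    intro y
    obtain ⟨b, rfl⟩ := Ideal.Quotient.mk_surjective y
    exact ⟨Ideal.Quotient.mk p b, rfl⟩
  have hμg : Function.Exact μ g := by
    intro y
    obtain ⟨b, rfl⟩ := Ideal.Quotient.mk_surjective y
    constructor
    · intro h
      have h' : Ideal.Quotient.mk I b = 0 := h
      rw [Ideal.Quotient.eq_zero_iff_mem, hIdef, Submodule.mem_sup] at h'
      obtain ⟨c, hc, d, hd, rfl⟩ := h'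
      obtain ⟨d', rfl⟩ := Ideal.mem_span_singleton'.1 hd
      refine ⟨Ideal.Quotient.mk p d', ?_⟩
      change x • (Ideal.Quotient.mk p d') = _
      rw [Algebra.smul_def, Ideal.Quotient.algebraMap_eq, ← map_mul, map_add,
        Ideal.Quotient.eq_zero_iff_mem.2 hc, zero_add, mul_comm]
    · rintro ⟨z, hz⟩
      obtain ⟨d, rfl⟩ := Ideal.Quotient.mk_surjective z
      change x • (Ideal.Quotient.mk p d) = _ at hz
      rw [← hz, map_smul]
      have : g (Ideal.Quotient.mk p d) = Ideal.Quotient.mk I d := rfl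
      rw [this, Algebra.smul_def, Ideal.Quotient.algebraMap_eq, ← map_mul,
        Ideal.Quotient.eq_zero_iff_mem]
      exact I.mul_mem_right d hxI
  -- the short complex
  let S : ShortComplex (ModuleCat.{u} B) :=
    ShortComplex.mk (ModuleCat.ofHom μ) (ModuleCat.ofHom g)
      (ModuleCat.hom_ext (LinearMap.ext fun y => hμg.apply_apply_eq_zero y))
  have hS : S.ShortExact :=
    { exact := (ShortComplex.ShortExact.moduleCat_exact_iff_function_exact S).mpr hμg
      mono_f := (ModuleCat.mono_iff_injective _).mpr hμ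
      epi_g := (ModuleCat.epi_iff_surjective _).mpr hg }
  have hE := hex S hS (inferInstanceAs (Module.Finite B (B ⧸ p)))
  have hepi : Epi (S.map F).f := hE.epi_f (hzI.eq_of_tgt _ _)
  have hmap : (S.map F).f = x • 𝟙 (F.obj (ModuleCat.of B (B ⧸ p))) := by
    change F.map (ModuleCat.ofHom μ) = _
    have : ModuleCat.ofHom μ = x • 𝟙 (ModuleCat.of B (B ⧸ p)) := rfl
    rw [this, Functor.map_smul, F.map_id]
  rw [hmap] at hepi
  have hsurj := (ModuleCat.epi_iff_surjective _).1 hepi
  intro n
  obtain ⟨n', hn'⟩ := hsurj n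
  exact ⟨n', hn'⟩


theorem isZero_quotient_prime
    (hfg : ∀ M : ModuleCat.{u} B, Module.Finite B M → Module.Finite B (F.obj M))
    (hex : ∀ S : ShortComplex (ModuleCat.{u} B), S.ShortExact → Module.Finite B S.X₂ →
      (S.map F).Exact)
    (h0 : ∀ m : Ideal B, m.IsMaximal → Limits.IsZero (F.obj (ModuleCat.of B (B ⧸ m)))) :
    ∀ p : Ideal B, p.IsPrime → Limits.IsZero (F.obj (ModuleCat.of B (B ⧸ p))) := by
  intro p
  induction p using WellFoundedGT.induction with
  | ind p ih =>
    intro hp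
    by_cases hmax : p.IsMaximal
    · exact h0 p hmax
    obtain ⟨m, hm, hpm⟩ := Ideal.exists_le_maximal p hp.ne_top
    have hne : p ≠ m := fun h => hmax (h ▸ hm)
    obtain ⟨x, hxm, hxp⟩ := SetLike.exists_of_lt (lt_of_le_of_ne hpm hne)
    have hsurj := smul_surjective F hex p x hxp (fun q hq hqp => ih q hq hqp)
    have hNfg : Module.Finite B (F.obj (ModuleCat.of B (B ⧸ p))) := hfg _ inferInstance
    have hle : (⊤ : Submodule B (F.obj (ModuleCat.of B (B ⧸ p)))) ≤
        Ideal.span {x} • (⊤ : Submodule B (F.obj (ModuleCat.of B (B ⧸ p)))) := by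
      intro n _
      obtain ⟨n', rfl⟩ := hsurj n
      exact Submodule.smul_mem_smul (Ideal.mem_span_singleton_self x) Submodule.mem_top
    obtain ⟨r, hr1, hr0⟩ := Submodule.exists_sub_one_mem_and_smul_eq_zero_of_fg_of_le_smul
      (Ideal.span {x}) ⊤ Module.Finite.fg_top hle
    have hrp : r ∉ p := by
      intro hrp
      have h1 : (1 : B) ∈ m := by
        have : (1 : B) = r - (r - 1) := by ring
        rw [this]
        refine m.sub_mem (hpm hrp) ((Ideal.span_le.2 ?_) hr1)
        simpa using hxm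
      exact hm.ne_top ((Ideal.eq_top_iff_one m).2 h1)
    have hsurj' := smul_surjective F hex p r hrp (fun q hq hqp => ih q hq hqp)
    have : Subsingleton (F.obj (ModuleCat.of B (B ⧸ p))) := by
      refine subsingleton_of_forall_eq 0 (fun n => ?_)
      obtain ⟨n', rfl⟩ := hsurj' n
      exact hr0 n' Submodule.mem_top
    exact ModuleCat.isZero_of_subsingleton _

theorem main
    (hfg : ∀ M : ModuleCat.{u} B, Module.Finite B M → Module.Finite B (F.obj M))
    (hex : ∀ S : ShortComplex (ModuleCat.{u} B), S.ShortExact → Module.Finite B S.X₂ →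
      (S.map F).Exact)
    (h0 : ∀ m : Ideal B, m.IsMaximal → Limits.IsZero (F.obj (ModuleCat.of B (B ⧸ m))))
    (M : ModuleCat.{u} B) (hM : Module.Finite B M) : Limits.IsZero (F.obj M) := by
  have := devissage F hex ⊥
    (fun p _ => isZero_quotient_prime F hfg hex h0 p.asIdeal p.isPrime) M hM
    (fun a ha m => by rw [Ideal.mem_bot.1 ha, zero_smul])
  exact this

end Groth.Agent.Lib.helper10.GrothLemma
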