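import Mathlib

set_option autoImplicit false

/-!
# Hadamard's lemma on the real line
`f` smooth, `f 0 = 0` ⟹ `f x = x * g x` with `g x = ∫_0^1 f'(t x) dt` smooth.
-/

namespace Groth.Agent.Lib.helper10.Hadamard

open MeasureTheory Set Metric
open scoped ContDiff

/-- `G Φ k x = ∫_0^1 t^k Φ(t x) dt` -/
noncomputable def G (Φ : ℝ → ℝ) (k : ℕ) (x : ℝ) : ℝ := ∫ t in (0:ℝ)..1, t ^ k * Φ (t * x)

lemma hasDerivAt_G (Φ : ℝ → ℝ) (hΦ : ContDiff ℝ ∞ Φ) (k : ℕ) (x : ℝ) :
    HasDerivAt (G Φ k) (G (deriv Φ) (k + 1) x) x := by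
  have hΦ' : Continuous (deriv Φ) := hΦ.continuous_deriv (by simp)
  have hΦc : Continuous Φ := hΦ.continuous
  obtain ⟨C, hC⟩ := (isCompact_Icc (a := -(|x| + 1)) (b := |x| + 1)).exists_bound_of_continuousOn
    hΦ'.continuousOn
  have hcontF : ∀ y : ℝ, Continuous fun t : ℝ => t ^ k * Φ (t * y) := fun y =>
    (continuous_id.pow k).mul (hΦc.comp (continuous_id.mul continuous_const))
  have hcontF' : ∀ y : ℝ, Continuous fun t : ℝ => t ^ (k + 1) * deriv Φ (t * y) := fun y =>
    (continuous_id.pow (k + 1)).mul (hΦ'.comp (continuous_id.mul continuous_const))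
  have key := intervalIntegral.hasDerivAt_integral_of_dominated_loc_of_deriv_le
    (μ := volume) (a := 0) (b := 1)
    (F := fun y t => t ^ k * Φ (t * y)) (F' := fun y t => t ^ (k + 1) * deriv Φ (t * y))
    (x₀ := x) (s := ball x 1) (bound := fun _ => C)
    (ball_mem_nhds x one_pos)
    (Filter.Eventually.of_forall fun y => (hcontF y).aestronglyMeasurable)
    ((hcontF x).intervalIntegrable _ _)
    ((hcontF' x).aestronglyMeasurable)
    (Filter.Eventually.of_forall fun t ht y hy => by
      rw [uIoc_of_le zero_le_one] at ht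
      have hy' : |y - x| < 1 := by
        rw [mem_ball, Real.dist_eq] at hy; exact hy
      have hyb : |y| ≤ |x| + 1 := by
        have := abs_sub_abs_le_abs_sub y x
        linarith
      have hty : t * y ∈ Icc (-(|x| + 1)) (|x| + 1) := by
        rw [mem_Icc, ← abs_le, abs_mul, abs_of_pos ht.1]
        calc t * |y| ≤ 1 * |y| := mul_le_mul_of_nonneg_right ht.2 (abs_nonneg _)
          _ ≤ |x| + 1 := by linarith
      have h1 := hC _ hty
      have hC0 : 0 ≤ C := (norm_nonneg _).trans h1
      rw [norm_mul]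
      have h2 : ‖t ^ (k + 1)‖ ≤ 1 := by
        rw [norm_pow, Real.norm_eq_abs, abs_of_pos ht.1]
        exact pow_le_one₀ ht.1.le ht.2
      calc ‖t ^ (k + 1)‖ * ‖deriv Φ (t * y)‖ ≤ 1 * C :=
            mul_le_mul h2 h1 (norm_nonneg _) zero_le_one
        _ = C := one_mul C)
    intervalIntegrable_const
    (Filter.Eventually.of_forall fun t _ y _ => by
      have h1 : HasDerivAt Φ (deriv Φ (t * y)) (t * y) :=
        ((hΦ.differentiable (by simp)) (t * y)).hasDerivAt
      have h2 : HasDerivAt (fun y : ℝ => t * y) t y := by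
        simpa using (hasDerivAt_id y).const_mul t
      have h3 := (h1.comp y h2).const_mul (t ^ k)
      have e : t ^ k * (deriv Φ (t * y) * t) = t ^ (k + 1) * deriv Φ (t * y) := by
        rw [pow_succ]; ring
      rw [e] at h3
      exact h3)
  exact key.2

lemma contDiff_G : ∀ (n : ℕ) (Φ : ℝ → ℝ), ContDiff ℝ ∞ Φ → ∀ k, ContDiff ℝ n (G Φ k)
  | 0, Φ, hΦ, k => by
    rw [Nat.cast_zero, contDiff_zero]
    exact continuous_iff_continuousAt.2 fun x => (hasDerivAt_G Φ hΦ k x).continuousAt
  | n + 1, Φ, hΦ, k => by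
    rw [show ((n + 1 : ℕ) : WithTop ℕ∞) = (n : WithTop ℕ∞) + 1 by norm_cast,
      contDiff_succ_iff_deriv]
    refine ⟨fun x => (hasDerivAt_G Φ hΦ k x).differentiableAt, by simp, ?_⟩
    have : deriv (G Φ k) = G (deriv Φ) (k + 1) :=
      funext fun x => (hasDerivAt_G Φ hΦ k x).deriv
    rw [this]
    exact contDiff_G n (deriv Φ) ((contDiff_infty_iff_deriv.1 hΦ).2) (k + 1)

theorem main (f : ℝ → ℝ) (hf : ContDiff ℝ ∞ f) (h0 : f 0 = 0) :
    ∃ g : ℝ → ℝ, ContDiff ℝ ∞ g ∧ ∀ x : ℝ, f x = x * g x := by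
  have hf' : ContDiff ℝ ∞ (deriv f) := (contDiff_infty_iff_deriv.1 hf).2
  refine ⟨G (deriv f) 0, contDiff_infty.2 fun n => contDiff_G n _ hf' 0, fun x => ?_⟩
  have hcont : Continuous fun t : ℝ => x * deriv f (t * x) :=
    continuous_const.mul (hf'.continuous.comp (continuous_id.mul continuous_const))
  have h1 : ∫ t in (0:ℝ)..1, x * deriv f (t * x) = f (1 * x) - f (0 * x) := by
    refine intervalIntegral.integral_eq_sub_of_hasDerivAt (f := fun t => f (t * x)) ?_
      (hcont.intervalIntegrable _ _)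
    intro t _
    have h1 : HasDerivAt f (deriv f (t * x)) (t * x) :=
      ((hf.differentiable (by simp)) (t * x)).hasDerivAt
    have h2 : HasDerivAt (fun t : ℝ => t * x) x t := by
      simpa using (hasDerivAt_id t).mul_const x
    have h3 := h1.comp t h2
    have e : deriv f (t * x) * x = x * deriv f (t * x) := mul_comm _ _
    rw [e] at h3
    exact h3
  rw [one_mul, zero_mul, h0, sub_zero] at h1
  rw [← h1, G, ← intervalIntegral.integral_const_mul]
  refine intervalIntegral.integral_congr fun t _ => ?_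
  simp
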