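import Groth.Agent.Lib.helper10.HenselNonMonicA

open Polynomial IsLocalRing

namespace Groth.Agent.Lib.helper10.HenselNonMonic

universe u

section C

variable (R : Type u) [CommRing R] [HenselianLocalRing R]

/-- Weierstrass-type step: a polynomial with nonzero reduction splits off a monic factor of the
degree of the reduction; the cofactor reduces to a nonzero constant. -/
theorem exists_monic_factor (f : R[X]) (hf : f.map (residue R) ≠ 0) :
    ∃ f₁ q : R[X], f = f₁ * q ∧ f₁.Monic ∧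
      ∃ c : ResidueField R, c ≠ 0 ∧ q.map (residue R) = C c := by
  classical
  set fb := f.map (residue R) with hfb
  set s := fb.natDegree with hs
  -- coefficients
  have hcs : IsUnit (f.coeff s) := by
    have h1 : residue R (f.coeff s) ≠ 0 := by
      rw [← coeff_map, ← hfb]
      exact leadingCoeff_ne_zero.mpr hf
    by_contra hnu
    exact h1 ((residue_eq_zero_iff _).mpr ((mem_maximalIdeal _).mpr hnu))
  have hhigh : ∀ j, s < j → f.coeff j ∈ maximalIdeal R := by
    intro j hj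
    rw [← residue_eq_zero_iff, ← coeff_map, ← hfb]
    exact coeff_eq_zero_of_natDegree_lt hj
  -- the algebra
  have hQF : Algebra.QuasiFinite R (R[X] ⧸ Ideal.span {f}) :=
    quasiFinite_quotient_span R f ⟨s, hcs⟩
  obtain ⟨e, he, hfin, htop⟩ := Groth.Agent.S0503.result R (R[X] ⧸ Ideal.span {f})
  let mk : R[X] →ₐ[R] (R[X] ⧸ Ideal.span {f}) := Ideal.Quotient.mkₐ R _
  have hmk : Function.Surjective mk := Ideal.Quotient.mkₐ_surjective R _
  -- first factor
  let π₁ : R[X] →ₐ[R] ((R[X] ⧸ Ideal.span {f}) ⧸ Ideal.span {1 - e}) :=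
    (Ideal.Quotient.mkₐ R _).comp mk
  have hπ₁ : Function.Surjective π₁ :=
    (Ideal.Quotient.mkₐ_surjective R _).comp hmk
  have haev : ∀ P : R[X], aeval (π₁ X) P = π₁ P := by
    intro P
    rw [aeval_algHom_apply, aeval_X_left_apply]
  have hx : Function.Surjective (aeval (R := R) (π₁ X)) := by
    intro y
    obtain ⟨P, rfl⟩ := hπ₁ y
    exact ⟨P, haev P⟩
  have hfx : aeval (π₁ X) f = 0 := by
    rw [haev]
    show Ideal.Quotient.mk _ (Ideal.Quotient.mk _ f) = 0
    rw [Ideal.Quotient.eq_zero_iff_mem.mpr (Ideal.mem_span_singleton_self f), map_zero]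
  obtain ⟨f₁, hf₁m, hf₁d, hf₁x⟩ := exists_monic_of_finite (π₁ X) hx f hfx s hcs hhigh
  rw [haev] at hf₁x
  have hf₁e : ∃ u, mk f₁ = (1 - e) * u := by
    have : mk f₁ ∈ Ideal.span {1 - e} := Ideal.Quotient.eq_zero_iff_mem.mp hf₁x
    exact Ideal.mem_span_singleton'.mp this |>.imp fun a ha => by rw [← ha, mul_comm]
  -- second factor
  let π₂ : R[X] →+* ((R[X] ⧸ Ideal.span {f}) ⧸ Ideal.span {e}) :=
    (Ideal.Quotient.mk _).comp (Ideal.Quotient.mk _)
  have hπ₂ : Function.Surjective π₂ :=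
    Ideal.Quotient.mk_surjective.comp Ideal.Quotient.mk_surjective
  have hw : ∃ w : R[X], (∃ v, mk w = e * v) ∧ w.map (residue R) = 1 := by
    have h1 : Ideal.map π₂ (Ideal.map (C : R →+* R[X]) (maximalIdeal R)) = ⊤ := by
      rw [Ideal.map_map, ← htop]
      rfl
    have h2 := Ideal.comap_map_of_surjective π₂ hπ₂
      (Ideal.map (C : R →+* R[X]) (maximalIdeal R))
    rw [h1, Ideal.comap_top] at h2
    have h3 : (1 : R[X]) ∈ Ideal.map (C : R →+* R[X]) (maximalIdeal R) ⊔
        Ideal.comap π₂ ⊥ := h2 ▸ Submodule.mem_top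
    obtain ⟨v, hv, w, hw, hvw⟩ := Submodule.mem_sup.mp h3
    refine ⟨w, ?_, ?_⟩
    · have : Ideal.Quotient.mk (Ideal.span {e}) (mk w) = 0 := hw
      have : mk w ∈ Ideal.span {e} := Ideal.Quotient.eq_zero_iff_mem.mp this
      exact Ideal.mem_span_singleton'.mp this |>.imp fun a ha => by rw [← ha, mul_comm]
    · have hv0 : v.map (residue R) = 0 := by
        ext n
        rw [coeff_map, coeff_zero, residue_eq_zero_iff]
        exact Ideal.mem_map_C_iff.mp hv n
      have := congrArg (Polynomial.map (residue R)) hvw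
      rw [Polynomial.map_add, hv0, zero_add, Polynomial.map_one] at this
      exact this
  obtain ⟨w, ⟨v', hwv⟩, hw1⟩ := hw
  obtain ⟨u, hu⟩ := hf₁e
  -- f₁ * w ∈ (f)
  have hprod : mk (f₁ * w) = 0 := by
    rw [map_mul, hu, hwv]
    have he' : (1 - e) * e = 0 := by
      rw [sub_mul, one_mul, he.eq, sub_self]
    calc (1 - e) * u * (e * v') = ((1 - e) * e) * (u * v') := by ring
      _ = 0 := by rw [he', zero_mul]
  have hdvd : f ∣ f₁ * w := by
    have : f₁ * w ∈ Ideal.span {f} := Ideal.Quotient.eq_zero_iff_mem.mp hprod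
    exact Ideal.mem_span_singleton.mp this
  obtain ⟨t, ht⟩ := hdvd
  -- reduce mod m
  have hred : f₁.map (residue R) = fb * t.map (residue R) := by
    have := congrArg (Polynomial.map (residue R)) ht
    rw [Polynomial.map_mul, Polynomial.map_mul, hw1, mul_one] at this
    exact this
  have hf₁b : (f₁.map (residue R)).Monic := hf₁m.map _
  have htb0 : t.map (residue R) ≠ 0 := by
    intro h0
    rw [h0, mul_zero] at hred
    exact hf₁b.ne_zero hred
  have hdeg : (t.map (residue R)).natDegree = 0 := by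
    have h1 := congrArg natDegree hred
    rw [hf₁m.natDegree_map, hf₁d, natDegree_mul hf htb0] at h1
    omega
  obtain ⟨c, hc⟩ : ∃ c, t.map (residue R) = C c := ⟨_, eq_C_of_natDegree_eq_zero hdeg⟩
  have hc0 : c ≠ 0 := by
    intro h0
    rw [h0, C_0] at hc
    exact htb0 hc
  -- coprimality
  have hcop : IsCoprime f₁ t := by
    apply Groth.Agent.Lib.Helper12.isCoprime_of_isCoprime_map_mk_of_monic
      (I := maximalIdeal R) (IsLocalRing.maximalIdeal_le_jacobson ⊥) hf₁m
    show IsCoprime (f₁.map (residue R)) (t.map (residue R))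
    rw [hc]
    exact ⟨0, C c⁻¹, by rw [zero_mul, zero_add, ← C_mul, inv_mul_cancel₀ hc0, C_1]⟩
  -- division
  have hdiv := modByMonic_add_div f f₁
  have hr : f %ₘ f₁ = 0 := by
    have h1 : f₁ ∣ (f %ₘ f₁) * t := by
      refine ⟨w - (f /ₘ f₁) * t, ?_⟩
      have : f %ₘ f₁ = f - f₁ * (f /ₘ f₁) := eq_sub_of_add_eq hdiv
      rw [this, sub_mul, ← ht]
      ring
    have h2 : f₁ ∣ f %ₘ f₁ := hcop.dvd_of_dvd_mul_right h1
    by_contra hne
    exact hf₁m.not_dvd_of_degree_lt hne (degree_modByMonic_lt f hf₁m) h2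
  rw [hr, zero_add] at hdiv
  refine ⟨f₁, f /ₘ f₁, hdiv.symm, hf₁m, c⁻¹, inv_ne_zero hc0, ?_⟩
  have h3 : fb = fb * (C c * (f /ₘ f₁).map (residue R)) := by
    have := congrArg (Polynomial.map (residue R)) hdiv
    rw [Polynomial.map_mul, hred, hc] at this
    rw [← mul_assoc]
    exact this.symm
  have h4 : C c * (f /ₘ f₁).map (residue R) = 1 := by
    have : fb * (C c * (f /ₘ f₁).map (residue R) - 1) = 0 := by
      rw [mul_sub, mul_one, ← h3, sub_self]
    rcases mul_eq_zero.mp this with h | h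
    · exact absurd h hf
    · exact sub_eq_zero.mp h
  calc (f /ₘ f₁).map (residue R) = C c⁻¹ * (C c * (f /ₘ f₁).map (residue R)) := by
        rw [← mul_assoc, ← C_mul, inv_mul_cancel₀ hc0, C_1, one_mul]
    _ = C c⁻¹ := by rw [h4, mul_one]

theorem main (f : R[X]) (g₀ h₀ : (ResidueField R)[X]) (hg : g₀.Monic)
    (hc : IsCoprime g₀ h₀) (hf : f.map (residue R) = g₀ * h₀) :
    ∃ g h : R[X], f = g * h ∧ g.Monic ∧ g.map (residue R) = g₀ ∧ h.map (residue R) = h₀ := by
  by_cases hf0 : f.map (residue R) = 0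
  · have hh0 : h₀ = 0 := by
      rw [hf0] at hf
      rcases mul_eq_zero.mp hf.symm with h | h
      · exact absurd h hg.ne_zero
      · exact h
    rw [hh0, isCoprime_zero_right] at hc
    have hg1 : g₀ = 1 := hg.eq_one_of_isUnit hc
    exact ⟨1, f, (one_mul f).symm, monic_one, by rw [Polynomial.map_one, hg1], by rw [hf0, hh0]⟩
  · obtain ⟨f₁, q, hfq, hf₁m, c, hc0, hqc⟩ := exists_monic_factor R f hf0
    have hred : f₁.map (residue R) * C c = g₀ * h₀ := by
      rw [← hf, hfq, Polynomial.map_mul, hqc]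
    have hf₁b : f₁.map (residue R) = g₀ * (h₀ * C c⁻¹) := by
      rw [← mul_assoc, ← hred, mul_assoc, ← C_mul, mul_inv_cancel₀ hc0, C_1, mul_one]
    have hmon : (h₀ * C c⁻¹).Monic := by
      have h1 : (g₀ * (h₀ * C c⁻¹)).Monic := hf₁b ▸ hf₁m.map _
      exact hg.of_mul_monic_left h1
    have hcop : IsCoprime g₀ (h₀ * C c⁻¹) := by
      rw [isCoprime_mul_unit_right_right]
      · exact hc
      · exact isUnit_C.mpr (isUnit_iff_ne_zero.mpr (inv_ne_zero hc0))
    obtain ⟨g, h₁, hgm, -, hfac, hgb, hhb⟩ :=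
      Groth.Agent.Lib.Helper12.factorLift_of_henselianRing (I := maximalIdeal R)
        f₁ hf₁m g₀ (h₀ * C c⁻¹) hg hmon hcop hf₁b
    refine ⟨g, h₁ * q, ?_, hgm, hgb, ?_⟩
    · rw [hfq, hfac, mul_assoc]
    · have hhb' : h₁.map (residue R) = h₀ * C c⁻¹ := hhb
      rw [Polynomial.map_mul, hqc, hhb', mul_assoc, ← C_mul, inv_mul_cancel₀ hc0, C_1, mul_one]

end C

end Groth.Agent.Lib.helper10.HenselNonMonic
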