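import Groth.Agent.S0503
import Groth.Agent.Lib.Helper12.GabberHensel
import Groth.Agent.Lib.Helper12.CoprimeLift
import Mathlib.RingTheory.QuasiFinite.Polynomial

open Polynomial IsLocalRing

namespace Groth.Agent.Lib.helper10.HenselNonMonic

universe u

section A

variable (R : Type u) [CommRing R]

theorem quasiFinite_quotient_span (f : R[X]) (hf : ∃ i, IsUnit (f.coeff i)) :
    Algebra.QuasiFinite R (R[X] ⧸ Ideal.span {f}) := by
  constructor
  intro P _
  let φ : R[X] →ₐ[R] (R[X] ⧸ Ideal.span {f}) := Ideal.Quotient.mkₐ R (Ideal.span {f})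
  have hsurj : Function.Surjective φ :=
    Ideal.Quotient.mkₐ_surjective R _
  let e := Polynomial.fiberEquivQuotient φ hsurj P
  have hker : (RingHom.ker (φ : R[X] →+* (R[X] ⧸ Ideal.span {f}))).map
      (mapRingHom (algebraMap R P.ResidueField)) =
      Ideal.span {f.map (algebraMap R P.ResidueField)} := by
    have : RingHom.ker (φ : R[X] →+* (R[X] ⧸ Ideal.span {f})) = Ideal.span {f} :=
      Ideal.mk_ker
    rw [this, Ideal.map_span, Set.image_singleton]
    rfl
  have hne : f.map (algebraMap R P.ResidueField) ≠ 0 := by
    obtain ⟨i, hi⟩ := hf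
    intro h0
    have := congrArg (fun p => p.coeff i) h0
    simp only [coeff_map, coeff_zero] at this
    exact (hi.map (algebraMap R P.ResidueField)).ne_zero this
  have hfin : Module.Finite P.ResidueField
      (P.ResidueField[X] ⧸ Ideal.span {f.map (algebraMap R P.ResidueField)}) :=
    (AdjoinRoot.powerBasis hne).finite
  rw [← hker] at hfin
  exact Module.Finite.equiv e.symm.toLinearEquiv

end A
section B

variable {R : Type u} [CommRing R] [IsLocalRing R] {C₁ : Type u} [CommRing C₁] [Algebra R C₁]
  [Module.Finite R C₁]

/-- Nakayama: if `C₁` is a finite `R`-algebra generated by `x`, and `x` is a root of `f` whose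
`s`-th coefficient is a unit and all higher coefficients are in the maximal ideal, then `x`
is a root of a monic polynomial of degree `s`. -/
theorem exists_monic_of_finite (x : C₁) (hx : Function.Surjective (aeval (R := R) x))
    (f : R[X]) (hf : aeval x f = 0) (s : ℕ) (hs : IsUnit (f.coeff s))
    (hhigh : ∀ j, s < j → f.coeff j ∈ maximalIdeal R) :
    ∃ f₁ : R[X], f₁.Monic ∧ f₁.natDegree = s ∧ aeval x f₁ = 0 := by
  classical
  let N : Submodule R C₁ := (degreeLT R s).map (aeval (R := R) x).toLinearMap
  let N' : Submodule R C₁ := N ⊔ (maximalIdeal R) • (⊤ : Submodule R C₁)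
  have hsle : s ≤ f.natDegree := le_natDegree_of_ne_zero hs.ne_zero
  have hpow : ∀ n, x ^ n ∈ N' := by
    intro n
    induction n using Nat.strong_induction_on with
    | _ n ih =>
      by_cases hn : n < s
      · apply Submodule.mem_sup_left
        refine ⟨X ^ n, ?_, by simp⟩
        rw [SetLike.mem_coe, mem_degreeLT]
        exact lt_of_le_of_lt (degree_X_pow_le n) (by exact_mod_cast hn)
      · push Not at hn
        obtain ⟨k, rfl⟩ := Nat.exists_eq_add_of_le hn
        have h0 : ∑ j ∈ Finset.range (f.natDegree + 1), f.coeff j • x ^ (j + k) = 0 := by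
          have h1 : x ^ k * aeval x f = 0 := by rw [hf, mul_zero]
          rw [aeval_eq_sum_range, Finset.mul_sum] at h1
          rw [← h1]
          refine Finset.sum_congr rfl (fun j _ => ?_)
          rw [mul_smul_comm, pow_add, mul_comm]
        have hsmem : s ∈ Finset.range (f.natDegree + 1) := Finset.mem_range.mpr (by omega)
        rw [← Finset.add_sum_erase _ _ hsmem] at h0
        have h2 : f.coeff s • x ^ (s + k) =
            -∑ j ∈ (Finset.range (f.natDegree + 1)).erase s, f.coeff j • x ^ (j + k) :=
          eq_neg_of_add_eq_zero_left h0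
        have h3 : f.coeff s • x ^ (s + k) ∈ N' := by
          rw [h2]
          apply Submodule.neg_mem
          apply Submodule.sum_mem
          intro j hj
          rw [Finset.mem_erase] at hj
          rcases lt_or_gt_of_ne hj.1 with hlt | hgt
          · exact Submodule.smul_mem _ _ (ih (j + k) (by omega))
          · apply Submodule.mem_sup_right
            exact Submodule.smul_mem_smul (hhigh j hgt) Submodule.mem_top
        obtain ⟨u, hu⟩ := hs
        have : x ^ (s + k) = (↑u⁻¹ : R) • (f.coeff s • x ^ (s + k)) := by
          rw [← hu, smul_smul, Units.inv_mul, one_smul]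
        rw [this]
        exact Submodule.smul_mem _ _ h3
  have htop : (⊤ : Submodule R C₁) ≤ N := by
    apply Submodule.le_of_le_smul_of_le_jacobson_bot Module.Finite.fg_top
      (IsLocalRing.maximalIdeal_le_jacobson ⊥)
    intro y _
    obtain ⟨P, rfl⟩ := hx y
    rw [aeval_eq_sum_range]
    apply Submodule.sum_mem
    intro j _
    exact Submodule.smul_mem _ _ (hpow j)
  have hxs : x ^ s ∈ N := htop Submodule.mem_top
  obtain ⟨g, hg, hgx⟩ := hxs
  rw [SetLike.mem_coe, mem_degreeLT] at hg
  refine ⟨X ^ s - g, monic_X_pow_sub hg, ?_, ?_⟩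
  · have h1 : (X ^ s - g).degree = (s : WithBot ℕ) := by
      rw [degree_sub_eq_left_of_degree_lt (by rwa [degree_X_pow]), degree_X_pow]
    exact natDegree_eq_of_degree_eq_some h1
  · simp only [map_sub, map_pow, aeval_X]
    rw [sub_eq_zero]
    exact hgx.symm

end B

end Groth.Agent.Lib.helper10.HenselNonMonic
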