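import Groth.Agent.Lib.helper10.NodeNFB

set_option autoImplicit false

namespace Groth.Agent.Lib.helper10.HodgeS

open MvPowerSeries Groth.Agent.Lib.helper10.NodeNF

lemma monomial_form (c : ℕ) (u v : ℕ) :
    ((c : MvPowerSeries (Fin 2) ℤ) * X 0 ^ u * X 1 ^ v) = monomial (e2 u v) (c : ℤ) := by
  rw [X_pow_eq, X_pow_eq, ← map_natCast (C (σ := Fin 2) (R := ℤ)) c]
  change monomial 0 (c : ℤ) * _ * _ = _
  rw [monomial_mul_monomial, monomial_mul_monomial, zero_add, mul_one, mul_one]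
  rfl

lemma coeff_double_sum (B : ℕ) (c : ℕ → ℕ → Prop) [DecidablePred fun uv : ℕ × ℕ => c uv.1 uv.2]
    [∀ u v, Decidable (c u v)]
    (x : ℕ → ℕ → ℤ) (hB : ∀ u v, c u v → u < B ∧ v < B) (d : Fin 2 →₀ ℕ) :
    coeff d (∑ u ∈ Finset.range B, ∑ v ∈ Finset.range B,
      if c u v then monomial (e2 u v) (x u v) else (0 : MvPowerSeries (Fin 2) ℤ)) =
      if c (d 0) (d 1) then x (d 0) (d 1) else 0 := by
  classical
  rw [map_sum]
  simp_rw [map_sum]
  have hterm : ∀ u v, coeff d (if c u v then monomial (e2 u v) (x u v)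
      else (0 : MvPowerSeries (Fin 2) ℤ)) =
      if (c u v ∧ d = e2 u v) then x u v else 0 := by
    intro u v
    by_cases hc : c u v
    · rw [if_pos hc, coeff_monomial]
      by_cases hd : d = e2 u v
      · rw [if_pos hd, if_pos ⟨hc, hd⟩]
      · rw [if_neg hd, if_neg (fun h => hd h.2)]
    · rw [if_neg hc, map_zero, if_neg (fun h => hc h.1)]
  simp_rw [hterm]
  by_cases hc : c (d 0) (d 1)
  · obtain ⟨h0, h1⟩ := hB _ _ hc
    rw [if_pos hc, Finset.sum_eq_single (d 0), Finset.sum_eq_single (d 1)]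
    · rw [if_pos ⟨hc, eq_e2 d⟩]
    · intro v _ hv
      rw [if_neg]
      rintro ⟨-, hd⟩
      apply hv
      have := DFunLike.congr_fun hd 1
      rw [e2_one] at this
      exact this.symm
    · intro h; exact absurd (Finset.mem_range.2 h1) h
    · intro u _ hu
      apply Finset.sum_eq_zero
      intro v _
      rw [if_neg]
      rintro ⟨-, hd⟩
      apply hu
      have := DFunLike.congr_fun hd 0
      rw [e2_zero] at this
      exact this.symm
    · intro h; exact absurd (Finset.mem_range.2 h0) h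
  · rw [if_neg hc]
    apply Finset.sum_eq_zero
    intro u _
    apply Finset.sum_eq_zero
    intro v _
    rw [if_neg]
    rintro ⟨hcuv, hd⟩
    apply hc
    have h0 := DFunLike.congr_fun hd 0
    have h1 := DFunLike.congr_fun hd 1
    rw [e2_zero] at h0
    rw [e2_one] at h1
    rw [h0, h1]
    exact hcuv

/-- the series `P_b`. -/
noncomputable def Pser (b : ℕ) : MvPowerSeries (Fin 2) ℤ :=
  ∑ u ∈ Finset.range (b + 1), ∑ v ∈ Finset.range (b + 1),
    if 1 ≤ u ∧ 1 ≤ v ∧ u + v ≤ b then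
      (b.choose (u + v) : MvPowerSeries (Fin 2) ℤ) * X 0 ^ u * X 1 ^ v else 0

/-- the series `N_b`. -/
noncomputable def Nser (b : ℕ) : MvPowerSeries (Fin 2) ℤ :=
  ∑ u ∈ Finset.range b, ∑ v ∈ Finset.range b,
    if u + v + 1 ≤ b - 1 then
      ((b - 1).choose (u + v + 1) : MvPowerSeries (Fin 2) ℤ) * X 0 ^ u * X 1 ^ v else 0

lemma coeff_Pser (b : ℕ) (d : Fin 2 →₀ ℕ) :
    coeff d (Pser b) = if 1 ≤ d 0 ∧ 1 ≤ d 1 ∧ d 0 + d 1 ≤ b then (b.choose (d 0 + d 1) : ℤ) else 0 := by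
  unfold Pser
  simp_rw [monomial_form]
  exact coeff_double_sum (b + 1) (fun u v => 1 ≤ u ∧ 1 ≤ v ∧ u + v ≤ b)
    (fun u v => (b.choose (u + v) : ℤ)) (by intro u v h; omega) d

lemma coeff_Nser (b : ℕ) (d : Fin 2 →₀ ℕ) :
    coeff d (Nser b) = if d 0 + d 1 + 1 ≤ b - 1 then ((b - 1).choose (d 0 + d 1 + 1) : ℤ) else 0 := by
  unfold Nser
  simp_rw [monomial_form]
  exact coeff_double_sum b (fun u v => u + v + 1 ≤ b - 1)
    (fun u v => ((b - 1).choose (u + v + 1) : ℤ)) (by intro u v h; omega) d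

end Groth.Agent.Lib.helper10.HodgeS
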