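import Groth.Agent.Lib.helper10.HodgeSA

set_option autoImplicit false

namespace Groth.Agent.Lib.helper10.HodgeS

open MvPowerSeries Groth.Agent.Lib.helper10.NodeNF

variable (A : ℕ)

/-- the linear functional `(p,q) ↦ q - (A-1) p`. -/
def ell (d : Fin 2 →₀ ℕ) : ℤ := (d 1 : ℤ) - ((A : ℤ) - 1) * (d 0 : ℤ)

lemma ell_add (d d' : Fin 2 →₀ ℕ) : ell A (d + d') = ell A d + ell A d' := by
  unfold ell
  rw [Finsupp.add_apply, Finsupp.add_apply]
  push_cast
  ring

lemma ell_zero : ell A 0 = 0 := by
  unfold ell; simp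

/-- all exponents of `F` satisfy `ℓ ≤ c`. -/
def Bd (c : ℤ) (F : MvPowerSeries (Fin 2) ℤ) : Prop := ∀ d, coeff d F ≠ 0 → ell A d ≤ c

variable {A}

lemma Bd.mono {c c' : ℤ} {F : MvPowerSeries (Fin 2) ℤ} (h : c ≤ c') (hF : Bd A c F) : Bd A c' F :=
  fun d hd => (hF d hd).trans h

lemma Bd.add {c : ℤ} {F G : MvPowerSeries (Fin 2) ℤ} (hF : Bd A c F) (hG : Bd A c G) :
    Bd A c (F + G) := by
  intro d hd
  rw [map_add] at hd
  by_cases h : coeff d F = 0
  · rw [h, zero_add] at hd; exact hG d hd
  · exact hF d h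

lemma Bd.mul {c c' : ℤ} {F G : MvPowerSeries (Fin 2) ℤ} (hF : Bd A c F) (hG : Bd A c' G) :
    Bd A (c + c') (F * G) := by
  classical
  intro d hd
  rw [coeff_mul] at hd
  obtain ⟨ij, hij, hne⟩ := Finset.exists_ne_zero_of_sum_ne_zero hd
  have h1 : ij.1 + ij.2 = d := Finset.HasAntidiagonal.mem_antidiagonal.1 hij
  rw [← h1, ell_add]
  exact add_le_add (hF _ (left_ne_zero_of_mul hne)) (hG _ (right_ne_zero_of_mul hne))

lemma Bd_zero (c : ℤ) : Bd A c 0 := by
  intro d hd
  rw [map_zero] at hd
  exact absurd rfl hd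

lemma Bd_one : Bd A 0 1 := by
  classical
  intro d hd
  rw [coeff_one] at hd
  by_cases h : d = 0
  · rw [h, ell_zero]
  · rw [if_neg h] at hd; exact absurd rfl hd

lemma Bd.sum {ι : Type*} {c : ℤ} (s : Finset ι) (F : ι → MvPowerSeries (Fin 2) ℤ)
    (h : ∀ i ∈ s, Bd A c (F i)) : Bd A c (∑ i ∈ s, F i) := by
  classical
  induction s using Finset.induction_on with
  | empty => rw [Finset.sum_empty]; exact Bd_zero c
  | insert i s hi ih =>
    rw [Finset.sum_insert hi]
    exact (h i (Finset.mem_insert_self _ _)).add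
      (ih fun j hj => h j (Finset.mem_insert_of_mem hj))

lemma Bd.prod {ι : Type*} (s : Finset ι) (F : ι → MvPowerSeries (Fin 2) ℤ) (c : ι → ℤ)
    (h : ∀ i ∈ s, Bd A (c i) (F i)) : Bd A (∑ i ∈ s, c i) (∏ i ∈ s, F i) := by
  classical
  induction s using Finset.induction_on with
  | empty => rw [Finset.sum_empty, Finset.prod_empty]; exact Bd_one
  | insert i s hi ih =>
    rw [Finset.sum_insert hi, Finset.prod_insert hi]
    exact (h i (Finset.mem_insert_self _ _)).mul
      (ih fun j hj => h j (Finset.mem_insert_of_mem hj))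

lemma Bd.pow {c : ℤ} {F : MvPowerSeries (Fin 2) ℤ} (hF : Bd A c F) (n : ℕ) :
    Bd A (n * c) (F ^ n) := by
  induction n with
  | zero => simpa using Bd_one
  | succ n ih =>
    rw [pow_succ]
    have := ih.mul hF
    convert this using 1
    push_cast; ring

lemma Bd_X0 (hA : 1 ≤ A) : Bd A 0 (X 0) := by
  classical
  intro d hd
  rw [coeff_X] at hd
  by_cases h : d = Finsupp.single 0 1
  · rw [h]; unfold ell
    simp
    have : (1 : ℤ) ≤ A := by exact_mod_cast hA
    linarith
  · rw [if_neg h] at hd; exact absurd rfl hd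

lemma Bd_X1 : Bd A 1 (X 1) := by
  classical
  intro d hd
  rw [coeff_X] at hd
  by_cases h : d = Finsupp.single 1 1
  · rw [h]; unfold ell
    simp
  · rw [if_neg h] at hd; exact absurd rfl hd

lemma Bd_factor (hA : 1 ≤ A) : Bd A 1 ((1 + X 0) * (1 + X 1)) := by
  have h1 : Bd A 0 (1 + X 0) := Bd_one.add (Bd_X0 hA)
  have h2 : Bd A 1 (1 + X 1) := (Bd_one.mono zero_le_one).add Bd_X1
  have := h1.mul h2
  rwa [zero_add] at this

/-- the bound for the hypersurface series. -/
lemma Bd_Hs (b : ℕ) (hb : b ≤ A) (hb1 : 1 ≤ b) (H : MvPowerSeries (Fin 2) ℤ)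
    (hH : (1 - Pser b) * H = Nser b) : Bd A ((b : ℤ) - 2) H := by
  classical
  have hrec : H = Nser b + Pser b * H := by rw [← hH]; ring
  have key : ∀ n : ℕ, ∀ d : Fin 2 →₀ ℕ, d.degree ≤ n → coeff d H ≠ 0 → ell A d ≤ (b : ℤ) - 2 := by
    intro n
    induction n with
    | zero =>
      intro d hd hne
      rw [hrec, map_add, coeff_mul] at hne
      have hd0 : d = 0 := by
        have := Nat.le_zero.1 hd
        exact (Finsupp.degree_eq_zero_iff d).1 this
      by_cases hN : coeff d (Nser b) = 0
      · rw [hN, zero_add] at hne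
        obtain ⟨ij, hij, hne'⟩ := Finset.exists_ne_zero_of_sum_ne_zero hne
        have h1 : ij.1 + ij.2 = d := Finset.HasAntidiagonal.mem_antidiagonal.1 hij
        have hP := left_ne_zero_of_mul hne'
        rw [coeff_Pser] at hP
        have hc : 1 ≤ ij.1 0 := by
          by_contra hcon
          rw [if_neg (fun h => hcon h.1)] at hP
          exact hP rfl
        have : (ij.1 + ij.2) 0 = 0 := by rw [h1, hd0]; rfl
        rw [Finsupp.add_apply] at this
        omega
      · rw [coeff_Nser] at hN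
        have hc : d 0 + d 1 + 1 ≤ b - 1 := by
          by_contra hcon
          rw [if_neg hcon] at hN
          exact hN rfl
        rw [hd0, ell_zero]
        have : (2 : ℤ) ≤ b := by
          have : 2 ≤ b := by omega
          exact_mod_cast this
        linarith
    | succ n ih =>
      intro d hd hne
      have hne0 := hne
      rw [hrec, map_add, coeff_mul] at hne
      by_cases hN : coeff d (Nser b) = 0
      · rw [hN, zero_add] at hne
        obtain ⟨ij, hij, hne'⟩ := Finset.exists_ne_zero_of_sum_ne_zero hne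
        have h1 : ij.1 + ij.2 = d := Finset.HasAntidiagonal.mem_antidiagonal.1 hij
        have hP := left_ne_zero_of_mul hne'
        have hH' := right_ne_zero_of_mul hne'
        rw [coeff_Pser] at hP
        have hc : 1 ≤ ij.1 0 ∧ 1 ≤ ij.1 1 ∧ ij.1 0 + ij.1 1 ≤ b := by
          by_contra hcon
          rw [if_neg hcon] at hP
          exact hP rfl
        have hdeg : ij.2.degree ≤ n := by
          have h2 : d.degree = ij.1.degree + ij.2.degree := by rw [← h1, map_add]
          have h3 : ij.1 0 ≤ ij.1.degree := Finsupp.le_degree 0 ij.1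
          omega
        have h4 := ih ij.2 hdeg hH'
        rw [← h1, ell_add]
        have h5 : ell A ij.1 ≤ 0 := by
          unfold ell
          obtain ⟨c0, c1, c2⟩ := hc
          have e0 : (1 : ℤ) ≤ (ij.1 0 : ℤ) := by exact_mod_cast c0
          have e2 : ((ij.1 0 : ℤ) + (ij.1 1 : ℤ)) ≤ (b : ℤ) := by exact_mod_cast c2
          have e3 : (b : ℤ) ≤ (A : ℤ) := by exact_mod_cast hb
          have e4 : (1 : ℤ) ≤ (A : ℤ) := by
            have : 1 ≤ A := hb1.trans hb
            exact_mod_cast this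
          nlinarith
        linarith
      · rw [coeff_Nser] at hN
        have hc : d 0 + d 1 + 1 ≤ b - 1 := by
          by_contra hcon
          rw [if_neg hcon] at hN
          exact hN rfl
        unfold ell
        have e1 : ((d 0 : ℤ) + (d 1 : ℤ)) + 2 ≤ (b : ℤ) := by
          have : d 0 + d 1 + 2 ≤ b := by omega
          exact_mod_cast this
        have e4 : (1 : ℤ) ≤ (A : ℤ) := by
          have : 1 ≤ A := hb1.trans hb
          exact_mod_cast this
        have e5 : (0 : ℤ) ≤ (d 0 : ℤ) := Int.natCast_nonneg _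
        nlinarith
  intro d hd
  exact key d.degree d le_rfl hd

end Groth.Agent.Lib.helper10.HodgeS
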