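import Groth.Agent.Lib.helper10.HodgeSB

set_option autoImplicit false

namespace Groth.Agent.Lib.helper10.HodgeS

open MvPowerSeries Groth.Agent.Lib.helper10.NodeNF

variable {d : ℕ} (a : Fin d → ℕ) (Hs : Fin d → MvPowerSeries (Fin 2) ℤ)

/-- the series `H`. -/
noncomputable def Hsum : MvPowerSeries (Fin 2) ℤ :=
  ∑ P ∈ (Finset.univ : Finset (Fin d)).powerset with P.Nonempty,
    ((1 + X 0) * (1 + X 1)) ^ (P.card - 1) * ∏ i ∈ P, Hs i

variable (ha : ∀ i, 1 ≤ a i) (hHs : ∀ i, (1 - Pser (a i)) * Hs i = Nser (a i))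

include ha hHs in
lemma Bd_Hsum : Bd (Finset.univ.sup a) ((∑ i, (a i : ℤ)) - d - 1) (Hsum Hs) := by
  classical
  unfold Hsum
  apply Bd.sum
  intro P hP
  rw [Finset.mem_filter] at hP
  have hPne := hP.2
  have hcard : 1 ≤ P.card := Finset.Nonempty.card_pos hPne
  obtain ⟨i₁, hi₁⟩ := hPne
  have hA : 1 ≤ Finset.univ.sup a := (ha i₁).trans (Finset.le_sup (Finset.mem_univ i₁))
  have h1 : Bd (Finset.univ.sup a) (((P.card - 1 : ℕ) : ℤ) * 1)
      (((1 + X 0) * (1 + X 1)) ^ (P.card - 1)) := (Bd_factor hA).pow _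
  have h2 : Bd (Finset.univ.sup a) (∑ i ∈ P, ((a i : ℤ) - 2)) (∏ i ∈ P, Hs i) :=
    Bd.prod P Hs (fun i => (a i : ℤ) - 2)
      (fun i _ => Bd_Hs (a i) (Finset.le_sup (Finset.mem_univ i)) (ha i) (Hs i) (hHs i))
  refine (h1.mul h2).mono ?_
  rw [Nat.cast_sub hcard, Finset.sum_sub_distrib, Finset.sum_const, nsmul_eq_mul]
  have h3 : ∑ i ∈ P, ((a i : ℤ) - 1) ≤ ∑ i : Fin d, ((a i : ℤ) - 1) := by
    apply Finset.sum_le_sum_of_subset_of_nonneg (Finset.subset_univ P)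
    intro i _ _
    have : (1 : ℤ) ≤ a i := by exact_mod_cast ha i
    linarith
  rw [Finset.sum_sub_distrib, Finset.sum_const, nsmul_eq_mul] at h3
  rw [Finset.sum_sub_distrib, Finset.sum_const, nsmul_eq_mul, Finset.card_univ,
    Fintype.card_fin] at h3
  push_cast at h3 ⊢
  linarith

include ha hHs in
theorem forward (p q : ℕ)
    (h : coeff (Finsupp.single 0 p + Finsupp.single 1 q) (Hsum Hs) ≠ 0) :
    p + q + d < p * Finset.univ.sup a + ∑ i, a i := by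
  have h1 := Bd_Hsum a Hs ha hHs (e2 p q) h
  unfold ell at h1
  rw [e2_zero, e2_one] at h1
  have h2 : ((p : ℤ) + q + d) + 1 ≤ (p : ℤ) * ((Finset.univ.sup a : ℕ) : ℤ) + ∑ i, (a i : ℤ) := by
    linarith
  have h3 : p + q + d + 1 ≤ p * Finset.univ.sup a + ∑ i, a i := by
    exact_mod_cast h2
  omega

end Groth.Agent.Lib.helper10.HodgeS
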