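import Groth.Agent.Lib.helper10.HodgeSC

set_option autoImplicit false

namespace Groth.Agent.Lib.helper10.HodgeS

open MvPowerSeries Groth.Agent.Lib.helper10.NodeNF

lemma e2_add (i j i' j' : ℕ) : e2 i j + e2 i' j' = e2 (i + i') (j + j') := by
  ext k
  fin_cases k <;> simp

/-- all coefficients are nonnegative. -/
def Nn (F : MvPowerSeries (Fin 2) ℤ) : Prop := ∀ d, 0 ≤ coeff d F

lemma Nn.add {F G : MvPowerSeries (Fin 2) ℤ} (hF : Nn F) (hG : Nn G) : Nn (F + G) := by
  intro d; rw [map_add]; exact add_nonneg (hF d) (hG d)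

lemma Nn.mul {F G : MvPowerSeries (Fin 2) ℤ} (hF : Nn F) (hG : Nn G) : Nn (F * G) := by
  classical
  intro d
  rw [coeff_mul]
  exact Finset.sum_nonneg fun ij _ => mul_nonneg (hF _) (hG _)

lemma Nn_zero : Nn 0 := by intro d; rw [map_zero]

lemma Nn_one : Nn 1 := by
  classical
  intro d; rw [coeff_one]; split_ifs <;> norm_num

lemma Nn_X (i : Fin 2) : Nn (X i) := by
  classical
  intro d; rw [coeff_X]; split_ifs <;> norm_num

lemma Nn.sum {ι : Type*} (s : Finset ι) (F : ι → MvPowerSeries (Fin 2) ℤ)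
    (h : ∀ i ∈ s, Nn (F i)) : Nn (∑ i ∈ s, F i) := by
  intro d; rw [map_sum]; exact Finset.sum_nonneg fun i hi => h i hi d

lemma Nn.prod {ι : Type*} (s : Finset ι) (F : ι → MvPowerSeries (Fin 2) ℤ)
    (h : ∀ i ∈ s, Nn (F i)) : Nn (∏ i ∈ s, F i) := by
  classical
  induction s using Finset.induction_on with
  | empty => rw [Finset.prod_empty]; exact Nn_one
  | insert i s hi ih =>
    rw [Finset.prod_insert hi]
    exact (h i (Finset.mem_insert_self _ _)).mul
      (ih fun j hj => h j (Finset.mem_insert_of_mem hj))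

lemma Nn.pow {F : MvPowerSeries (Fin 2) ℤ} (hF : Nn F) (n : ℕ) : Nn (F ^ n) := by
  induction n with
  | zero => rw [pow_zero]; exact Nn_one
  | succ n ih => rw [pow_succ]; exact ih.mul hF

lemma Nn.coeff_mul_le {F G : MvPowerSeries (Fin 2) ℤ} (hF : Nn F) (hG : Nn G)
    (d1 d2 : Fin 2 →₀ ℕ) : coeff d1 F * coeff d2 G ≤ coeff (d1 + d2) (F * G) := by
  classical
  rw [coeff_mul]
  exact Finset.single_le_sum (f := fun ij : (Fin 2 →₀ ℕ) × (Fin 2 →₀ ℕ) =>
    coeff ij.1 F * coeff ij.2 G) (fun ij _ => mul_nonneg (hF _) (hG _))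
    (Finset.HasAntidiagonal.mem_antidiagonal.2 (rfl : (d1, d2).1 + (d1, d2).2 = d1 + d2))

lemma Nn.prod_coeff_pos {ι : Type*} (s : Finset ι) (F : ι → MvPowerSeries (Fin 2) ℤ)
    (dd : ι → (Fin 2 →₀ ℕ)) (h : ∀ i ∈ s, Nn (F i)) (hp : ∀ i ∈ s, 0 < coeff (dd i) (F i)) :
    0 < coeff (∑ i ∈ s, dd i) (∏ i ∈ s, F i) := by
  classical
  induction s using Finset.induction_on with
  | empty => rw [Finset.sum_empty, Finset.prod_empty, coeff_one, if_pos rfl]; norm_num
  | insert i s hi ih =>
    rw [Finset.sum_insert hi, Finset.prod_insert hi]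
    refine lt_of_lt_of_le ?_ ((h i (Finset.mem_insert_self _ _)).coeff_mul_le
      (Nn.prod s F fun j hj => h j (Finset.mem_insert_of_mem hj)) _ _)
    exact mul_pos (hp i (Finset.mem_insert_self _ _))
      (ih (fun j hj => h j (Finset.mem_insert_of_mem hj))
        (fun j hj => hp j (Finset.mem_insert_of_mem hj)))

lemma Nn_Pser (b : ℕ) : Nn (Pser b) := by
  intro d; rw [coeff_Pser]; split_ifs
  · exact Int.natCast_nonneg _
  · exact le_rfl

lemma Nn_Nser (b : ℕ) : Nn (Nser b) := by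
  intro d; rw [coeff_Nser]; split_ifs
  · exact Int.natCast_nonneg _
  · exact le_rfl

lemma Nn_Hs (b : ℕ) (H : MvPowerSeries (Fin 2) ℤ) (hH : (1 - Pser b) * H = Nser b) : Nn H := by
  classical
  have hrec : H = Nser b + Pser b * H := by rw [← hH]; ring
  have key : ∀ n : ℕ, ∀ d : Fin 2 →₀ ℕ, d.degree = n → 0 ≤ coeff d H := by
    intro n
    induction n using Nat.strong_induction_on with
    | _ n ih =>
      intro d hd
      rw [hrec, map_add, coeff_mul]
      apply add_nonneg (Nn_Nser b d)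
      apply Finset.sum_nonneg
      intro ij hij
      have h1 : ij.1 + ij.2 = d := Finset.HasAntidiagonal.mem_antidiagonal.1 hij
      by_cases hP : coeff ij.1 (Pser b) = 0
      · rw [hP, zero_mul]
      · apply mul_nonneg (Nn_Pser b _)
        rw [coeff_Pser] at hP
        have hc : 1 ≤ ij.1 0 := by
          by_contra hcon
          rw [if_neg (fun h => hcon h.1)] at hP
          exact hP rfl
        apply ih ij.2.degree _ ij.2 rfl
        have h2 : d.degree = ij.1.degree + ij.2.degree := by rw [← h1, map_add]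
        have h3 : ij.1 0 ≤ ij.1.degree := Finsupp.le_degree 0 ij.1
        omega
  intro d
  exact key d.degree d rfl

/-- positivity of the hypersurface coefficients in the relevant range. -/
lemma pos_Hs (b : ℕ) (hb : 2 ≤ b) (H : MvPowerSeries (Fin 2) ℤ) (hH : (1 - Pser b) * H = Nser b) :
    ∀ p t : ℕ, p ≤ t → t ≤ p * (b - 1) + (b - 2) → 0 < coeff (e2 p t) H := by
  have hrec : H = Nser b + Pser b * H := by rw [← hH]; ring
  have hNn := Nn_Hs b H hH
  intro p
  induction p with
  | zero =>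
    intro t _ ht
    rw [hrec, map_add]
    apply add_pos_of_pos_of_nonneg _ ((Nn_Pser b).mul hNn _)
    rw [coeff_Nser, e2_zero, e2_one, if_pos (by omega)]
    have : 0 < (b - 1).choose (0 + t + 1) := Nat.choose_pos (by omega)
    exact_mod_cast this
  | succ p ih =>
    intro t hpt ht
    have hm : p ≤ p * (b - 1) := Nat.le_mul_of_pos_right p (by omega)
    have hsucc : (p + 1) * (b - 1) = p * (b - 1) + (b - 1) := Nat.succ_mul _ _
    obtain ⟨v, hv1, hv2, hv3, hv4⟩ : ∃ v, 1 ≤ v ∧ v + 1 ≤ b ∧ p + v ≤ t ∧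
        t ≤ v + (p * (b - 1) + (b - 2)) := by
      by_cases hcase : t ≤ 1 + (p * (b - 1) + (b - 2))
      · exact ⟨1, le_rfl, by omega, by omega, hcase⟩
      · exact ⟨t - (p * (b - 1) + (b - 2)), by omega, by omega, by omega, by omega⟩
    have hpos := ih (t - v) (by omega) (by omega)
    rw [hrec, map_add]
    apply add_pos_of_nonneg_of_pos (Nn_Nser b _)
    have hle := (Nn_Pser b).coeff_mul_le hNn (e2 1 v) (e2 p (t - v))
    rw [e2_add, show 1 + p = p + 1 by ring, show v + (t - v) = t by omega] at hle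
    refine lt_of_lt_of_le (mul_pos ?_ hpos) hle
    rw [coeff_Pser, e2_zero, e2_one, if_pos ⟨le_rfl, hv1, by omega⟩]
    have : 0 < b.choose (1 + v) := Nat.choose_pos (by omega)
    exact_mod_cast this

end Groth.Agent.Lib.helper10.HodgeS
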