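import Groth.Agent.Lib.helper10.HodgeSD

set_option autoImplicit false

namespace Groth.Agent.Lib.helper10.HodgeS

open MvPowerSeries Groth.Agent.Lib.helper10.NodeNF

/-- distribute `r` into boxes of capacities `c i`. -/
lemma exists_box {ι : Type*} [DecidableEq ι] (s : Finset ι) (c : ι → ℕ) (r : ℕ)
    (hr : r ≤ ∑ i ∈ s, c i) : ∃ w : ι → ℕ, (∀ i ∈ s, w i ≤ c i) ∧ ∑ i ∈ s, w i = r := by
  induction s using Finset.induction_on generalizing r with
  | empty =>
    rw [Finset.sum_empty] at hr
    exact ⟨fun _ => 0, fun i hi => absurd hi (Finset.notMem_empty i), by simp; omega⟩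
  | insert i s hi ih =>
    rw [Finset.sum_insert hi] at hr
    obtain ⟨w, hw1, hw2⟩ := ih (r - min r (c i)) (by omega)
    refine ⟨Function.update w i (min r (c i)), ?_, ?_⟩
    · intro j hj
      rcases Finset.mem_insert.1 hj with rfl | hj'
      · rw [Function.update_self]; exact min_le_right _ _
      · rw [Function.update_of_ne (by rintro rfl; exact hi hj')]
        exact hw1 j hj'
    · rw [Finset.sum_insert hi, Function.update_self]
      have : ∑ j ∈ s, Function.update w i (min r (c i)) j = ∑ j ∈ s, w j := by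
        apply Finset.sum_congr rfl
        intro j hj
        rw [Function.update_of_ne (by rintro rfl; exact hi hj)]
      rw [this, hw2]
      omega

lemma sum_e2_zero {ι : Type*} (s : Finset ι) (w : ι → ℕ) :
    ∑ i ∈ s, e2 0 (w i) = e2 0 (∑ i ∈ s, w i) := by
  classical
  induction s using Finset.induction_on with
  | empty =>
    rw [Finset.sum_empty, Finset.sum_empty]
    ext k; fin_cases k <;> simp
  | insert i s hi ih =>
    rw [Finset.sum_insert hi, Finset.sum_insert hi, ih, e2_add]

/-- the factor `(1+y)(1+z)`. -/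
noncomputable def EE : MvPowerSeries (Fin 2) ℤ := (1 + X 0) * (1 + X 1)

lemma Nn_EE : Nn EE := (Nn_one.add (Nn_X 0)).mul (Nn_one.add (Nn_X 1))

lemma EE_expand : EE = 1 + X 0 + X 1 + X 0 * X 1 := by unfold EE; ring

lemma e2_zero_zero : e2 0 0 = 0 := by
  ext k; fin_cases k <;> simp

lemma e2_zero_one : e2 0 1 = Finsupp.single 1 1 := by
  ext k; fin_cases k <;> simp

lemma pos_EE_zero : 0 < coeff (e2 0 0) EE := by
  classical
  have h := (Nn_one.add (Nn_X 0)).coeff_mul_le (Nn_one.add (Nn_X 1)) (e2 0 0) (e2 0 0)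
  rw [e2_add] at h
  refine lt_of_lt_of_le ?_ h
  rw [e2_zero_zero, map_add, map_add, coeff_one, if_pos rfl, coeff_X, coeff_X,
    if_neg (by intro h; have := DFunLike.congr_fun h 0; simp at this),
    if_neg (by intro h; have := DFunLike.congr_fun h 1; simp at this)]
  norm_num

lemma pos_EE_one : 0 < coeff (e2 0 1) EE := by
  classical
  have h := (Nn_one.add (Nn_X 0)).coeff_mul_le (Nn_one.add (Nn_X 1)) (e2 0 0) (e2 0 1)
  rw [e2_add] at h
  refine lt_of_lt_of_le ?_ h
  rw [e2_zero_zero, e2_zero_one, map_add, map_add, coeff_one, if_pos rfl, coeff_X, coeff_X,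
    if_neg (by intro h; have := DFunLike.congr_fun h 0; simp at this), if_pos rfl, coeff_one,
    if_neg (by intro h; have := DFunLike.congr_fun h 1; simp at this)]
  norm_num

lemma pos_EE_pow (m ε : ℕ) (h : ε ≤ m) : 0 < coeff (e2 0 ε) (EE ^ m) := by
  classical
  induction m generalizing ε with
  | zero =>
    have : ε = 0 := by omega
    subst this
    rw [pow_zero, e2_zero_zero, coeff_one, if_pos rfl]; norm_num
  | succ m ih =>
    rw [pow_succ]
    rcases Nat.lt_or_ge ε (m + 1) with hlt | hge
    · have h1 := (Nn_EE.pow m).coeff_mul_le Nn_EE (e2 0 ε) (e2 0 0)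
      rw [e2_add] at h1
      exact lt_of_lt_of_le (mul_pos (ih ε (by omega)) pos_EE_zero) h1
    · have hε : ε = m + 1 := by omega
      subst hε
      have h1 := (Nn_EE.pow m).coeff_mul_le Nn_EE (e2 0 m) (e2 0 1)
      rw [e2_add] at h1
      exact lt_of_lt_of_le (mul_pos (ih m le_rfl) pos_EE_one) h1

end Groth.Agent.Lib.helper10.HodgeS
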