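import Groth.Agent.Lib.helper10.HodgeSE

set_option autoImplicit false

namespace Groth.Agent.Lib.helper10.HodgeS

open MvPowerSeries Groth.Agent.Lib.helper10.NodeNF

variable {d : ℕ} (a : Fin d → ℕ) (Hs : Fin d → MvPowerSeries (Fin 2) ℤ)
  (ha : ∀ i, 1 ≤ a i) (hHs : ∀ i, (1 - Pser (a i)) * Hs i = Nser (a i))

include ha in
/-- bookkeeping: the sum of the degrees in terms of the indices with `a i ≥ 2`. -/
lemma sum_a_eq :
    ∑ i, a i = ∑ i ∈ Finset.univ.filter (fun i => 2 ≤ a i), (a i - 2) +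
      2 * (Finset.univ.filter (fun i => 2 ≤ a i)).card +
      (d - (Finset.univ.filter (fun i => 2 ≤ a i)).card) := by
  classical
  have h1 := Finset.sum_filter_add_sum_filter_not (Finset.univ : Finset (Fin d))
    (fun i => 2 ≤ a i) a
  have h2 : ∑ i ∈ Finset.univ.filter (fun i => 2 ≤ a i), a i =
      ∑ i ∈ Finset.univ.filter (fun i => 2 ≤ a i), (a i - 2) +
        2 * (Finset.univ.filter (fun i => 2 ≤ a i)).card := by
    rw [mul_comm, ← smul_eq_mul, ← Finset.sum_const, ← Finset.sum_add_distrib]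
    apply Finset.sum_congr rfl
    intro i hi
    have := (Finset.mem_filter.1 hi).2
    omega
  have h3 : ∑ i ∈ Finset.univ.filter (fun i => ¬ 2 ≤ a i), a i =
      (Finset.univ.filter (fun i => ¬ 2 ≤ a i)).card := by
    rw [Finset.card_eq_sum_ones]
    apply Finset.sum_congr rfl
    intro i hi
    have := (Finset.mem_filter.1 hi).2
    have := ha i
    omega
  have h4 := Finset.card_filter_add_card_filter_not (s := (Finset.univ : Finset (Fin d)))
    (fun i => 2 ≤ a i)
  rw [Finset.card_univ, Fintype.card_fin] at h4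
  omega

include ha hHs in
lemma Nn_term (P : Finset (Fin d)) :
    Nn (((1 + X 0) * (1 + X 1)) ^ (P.card - 1) * ∏ i ∈ P, Hs i) :=
  (Nn_EE.pow _).mul (Nn.prod P Hs fun i _ => Nn_Hs (a i) (Hs i) (hHs i))

include ha hHs in
theorem backward (p q : ℕ) (hpq : p ≤ q)
    (h : p + q + d < p * Finset.univ.sup a + ∑ i, a i) :
    0 < coeff (e2 p q) (Hsum Hs) := by
  classical
  -- the maximum is at least two
  have hA2 : 2 ≤ Finset.univ.sup a := by
    by_contra hcon
    have hA1 : Finset.univ.sup a ≤ 1 := by omega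
    have h1 : ∀ i, a i = 1 := fun i =>
      le_antisymm ((Finset.le_sup (Finset.mem_univ i)).trans hA1) (ha i)
    have h2 : ∑ i, a i = d := by
      rw [Finset.sum_congr rfl (fun i _ => h1 i), Finset.sum_const, Finset.card_univ,
        Fintype.card_fin, smul_eq_mul, mul_one]
    have h3 : p * Finset.univ.sup a ≤ p := by
      calc p * Finset.univ.sup a ≤ p * 1 := Nat.mul_le_mul_left p hA1
        _ = p := mul_one p
    omega
  have hne : (Finset.univ : Finset (Fin d)).Nonempty := by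
    by_contra hcon
    rw [Finset.not_nonempty_iff_eq_empty] at hcon
    rw [hcon, Finset.sup_empty] at hA2
    exact absurd hA2 (by decide)
  obtain ⟨i₀, -, hi₀⟩ := Finset.exists_mem_eq_sup Finset.univ hne a
  obtain ⟨A', hA'⟩ : ∃ A', Finset.univ.sup a = A' + 2 := ⟨Finset.univ.sup a - 2, by omega⟩
  rw [hA'] at h hi₀
  -- the index set
  obtain ⟨P₀, hP₀⟩ : ∃ P₀, P₀ = Finset.univ.filter (fun i => 2 ≤ a i) := ⟨_, rfl⟩
  have hi₀P : i₀ ∈ P₀ := by
    rw [hP₀, Finset.mem_filter]; exact ⟨Finset.mem_univ _, by omega⟩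
  have hsum := sum_a_eq a ha
  rw [← hP₀] at hsum
  have hsplit : ∑ i ∈ P₀, (a i - 2) = (a i₀ - 2) + ∑ i ∈ P₀.erase i₀, (a i - 2) :=
    (Finset.add_sum_erase P₀ (fun i => a i - 2) hi₀P).symm
  have hcard : 1 ≤ P₀.card := Finset.card_pos.2 ⟨i₀, hi₀P⟩
  have hcardle : P₀.card ≤ d := by
    have := Finset.card_le_univ P₀
    rwa [Fintype.card_fin] at this
  -- the numbers
  have hM1 : p * (A' + 2) = p * A' + 2 * p := by ring
  have hM2 : p * (A' + 2 - 1) = p * A' + p := by
    rw [show A' + 2 - 1 = A' + 1 by omega]; ring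
  obtain ⟨t, ht⟩ : ∃ t, t = min q (p * (A' + 2 - 1) + (A' + 2 - 2)) := ⟨_, rfl⟩
  have htq : t ≤ q := ht ▸ min_le_left _ _
  have htub : t ≤ p * (A' + 2 - 1) + (A' + 2 - 2) := ht ▸ min_le_right _ _
  have hpt : p ≤ t := by
    rw [ht, hM2]; exact le_min hpq (by omega)
  have hr : q - t ≤ (P₀.card - 1) + ∑ i ∈ P₀.erase i₀, (a i - 2) := by
    rcases le_total q (p * (A' + 2 - 1) + (A' + 2 - 2)) with hle | hle
    · rw [ht, min_eq_left hle]; omega
    · rw [ht, min_eq_right hle, hM2]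
      rw [hM1] at h
      omega
  obtain ⟨ε, hε⟩ : ∃ ε, ε = min (q - t) (P₀.card - 1) := ⟨_, rfl⟩
  have hε1 : ε ≤ P₀.card - 1 := hε ▸ min_le_right _ _
  have hε2 : ε ≤ q - t := hε ▸ min_le_left _ _
  have hr' : q - t - ε ≤ ∑ i ∈ P₀.erase i₀, (a i - 2) := by
    rcases le_total (q - t) (P₀.card - 1) with hle | hle
    · rw [hε, min_eq_left hle]; omega
    · rw [hε, min_eq_right hle]; omega
  obtain ⟨w, hw1, hw2⟩ := exists_box (P₀.erase i₀) (fun i => a i - 2) (q - t - ε) hr'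
  -- the coefficient of the `P₀` term
  have hterm : 0 < coeff (e2 p q)
      (((1 + X 0) * (1 + X 1)) ^ (P₀.card - 1) * ∏ i ∈ P₀, Hs i) := by
    rw [← Finset.mul_prod_erase P₀ Hs hi₀P]
    have hexp : e2 p q = e2 0 ε + (e2 p t + ∑ i ∈ P₀.erase i₀, e2 0 (w i)) := by
      rw [sum_e2_zero, hw2, e2_add, e2_add]
      congr 1 <;> omega
    rw [hexp]
    have hNnErase : Nn (∏ i ∈ P₀.erase i₀, Hs i) :=
      Nn.prod _ Hs fun i _ => Nn_Hs (a i) (Hs i) (hHs i)
    have hNn0 : Nn (Hs i₀) := Nn_Hs (a i₀) (Hs i₀) (hHs i₀)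
    refine lt_of_lt_of_le ?_ ((Nn_EE.pow (P₀.card - 1)).coeff_mul_le (hNn0.mul hNnErase) _ _)
    apply mul_pos (pos_EE_pow _ _ hε1)
    refine lt_of_lt_of_le ?_ (hNn0.coeff_mul_le hNnErase _ _)
    apply mul_pos
    · have := hHs i₀
      rw [← hi₀] at this
      exact pos_Hs (A' + 2) (by omega) (Hs i₀) this p t hpt htub
    · apply Nn.prod_coeff_pos _ Hs (fun i => e2 0 (w i))
        (fun i _ => Nn_Hs (a i) (Hs i) (hHs i))
      intro i hi
      have hiP : i ∈ P₀ := Finset.mem_of_mem_erase hi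
      rw [hP₀, Finset.mem_filter] at hiP
      exact pos_Hs (a i) hiP.2 (Hs i) (hHs i) 0 (w i) (Nat.zero_le _) (by
        have := hw1 i hi
        simp only [zero_mul, zero_add]
        exact this)
  -- compare with the whole sum
  unfold Hsum
  rw [map_sum]
  have hmem : P₀ ∈ ((Finset.univ : Finset (Fin d)).powerset.filter fun P => P.Nonempty) := by
    rw [Finset.mem_filter, Finset.mem_powerset]
    exact ⟨Finset.subset_univ _, ⟨i₀, hi₀P⟩⟩
  exact lt_of_lt_of_le hterm
    (Finset.single_le_sum (f := fun P : Finset (Fin d) =>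
        coeff (e2 p q) (((1 + X 0) * (1 + X 1)) ^ (P.card - 1) * ∏ i ∈ P, Hs i))
      (fun P _ => Nn_term a Hs ha hHs P _) hmem)

end Groth.Agent.Lib.helper10.HodgeS
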