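import Mathlib

set_option backward.isDefEq.respectTransparency.types true
set_option maxHeartbeats 400000
set_option autoImplicit false
universe u v
open TensorProduct

namespace H10S6710

/-- kill finitely many elements that are locally nilpotent on `n₀`. -/
theorem exists_smul_ne_zero_killed {B : Type*} [CommRing B] {P : Type*} [AddCommGroup P]
    [Module B P] (n₀ : P) (hn₀ : n₀ ≠ 0) (F : Finset B)
    (hF : ∀ x ∈ F, ∃ k : ℕ, x ^ k • n₀ = 0) :
    ∃ b : B, b • n₀ ≠ 0 ∧ ∀ x ∈ F, x • b • n₀ = 0 := by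
  classical
  induction F using Finset.induction_on with
  | empty => exact ⟨1, by simpa using hn₀, by simp⟩
  | insert x F hx ih =>
    obtain ⟨b, hb, hbF⟩ := ih (fun y hy => hF y (Finset.mem_insert_of_mem hy))
    obtain ⟨k, hk⟩ := hF x (Finset.mem_insert_self _ _)
    have hex : ∃ k : ℕ, x ^ k • b • n₀ = 0 := ⟨k, by rw [smul_comm, hk, smul_zero]⟩
    have hk₀ : x ^ (Nat.find hex) • b • n₀ = 0 := Nat.find_spec hex
    have hk₀pos : Nat.find hex ≠ 0 := by
      intro h0
      rw [h0, pow_zero, one_smul] at hk₀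
      exact hb hk₀
    obtain ⟨j, hj⟩ : ∃ j, Nat.find hex = j + 1 := ⟨Nat.find hex - 1, by omega⟩
    have hmin : ¬ (x ^ j • b • n₀ = 0) := Nat.find_min hex (by omega : j < Nat.find hex)
    refine ⟨x ^ j * b, by rwa [mul_smul], ?_⟩
    intro y hy
    rcases Finset.mem_insert.1 hy with rfl | hy
    · rw [mul_smul, ← mul_smul y, ← pow_succ', ← hj]; exact hk₀
    · rw [mul_smul, smul_comm y, hbF y hy, smul_zero]

/-- minimal prime over `I`: every element is nilpotent mod `I` up to a unit outside `p`. -/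
theorem exists_mul_pow_mem {A : Type*} [CommRing A] {I p : Ideal A} (hp : p ∈ I.minimalPrimes)
    {a : A} (ha : a ∈ p) : ∃ s ∉ p, ∃ k : ℕ, s * a ^ k ∈ I := by
  have hpp : p.IsPrime := hp.1.1
  by_contra hcon
  push Not at hcon
  let W : Submonoid A := p.primeCompl ⊔ Submonoid.powers a
  have hdisj : Disjoint (I : Set A) W := by
    rw [Set.disjoint_left]
    intro x hxI hxW
    obtain ⟨s, hs, _, ⟨k, rfl⟩, rfl⟩ := Submonoid.mem_sup.1 hxW
    exact hcon s hs k hxI
  obtain ⟨q, hq, hIq, hqW⟩ := Ideal.exists_le_prime_disjoint I W hdisj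
  have hqp : q ≤ p := by
    intro x hx
    by_contra hxp
    exact Set.disjoint_left.1 hqW hx (Submonoid.mem_sup_left hxp)
  have hpq : p ≤ q := hp.2 ⟨hq, hIq⟩ hqp
  exact Set.disjoint_left.1 hqW (hpq ha) (Submonoid.mem_sup_right (Submonoid.mem_powers a))


theorem main (A : Type u) [CommRing A] (M : Type v) [AddCommGroup M] [Module A M]
    [Module.FinitePresentation A M] (N : Type v) [AddCommGroup N] [Module A N] [Nontrivial N]
    (h : Module.support A N ⊆ Module.support A M) : Nontrivial (M →ₗ[A] N) := by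
  classical
  obtain ⟨n, hn⟩ := exists_ne (0 : N)
  let I : Ideal A := Ideal.torsionOf A N n
  have hI : I ≠ ⊤ := by
    intro hI
    have : (1 : A) ∈ I := hI ▸ Submodule.mem_top
    rw [Ideal.mem_torsionOf_iff, one_smul] at this
    exact hn this
  obtain ⟨⟨p, hp⟩⟩ := Ideal.nonempty_minimalPrimes hI
  have hpprime : p.IsPrime := hp.1.1
  have hIp : I ≤ p := hp.1.2
  let P : PrimeSpectrum A := ⟨p, hpprime⟩
  have hPN : P ∈ Module.support A N := by
    rw [Module.mem_support_iff_exists_annihilator]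
    refine ⟨n, fun a ha => hIp ?_⟩
    rw [Ideal.mem_torsionOf_iff]
    exact (Submodule.mem_annihilator_span_singleton _ _).1 ha
  have hPM : P ∈ Module.support A M := h hPN
  -- notation
  let B := Localization.AtPrime p
  let Np := LocalizedModule p.primeCompl N
  let mk : N →ₗ[A] Np := LocalizedModule.mkLinearMap p.primeCompl N
  let κ := p.ResidueField
  let n₀ : Np := mk n
  have hn₀ : n₀ ≠ 0 := by
    intro h0
    obtain ⟨s, hs⟩ := (IsLocalizedModule.eq_zero_iff p.primeCompl mk).1 h0
    have : (s : A) ∈ I := by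
      rw [Ideal.mem_torsionOf_iff]; exact hs
    exact s.2 (hIp this)
  -- elements of the maximal ideal are locally nilpotent on n₀
  have hnil : ∀ x ∈ IsLocalRing.maximalIdeal B, ∃ k : ℕ, x ^ k • n₀ = 0 := by
    intro x hx
    obtain ⟨a, s, rfl⟩ := IsLocalization.exists_mk'_eq p.primeCompl x
    rw [IsLocalization.AtPrime.mk'_mem_maximal_iff B p] at hx
    obtain ⟨s', hs', k, hk⟩ := exists_mul_pow_mem hp hx
    rw [Ideal.mem_torsionOf_iff] at hk
    refine ⟨k, ?_⟩
    have hu : IsUnit (algebraMap A B s' * (algebraMap A B s) ^ k) :=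
      (IsLocalization.map_units B (⟨s', hs'⟩ : p.primeCompl)).mul
        ((IsLocalization.map_units B s).pow k)
    have h1 : (algebraMap A B s' * (algebraMap A B s) ^ k) • (IsLocalization.mk' B a s) ^ k • n₀
        = 0 := by
      rw [← mul_smul, mul_assoc, ← mul_pow, IsLocalization.mk'_spec', ← map_pow, ← map_mul,
        algebraMap_smul]
      show (s' * a ^ k) • mk n = 0
      rw [← map_smul, hk, map_zero]
    exact (hu.smul_eq_zero).1 h1
  -- nonzero A-linear functional M → κ
  have : Module.Finite A M := inferInstance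
  have hnt : Nontrivial (κ ⊗[A] M) :=
    (Module.mem_support_iff_nontrivial_residueField_tensorProduct P).1 hPM
  obtain ⟨v, hv⟩ := exists_ne (0 : κ ⊗[A] M)
  obtain ⟨l, hl⟩ : ∃ l : Module.Dual κ (κ ⊗[A] M), l v ≠ 0 := by
    by_contra hcon
    push Not at hcon
    exact hv ((Module.forall_dual_apply_eq_zero_iff κ v).1 hcon)
  let φ : M →ₗ[A] κ := (l.restrictScalars A) ∘ₗ (TensorProduct.mk A κ M 1)
  have hφ : φ ≠ 0 := by
    intro h0
    apply hl
    have : ∀ w : κ ⊗[A] M, l w = 0 := by
      intro w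
      induction w using TensorProduct.induction_on with
      | zero => simp
      | tmul k m =>
        have e1 : k ⊗ₜ[A] m = k • ((1 : κ) ⊗ₜ[A] m) := by
          rw [TensorProduct.smul_tmul', smul_eq_mul, mul_one]
        have e2 : l ((1 : κ) ⊗ₜ[A] m) = 0 := LinearMap.congr_fun h0 m
        rw [e1, map_smul, e2, smul_zero]
      | add x y hx hy => rw [map_add, hx, hy, add_zero]
    exact this v
  -- presentation
  obtain ⟨r, m, f, g, hf, hfg⟩ := Module.FinitePresentation.exists_fin' A M
  let res : B →ₗ[A] κ := (IsScalarTower.toAlgHom A B κ).toLinearMap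
  have hres : Function.Surjective res := IsLocalRing.residue_surjective
  obtain ⟨ψ, hψ⟩ := Module.projective_lifting_property res (φ ∘ₗ f) hres
  have hψ' : ∀ w, res (ψ w) = φ (f w) := fun w => LinearMap.congr_fun hψ w
  have hres0 : ∀ x : B, res x = 0 ↔ x ∈ IsLocalRing.maximalIdeal B := by
    intro x
    exact IsLocalRing.residue_eq_zero_iff x
  obtain ⟨v₀, hv₀⟩ : ∃ v₀, IsUnit (ψ v₀) := by
    have : ∃ w, φ w ≠ 0 := by
      by_contra hcon
      push Not at hcon
      exact hφ (LinearMap.ext hcon)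
    obtain ⟨w, hw⟩ := this
    obtain ⟨v₀, rfl⟩ := hf w
    refine ⟨v₀, ?_⟩
    rw [← hψ' v₀, Ne, hres0] at hw
    exact (IsLocalRing.notMem_maximalIdeal).1 hw
  let xs : Fin m → B := fun j => ψ (g (Pi.single j 1))
  have hxs : ∀ j, xs j ∈ IsLocalRing.maximalIdeal B := by
    intro j
    rw [← hres0, hψ', hfg.apply_apply_eq_zero, map_zero]
  obtain ⟨b, hb, hbF⟩ := exists_smul_ne_zero_killed n₀ hn₀ (Finset.univ.image xs) (by
    intro x hx
    obtain ⟨j, _, rfl⟩ := Finset.mem_image.1 hx
    exact hnil _ (hxs j))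
  let θ : (Fin r → A) →ₗ[A] Np :=
    ((LinearMap.toSpanSingleton B Np (b • n₀)).restrictScalars A) ∘ₗ ψ
  have hθ : ∀ w, θ w = ψ w • b • n₀ := fun w => rfl
  have hθg : θ ∘ₗ g = 0 := by
    apply LinearMap.pi_ext
    intro j x
    have : (Pi.single j x : Fin m → A) = x • Pi.single j 1 := by
      rw [← Pi.single_smul, smul_eq_mul, mul_one]
    rw [this, map_smul, LinearMap.comp_apply, hθ,
      hbF _ (Finset.mem_image_of_mem xs (Finset.mem_univ j)), smul_zero, LinearMap.zero_apply]
  have hker : LinearMap.ker f ≤ LinearMap.ker θ := by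
    intro w hw
    obtain ⟨y, rfl⟩ := (hfg w).1 hw
    exact LinearMap.congr_fun hθg y
  let g' : M →ₗ[A] Np :=
    (LinearMap.ker f).liftQ θ hker ∘ₗ (f.quotKerEquivOfSurjective hf).symm.toLinearMap
  have hg' : ∀ w, g' (f w) = θ w := by
    intro w
    show (LinearMap.ker f).liftQ θ hker ((f.quotKerEquivOfSurjective hf).symm (f w)) = θ w
    rw [LinearMap.quotKerEquivOfSurjective_symm_apply, Submodule.liftQ_apply]
  obtain ⟨h', s, hs⟩ :=
    Module.FinitePresentation.exists_lift_of_isLocalizedModule p.primeCompl mk g'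
  refine ⟨⟨h', 0, ?_⟩⟩
  intro h0
  have h1 : s • g' (f v₀) = 0 := by
    have := LinearMap.congr_fun hs (f v₀)
    rw [h0] at this
    simpa using this.symm
  have h2 : g' (f v₀) = 0 := by
    apply IsLocalizedModule.smul_injective mk s
    simpa using h1
  rw [hg', hθ] at h2
  exact hb ((hv₀.smul_eq_zero).1 h2)

end H10S6710
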