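import Mathlib

set_option maxHeartbeats 400000
set_option autoImplicit false

namespace H10S13096

/-- A surjective ring endomorphism of a Noetherian commutative ring is injective. -/
theorem injective_of_surjective_ringEnd {B : Type*} [CommRing B] [IsNoetherianRing B]
    (β : B →+* B) (hβ : Function.Surjective β) : Function.Injective β := by
  -- ascending chain of kernels
  let K : ℕ →o Ideal B :=
    ⟨fun n => RingHom.ker (β ^ n), by
      apply monotone_nat_of_le_succ
      intro n x hx
      rw [RingHom.mem_ker] at hx ⊢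
      rw [pow_succ']
      change β ((β ^ n) x) = 0
      rw [hx, map_zero]⟩
  obtain ⟨N, hN⟩ := monotone_stabilizes_iff_noetherian.2 (inferInstance : IsNoetherian B B) K
  have hsurjN : Function.Surjective (β ^ N) := by
    rw [RingHom.coe_pow]
    exact hβ.iterate N
  rw [injective_iff_map_eq_zero]
  intro x hx
  obtain ⟨y, rfl⟩ := hsurjN x
  have h1 : y ∈ K (N + 1) := by
    change y ∈ RingHom.ker (β ^ (N + 1))
    rw [RingHom.mem_ker, pow_succ']
    exact hx
  rw [← hN (N + 1) (Nat.le_succ N)] at h1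
  exact h1

variable {R : Type*} [CommRing R] {R' : Type*} [CommRing R'] [Algebra R R']

/-- every element of `adjoin R s` lies in a f.g. subring generated by `s` and finitely many
scalars. -/
lemma exists_finset_mem_adjoin_int [DecidableEq R'] (s : Finset R') (z : R')
    (hz : z ∈ Algebra.adjoin R (s : Set R')) :
    ∃ T : Finset R, z ∈ Algebra.adjoin ℤ ((T.image (algebraMap R R') ∪ s : Finset R') : Set R') := by
  classical
  induction hz using Algebra.adjoin_induction with
  | mem x hx =>
    refine ⟨∅, Algebra.subset_adjoin ?_⟩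
    simpa using hx
  | algebraMap r =>
    refine ⟨{r}, Algebra.subset_adjoin ?_⟩
    simp
  | add x y _ _ hx hy =>
    obtain ⟨T1, h1⟩ := hx
    obtain ⟨T2, h2⟩ := hy
    refine ⟨T1 ∪ T2, Subalgebra.add_mem _ (Algebra.adjoin_mono ?_ h1) (Algebra.adjoin_mono ?_ h2)⟩
    · intro w hw
      simp only [Finset.coe_union, Finset.coe_image, Set.mem_union, Set.mem_image,
        Finset.mem_coe] at hw ⊢
      rcases hw with ⟨t, ht, rfl⟩ | hw
      · exact Or.inl ⟨t, Or.inl ht, rfl⟩
      · exact Or.inr hw
    · intro w hw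
      simp only [Finset.coe_union, Finset.coe_image, Set.mem_union, Set.mem_image,
        Finset.mem_coe] at hw ⊢
      rcases hw with ⟨t, ht, rfl⟩ | hw
      · exact Or.inl ⟨t, Or.inr ht, rfl⟩
      · exact Or.inr hw
  | mul x y _ _ hx hy =>
    obtain ⟨T1, h1⟩ := hx
    obtain ⟨T2, h2⟩ := hy
    refine ⟨T1 ∪ T2, Subalgebra.mul_mem _ (Algebra.adjoin_mono ?_ h1) (Algebra.adjoin_mono ?_ h2)⟩
    · intro w hw
      simp only [Finset.coe_union, Finset.coe_image, Set.mem_union, Set.mem_image,
        Finset.mem_coe] at hw ⊢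
      rcases hw with ⟨t, ht, rfl⟩ | hw
      · exact Or.inl ⟨t, Or.inl ht, rfl⟩
      · exact Or.inr hw
    · intro w hw
      simp only [Finset.coe_union, Finset.coe_image, Set.mem_union, Set.mem_image,
        Finset.mem_coe] at hw ⊢
      rcases hw with ⟨t, ht, rfl⟩ | hw
      · exact Or.inl ⟨t, Or.inr ht, rfl⟩
      · exact Or.inr hw

/-- monotonicity helper -/
lemma adjoin_int_mono [DecidableEq R'] (s : Finset R') {T1 T2 : Finset R} (h : T1 ⊆ T2) :
    Algebra.adjoin ℤ ((T1.image (algebraMap R R') ∪ s : Finset R') : Set R')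
      ≤ Algebra.adjoin ℤ ((T2.image (algebraMap R R') ∪ s : Finset R') : Set R') := by
  apply Algebra.adjoin_mono
  intro w hw
  simp only [Finset.coe_union, Finset.coe_image, Set.mem_union, Set.mem_image,
    Finset.mem_coe] at hw ⊢
  rcases hw with ⟨t, ht, rfl⟩ | hw
  · exact Or.inl ⟨t, h ht, rfl⟩
  · exact Or.inr hw

theorem main [Algebra.FiniteType R R'] (α : R' →ₐ[R] R') (hα : Function.Surjective α) :
    Function.Bijective α := by
  classical
  refine ⟨?_, hα⟩
  rw [injective_iff_map_eq_zero]
  intro a ha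
  obtain ⟨s, hs⟩ := (Algebra.FiniteType.out : (⊤ : Subalgebra R R').FG)
  have hall : ∀ z : R', z ∈ Algebra.adjoin R (s : Set R') := fun z => by rw [hs]; trivial
  -- choose preimages
  choose y hy using hα
  choose Tf hTf using fun z : R' => exists_finset_mem_adjoin_int (R := R) s z (hall z)
  let T : Finset R := Tf a ∪ (s.biUnion fun x => Tf (α x)) ∪ (s.biUnion fun x => Tf (y x))
  let W : Finset R' := T.image (algebraMap R R') ∪ s
  let B₀ : Subalgebra ℤ R' := Algebra.adjoin ℤ (W : Set R')
  have haB : a ∈ B₀ := adjoin_int_mono s (by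
    intro t ht; simp only [T, Finset.mem_union]; exact Or.inl (Or.inl ht)) (hTf a)
  have hαB : ∀ x ∈ s, α x ∈ B₀ := fun x hx => adjoin_int_mono s (by
    intro t ht
    simp only [T, Finset.mem_union, Finset.mem_biUnion]
    exact Or.inl (Or.inr ⟨x, hx, ht⟩)) (hTf (α x))
  have hyB : ∀ x ∈ s, y x ∈ B₀ := fun x hx => adjoin_int_mono s (by
    intro t ht
    simp only [T, Finset.mem_union, Finset.mem_biUnion]
    exact Or.inr ⟨x, hx, ht⟩) (hTf (y x))
  let αZ : R' →ₐ[ℤ] R' := α.restrictScalars ℤ
  have hmaps : B₀ ≤ B₀.comap αZ := by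
    apply Algebra.adjoin_le
    intro w hw
    simp only [W, Finset.coe_union, Finset.coe_image, Set.mem_union, Set.mem_image,
      Finset.mem_coe] at hw
    rcases hw with ⟨t, ht, rfl⟩ | hw
    · change α (algebraMap R R' t) ∈ B₀
      rw [α.commutes]
      exact Algebra.subset_adjoin (by simp only [W, Finset.coe_union, Finset.coe_image,
        Set.mem_union, Set.mem_image, Finset.mem_coe]; exact Or.inl ⟨t, ht, rfl⟩)
    · exact hαB w hw
  have honto : B₀ ≤ B₀.map αZ := by
    apply Algebra.adjoin_le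
    intro w hw
    simp only [W, Finset.coe_union, Finset.coe_image, Set.mem_union, Set.mem_image,
      Finset.mem_coe] at hw
    rcases hw with ⟨t, ht, rfl⟩ | hw
    · refine ⟨algebraMap R R' t, ?_, α.commutes t⟩
      exact Algebra.subset_adjoin (by simp only [W, Finset.coe_union, Finset.coe_image,
        Set.mem_union, Set.mem_image, Finset.mem_coe]; exact Or.inl ⟨t, ht, rfl⟩)
    · exact ⟨y w, hyB w hw, hy w⟩
  have hFT : Algebra.FiniteType ℤ B₀ :=
    (Subalgebra.fg_iff_finiteType B₀).mp (Subalgebra.fg_adjoin_finset W)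
  have hNoeth : IsNoetherianRing B₀ := Algebra.FiniteType.isNoetherianRing ℤ B₀
  let β : B₀ →+* B₀ := (αZ : R' →+* R').restrict B₀ B₀ (fun x hx => hmaps hx)
  have hβsurj : Function.Surjective β := by
    rintro ⟨b, hb⟩
    obtain ⟨c, hc, hcb⟩ := honto hb
    exact ⟨⟨c, hc⟩, Subtype.ext hcb⟩
  have hβinj := injective_of_surjective_ringEnd β hβsurj
  have : (⟨a, haB⟩ : B₀) = 0 := by
    apply hβinj
    rw [map_zero]
    exact Subtype.ext ha
  exact congrArg Subtype.val this

end H10S13096
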