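import Mathlib

set_option autoImplicit false
set_option maxHeartbeats 800000

/-!
# Horrocks: Nakayama type lemmas over `A[X]`, `A` local
-/

namespace Groth.Agent.Lib.helper10.HorA

open Polynomial IsLocalRing

variable {A : Type*} [CommRing A]

section General

variable (𝔪 : Ideal A)

/-- elements of `𝔪[X]` push every element into `𝔪 • ⊤` -/
theorem aeval_mul_mem_of_mem_map_C {S : Type*} [CommRing S] [Algebra A S] (t : S) {p : A[X]}
    (hp : p ∈ 𝔪.map (C : A →+* A[X])) (y : S) :
    aeval t p * y ∈ 𝔪 • (⊤ : Submodule A S) := by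
  rw [Ideal.mem_map_C_iff] at hp
  rw [aeval_eq_sum_range, Finset.sum_mul]
  refine Submodule.sum_mem _ fun i _ => ?_
  rw [smul_mul_assoc]
  exact Submodule.smul_mem_smul (hp i) Submodule.mem_top

end General

variable [IsLocalRing A]

/-- the ideal `𝔪[X]` -/
noncomputable abbrev mX (A : Type*) [CommRing A] [IsLocalRing A] : Ideal A[X] :=
  (maximalIdeal A).map (C : A →+* A[X])

theorem ker_map_residue : RingHom.ker (mapRingHom (residue A)) = mX A := by
  rw [Polynomial.ker_mapRingHom, ker_residue]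

theorem not_mem_mX_of_monic {f : A[X]} (hf : f.Monic) : f ∉ mX A := by
  intro h
  rw [Ideal.mem_map_C_iff] at h
  have := h f.natDegree
  rw [coeff_natDegree, hf.leadingCoeff] at this
  exact (maximalIdeal.isMaximal A).ne_top ((Ideal.eq_top_iff_one _).mpr this)

/-- N0: a monic and a polynomial that is `1` modulo `𝔪[X]` generate the unit ideal -/
theorem span_pair_eq_top {χ u : A[X]} (hχ : χ.Monic) (hu : u - 1 ∈ mX A) :
    Ideal.span {u, χ} = ⊤ := by
  haveI : Module.Finite A (AdjoinRoot χ) := hχ.finite_adjoinRoot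
  set u' : AdjoinRoot χ := AdjoinRoot.mk χ u with hu'
  have hunit : ∃ v' : AdjoinRoot χ, u' * v' = 1 := by
    have htop : (⊤ : Submodule A (AdjoinRoot χ)) ≤ LinearMap.range (LinearMap.mulLeft A u') := by
      refine Submodule.le_of_le_smul_of_le_jacobson_bot Module.Finite.fg_top
        (maximalIdeal_le_jacobson ⊥) ?_
      intro x _
      have hx : x = u' * x + (-(AdjoinRoot.mk χ (u - 1) * x)) := by
        rw [map_sub, map_one]; ring
      rw [hx]
      refine Submodule.add_mem_sup ⟨x, rfl⟩ (Submodule.neg_mem _ ?_)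
      have := aeval_mul_mem_of_mem_map_C (maximalIdeal A) (AdjoinRoot.root χ) hu x
      rwa [AdjoinRoot.aeval_eq] at this
    obtain ⟨v', hv'⟩ := htop (Submodule.mem_top (x := 1))
    exact ⟨v', hv'⟩
  obtain ⟨v', hv'⟩ := hunit
  obtain ⟨v, rfl⟩ := AdjoinRoot.mk_surjective v'
  rw [hu', ← map_mul, ← sub_eq_zero, ← map_one (AdjoinRoot.mk χ), ← map_sub,
    AdjoinRoot.mk_eq_zero] at hv'
  obtain ⟨w, hw⟩ := hv'
  rw [Ideal.eq_top_iff_one]
  have : (1 : A[X]) = v * u + (-w) * χ := by linear_combination -hw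
  rw [this]
  exact Ideal.add_mem _ (Ideal.mul_mem_left _ _ (Ideal.subset_span (by simp)))
    (Ideal.mul_mem_left _ _ (Ideal.subset_span (by simp)))

/-- N1: a finite `A[X]`-module killed by a monic polynomial and equal to `𝔪[X]` times itself
vanishes -/
theorem eq_zero_of_monic {Q : Type*} [AddCommGroup Q] [Module A[X] Q] [Module.Finite A[X] Q]
    {χ : A[X]} (hχ : χ.Monic) (h1 : ∀ q : Q, χ • q = 0)
    (h2 : (⊤ : Submodule A[X] Q) ≤ mX A • ⊤) (q : Q) : q = 0 := by
  obtain ⟨u, hu, hu0⟩ := Submodule.exists_sub_one_mem_and_smul_eq_zero_of_fg_of_le_smul (mX A)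
    (⊤ : Submodule A[X] Q) Module.Finite.fg_top h2
  have h := span_pair_eq_top hχ hu
  have h1' : (1 : A[X]) ∈ Ideal.span {u, χ} := by rw [h]; trivial
  obtain ⟨a, b, hab⟩ := Ideal.mem_span_pair.mp h1'
  rw [← one_smul A[X] q, ← hab, add_smul, mul_smul, mul_smul, hu0 q trivial, h1, smul_zero,
    smul_zero, add_zero]

theorem mk_eq_aeval (I : Ideal A[X]) (p : A[X]) :
    Ideal.Quotient.mk I p = aeval (Ideal.Quotient.mk I X) p := by
  have := aeval_algHom_apply (Ideal.Quotient.mkₐ A I) (X : A[X]) p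
  rw [aeval_X_left_apply] at this
  exact this.symm

/-- N2: monic lifts of the generator of the reduction of an ideal containing a monic -/
theorem exists_monic_lift {I : Ideal A[X]} {f : A[X]} (hf : f.Monic) (hfI : f ∈ I)
    {g : (ResidueField A)[X]} (hg : g.Monic)
    (hI : I.map (mapRingHom (residue A)) = Ideal.span {g}) :
    ∃ χ ∈ I, χ.Monic ∧ χ.map (residue A) = g := by
  classical
  set φ := mapRingHom (residue A) with hφ
  have hφs : Function.Surjective φ := map_surjective _ residue_surjective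
  have hfin1 : Module.Finite A (AdjoinRoot f) := hf.finite_adjoinRoot
  haveI : Module.Finite A (A[X] ⧸ Ideal.span {f}) := hfin1
  have hle : Ideal.span {f} ≤ I := (Ideal.span_singleton_le_iff_mem I).mpr hfI
  haveI : Module.Finite A (A[X] ⧸ I) :=
    Module.Finite.of_surjective (Ideal.Quotient.factorₐ A hle).toLinearMap
      (Ideal.Quotient.factor_surjective hle)
  set d := g.natDegree with hd
  obtain ⟨g₀, hg₀I, hg₀⟩ : ∃ g₀ ∈ I, φ g₀ = g := by
    have : g ∈ I.map φ := by rw [hI]; exact Ideal.mem_span_singleton_self g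
    exact (Ideal.mem_map_iff_of_surjective φ hφs).mp this
  set W : Submodule A (A[X] ⧸ I) :=
    Submodule.span A (Set.range fun j : Fin d => Ideal.Quotient.mk I (X ^ (j : ℕ))) with hW
  have hmono : ∀ (a : A) (j : ℕ), j < d → Ideal.Quotient.mk I (C a * X ^ j) ∈ W := by
    intro a j hj
    have : Ideal.Quotient.mk I (C a * X ^ j) = a • Ideal.Quotient.mk I (X ^ j) := by
      rw [← smul_eq_C_mul]; exact map_smul (Ideal.Quotient.mkₐ A I) a _
    rw [this]
    exact Submodule.smul_mem _ _ (Submodule.subset_span ⟨⟨j, hj⟩, rfl⟩)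
  have htop : (⊤ : Submodule A (A[X] ⧸ I)) ≤ W := by
    refine Submodule.le_of_le_smul_of_le_jacobson_bot Module.Finite.fg_top
      (maximalIdeal_le_jacobson ⊥) ?_
    intro x _
    obtain ⟨r, rfl⟩ := Ideal.Quotient.mk_surjective x
    obtain ⟨q, hq⟩ := hφs (φ r /ₘ g)
    have hlift : φ r %ₘ g ∈ lifts (residue A) := by
      rw [mem_lifts]; exact map_surjective _ residue_surjective _
    obtain ⟨ρ, hρ, hρd⟩ := exists_degree_eq_of_mem_lifts hlift
    have hρlt : ρ.degree < d := by
      rw [hρd]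
      exact (degree_modByMonic_lt _ hg).trans_le degree_le_natDegree
    have he : r - g₀ * q - ρ ∈ mX A := by
      rw [← ker_map_residue, RingHom.mem_ker, map_sub, map_sub, map_mul]
      show φ r - φ g₀ * φ q - map (residue A) ρ = 0
      rw [hg₀, hq, hρ]
      have := modByMonic_add_div (φ r) g
      linear_combination -this
    have hx : Ideal.Quotient.mk I r = Ideal.Quotient.mk I ρ +
        aeval (Ideal.Quotient.mk I X) (r - g₀ * q - ρ) * 1 := by
      have h0 : Ideal.Quotient.mk I (g₀ * q) = 0 :=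
        Ideal.Quotient.eq_zero_iff_mem.mpr (I.mul_mem_right _ hg₀I)
      rw [← mk_eq_aeval, map_sub, map_sub, h0]
      ring
    rw [hx]
    refine Submodule.add_mem_sup ?_ (aeval_mul_mem_of_mem_map_C (maximalIdeal A) _ he _)
    rw [ρ.as_sum_range_C_mul_X_pow, map_sum]
    refine Submodule.sum_mem _ fun j hj => ?_
    by_cases hjd : j < d
    · exact hmono _ _ hjd
    · have : ρ.coeff j = 0 := coeff_eq_zero_of_degree_lt
        (hρlt.trans_le (by exact_mod_cast not_lt.mp hjd))
      rw [this, C_0, zero_mul, map_zero]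
      exact zero_mem _
  have hXd : Ideal.Quotient.mk I (X ^ d) ∈ W := htop trivial
  rw [hW, Submodule.mem_span_range_iff_exists_fun] at hXd
  obtain ⟨a, ha⟩ := hXd
  set s : A[X] := ∑ j : Fin d, C (a j) * X ^ (j : ℕ) with hs
  have hsdeg : s.degree < d := by
    refine (degree_sum_le _ _).trans_lt ?_
    rw [Finset.sup_lt_iff (by exact WithBot.bot_lt_coe d)]
    intro j _
    exact (degree_C_mul_X_pow_le _ _).trans_lt (by exact_mod_cast j.2)
  have hχ : (X ^ d - s).Monic := monic_X_pow_sub hsdeg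
  have hmem : X ^ d - s ∈ I := by
    rw [← Ideal.Quotient.eq_zero_iff_mem, map_sub, ← ha, hs, map_sum, sub_eq_zero]
    refine Finset.sum_congr rfl fun j _ => ?_
    rw [← smul_eq_C_mul]; exact (map_smul (Ideal.Quotient.mkₐ A I) (a j) _).symm
  refine ⟨X ^ d - s, hmem, hχ, ?_⟩
  have hdvd : g ∣ (X ^ d - s).map (residue A) := by
    rw [← Ideal.mem_span_singleton, ← hI]
    exact Ideal.mem_map_of_mem φ hmem
  refine eq_of_monic_of_dvd_of_natDegree_le hg (hχ.map _) hdvd ?_
  rw [hχ.natDegree_map]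
  have : (X ^ d - s).degree = ((d : ℕ) : WithBot ℕ) := by
    rw [degree_sub_eq_left_of_degree_lt (by rwa [degree_X_pow]), degree_X_pow]
  rw [natDegree_eq_of_degree_eq_some this]

end Groth.Agent.Lib.helper10.HorA
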