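import Mathlib
import Groth.Agent.Lib.helper10.HorA

set_option autoImplicit false
set_option maxHeartbeats 800000

/-!
# Horrocks' theorem in lattice form
-/

namespace Groth.Agent.Lib.helper10.HorB

open Polynomial IsLocalRing
open Groth.Agent.Lib.helper10.HorA

section Coords

variable {R : Type*} [CommRing R] {P : Type*} [AddCommGroup P] [Module R P] {ι : Type*}
  [Fintype ι] [DecidableEq ι] {p' : ι → P} (hli : LinearIndependent R p') {f : R}
  (hf : ∀ z : P, f • z ∈ Submodule.span R (Set.range p'))

/-- coordinates of `f • z` in the lattice -/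
noncomputable def coords : P →ₗ[R] (ι →₀ R) :=
  hli.repr ∘ₗ LinearMap.codRestrict (Submodule.span R (Set.range p')) (LinearMap.lsmul R P f) hf

theorem coords_spec (z : P) : ∑ i, coords hli hf z i • p' i = f • z := by
  have := hli.linearCombination_repr ⟨f • z, hf z⟩
  rw [Finsupp.linearCombination_apply,
    (hli.repr ⟨f • z, hf z⟩).sum_fintype (fun i a => a • p' i) (fun i => zero_smul R (p' i))] at this
  exact this

theorem coords_self (j : ι) : coords hli hf (p' j) = Finsupp.single j f := by
  have h1 : hli.repr ⟨p' j, Submodule.subset_span ⟨j, rfl⟩⟩ = Finsupp.single j 1 :=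
    hli.repr_eq_single j _ rfl
  have h2 : (LinearMap.codRestrict _ (LinearMap.lsmul R P f) hf (p' j)) =
      f • (⟨p' j, Submodule.subset_span ⟨j, rfl⟩⟩ : Submodule.span R (Set.range p')) :=
    Subtype.ext rfl
  unfold coords
  rw [LinearMap.comp_apply, h2, map_smul, h1, Finsupp.smul_single, smul_eq_mul, mul_one]

end Coords

section Proj

variable {R : Type*} [CommRing R] {P : Type*} [AddCommGroup P] [Module R P]
  [Module.Projective R P]

theorem coord_mem_of_mem_smul_top (𝔭 : Ideal R) {x : P →₀ R}
    (hx : x ∈ 𝔭 • (⊤ : Submodule R (P →₀ R))) (i : P) : x i ∈ 𝔭 := by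
  induction hx using Submodule.smul_induction_on' with
  | smul r hr n _ =>
    rw [Finsupp.smul_apply, smul_eq_mul]
    exact 𝔭.mul_mem_right _ hr
  | add x _ y _ hx hy =>
    rw [Finsupp.add_apply]
    exact 𝔭.add_mem hx hy

/-- regular elements modulo a prime stay regular on projective modules modulo the prime -/
theorem mem_smul_top_of_smul_mem (𝔭 : Ideal R) [𝔭.IsPrime] {f : R} (hf : f ∉ 𝔭) {w : P}
    (h : f • w ∈ 𝔭 • (⊤ : Submodule R P)) : w ∈ 𝔭 • (⊤ : Submodule R P) := by
  obtain ⟨s, hs⟩ := (Module.projective_def' (R := R) (P := P)).mp inferInstance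
  have h1 : s (f • w) ∈ 𝔭 • (⊤ : Submodule R (P →₀ R)) := by
    have := Submodule.mem_map_of_mem (f := s) h
    rw [Submodule.map_smul''] at this
    exact Submodule.smul_mono le_rfl le_top this
  have h2 : ∀ i, s w i ∈ 𝔭 := by
    intro i
    have := coord_mem_of_mem_smul_top 𝔭 h1 i
    rw [map_smul, Finsupp.smul_apply, smul_eq_mul] at this
    exact (Ideal.IsPrime.mem_or_mem inferInstance this).resolve_left hf
  have h3 : w = Finsupp.linearCombination R id (s w) := by
    have := LinearMap.congr_fun hs w
    exact this.symm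
  rw [h3, Finsupp.linearCombination_apply]
  refine Submodule.sum_mem _ fun i _ => ?_
  exact Submodule.smul_mem_smul (h2 i) Submodule.mem_top

end Proj

variable {A : Type*} [CommRing A]

theorem eq_zero_of_monic_smul {P : Type*} [AddCommGroup P] [Module A[X] P]
    [Module.Projective A[X] P] {f : A[X]} (hf : f.Monic) {z : P} (h : f • z = 0) : z = 0 := by
  obtain ⟨s, hs⟩ := (Module.projective_def' (R := A[X]) (P := P)).mp inferInstance
  have h1 : s z = 0 := by
    refine Finsupp.ext fun i => ?_
    have : (s (f • z)) i = 0 := by rw [h, map_zero]; rfl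
    rw [map_smul, Finsupp.smul_apply, smul_eq_mul, hf.mul_right_eq_zero_iff] at this
    exact this
  have := LinearMap.congr_fun hs z
  rw [LinearMap.comp_apply, h1, map_zero] at this
  exact this.symm

/-- a lattice of rank `r` with respect to a monic polynomial -/
def HasLattice (A : Type*) [CommRing A] (P : Type*) [AddCommGroup P] [Module A[X] P] (r : ℕ) :
    Prop :=
  ∃ (p' : Fin r → P) (f : A[X]), LinearIndependent A[X] p' ∧ f.Monic ∧
    ∀ z : P, f • z ∈ Submodule.span A[X] (Set.range p')

theorem free_zero {P : Type*} [AddCommGroup P] [Module A[X] P]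
    [Module.Projective A[X] P] (h : HasLattice A P 0) : Module.Free A[X] P := by
  obtain ⟨p', f, -, hf, hfP⟩ := h
  haveI : Subsingleton P := by
    refine ⟨fun a b => ?_⟩
    have h0 : ∀ z : P, z = 0 := by
      intro z
      have := hfP z
      rw [Set.range_eq_empty, Submodule.span_empty, Submodule.mem_bot] at this
      exact eq_zero_of_monic_smul hf this
    rw [h0 a, h0 b]
  exact Module.Free.of_subsingleton _ _

variable [IsLocalRing A]

universe v

theorem free_one {P : Type*} [AddCommGroup P] [Module A[X] P] [Module.Finite A[X] P]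
    [Module.Projective A[X] P] (h : HasLattice A P 1) : Module.Free A[X] P := by
  obtain ⟨p', f, hli, hf, hfP⟩ := h
  set ψ : P →ₗ[A[X]] A[X] := (Finsupp.lapply 0) ∘ₗ coords hli hfP with hψdef
  have hψ : ∀ z, ψ z • p' 0 = f • z := by
    intro z
    have := coords_spec hli hfP z
    rw [Fin.sum_univ_succ, Fin.sum_univ_zero, add_zero] at this
    exact this
  have hψinj : Function.Injective ψ := by
    rw [← LinearMap.ker_eq_bot, LinearMap.ker_eq_bot']
    intro z hz
    have := hψ z
    rw [hz, zero_smul] at this
    exact eq_zero_of_monic_smul hf this.symm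
  have hψp : ψ (p' 0) = f := by
    rw [hψdef, LinearMap.comp_apply, coords_self, Finsupp.lapply_apply, Finsupp.single_eq_same]
  set I : Ideal A[X] := LinearMap.range ψ with hI
  have hfI : f ∈ I := ⟨p' 0, hψp⟩
  set φ := mapRingHom (residue A) with hφ
  have hφs : Function.Surjective φ := map_surjective _ residue_surjective
  have hne : I.map φ ≠ ⊥ := by
    intro h
    have : φ f ∈ I.map φ := Ideal.mem_map_of_mem _ hfI
    rw [h, Ideal.mem_bot] at this
    exact (hf.map (residue A)).ne_zero this
  obtain ⟨g, hg, hIg⟩ := Polynomial.exists_monic_span _ hne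
  obtain ⟨χ, hχI, hχ, hχg⟩ := exists_monic_lift hf hfI hg hIg
  obtain ⟨y', hy'⟩ := hχI
  have hχz : ∀ z, χ • z = ψ z • y' := by
    intro z
    apply hψinj
    rw [map_smul, map_smul, hy', smul_eq_mul, smul_eq_mul, mul_comm]
  have hsurj : ∀ z : P, z ∈ Submodule.span A[X] {y'} := by
    intro z
    have key := eq_zero_of_monic (Q := P ⧸ Submodule.span A[X] {y'}) hχ ?_ ?_
      (Submodule.Quotient.mk z)
    · exact (Submodule.Quotient.mk_eq_zero _).mp key
    · intro q
      obtain ⟨z, rfl⟩ := Submodule.Quotient.mk_surjective _ q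
      rw [← Submodule.Quotient.mk_smul, hχz, Submodule.Quotient.mk_eq_zero]
      exact Submodule.smul_mem _ _ (Submodule.mem_span_singleton_self y')
    · intro q _
      obtain ⟨z, rfl⟩ := Submodule.Quotient.mk_surjective _ q
      have h1 : φ (ψ z) ∈ Ideal.span {g} := by
        rw [← hIg]
        exact Ideal.mem_map_of_mem _ ⟨z, rfl⟩
      obtain ⟨c', hc'⟩ := Ideal.mem_span_singleton'.mp h1
      obtain ⟨c, rfl⟩ := hφs c'
      set w := z - c • y' with hw
      have hw1 : ψ w ∈ mX A := by
        rw [← ker_map_residue, RingHom.mem_ker, hw, map_sub, map_smul, hy', smul_eq_mul,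
          map_sub, map_mul]
        show φ (ψ z) - φ c * map (residue A) χ = 0
        rw [hχg, hc', sub_self]
      have hw2 : f • w ∈ mX A • (⊤ : Submodule A[X] P) := by
        rw [← hψ]
        exact Submodule.smul_mem_smul hw1 Submodule.mem_top
      have hw3 := mem_smul_top_of_smul_mem (mX A) (not_mem_mX_of_monic hf) hw2
      have hzq : (Submodule.Quotient.mk z : P ⧸ Submodule.span A[X] {y'}) =
          (Submodule.span A[X] {y'}).mkQ w := by
        rw [Submodule.mkQ_apply, hw, Submodule.Quotient.mk_sub,
          (Submodule.Quotient.mk_eq_zero _).mpr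
            (Submodule.smul_mem _ c (Submodule.mem_span_singleton_self y')), sub_zero]
      rw [hzq]
      have := Submodule.mem_map_of_mem (f := (Submodule.span A[X] {y'}).mkQ) hw3
      rw [Submodule.map_smul'', Submodule.map_top, Submodule.range_mkQ] at this
      exact this
  have hinj : Function.Injective (LinearMap.toSpanSingleton A[X] P y') := by
    rw [← LinearMap.ker_eq_bot, LinearMap.ker_eq_bot']
    intro c hc
    rw [LinearMap.toSpanSingleton_apply] at hc
    have := congrArg ψ hc
    rw [map_smul, hy', map_zero, smul_eq_mul, hχ.mul_left_eq_zero_iff] at this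
    exact this
  have hsur : Function.Surjective (LinearMap.toSpanSingleton A[X] P y') := by
    intro z
    obtain ⟨c, hc⟩ := Submodule.mem_span_singleton.mp (hsurj z)
    exact ⟨c, hc⟩
  exact Module.Free.of_equiv (LinearEquiv.ofBijective _ ⟨hinj, hsur⟩)

theorem free_step {r : ℕ}
    (ih : ∀ (P : Type v) [AddCommGroup P] [Module A[X] P] [Module.Finite A[X] P]
      [Module.Projective A[X] P], HasLattice A P (r + 1) → Module.Free A[X] P)
    {P : Type v} [AddCommGroup P] [Module A[X] P] [Module.Finite A[X] P]
    [Module.Projective A[X] P] (h : HasLattice A P (r + 2)) : Module.Free A[X] P := by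
  obtain ⟨p', f, hli, hf, hfP⟩ := h
  set ψ : Fin (r + 2) → P →ₗ[A[X]] A[X] := fun i => (Finsupp.lapply i) ∘ₗ coords hli hfP
    with hψdef
  have hψ : ∀ z, ∑ i, ψ i z • p' i = f • z := fun z => coords_spec hli hfP z
  have hψp : ∀ i j, ψ i (p' j) = if j = i then f else 0 := by
    intro i j
    rw [hψdef]
    simp only [LinearMap.comp_apply, coords_self, Finsupp.lapply_apply, Finsupp.single_apply]
  set φ := mapRingHom (residue A) with hφ
  have hφs : Function.Surjective φ := map_surjective _ residue_surjective
  -- the ideal generated by the values of `ψ 1`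
  set I : Ideal A[X] := LinearMap.range (ψ 1) with hI
  have hfI : f ∈ I := ⟨p' 1, by rw [hψp, if_pos rfl]⟩
  have hne : I.map φ ≠ ⊥ := by
    intro h
    have : φ f ∈ I.map φ := Ideal.mem_map_of_mem _ hfI
    rw [h, Ideal.mem_bot] at this
    exact (hf.map (residue A)).ne_zero this
  obtain ⟨g, hg, hIg⟩ := Polynomial.exists_monic_span _ hne
  obtain ⟨y, hy⟩ : ∃ y : P, φ (ψ 1 y) = g := by
    have : g ∈ I.map φ := by rw [hIg]; exact Ideal.mem_span_singleton_self g
    obtain ⟨x, ⟨y, rfl⟩, hx⟩ := (Ideal.mem_map_iff_of_surjective φ hφs).mp this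
    exact ⟨y, hx⟩
  -- lift `ψ 1 / g`
  obtain ⟨lam, hlam⟩ : ∃ lam : P →ₗ[A[X]] A[X], ∀ z, φ (lam z) * g = φ (ψ 1 z) := by
    set T : Submodule A[X] A[X] := (Ideal.span {g}).comap φ with hT
    set μ₀ : (A[X] × ↥(mX A)) →ₗ[A[X]] A[X] :=
      (LinearMap.toSpanSingleton A[X] A[X] (ψ 1 y)).coprod (Submodule.subtype (mX A)) with hμ₀
    have hμ₀T : ∀ x, μ₀ x ∈ T := by
      rintro ⟨c, e⟩
      rw [hT, Ideal.mem_comap, hμ₀, LinearMap.coprod_apply, LinearMap.toSpanSingleton_apply,
        Submodule.subtype_apply, map_add, smul_eq_mul, map_mul, hy]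
      have : φ (e : A[X]) = 0 := by
        rw [← RingHom.mem_ker, hφ, ker_map_residue]; exact e.2
      rw [this, add_zero]
      exact Ideal.mul_mem_left _ _ (Ideal.mem_span_singleton_self g)
    have hψT : ∀ z, ψ 1 z ∈ T := by
      intro z
      rw [hT, Ideal.mem_comap, ← hIg]
      exact Ideal.mem_map_of_mem _ ⟨z, rfl⟩
    have hsurj : Function.Surjective (LinearMap.codRestrict T μ₀ hμ₀T) := by
      rintro ⟨t, ht⟩
      rw [hT, Ideal.mem_comap] at ht
      obtain ⟨c', hc'⟩ := Ideal.mem_span_singleton'.mp ht
      obtain ⟨c, rfl⟩ := hφs c'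
      have he : t - c * ψ 1 y ∈ mX A := by
        rw [← ker_map_residue, RingHom.mem_ker, map_sub, map_mul]
        show φ t - φ c * φ (ψ 1 y) = 0
        rw [hy, hc', sub_self]
      refine ⟨(c, ⟨_, he⟩), Subtype.ext ?_⟩
      rw [LinearMap.codRestrict_apply, hμ₀, LinearMap.coprod_apply,
        LinearMap.toSpanSingleton_apply, Submodule.subtype_apply, smul_eq_mul]
      ring
    obtain ⟨h, hh⟩ := Module.projective_lifting_property (LinearMap.codRestrict T μ₀ hμ₀T)
      (LinearMap.codRestrict T (ψ 1) hψT) hsurj
    refine ⟨(LinearMap.fst _ _ _) ∘ₗ h, fun z => ?_⟩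
    have h1 := congrArg Subtype.val (LinearMap.congr_fun hh z)
    rw [LinearMap.comp_apply, LinearMap.codRestrict_apply, LinearMap.codRestrict_apply, hμ₀,
      LinearMap.coprod_apply, LinearMap.toSpanSingleton_apply, Submodule.subtype_apply,
      smul_eq_mul] at h1
    have h2 : φ ((h z).2 : A[X]) = 0 := by
      rw [← RingHom.mem_ker, hφ, ker_map_residue]; exact (h z).2.2
    rw [← h1, map_add, map_mul, h2, add_zero, hy]
    rfl
  have hlamy : φ (lam y) = 1 := by
    have := hlam y
    rw [hy] at this
    exact mul_right_cancel₀ hg.ne_zero (this.trans (one_mul g).symm)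
  have hlam0 : φ (lam (p' 0)) = 0 := by
    have := hlam (p' 0)
    rw [hψp, if_neg Fin.zero_ne_one, map_zero] at this
    exact (mul_eq_zero.mp this).resolve_right hg.ne_zero
  -- the unimodular element
  set L := (ψ 0 y).natDegree + 1 with hL
  set p : P := y + (X : A[X]) ^ L • p' 0 with hp
  set g₁ := ψ 0 p with hg₁def
  have hg₁ : g₁.Monic := by
    rw [hg₁def, hp, map_add, map_smul, hψp, if_pos rfl, smul_eq_mul]
    refine Monic.add_of_right ((monic_X_pow L).mul hf) (degree_lt_degree ?_)
    rw [(monic_X_pow L).natDegree_mul hf, natDegree_X_pow]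
    omega
  have hlamp : lam p - 1 ∈ mX A := by
    rw [← ker_map_residue, RingHom.mem_ker, map_sub, hp, map_add, map_smul, smul_eq_mul, map_one]
    show φ (lam y + X ^ L * lam (p' 0)) - 1 = 0
    rw [map_add, map_mul, hlamy, hlam0, mul_zero, add_zero, sub_self]
  have htop := span_pair_eq_top hg₁ hlamp
  have h1' : (1 : A[X]) ∈ Ideal.span {lam p, g₁} := by rw [htop]; trivial
  obtain ⟨a, b, hab⟩ := Ideal.mem_span_pair.mp h1'
  set lam' : P →ₗ[A[X]] A[X] := a • lam + b • ψ 0 with hlam'
  have hlam'p : lam' p = 1 := by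
    rw [hlam', LinearMap.add_apply, LinearMap.smul_apply, LinearMap.smul_apply, smul_eq_mul,
      smul_eq_mul]
    exact hab
  -- the complement
  set P'' : Submodule A[X] P := LinearMap.ker lam' with hP''
  set pr : P →ₗ[A[X]] P := LinearMap.id - (LinearMap.toSpanSingleton A[X] P p) ∘ₗ lam' with hpr
  have hpr_apply : ∀ z, pr z = z - lam' z • p := fun z => rfl
  have hprmem : ∀ z, pr z ∈ P'' := by
    intro z
    rw [hP'', LinearMap.mem_ker, hpr_apply, map_sub, map_smul, hlam'p, smul_eq_mul, mul_one,
      sub_self]
  set s : P →ₗ[A[X]] P'' := LinearMap.codRestrict P'' pr hprmem with hs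
  have hsi : s ∘ₗ P''.subtype = LinearMap.id := by
    refine LinearMap.ext fun z => Subtype.ext ?_
    rw [LinearMap.comp_apply, hs, LinearMap.codRestrict_apply, hpr_apply, Submodule.subtype_apply,
      LinearMap.mem_ker.mp z.2, zero_smul, sub_zero, LinearMap.id_apply]
  have hsp : pr p = 0 := by rw [hpr_apply, hlam'p, one_smul, sub_self]
  haveI : Module.Projective A[X] P'' := Module.Projective.of_split P''.subtype s hsi
  haveI : Module.Finite A[X] P'' := by
    refine Module.Finite.of_surjective s fun z => ⟨z, ?_⟩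
    exact LinearMap.congr_fun hsi z
  have hlat : HasLattice A P'' (r + 1) := by
    refine ⟨fun j => s (p' j.succ), g₁ * f, ?_, hg₁.mul hf, ?_⟩
    · rw [Fintype.linearIndependent_iff]
      intro c hc
      have hc' : ∑ j, c j • pr (p' j.succ) = 0 := by
        have := congrArg Subtype.val hc
        rw [Submodule.coe_sum] at this
        exact this
      simp only [hpr_apply, smul_sub, Finset.sum_sub_distrib, smul_smul] at hc'
      rw [← Finset.sum_smul, sub_eq_zero] at hc'
      have h0 := congrArg (ψ 0) hc'
      rw [map_sum, map_smul, smul_eq_mul] at h0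
      have h00 : ∑ j : Fin (r + 1), ψ 0 (c j • p' j.succ) = 0 := by
        refine Finset.sum_eq_zero fun j _ => ?_
        rw [map_smul, hψp, if_neg (Fin.succ_ne_zero j), smul_zero]
      rw [h00] at h0
      have hcc : ∑ j, c j * lam' (p' j.succ) = 0 :=
        hg₁.mul_left_eq_zero_iff.mp h0.symm
      rw [hcc, zero_smul] at hc'
      have hli' : LinearIndependent A[X] (p' ∘ Fin.succ) :=
        hli.comp _ (Fin.succ_injective _)
      exact Fintype.linearIndependent_iff.mp hli' c hc'
    · intro z
      have hz : lam' (z : P) = 0 := LinearMap.mem_ker.mp z.2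
      have key : (g₁ * f) • (z : P) = (ψ 0 z * f) • p +
          ∑ j : Fin (r + 1), (g₁ * ψ j.succ z - ψ 0 z * ψ j.succ p) • p' j.succ := by
        have e1 := hψ (z : P)
        have e2 := hψ p
        rw [Fin.sum_univ_succ] at e1 e2
        rw [mul_smul, mul_smul, ← e1, ← e2]
        simp only [smul_add, Finset.smul_sum, sub_smul, mul_smul, Finset.sum_sub_distrib]
        rw [smul_comm g₁ (ψ 0 (z : P)) (p' 0)]
        abel
      have key2 := congrArg pr key
      rw [map_smul, hpr_apply (z : P), hz, zero_smul, sub_zero, map_add, map_smul, hsp,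
        smul_zero, zero_add, map_sum] at key2
      have : (g₁ * f) • z = ∑ j : Fin (r + 1),
          (g₁ * ψ j.succ z - ψ 0 z * ψ j.succ p) • s (p' j.succ) := by
        refine Subtype.ext ?_
        rw [Submodule.coe_smul, key2, Submodule.coe_sum]
        refine Finset.sum_congr rfl fun j _ => ?_
        rw [map_smul]
        rfl
      rw [this]
      refine Submodule.sum_mem _ fun j _ => ?_
      exact Submodule.smul_mem _ _ (Submodule.subset_span ⟨j, rfl⟩)
  haveI : Module.Free A[X] P'' := ih P'' hlat
  have e : P ≃ₗ[A[X]] A[X] × P'' :=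
    LinearEquiv.ofLinear (LinearMap.prod lam' s)
      ((LinearMap.toSpanSingleton A[X] P p).coprod P''.subtype)
      (by
        refine LinearMap.ext fun x => ?_
        obtain ⟨c, w⟩ := x
        have hw : lam' (w : P) = 0 := LinearMap.mem_ker.mp w.2
        rw [LinearMap.comp_apply, LinearMap.coprod_apply, LinearMap.toSpanSingleton_apply,
          Submodule.subtype_apply, LinearMap.id_apply]
        refine Prod.ext ?_ (Subtype.ext ?_)
        · show lam' (c • p + w) = c
          rw [map_add, map_smul, hlam'p, hw, smul_eq_mul, mul_one, add_zero]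
        · show pr (c • p + w) = w
          rw [map_add, map_smul, hsp, smul_zero, zero_add, hpr_apply, hw, zero_smul, sub_zero])
      (by
        refine LinearMap.ext fun z => ?_
        rw [LinearMap.comp_apply, LinearMap.id_apply]
        show lam' z • p + pr z = z
        rw [hpr_apply]
        abel)
  exact Module.Free.of_equiv e.symm

/-- **Horrocks' theorem, lattice form**: over a local ring `A`, a finitely generated projective
`A[X]`-module containing a free lattice with respect to a monic polynomial is free. -/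
theorem free_of_hasLattice : ∀ (r : ℕ) (P : Type v) [AddCommGroup P] [Module A[X] P]
    [Module.Finite A[X] P] [Module.Projective A[X] P], HasLattice A P r → Module.Free A[X] P := by
  intro r
  cases r with
  | zero => intro P _ _ _ _ h; exact free_zero h
  | succ r =>
    induction r with
    | zero => intro P _ _ _ _ h; exact free_one h
    | succ r ih => intro P _ _ _ _ h; exact free_step ih h

end Groth.Agent.Lib.helper10.HorB
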