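import Mathlib
import Groth.Agent.Lib.helper10.HorB

set_option autoImplicit false
set_option maxHeartbeats 800000

/-!
# Horrocks: idempotent matrices
-/

namespace Groth.Agent.Lib.helper10.HorC

open Matrix Polynomial

section Idem

variable {B : Type*} [CommRing B] {n : ℕ}

theorem toLin'_idem (E : Matrix (Fin n) (Fin n) B) (hE : E * E = E) (v : Fin n → B) :
    Matrix.toLin' E (Matrix.toLin' E v) = Matrix.toLin' E v := by
  rw [← Matrix.toLin'_mul_apply, hE]

theorem rangeRestrict_coe (E : Matrix (Fin n) (Fin n) B) (hE : E * E = E)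
    (m : LinearMap.range (Matrix.toLin' E)) :
    (Matrix.toLin' E).rangeRestrict (m : Fin n → B) = m := by
  obtain ⟨_, w, rfl⟩ := m
  exact Subtype.ext (toLin'_idem E hE w)

theorem projective_range (E : Matrix (Fin n) (Fin n) B) (hE : E * E = E) :
    Module.Projective B (LinearMap.range (Matrix.toLin' E)) :=
  Module.Projective.of_split (LinearMap.range (Matrix.toLin' E)).subtype
    (Matrix.toLin' E).rangeRestrict
    (LinearMap.ext fun m => rangeRestrict_coe E hE m)

theorem exists_factor_of_free [Nontrivial B] (E : Matrix (Fin n) (Fin n) B) (hE : E * E = E)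
    (hfree : Module.Free B (LinearMap.range (Matrix.toLin' E))) :
    ∃ (r : ℕ) (X : Matrix (Fin r) (Fin n) B) (Y : Matrix (Fin n) (Fin r) B),
      X * Y = 1 ∧ Y * X = E := by
  classical
  set M := LinearMap.range (Matrix.toLin' E) with hM
  let b := Module.finBasis B M
  let T' : (Fin n → B) →ₗ[B] (Fin (Module.finrank B M) → B) :=
    b.equivFun.toLinearMap ∘ₗ (Matrix.toLin' E).rangeRestrict
  let S' : (Fin (Module.finrank B M) → B) →ₗ[B] (Fin n → B) :=
    M.subtype ∘ₗ b.equivFun.symm.toLinearMap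
  refine ⟨Module.finrank B M, LinearMap.toMatrix' T', LinearMap.toMatrix' S', ?_, ?_⟩
  · rw [← LinearMap.toMatrix'_comp, ← LinearMap.toMatrix'_id]
    congr 1
    refine LinearMap.ext fun v => ?_
    show b.equivFun ((Matrix.toLin' E).rangeRestrict ((b.equivFun.symm v : M) : Fin n → B)) = v
    rw [rangeRestrict_coe E hE, LinearEquiv.apply_symm_apply]
  · rw [← LinearMap.toMatrix'_comp]
    have : S' ∘ₗ T' = Matrix.toLin' E := by
      refine LinearMap.ext fun v => ?_
      show ((b.equivFun.symm (b.equivFun ((Matrix.toLin' E).rangeRestrict v)) : M) : Fin n → B) = _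
      rw [LinearEquiv.symm_apply_apply]
      rfl
    rw [this, LinearMap.toMatrix'_toLin']

end Idem

section B2

variable {A : Type*} [CommRing A] {m r : ℕ}

/-- an idempotent matrix over `A[X]` whose value at `0` has free image of rank `r` has "free image
of rank `r`" after inverting a polynomial with constant term `1` -/
theorem exists_lift_factor (F : Matrix (Fin m) (Fin m) A[X]) (hF : F * F = F)
    (W₀ : Matrix (Fin r) (Fin m) A) (W₀' : Matrix (Fin m) (Fin r) A)
    (h1 : W₀ * W₀' = 1) (h2 : W₀' * W₀ = F.map (evalRingHom 0)) :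
    ∃ (H : A[X]) (W : Matrix (Fin r) (Fin m) A[X]) (W' : Matrix (Fin m) (Fin r) A[X]),
      H.eval 0 = 1 ∧ W * W' = H • (1 : Matrix (Fin r) (Fin r) A[X]) ∧ W' * W = H • F := by
  set ev : A[X] →+* A := evalRingHom 0 with hev
  set a := W₀.map (C : A →+* A[X]) with ha
  set a' := W₀'.map (C : A →+* A[X]) with ha'
  have eva : a.map ev = W₀ := by
    rw [ha, Matrix.map_map]
    refine Matrix.ext fun i j => ?_
    simp [hev]
  have eva' : a'.map ev = W₀' := by
    rw [ha', Matrix.map_map]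
    refine Matrix.ext fun i j => ?_
    simp [hev]
  set u := a * F with hu
  set u' := F * a' with hu'
  have huF : u * F = u := by rw [hu, Matrix.mul_assoc, hF]
  have hFu' : F * u' = u' := by rw [hu', ← Matrix.mul_assoc, hF]
  set D := u * u' with hD
  set h := D.det with hh
  have hadj : D.adjugate * D = h • (1 : Matrix (Fin r) (Fin r) A[X]) := Matrix.adjugate_mul D
  have hF0 : F.map ev = W₀' * W₀ := h2.symm
  have hF00 : (W₀' * W₀) * (W₀' * W₀) = W₀' * W₀ := by
    calc (W₀' * W₀) * (W₀' * W₀) = W₀' * ((W₀ * W₀') * W₀) := by simp only [Matrix.mul_assoc]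
      _ = W₀' * W₀ := by rw [h1, Matrix.one_mul]
  have evu : u.map ev = W₀ * (W₀' * W₀) := by rw [hu, Matrix.map_mul, eva, hF0]
  have evu' : u'.map ev = (W₀' * W₀) * W₀' := by rw [hu', Matrix.map_mul, eva', hF0]
  have evD : D.map ev = 1 := by
    rw [hD, Matrix.map_mul, evu, evu']
    calc W₀ * (W₀' * W₀) * (W₀' * W₀ * W₀') = (W₀ * W₀') * ((W₀ * W₀') * (W₀ * W₀')) := by
          simp only [Matrix.mul_assoc]
      _ = 1 := by rw [h1, Matrix.one_mul, Matrix.one_mul]
  have evh : ev h = 1 := by rw [hh, RingHom.map_det, RingHom.mapMatrix_apply, evD, det_one]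
  have evadj : D.adjugate.map ev = 1 := by
    have := RingHom.map_adjugate ev D
    rw [RingHom.mapMatrix_apply, RingHom.mapMatrix_apply, evD, adjugate_one] at this
    exact this
  set W := D.adjugate * u with hW
  have hWW' : W * u' = h • (1 : Matrix (Fin r) (Fin r) A[X]) := by
    rw [hW, Matrix.mul_assoc]; exact hadj
  set F'' := u' * W with hF''
  have hFF'' : F * F'' = F'' := by rw [hF'', ← Matrix.mul_assoc, hFu']
  have hF''F : F'' * F = F'' := by
    rw [hF'', hW]; simp only [Matrix.mul_assoc, huF]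
  have hF''2 : F'' * F'' = h • F'' := by
    calc F'' * F'' = u' * ((D.adjugate * D) * (D.adjugate * u)) := by
          rw [hF'', hW, hD]; simp only [Matrix.mul_assoc]
      _ = h • F'' := by rw [hadj, Matrix.smul_mul, Matrix.one_mul, Matrix.mul_smul]
  set Z := h • F - F'' with hZ
  have hZ2 : Z * Z = h • Z := by
    rw [hZ]
    simp only [Matrix.sub_mul, Matrix.mul_sub, Matrix.smul_mul, Matrix.mul_smul, hF, hFF'',
      hF''F, hF''2, smul_sub, smul_smul]
    abel
  set K := h • (1 : Matrix (Fin m) (Fin m) A[X]) - Z with hK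
  have hKZ : K * Z = 0 := by
    rw [hK, Matrix.sub_mul, Matrix.smul_mul, Matrix.one_mul, hZ2, sub_self]
  set d := K.det with hd
  have hdZ : d • Z = 0 := by
    have := Matrix.adjugate_mul K
    calc d • Z = (d • (1 : Matrix (Fin m) (Fin m) A[X])) * Z := by
          rw [Matrix.smul_mul, Matrix.one_mul]
      _ = K.adjugate * (K * Z) := by rw [← this, Matrix.mul_assoc]
      _ = 0 := by rw [hKZ, Matrix.mul_zero]
  have evF'' : F''.map ev = W₀' * W₀ := by
    rw [hF'', Matrix.map_mul, evu', hW, Matrix.map_mul, evadj, evu, Matrix.one_mul]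
    calc W₀' * W₀ * W₀' * (W₀ * (W₀' * W₀))
        = (W₀' * W₀) * ((W₀' * W₀) * (W₀' * W₀)) := by simp only [Matrix.mul_assoc]
      _ = W₀' * W₀ := by rw [hF00, hF00]
  have evK : K.map ev = 1 := by
    refine Matrix.ext fun i j => ?_
    have e1 := congrFun (congrFun evF'' i) j
    have e2 := congrFun (congrFun hF0 i) j
    simp only [Matrix.map_apply] at e1 e2
    simp only [hK, hZ, Matrix.map_apply, Matrix.sub_apply, Matrix.smul_apply, smul_eq_mul,
      map_sub, map_mul, evh, one_mul, e1, e2, sub_self, sub_zero]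
    by_cases hij : i = j
    · rw [hij, Matrix.one_apply_eq, Matrix.one_apply_eq, map_one]
    · rw [Matrix.one_apply_ne hij, Matrix.one_apply_ne hij, map_zero]
  have evd : ev d = 1 := by rw [hd, RingHom.map_det, RingHom.mapMatrix_apply, evK, det_one]
  have hdF'' : d • F'' = (d * h) • F := by
    have : d • F'' = d • (h • F) - d • Z := by rw [hZ]; simp only [smul_sub]; abel
    rw [this, hdZ, sub_zero, smul_smul]
  refine ⟨d * d * h, d • W, d • u', ?_, ?_, ?_⟩
  · have : ev (d * d * h) = 1 := by rw [map_mul, map_mul, evd, evh, one_mul, one_mul]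
    exact this
  · rw [Matrix.smul_mul, Matrix.mul_smul, hWW', smul_smul, smul_smul]
  · rw [Matrix.smul_mul, Matrix.mul_smul, ← hF'', hdF'', smul_smul]
    congr 1
    ring

end B2

section Laurent

open LaurentPolynomial

variable {A : Type*} [CommRing A]

theorem map_smul_ringHom {α β ι κ : Type*} [Semiring α] [Semiring β] (f : α →+* β) (c : α)
    (M : Matrix ι κ α) : (c • M).map f = f c • M.map f :=
  Matrix.ext fun _ _ => map_mul f _ _

theorem map_one_ringHom {α β ι : Type*} [Semiring α] [Semiring β] [DecidableEq ι] (f : α →+* β) :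
    (1 : Matrix ι ι α).map f = 1 :=
  Matrix.map_one f (map_zero f) (map_one f)

theorem toLaurent_reflect (N : ℕ) (f : A[X]) (hf : f.natDegree ≤ N) :
    toLaurent (reflect N f) = invert (toLaurent f) * T (N : ℤ) := by
  refine induction_with_natDegree_le
    (fun f => toLaurent (reflect N f) = invert (toLaurent f) * T (N : ℤ)) N ?_ ?_ ?_ f hf
  · simp
  · intro m r _ hm
    rw [reflect_C_mul_X_pow, revAt_le hm, Polynomial.toLaurent_C_mul_X_pow,
      Polynomial.toLaurent_C_mul_X_pow, map_mul, invert_C, invert_T, mul_assoc, ← T_add,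
      Nat.cast_sub hm]
    congr 2
    ring
  · intro f g _ _ hf hg
    rw [reflect_add, map_add, map_add, map_add, add_mul, hf, hg]

theorem monic_reflect {H : A[X]} (h0 : H.eval 0 = 1) : (reflect H.natDegree H).Monic := by
  refine monic_of_natDegree_le_of_coeff_eq_one H.natDegree ?_ ?_
  · rw [natDegree_le_iff_coeff_eq_zero]
    intro N hN
    rw [coeff_reflect, revAt, Function.Embedding.coeFn_mk, if_neg (not_le.mpr hN)]
    exact coeff_eq_zero_of_natDegree_lt hN
  · rw [coeff_reflect, revAt_le le_rfl, Nat.sub_self, coeff_zero_eq_eval_zero, h0]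

theorem exists_T_pow_matrix {ι κ : Type*} [Fintype ι] [Fintype κ] (M : Matrix ι κ A[T;T⁻¹]) :
    ∃ (a : ℕ) (M₀ : Matrix ι κ A[X]),
      M₀.map (toLaurent : A[X] →+* A[T;T⁻¹]) = (T (a : ℤ) : A[T;T⁻¹]) • M := by
  classical
  choose n f hf using fun i j => exists_T_pow (M i j)
  set a := Finset.univ.sup (fun p : ι × κ => n p.1 p.2) with ha
  have hle : ∀ i j, n i j ≤ a := fun i j =>
    Finset.le_sup (f := fun p : ι × κ => n p.1 p.2) (Finset.mem_univ (i, j))
  refine ⟨a, Matrix.of fun i j => f i j * X ^ (a - n i j), Matrix.ext fun i j => ?_⟩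
  rw [Matrix.map_apply, Matrix.of_apply, map_mul, hf, Polynomial.toLaurent_X_pow,
    Matrix.smul_apply, smul_eq_mul, mul_assoc, ← T_add, Nat.cast_sub (hle i j)]
  rw [mul_comm]
  congr 2
  ring

/-- the involution `T ↦ T⁻¹` as a ring homomorphism -/
noncomputable abbrev sig (A : Type*) [CommRing A] : A[T;T⁻¹] →+* A[T;T⁻¹] :=
  (LaurentPolynomial.invert (R := A)).toRingEquiv.toRingHom

/-- the inclusion `A[X] → A[T;T⁻¹]` -/
noncomputable abbrev iot (A : Type*) [CommRing A] : A[X] →+* A[T;T⁻¹] := toLaurent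

theorem exists_poly_relations {n r : ℕ} (E : Matrix (Fin n) (Fin n) A[X]) (H : A[X])
    (h0 : H.eval 0 = 1) (X' : Matrix (Fin r) (Fin n) A[T;T⁻¹]) (Y' : Matrix (Fin n) (Fin r) A[T;T⁻¹])
    (R1 : Y' * X' = sig A (iot A H) • E.map (iot A))
    (R2 : sig A (iot A H) • (X' * Y') =
      (sig A (iot A H) * sig A (iot A H)) • (1 : Matrix (Fin r) (Fin r) A[T;T⁻¹])) :
    ∃ (δ ab : ℕ) (G : A[X]) (X₀ : Matrix (Fin r) (Fin n) A[X]) (Y₀ : Matrix (Fin n) (Fin r) A[X]),
      G.Monic ∧ (X ^ δ : A[X]) • (Y₀ * X₀) = (X ^ ab * G) • E ∧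
      (G * X ^ δ) • (X₀ * Y₀) = (G * G * X ^ ab) • (1 : Matrix (Fin r) (Fin r) A[X]) := by
  set δ := H.natDegree with hδ
  set G := reflect δ H with hG
  set η := sig A (iot A H) with hη
  have hιG : iot A G = η * T (δ : ℤ) := toLaurent_reflect δ H le_rfl
  obtain ⟨a, X₀, hX₀⟩ := exists_T_pow_matrix X'
  obtain ⟨b, Y₀, hY₀⟩ := exists_T_pow_matrix Y'
  have hTab : (T ((a + b : ℕ) : ℤ) : A[T;T⁻¹]) = T (a : ℤ) * T (b : ℤ) := by
    rw [Nat.cast_add, T_add]
  have hXpow : ∀ k : ℕ, iot A (X ^ k) = T (k : ℤ) := fun k => Polynomial.toLaurent_X_pow k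
  refine ⟨δ, a + b, G, X₀, Y₀, monic_reflect h0, ?_, ?_⟩
  · apply Matrix.map_injective (Polynomial.toLaurent_injective (R := A))
    show ((X ^ δ : A[X]) • (Y₀ * X₀)).map (iot A) = ((X ^ (a + b) * G) • E).map (iot A)
    rw [map_smul_ringHom, map_smul_ringHom, Matrix.map_mul]
    show _ • (Y₀.map (iot A) * X₀.map (iot A)) = _
    rw [hX₀, hY₀, Matrix.smul_mul, Matrix.mul_smul, smul_smul, smul_smul, R1, smul_smul, map_mul,
      hXpow, hXpow, hιG, hTab]
    congr 1
    ring
  · apply Matrix.map_injective (Polynomial.toLaurent_injective (R := A))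
    show ((G * X ^ δ) • (X₀ * Y₀)).map (iot A) =
      ((G * G * X ^ (a + b)) • (1 : Matrix (Fin r) (Fin r) A[X])).map (iot A)
    rw [map_smul_ringHom, map_smul_ringHom, Matrix.map_mul, map_one_ringHom]
    show _ • (X₀.map (iot A) * Y₀.map (iot A)) = _
    rw [hX₀, hY₀, Matrix.smul_mul, Matrix.mul_smul, smul_smul, smul_smul, map_mul, map_mul, map_mul,
      hXpow, hXpow, hιG, hTab]
    have e : η * T (δ : ℤ) * T (δ : ℤ) * T (a : ℤ) * T (b : ℤ) =
        (T (δ : ℤ) * T (δ : ℤ) * (T (a : ℤ) * T (b : ℤ))) * η := by ring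
    rw [e, mul_smul, R2, smul_smul]
    congr 1
    ring

theorem mulVec_eq_sum_col {B : Type*} [CommRing B] {n r : ℕ} (M : Matrix (Fin n) (Fin r) B)
    (c : Fin r → B) : M *ᵥ c = ∑ j, c j • (fun i => M i j) := by
  ext i
  simp [Matrix.mulVec, dotProduct, mul_comm]

theorem hasLattice_of_relations {n r : ℕ} (E : Matrix (Fin n) (Fin n) A[X]) (hE : E * E = E)
    (δ ab : ℕ) (G : A[X]) (hG : G.Monic) (X₀ : Matrix (Fin r) (Fin n) A[X])
    (Y₀ : Matrix (Fin n) (Fin r) A[X])
    (R1 : (X ^ δ : A[X]) • (Y₀ * X₀) = (X ^ ab * G) • E)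
    (R2 : (G * X ^ δ) • (X₀ * Y₀) = (G * G * X ^ ab) • (1 : Matrix (Fin r) (Fin r) A[X])) :
    HorB.HasLattice A (LinearMap.range (Matrix.toLin' E)) r := by
  set f := X ^ ab * G with hf'
  have hf : f.Monic := (monic_X_pow ab).mul hG
  set q := G * X ^ δ with hq
  set g2 := G * G * X ^ ab with hg2
  have hg2m : g2.Monic := (hG.mul hG).mul (monic_X_pow ab)
  set M := X₀ * Y₀ with hM
  have k1 : f • (X₀ * E * Y₀) = (X ^ δ : A[X]) • (M * M) := by
    calc f • (X₀ * E * Y₀) = X₀ * (f • E) * Y₀ := by rw [Matrix.mul_smul, Matrix.smul_mul]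
      _ = X₀ * ((X ^ δ : A[X]) • (Y₀ * X₀)) * Y₀ := by rw [R1]
      _ = _ := by rw [Matrix.mul_smul, Matrix.smul_mul, hM]; simp only [Matrix.mul_assoc]
  have k2 : (q • M) * (q • M) = (q * q) • (M * M) := by
    rw [Matrix.smul_mul, Matrix.mul_smul, smul_smul]
  have key : (q * q * f) • (X₀ * E * Y₀) =
      (X ^ δ * (g2 * g2)) • (1 : Matrix (Fin r) (Fin r) A[X]) := by
    rw [mul_smul, k1, smul_comm (q * q) (X ^ δ : A[X]), ← k2, R2, Matrix.smul_mul, Matrix.mul_smul,
      Matrix.one_mul, smul_smul, smul_smul, mul_assoc]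
  refine ⟨fun j => ⟨Matrix.toLin' E (fun i => Y₀ i j), ⟨_, rfl⟩⟩, f, ?_, hf, ?_⟩
  · rw [Fintype.linearIndependent_iff]
    intro c hc
    have hc' : (E * Y₀) *ᵥ c = 0 := by
      have := congrArg Subtype.val hc
      rw [Submodule.coe_sum] at this
      rw [← Matrix.mulVec_mulVec, mulVec_eq_sum_col Y₀ c, ← Matrix.toLin'_apply, map_sum]
      refine Eq.trans (Finset.sum_congr rfl fun j _ => ?_) this
      rw [map_smul]
      rfl
    have h1 : (X₀ * E * Y₀) *ᵥ c = 0 := by
      rw [Matrix.mul_assoc, ← Matrix.mulVec_mulVec, hc', Matrix.mulVec_zero]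
    have h2 := congrArg (fun N => N *ᵥ c) key
    simp only [Matrix.smul_mulVec, h1, smul_zero, Matrix.one_mulVec] at h2
    intro j
    have hj := congrFun h2 j
    rw [Pi.smul_apply, smul_eq_mul, Pi.zero_apply] at hj
    exact (((monic_X_pow δ).mul (hg2m.mul hg2m)).mul_right_eq_zero_iff).mp hj.symm
  · rintro ⟨v, w, rfl⟩
    set v := Matrix.toLin' E w with hv
    have hEv : E *ᵥ v = v := by
      rw [← Matrix.toLin'_apply, hv, toLin'_idem E hE]
    set c : Fin r → A[X] := (X ^ δ : A[X]) • (X₀ *ᵥ v) with hc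
    have e1 : f • v = Y₀ *ᵥ c := by
      calc f • v = (f • E) *ᵥ v := by rw [Matrix.smul_mulVec, hEv]
        _ = ((X ^ δ : A[X]) • (Y₀ * X₀)) *ᵥ v := by rw [R1]
        _ = Y₀ *ᵥ c := by rw [Matrix.smul_mulVec, ← Matrix.mulVec_mulVec, hc, Matrix.mulVec_smul]
    have e2 : f • v = ∑ j, c j • Matrix.toLin' E (fun i => Y₀ i j) := by
      calc f • v = E *ᵥ (f • v) := by rw [Matrix.mulVec_smul, hEv]
        _ = E *ᵥ (Y₀ *ᵥ c) := by rw [e1]
        _ = _ := by
          rw [mulVec_eq_sum_col Y₀ c, ← Matrix.toLin'_apply, map_sum]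
          refine Finset.sum_congr rfl fun j _ => ?_
          rw [map_smul]
    have e3 : f • (⟨v, w, rfl⟩ : LinearMap.range (Matrix.toLin' E)) =
        ∑ j, c j • (⟨Matrix.toLin' E (fun i => Y₀ i j), ⟨_, rfl⟩⟩ :
          LinearMap.range (Matrix.toLin' E)) := by
      refine Subtype.ext ?_
      rw [Submodule.coe_smul, Submodule.coe_sum]
      exact e2
    rw [e3]
    refine Submodule.sum_mem _ fun j _ => ?_
    exact Submodule.smul_mem _ _ (Submodule.subset_span ⟨j, rfl⟩)

/-- **Horrocks' theorem, matrix form**: over a local ring, an idempotent matrix over `A[X]` that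
becomes equivalent, over `A[T;T⁻¹]`, to the twist by `T ↦ T⁻¹` of an idempotent matrix over `A[X]`
has free image. -/
theorem local_main [IsLocalRing A] {n m : ℕ} (E : Matrix (Fin n) (Fin n) A[X]) (hE : E * E = E)
    (F : Matrix (Fin m) (Fin m) A[X]) (hF : F * F = F)
    (U : Matrix (Fin m) (Fin n) A[T;T⁻¹]) (V : Matrix (Fin n) (Fin m) A[T;T⁻¹])
    (hVU : V * U = E.map (iot A)) (hUV : U * V = (F.map (iot A)).map (sig A)) :
    ∃ (r : ℕ) (X : Matrix (Fin r) (Fin n) A[X]) (Y : Matrix (Fin n) (Fin r) A[X]),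
      X * Y = 1 ∧ Y * X = E := by
  set F0 := F.map (evalRingHom (0 : A)) with hF0def
  have hF0 : F0 * F0 = F0 := by rw [hF0def, ← Matrix.map_mul, hF]
  haveI := projective_range F0 hF0
  have hfree0 : Module.Free A (LinearMap.range (Matrix.toLin' F0)) :=
    Module.free_of_flat_of_isLocalRing
  obtain ⟨r, W₀, W₀', h1, h2⟩ := exists_factor_of_free F0 hF0 hfree0
  obtain ⟨H, W, W', hH0, hWW', hW'W⟩ := exists_lift_factor F hF W₀ W₀' h1 h2
  set η := sig A (iot A H) with hη
  set sF := (F.map (iot A)).map (sig A) with hsF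
  set sW := (W.map (iot A)).map (sig A) with hsW
  set sW' := (W'.map (iot A)).map (sig A) with hsW'
  set X' := sW * U with hX'
  set Y' := V * sW' with hY'
  have hsWW' : sW * sW' = η • (1 : Matrix (Fin r) (Fin r) A[T;T⁻¹]) := by
    rw [hsW, hsW', ← Matrix.map_mul, ← Matrix.map_mul, hWW', map_smul_ringHom, map_smul_ringHom,
      map_one_ringHom, map_one_ringHom]
  have hsW'W : sW' * sW = η • sF := by
    rw [hsW, hsW', ← Matrix.map_mul, ← Matrix.map_mul, hW'W, map_smul_ringHom, map_smul_ringHom]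
  have R1 : Y' * X' = η • E.map (iot A) := by
    calc Y' * X' = V * ((sW' * sW) * U) := by rw [hX', hY']; simp only [Matrix.mul_assoc]
      _ = η • (V * ((U * V) * U)) := by
          rw [hsW'W, hUV, Matrix.smul_mul, Matrix.mul_smul]
      _ = η • ((V * U) * (V * U)) := by simp only [Matrix.mul_assoc]
      _ = _ := by rw [hVU, ← Matrix.map_mul, hE]
  have R2 : η • (X' * Y') = (η * η) • (1 : Matrix (Fin r) (Fin r) A[T;T⁻¹]) := by
    have e1 : X' * Y' = sW * (sF * sW') := by
      rw [hX', hY', Matrix.mul_assoc, ← Matrix.mul_assoc U V sW', hUV]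
    calc η • (X' * Y') = sW * ((η • sF) * sW') := by
          rw [e1, Matrix.smul_mul, Matrix.mul_smul]
      _ = sW * ((sW' * sW) * sW') := by rw [hsW'W]
      _ = (sW * sW') * (sW * sW') := by simp only [Matrix.mul_assoc]
      _ = _ := by rw [hsWW', Matrix.smul_mul, Matrix.one_mul, smul_smul]
  obtain ⟨δ, ab, G, X₀, Y₀, hG, R1', R2'⟩ := exists_poly_relations E H hH0 X' Y' R1 R2
  have hlat := hasLattice_of_relations E hE δ ab G hG X₀ Y₀ R1' R2'
  haveI := projective_range E hE
  have hfree := HorB.free_of_hasLattice r _ hlat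
  exact exists_factor_of_free E hE hfree

end Laurent

end Groth.Agent.Lib.helper10.HorC
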