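import Mathlib

set_option autoImplicit false
set_option maxHeartbeats 800000

/-!
# Quillen patching for idempotent matrices over `A[X]`
-/

namespace Groth.Agent.Lib.helper10.HorD

open Matrix Polynomial

section MvN

variable {B B' : Type*} [CommRing B] [CommRing B'] {n : ℕ}

/-- Murray–von Neumann equivalence of matrices -/
def Eqv (E E' : Matrix (Fin n) (Fin n) B) : Prop :=
  ∃ G H : Matrix (Fin n) (Fin n) B, G * H = E ∧ H * G = E'

theorem Eqv.refl {E : Matrix (Fin n) (Fin n) B} (hE : E * E = E) : Eqv E E := ⟨E, E, hE, hE⟩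

theorem Eqv.symm {E E' : Matrix (Fin n) (Fin n) B} (h : Eqv E E') : Eqv E' E := by
  obtain ⟨G, H, h1, h2⟩ := h
  exact ⟨H, G, h2, h1⟩

theorem Eqv.trans {E E' E'' : Matrix (Fin n) (Fin n) B} (hE : E * E = E) (hE'' : E'' * E'' = E'')
    (h : Eqv E E') (h' : Eqv E' E'') : Eqv E E'' := by
  obtain ⟨G₁, H₁, h1, h2⟩ := h
  obtain ⟨G₂, H₂, h3, h4⟩ := h'
  refine ⟨G₁ * G₂, H₂ * H₁, ?_, ?_⟩
  · calc G₁ * G₂ * (H₂ * H₁) = G₁ * ((G₂ * H₂) * H₁) := by simp only [Matrix.mul_assoc]
      _ = (G₁ * H₁) * (G₁ * H₁) := by rw [h3, ← h2]; simp only [Matrix.mul_assoc]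
      _ = E := by rw [h1, hE]
  · calc H₂ * H₁ * (G₁ * G₂) = H₂ * ((H₁ * G₁) * G₂) := by simp only [Matrix.mul_assoc]
      _ = (H₂ * G₂) * (H₂ * G₂) := by rw [h2, ← h3]; simp only [Matrix.mul_assoc]
      _ = E'' := by rw [h4, hE'']

theorem Eqv.map {E E' : Matrix (Fin n) (Fin n) B} (h : Eqv E E') (f : B →+* B') :
    Eqv (E.map f) (E'.map f) := by
  obtain ⟨G, H, h1, h2⟩ := h
  exact ⟨G.map f, H.map f, by rw [← Matrix.map_mul, h1], by rw [← Matrix.map_mul, h2]⟩

theorem map_idem {E : Matrix (Fin n) (Fin n) B} (hE : E * E = E) (f : B →+* B') :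
    E.map f * E.map f = E.map f := by rw [← Matrix.map_mul, hE]

end MvN

variable {A : Type*} [CommRing A] {n : ℕ}

/-- `t ↦ t + a u` -/
noncomputable def tau (a : A) : A[X] →+* A[X][X] :=
  eval₂RingHom (C.comp C) (C X + C (C a) * X)

/-- `u ↦ c u` -/
noncomputable def theta (c : A) : A[X][X] →+* A[X][X] :=
  eval₂RingHom C (C (C c) * X)

/-- `t ↦ t + b u`, `u ↦ u` -/
noncomputable def kappa (b : A) : A[X][X] →+* A[X][X] :=
  eval₂RingHom (tau b) X

/-- `t ↦ 0`, `u ↦ X` -/
noncomputable def eps : A[X][X] →+* A[X] :=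
  eval₂RingHom (C.comp (evalRingHom 0)) X

/-- `u ↦ 0` -/
noncomputable def evu : A[X][X] →+* A[X] := evalRingHom 0

@[simp] theorem tau_C (a x : A) : tau a (C x) = C (C x) := by simp [tau]
@[simp] theorem tau_X (a : A) : tau a X = C X + C (C a) * X := by simp [tau]
@[simp] theorem theta_C (c : A) (p : A[X]) : theta c (C p) = C p := by simp [theta]
@[simp] theorem theta_X (c : A) : theta c X = C (C c) * X := by simp [theta]
@[simp] theorem kappa_C (b : A) (p : A[X]) : kappa b (C p) = tau b p := by simp [kappa]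
@[simp] theorem kappa_X (b : A) : kappa b (X : A[X][X]) = X := by simp [kappa]
@[simp] theorem eps_C (p : A[X]) : eps (C p) = C (p.eval 0) := by simp [eps]
@[simp] theorem eps_X : eps (X : A[X][X]) = X := by simp [eps]

theorem tau_zero : tau (0 : A) = C := by
  refine ringHom_ext (fun a => by simp) (by simp)

theorem theta_comp_tau (c a : A) : (theta c).comp (tau a) = tau (c * a) := by
  refine ringHom_ext (fun x => by simp) ?_
  simp only [RingHom.comp_apply, tau_X, map_add, map_mul, theta_C, theta_X]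
  ring

theorem kappa_comp_tau (b a : A) : (kappa b).comp (tau a) = tau (a + b) := by
  refine ringHom_ext (fun x => by simp) ?_
  simp only [RingHom.comp_apply, tau_X, map_add, map_mul, kappa_C, kappa_X, tau_C]
  ring

theorem kappa_comp_C (b : A) : (kappa b).comp C = tau b :=
  RingHom.ext fun p => by simp

theorem eps_comp_tau_one : (eps (A := A)).comp (tau 1) = RingHom.id _ := by
  refine ringHom_ext (fun x => by simp) ?_
  simp

theorem eps_comp_C : (eps (A := A)).comp C = C.comp (evalRingHom 0) :=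
  RingHom.ext fun p => by simp

theorem evu_comp_tau (a : A) : (evu (A := A)).comp (tau a) = RingHom.id _ := by
  refine ringHom_ext (fun x => by simp [evu]) ?_
  simp [evu]

theorem evu_C (p : A[X]) : evu (C p) = p := by simp [evu]

theorem evu_X : evu (X : A[X][X]) = 0 := by simp [evu]

theorem map_map_comp {α β γ : Type*} {ι κ : Type*} (M : Matrix ι κ α) (f : α → β) (g : β → γ) :
    (M.map f).map g = M.map (g ∘ f) := Matrix.map_map

/-- Quillen's ideal -/
def QI (E : Matrix (Fin n) (Fin n) A[X]) : Set A :=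
  {a | Eqv (E.map (tau a)) (E.map (C : A[X] →+* A[X][X]))}

theorem QI_zero {E : Matrix (Fin n) (Fin n) A[X]} (hE : E * E = E) : (0 : A) ∈ QI E := by
  show Eqv (E.map (tau 0)) (E.map (C : A[X] →+* A[X][X]))
  rw [tau_zero]
  exact Eqv.refl (map_idem hE _)

theorem QI_smul {E : Matrix (Fin n) (Fin n) A[X]} (c : A) {a : A} (ha : a ∈ QI E) :
    c * a ∈ QI E := by
  have := Eqv.map ha (theta c)
  rw [Matrix.map_map, Matrix.map_map, ← RingHom.coe_comp, ← RingHom.coe_comp, theta_comp_tau] at this
  have h2 : (theta c).comp (C : A[X] →+* A[X][X]) = C := RingHom.ext fun p => by simp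
  rw [h2] at this
  exact this

theorem QI_add {E : Matrix (Fin n) (Fin n) A[X]} (hE : E * E = E) {a b : A} (ha : a ∈ QI E)
    (hb : b ∈ QI E) : a + b ∈ QI E := by
  have := Eqv.map ha (kappa b)
  rw [Matrix.map_map, Matrix.map_map, ← RingHom.coe_comp, ← RingHom.coe_comp, kappa_comp_tau,
    kappa_comp_C] at this
  exact Eqv.trans (map_idem hE _) (map_idem hE _) this hb

/-- Quillen's ideal as an ideal -/
def QIdeal (E : Matrix (Fin n) (Fin n) A[X]) (hE : E * E = E) : Ideal A where
  carrier := QI E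
  add_mem' := QI_add hE
  zero_mem' := QI_zero hE
  smul_mem' := fun c _ ha => QI_smul c ha

theorem map_smul_ringHom {α β ι κ : Type*} [Semiring α] [Semiring β] (f : α →+* β) (c : α)
    (M : Matrix ι κ α) : (c • M).map f = f c • M.map f :=
  Matrix.ext fun _ _ => map_mul f _ _

theorem exists_tau_sub (c : A) (p : A[X]) :
    ∃ q : A[X][X], tau c p = C p + (C (C c) * X) * q := by
  have h1 : tau c p = (p.map (C.comp C)).eval (C X + C (C c) * X) := by
    simp [tau, eval₂_eq_eval_map]
  have h2 : (C p : A[X][X]) = (p.map (C.comp C)).eval (C X) := by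
    have := congrArg (fun f => f p) (tau_zero (A := A))
    simp only [tau, coe_eval₂RingHom, map_zero, zero_mul, add_zero] at this
    rw [← eval₂_eq_eval_map]
    exact this.symm
  obtain ⟨q, hq⟩ := sub_dvd_eval_sub (C X + C (C c) * X : A[X][X]) (C X)
    (p.map ((C : A[X] →+* A[X][X]).comp C))
  refine ⟨q, ?_⟩
  rw [h1, h2]
  rw [add_sub_cancel_left] at hq
  linear_combination hq

theorem theta_eq_zero {e : A} {k : A[X][X]} (h0 : evu k = 0) (hk : C (C e) * k = 0) :
    theta e k = 0 := by
  have h1 : theta e k = k.comp (C (C e) * X) := by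
    simp [theta, Polynomial.comp]
  rw [h1]
  refine Polynomial.ext fun i => ?_
  rw [comp_C_mul_X_coeff, coeff_zero]
  rcases Nat.eq_zero_or_pos i with rfl | hi
  · rw [pow_zero, mul_one, coeff_zero_eq_eval_zero]
    exact h0
  · have h2 : C e * k.coeff i = 0 := by
      have := congrArg (fun q => q.coeff i) hk
      simpa [coeff_C_mul] using this
    obtain ⟨j, rfl⟩ := Nat.exists_eq_succ_of_ne_zero hi.ne'
    rw [pow_succ, ← mul_assoc, mul_comm, ← mul_assoc, h2, zero_mul]

theorem key {E : Matrix (Fin n) (Fin n) A[X]} (hE : E * E = E) (c : A)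
    (α β : Matrix (Fin n) (Fin n) A[X]) (h1 : α * β = C c • E)
    (h2 : β * α = C c • E.map (C.comp (evalRingHom 0))) : c * c * c ∈ QI E := by
  set E₀ := E.map (C.comp (evalRingHom (0 : A))) with hE₀
  set cc : A[X][X] := C (C c) with hcc
  choose α₁ hα₁ using fun i j => exists_tau_sub c (α i j)
  choose β₁ hβ₁ using fun i j => exists_tau_sub c (β i j)
  have hα : α.map (tau c) = α.map (C : A[X] →+* A[X][X]) + (cc * X) • Matrix.of α₁ :=
    Matrix.ext fun i j => hα₁ i j
  have hβ : β.map (tau c) = β.map (C : A[X] →+* A[X][X]) + (cc * X) • Matrix.of β₁ :=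
    Matrix.ext fun i j => hβ₁ i j
  have hE₀τ : E₀.map (tau c) = E₀.map (C : A[X] →+* A[X][X]) := by
    rw [hE₀, Matrix.map_map, Matrix.map_map]
    refine Matrix.ext fun i j => ?_
    simp
  have hτC : tau c (C c) = cc := tau_C c c
  have hαβC : α.map (C : A[X] →+* A[X][X]) * β.map C = cc • E.map C := by
    rw [← Matrix.map_mul, h1, map_smul_ringHom]
  have hβαC : β.map (C : A[X] →+* A[X][X]) * α.map C = cc • E₀.map C := by
    rw [← Matrix.map_mul, h2, map_smul_ringHom]
  have hβατ : β.map (tau c) * α.map (tau c) = cc • E₀.map (tau c) := by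
    rw [← Matrix.map_mul, h2, map_smul_ringHom, hτC]
  have hαβτ : α.map (tau c) * β.map (tau c) = cc • E.map (tau c) := by
    rw [← Matrix.map_mul, h1, map_smul_ringHom, hτC]
  set Gt : Matrix (Fin n) (Fin n) A[X][X] :=
    E.map (C : A[X] →+* A[X][X]) + (X : A[X][X]) • (Matrix.of α₁ * β.map C) with hGt
  set Ht : Matrix (Fin n) (Fin n) A[X][X] :=
    E.map (C : A[X] →+* A[X][X]) + (X : A[X][X]) • (α.map C * Matrix.of β₁) with hHt
  have hG : cc • Gt = α.map (tau c) * β.map C := by
    rw [hGt, hα, Matrix.add_mul, hαβC, smul_add, Matrix.smul_mul, smul_smul]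
  have hH : cc • Ht = α.map C * β.map (tau c) := by
    rw [hHt, hβ, Matrix.mul_add, hαβC, smul_add, Matrix.mul_smul, smul_smul]
  have hEτ : E.map (tau c) * E.map (tau c) = E.map (tau c) := map_idem hE _
  have hEC : E.map (C : A[X] →+* A[X][X]) * E.map C = E.map C := map_idem hE _
  have hGH : (cc * cc) • (Gt * Ht - E.map (tau c)) = 0 := by
    have e1 : (cc • Gt) * (cc • Ht) = (cc * cc) • E.map (tau c) := by
      calc (cc • Gt) * (cc • Ht)
          = α.map (tau c) * ((β.map C * α.map C) * β.map (tau c)) := by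
            rw [hG, hH]; simp only [Matrix.mul_assoc]
        _ = α.map (tau c) * ((β.map (tau c) * α.map (tau c)) * β.map (tau c)) := by
            rw [hβαC, hβατ, hE₀τ]
        _ = (α.map (tau c) * β.map (tau c)) * (α.map (tau c) * β.map (tau c)) := by
            simp only [Matrix.mul_assoc]
        _ = _ := by rw [hαβτ, Matrix.smul_mul, Matrix.mul_smul, hEτ, smul_smul]
    rw [smul_sub, ← e1, Matrix.smul_mul, Matrix.mul_smul, smul_smul, sub_self]
  have hHG : (cc * cc) • (Ht * Gt - E.map (C : A[X] →+* A[X][X])) = 0 := by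
    have e1 : (cc • Ht) * (cc • Gt) = (cc * cc) • E.map (C : A[X] →+* A[X][X]) := by
      calc (cc • Ht) * (cc • Gt)
          = α.map C * ((β.map (tau c) * α.map (tau c)) * β.map C) := by
            rw [hG, hH]; simp only [Matrix.mul_assoc]
        _ = α.map C * ((β.map C * α.map C) * β.map C) := by
            rw [hβαC, hβατ, hE₀τ]
        _ = (α.map C * β.map C) * (α.map C * β.map C) := by
            simp only [Matrix.mul_assoc]
        _ = _ := by rw [hαβC, Matrix.smul_mul, Matrix.mul_smul, hEC, smul_smul]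
    rw [smul_sub, ← e1, Matrix.smul_mul, Matrix.mul_smul, smul_smul, sub_self]
  have hccc : cc * cc = C (C (c * c)) := by rw [hcc, ← C_mul, ← C_mul]
  have evG : Gt.map evu = E := by
    rw [hGt, Matrix.map_add _ (map_add evu), map_smul_ringHom, evu_X, zero_smul, add_zero,
      Matrix.map_map]
    refine Matrix.ext fun i j => ?_
    simp [evu_C]
  have evH : Ht.map evu = E := by
    rw [hHt, Matrix.map_add _ (map_add evu), map_smul_ringHom, evu_X, zero_smul, add_zero,
      Matrix.map_map]
    refine Matrix.ext fun i j => ?_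
    simp [evu_C]
  have evEτ : (E.map (tau c)).map evu = E := by
    rw [Matrix.map_map, ← RingHom.coe_comp, evu_comp_tau]
    refine Matrix.ext fun i j => ?_
    simp
  have evEC : (E.map (C : A[X] →+* A[X][X])).map evu = E := by
    rw [Matrix.map_map]
    refine Matrix.ext fun i j => ?_
    simp [evu_C]
  have hθ1 : (Gt * Ht - E.map (tau c)).map (theta (c * c)) = 0 := by
    refine Matrix.ext fun i j => ?_
    rw [Matrix.map_apply, Matrix.zero_apply]
    refine theta_eq_zero ?_ ?_
    · have : (Gt * Ht - E.map (tau c)).map evu = 0 := by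
        rw [Matrix.map_sub _ (map_sub evu), Matrix.map_mul, evG, evH, evEτ, hE, sub_self]
      exact congrFun (congrFun this i) j
    · have := congrFun (congrFun hGH i) j
      rw [hccc] at this
      exact this
  have hθ2 : (Ht * Gt - E.map (C : A[X] →+* A[X][X])).map (theta (c * c)) = 0 := by
    refine Matrix.ext fun i j => ?_
    rw [Matrix.map_apply, Matrix.zero_apply]
    refine theta_eq_zero ?_ ?_
    · have : (Ht * Gt - E.map (C : A[X] →+* A[X][X])).map evu = 0 := by
        rw [Matrix.map_sub _ (map_sub evu), Matrix.map_mul, evG, evH, evEC, hE, sub_self]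
      exact congrFun (congrFun this i) j
    · have := congrFun (congrFun hHG i) j
      rw [hccc] at this
      exact this
  refine ⟨Gt.map (theta (c * c)), Ht.map (theta (c * c)), ?_, ?_⟩
  · rw [Matrix.map_sub _ (map_sub (theta (c * c))), sub_eq_zero, Matrix.map_mul] at hθ1
    rw [hθ1, Matrix.map_map, ← RingHom.coe_comp, theta_comp_tau]
  · rw [Matrix.map_sub _ (map_sub (theta (c * c))), sub_eq_zero, Matrix.map_mul] at hθ2
    rw [hθ2, Matrix.map_map]
    refine Matrix.ext fun i j => ?_
    simp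

/-- **Quillen patching** (matrix form): an idempotent matrix over `A[X]` that is, locally at each
maximal ideal of `A` (up to an explicit denominator), equivalent to its value at `0`, is globally
equivalent to its value at `0`. -/
theorem patch {E : Matrix (Fin n) (Fin n) A[X]} (hE : E * E = E)
    (hloc : ∀ 𝔪 : Ideal A, 𝔪.IsMaximal → ∃ g : A, g ∉ 𝔪 ∧
      ∃ α β : Matrix (Fin n) (Fin n) A[X],
        α * β = C g • E ∧ β * α = C g • E.map (C.comp (evalRingHom 0))) :
    Eqv E (E.map (C.comp (evalRingHom 0))) := by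
  have htop : QIdeal E hE = ⊤ := by
    by_contra h
    obtain ⟨𝔪, h𝔪, hle⟩ := Ideal.exists_le_maximal _ h
    obtain ⟨g, hg, α, β, h1, h2⟩ := hloc 𝔪 h𝔪
    have h3 : g * g * g ∈ 𝔪 := hle (key hE g α β h1 h2)
    have hp := h𝔪.isPrime
    rcases hp.mem_or_mem h3 with h' | h'
    · rcases hp.mem_or_mem h' with h'' | h'' <;> exact hg h''
    · exact hg h'
  have h1 : (1 : A) ∈ QI E := by
    have : (1 : A) ∈ QIdeal E hE := by rw [htop]; trivial
    exact this
  have h2 := Eqv.map h1 eps
  rw [Matrix.map_map, Matrix.map_map, ← RingHom.coe_comp, ← RingHom.coe_comp, eps_comp_tau_one,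
    eps_comp_C] at h2
  have h3 : E.map (RingHom.id A[X]) = E := Matrix.ext fun i j => rfl
  rw [h3] at h2
  exact h2

end Groth.Agent.Lib.helper10.HorD
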