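import Mathlib
import Groth.Agent.Lib.helper10.HorC
import Groth.Agent.Lib.helper10.HorD

set_option autoImplicit false
set_option maxHeartbeats 800000

/-!
# Affine Horrocks, matrix form over an arbitrary base ring
-/

namespace Groth.Agent.Lib.helper10.HorE

open Matrix Polynomial LaurentPolynomial
open Groth.Agent.Lib.helper10.HorC Groth.Agent.Lib.helper10.HorD

attribute [local instance] Polynomial.algebra

section Clear

variable {R S : Type*} [CommRing R] [CommRing S] [Algebra R S] (M : Submonoid R)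
  [IsLocalization M S] {n : ℕ}

theorem exists_clear (E E₀ : Matrix (Fin n) (Fin n) R) (α β : Matrix (Fin n) (Fin n) S)
    (h1 : α * β = E.map (algebraMap R S)) (h2 : β * α = E₀.map (algebraMap R S)) :
    ∃ g ∈ M, ∃ α' β' : Matrix (Fin n) (Fin n) R, α' * β' = g • E ∧ β' * α' = g • E₀ := by
  classical
  obtain ⟨b, hb⟩ := IsLocalization.exist_integer_multiples_of_finite M
    (fun p : (Fin n × Fin n) ⊕ (Fin n × Fin n) =>
      Sum.elim (fun p => α p.1 p.2) (fun p => β p.1 p.2) p)
  choose α₀ hα₀ using fun i j => hb (Sum.inl (i, j))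
  choose β₀ hβ₀ using fun i j => hb (Sum.inr (i, j))
  have hα : (Matrix.of α₀).map (algebraMap R S) = algebraMap R S b • α := by
    refine Matrix.ext fun i j => ?_
    rw [Matrix.map_apply, Matrix.of_apply, hα₀ i j, Matrix.smul_apply, Sum.elim_inl,
      Algebra.smul_def, smul_eq_mul]
  have hβ : (Matrix.of β₀).map (algebraMap R S) = algebraMap R S b • β := by
    refine Matrix.ext fun i j => ?_
    rw [Matrix.map_apply, Matrix.of_apply, hβ₀ i j, Matrix.smul_apply, Sum.elim_inr,
      Algebra.smul_def, smul_eq_mul]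
  set e := Matrix.of α₀ * Matrix.of β₀ - ((b : R) * b) • E with he
  set e' := Matrix.of β₀ * Matrix.of α₀ - ((b : R) * b) • E₀ with he'
  have hemap : e.map (algebraMap R S) = 0 := by
    rw [he, Matrix.map_sub _ (map_sub _), Matrix.map_mul, hα, hβ, Matrix.smul_mul, Matrix.mul_smul,
      h1, smul_smul, HorD.map_smul_ringHom, map_mul, sub_self]
  have he'map : e'.map (algebraMap R S) = 0 := by
    rw [he', Matrix.map_sub _ (map_sub _), Matrix.map_mul, hα, hβ, Matrix.smul_mul,
      Matrix.mul_smul, h2, smul_smul, HorD.map_smul_ringHom, map_mul, sub_self]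
  have hk : ∀ i j, ∃ m : M, (m : R) * e i j = 0 := fun i j =>
    (IsLocalization.map_eq_zero_iff M S _).mp (congrFun (congrFun hemap i) j)
  have hk' : ∀ i j, ∃ m : M, (m : R) * e' i j = 0 := fun i j =>
    (IsLocalization.map_eq_zero_iff M S _).mp (congrFun (congrFun he'map i) j)
  choose k hk using hk
  choose k' hk' using hk'
  set g₁ : R := (∏ p : Fin n × Fin n, (k p.1 p.2 : R)) * (∏ p : Fin n × Fin n, (k' p.1 p.2 : R))
    with hg₁
  have hg₁M : g₁ ∈ M := Submonoid.mul_mem _ (Submonoid.prod_mem _ fun p _ => (k p.1 p.2).2)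
    (Submonoid.prod_mem _ fun p _ => (k' p.1 p.2).2)
  have hg₁e : g₁ • e = 0 := by
    refine Matrix.ext fun i j => ?_
    rw [Matrix.smul_apply, smul_eq_mul, Matrix.zero_apply]
    obtain ⟨c, hc⟩ : (k i j : R) ∣ g₁ := Dvd.dvd.mul_right
      (Finset.dvd_prod_of_mem (fun p : Fin n × Fin n => (k p.1 p.2 : R))
        (Finset.mem_univ ((i, j) : Fin n × Fin n))) _
    rw [hc, mul_comm (k i j : R) c, mul_assoc, hk i j, mul_zero]
  have hg₁e' : g₁ • e' = 0 := by
    refine Matrix.ext fun i j => ?_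
    rw [Matrix.smul_apply, smul_eq_mul, Matrix.zero_apply]
    obtain ⟨c, hc⟩ : (k' i j : R) ∣ g₁ := Dvd.dvd.mul_left
      (Finset.dvd_prod_of_mem (fun p : Fin n × Fin n => (k' p.1 p.2 : R))
        (Finset.mem_univ ((i, j) : Fin n × Fin n))) _
    rw [hc, mul_comm (k' i j : R) c, mul_assoc, hk' i j, mul_zero]
  have hgbM : g₁ * b ∈ M := Submonoid.mul_mem _ hg₁M b.2
  refine ⟨(g₁ * b) * (g₁ * b), Submonoid.mul_mem _ hgbM hgbM,
    g₁ • Matrix.of α₀, g₁ • Matrix.of β₀, ?_, ?_⟩
  · have : Matrix.of α₀ * Matrix.of β₀ = e + ((b : R) * b) • E := by rw [he]; abel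
    rw [Matrix.smul_mul, Matrix.mul_smul, this, smul_add, smul_add, hg₁e, smul_zero, zero_add,
      smul_smul, smul_smul]
    congr 1
    ring
  · have : Matrix.of β₀ * Matrix.of α₀ = e' + ((b : R) * b) • E₀ := by rw [he']; abel
    rw [Matrix.smul_mul, Matrix.mul_smul, this, smul_add, smul_add, hg₁e', smul_zero, zero_add,
      smul_smul, smul_smul]
    congr 1
    ring

end Clear

section Global

/-- base change of Laurent polynomials -/
noncomputable def mapL {A A' : Type*} [CommRing A] [CommRing A'] (ρ : A →+* A') :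
    A[T;T⁻¹] →+* A'[T;T⁻¹] := AddMonoidAlgebra.mapRingHom ℤ ρ

theorem mapL_C {A A' : Type*} [CommRing A] [CommRing A'] (ρ : A →+* A') (a : A) :
    mapL ρ (LaurentPolynomial.C a) = LaurentPolynomial.C (ρ a) := by
  rw [← LaurentPolynomial.single_eq_C, ← LaurentPolynomial.single_eq_C]
  unfold mapL
  rw [AddMonoidAlgebra.mapRingHom_single]

theorem mapL_T {A A' : Type*} [CommRing A] [CommRing A'] (ρ : A →+* A') (k : ℤ) :
    mapL ρ (T k) = T k := by
  unfold mapL T
  rw [AddMonoidAlgebra.mapRingHom_single, map_one]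

theorem mapL_comp_iot {A A' : Type*} [CommRing A] [CommRing A'] (ρ : A →+* A') :
    (mapL ρ).comp (iot A) = (iot A').comp (mapRingHom ρ) := by
  refine Polynomial.ringHom_ext (fun a => ?_) ?_
  · simp [mapL_C]
  · simp [mapL_T]

theorem mapL_comp_sig {A A' : Type*} [CommRing A] [CommRing A'] (ρ : A →+* A') :
    (mapL ρ).comp (sig A) = (sig A').comp (mapL ρ) := by
  refine AddMonoidAlgebra.ringHom_ext (fun b => ?_) (fun a => ?_)
  · show mapL ρ (invert (AddMonoidAlgebra.single 0 b)) =
      invert (mapL ρ (AddMonoidAlgebra.single 0 b))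
    rw [LaurentPolynomial.single_eq_C, invert_C, mapL_C, invert_C]
  · show mapL ρ (invert (T a)) = invert (mapL ρ (T a))
    rw [invert_T, mapL_T, mapL_T, invert_T]

/-- **Affine Horrocks, matrix form.** -/
theorem extended_of_data {A : Type*} [CommRing A] {n m : ℕ} (E : Matrix (Fin n) (Fin n) A[X])
    (hE : E * E = E) (F : Matrix (Fin m) (Fin m) A[X]) (hF : F * F = F)
    (U : Matrix (Fin m) (Fin n) A[T;T⁻¹]) (V : Matrix (Fin n) (Fin m) A[T;T⁻¹])
    (hVU : V * U = E.map (iot A)) (hUV : U * V = (F.map (iot A)).map (sig A)) :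
    Eqv E (E.map (Polynomial.C.comp (evalRingHom 0))) := by
  refine patch hE fun 𝔪 h𝔪 => ?_
  haveI := h𝔪.isPrime
  set A' := Localization.AtPrime 𝔪 with hA'
  set ρ : A →+* A' := algebraMap A A' with hρ
  set ρX : A[X] →+* A'[X] := mapRingHom ρ with hρX
  have hE' : E.map ρX * E.map ρX = E.map ρX := map_idem hE _
  have hF' : F.map ρX * F.map ρX = F.map ρX := map_idem hF _
  have hVU' : V.map (mapL ρ) * U.map (mapL ρ) = (E.map ρX).map (iot A') := by
    rw [← Matrix.map_mul, hVU, Matrix.map_map, Matrix.map_map, ← RingHom.coe_comp,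
      ← RingHom.coe_comp, mapL_comp_iot]
  have hUV' : U.map (mapL ρ) * V.map (mapL ρ) = ((F.map ρX).map (iot A')).map (sig A') := by
    rw [← Matrix.map_mul, hUV]
    simp only [Matrix.map_map, ← RingHom.coe_comp]
    rw [← RingHom.comp_assoc, mapL_comp_sig, RingHom.comp_assoc, mapL_comp_iot]
  obtain ⟨r, X, Y, hXY, hYX⟩ := local_main (E.map ρX) hE' (F.map ρX) hF' _ _ hVU' hUV'
  set c0 : A'[X] →+* A'[X] := Polynomial.C.comp (evalRingHom 0) with hc0
  set α := Y * X.map c0 with hα
  set β := Y.map c0 * X with hβ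
  have hX0Y0 : X.map c0 * Y.map c0 = 1 := by rw [← Matrix.map_mul, hXY, map_one_ringHom]
  have hY0X0 : Y.map c0 * X.map c0 = (E.map ρX).map c0 := by rw [← Matrix.map_mul, hYX]
  have hαβ : α * β = E.map ρX := by
    calc α * β = Y * ((X.map c0 * Y.map c0) * X) := by rw [hα, hβ]; simp only [Matrix.mul_assoc]
      _ = E.map ρX := by rw [hX0Y0, Matrix.one_mul, hYX]
  have hβα : β * α = (E.map ρX).map c0 := by
    calc β * α = Y.map c0 * ((X * Y) * X.map c0) := by rw [hα, hβ]; simp only [Matrix.mul_assoc]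
      _ = _ := by rw [hXY, Matrix.one_mul, hY0X0]
  have hcompat : (E.map ρX).map c0 = (E.map (Polynomial.C.comp (evalRingHom (0 : A)))).map ρX := by
    rw [Matrix.map_map, Matrix.map_map]
    refine Matrix.ext fun i j => ?_
    simp only [Matrix.map_apply, Function.comp_apply, hc0, hρX, RingHom.comp_apply,
      coe_evalRingHom, coe_mapRingHom, Polynomial.map_C]
    rw [← coeff_zero_eq_eval_zero, ← coeff_zero_eq_eval_zero, coeff_map]
  haveI : IsLocalization (𝔪.primeCompl.map (Polynomial.C : A →+* A[X])) A'[X] :=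
    Polynomial.isLocalization 𝔪.primeCompl A'
  obtain ⟨g, hg, α', β', h1, h2⟩ := exists_clear (𝔪.primeCompl.map (Polynomial.C : A →+* A[X])) E
    (E.map (Polynomial.C.comp (evalRingHom 0))) α β (by rw [hαβ]; rfl) (by rw [hβα, hcompat]; rfl)
  obtain ⟨g', hg', rfl⟩ := Submonoid.mem_map.mp hg
  exact ⟨g', hg', α', β', h1, h2⟩

end Global

end Groth.Agent.Lib.helper10.HorE
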