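import Mathlib
import Groth.Agent.Lib.helper10.HorE

set_option autoImplicit false
set_option maxHeartbeats 800000

/-!
# Affine Horrocks: from modules to matrices and back
-/

namespace Groth.Agent.Lib.helper10.HorF

open Matrix Polynomial LaurentPolynomial TensorProduct
open Groth.Agent.Lib.helper10.HorC Groth.Agent.Lib.helper10.HorD Groth.Agent.Lib.helper10.HorE

section BaseChangeMatrix

variable (R S : Type*) [CommRing R] [CommRing S] [Algebra R S]

/-- `S ⊗ R^k ≃ S^k` -/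
noncomputable abbrev thet (k : ℕ) : S ⊗[R] (Fin k → R) ≃ₗ[S] (Fin k → S) :=
  TensorProduct.piScalarRight R S S (Fin k)

variable {R S} {n m : ℕ}

theorem baseChange_toLin' (Mx : Matrix (Fin m) (Fin n) R) :
    (thet R S m).toLinearMap ∘ₗ (Matrix.toLin' Mx).baseChange S ∘ₗ (thet R S n).symm.toLinearMap =
      Matrix.toLin' (Mx.map (algebraMap R S)) := by
  refine LinearMap.pi_ext' fun j => LinearMap.ext_ring ?_
  simp only [LinearMap.comp_apply, LinearMap.coe_single, LinearEquiv.coe_coe,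
    TensorProduct.piScalarRight_symm_single, LinearMap.baseChange_tmul,
    TensorProduct.piScalarRight_apply, TensorProduct.piScalarRightHom_tmul, Matrix.toLin'_apply,
    Matrix.mulVec_single_one]
  ext i
  simp [Algebra.smul_def]

end BaseChangeMatrix

section Abstract

variable {R : Type*} [CommRing R] {M V Q : Type*} [AddCommGroup M] [AddCommGroup V]
  [AddCommGroup Q] [Module R M] [Module R V] [Module R Q]

/-- two retracts of `V` whose idempotents are Murray–von Neumann equivalent are isomorphic -/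
noncomputable def equivOfFactor (s : M →ₗ[R] V) (π : V →ₗ[R] M) (hπs : π ∘ₗ s = LinearMap.id)
    (Ψ₀ : Q →ₗ[R] V) (Φ₀ : V →ₗ[R] Q) (hΦΨ : Φ₀ ∘ₗ Ψ₀ = LinearMap.id) (g h : V →ₗ[R] V)
    (hgh : g ∘ₗ h = s ∘ₗ π) (hhg : h ∘ₗ g = Ψ₀ ∘ₗ Φ₀) : M ≃ₗ[R] Q :=
  LinearEquiv.ofLinear (Φ₀ ∘ₗ h ∘ₗ s) (π ∘ₗ g ∘ₗ Ψ₀)
    (by
      have e1 : ∀ v, s (π v) = g (h v) := fun v => (LinearMap.congr_fun hgh v).symm
      have e2 : ∀ v, h (g v) = Ψ₀ (Φ₀ v) := fun v => LinearMap.congr_fun hhg v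
      have e3 : ∀ q, Φ₀ (Ψ₀ q) = q := fun q => LinearMap.congr_fun hΦΨ q
      refine LinearMap.ext fun q => ?_
      simp only [LinearMap.comp_apply, LinearMap.id_apply]
      rw [e1, e2, e2, e3, e3]
      exact e3 q)
    (by
      have e1 : ∀ v, g (h v) = s (π v) := fun v => LinearMap.congr_fun hgh v
      have e2 : ∀ v, Ψ₀ (Φ₀ v) = h (g v) := fun v => (LinearMap.congr_fun hhg v).symm
      have e3 : ∀ z, π (s z) = z := fun z => LinearMap.congr_fun hπs z
      refine LinearMap.ext fun z => ?_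
      simp only [LinearMap.comp_apply, LinearMap.id_apply]
      rw [e2, e1, e1, e3, e3]
      exact e3 z)

end Abstract

section Retract

variable {R : Type*} [CommRing R]

theorem exists_retract (M : Type*) [AddCommGroup M] [Module R M] [Module.Finite R M]
    [Module.Projective R M] :
    ∃ (n : ℕ) (s : M →ₗ[R] (Fin n → R)) (π : (Fin n → R) →ₗ[R] M), π ∘ₗ s = LinearMap.id := by
  obtain ⟨n, π, hπ⟩ := Module.Finite.exists_fin' R M
  obtain ⟨s, hs⟩ := Module.projective_lifting_property π LinearMap.id hπ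
  exact ⟨n, s, π, hs⟩

variable (S : Type*) [CommRing S] [Algebra R S] {M : Type*} [AddCommGroup M] [Module R M] {n : ℕ}
  (s : M →ₗ[R] (Fin n → R)) (π : (Fin n → R) →ₗ[R] M)

/-- base change of the coordinate map -/
noncomputable def sHat : S ⊗[R] M →ₗ[S] (Fin n → S) :=
  (thet R S n).toLinearMap ∘ₗ s.baseChange S

/-- base change of the parametrisation -/
noncomputable def piHat : (Fin n → S) →ₗ[S] S ⊗[R] M :=
  π.baseChange S ∘ₗ (thet R S n).symm.toLinearMap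

variable {s π}

theorem piHat_sHat (hπs : π ∘ₗ s = LinearMap.id) (x : S ⊗[R] M) :
    piHat S π (sHat S s x) = x := by
  unfold piHat sHat
  simp only [LinearMap.comp_apply, LinearEquiv.coe_coe, LinearEquiv.symm_apply_apply]
  rw [← LinearMap.comp_apply, ← LinearMap.baseChange_comp, hπs, LinearMap.baseChange_id,
    LinearMap.id_apply]

theorem sHat_piHat {E : Matrix (Fin n) (Fin n) R} (hsπ : s ∘ₗ π = Matrix.toLin' E)
    (v : Fin n → S) :
    sHat S s (piHat S π v) = Matrix.toLin' (E.map (algebraMap R S)) v := by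
  rw [← baseChange_toLin', ← hsπ, LinearMap.baseChange_comp]
  rfl

end Retract

section Extended

universe u

variable {A : Type u} [CommRing A] {M : Type*} [AddCommGroup M] [Module A[X] M] {n : ℕ}

theorem exists_extended (s : M →ₗ[A[X]] (Fin n → A[X])) (π : (Fin n → A[X]) →ₗ[A[X]] M)
    (hπs : π ∘ₗ s = LinearMap.id) (E : Matrix (Fin n) (Fin n) A[X])
    (hsπ : s ∘ₗ π = Matrix.toLin' E)
    (h : Eqv E (E.map (Polynomial.C.comp (evalRingHom 0)))) :
    ∃ (P : Type u) (_ : AddCommGroup P) (_ : Module A P),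
      Nonempty (M ≃ₗ[A[X]] (A[X] ⊗[A] P)) := by
  have hE : E * E = E := by
    apply Matrix.toLin'.injective
    rw [Matrix.toLin'_mul, ← hsπ]
    calc (s ∘ₗ π) ∘ₗ (s ∘ₗ π) = s ∘ₗ (π ∘ₗ s) ∘ₗ π := by
          simp only [LinearMap.comp_assoc]
      _ = s ∘ₗ π := by rw [hπs, LinearMap.id_comp]
  set E0 := E.map (evalRingHom (0 : A)) with hE0
  have hE0i : E0 * E0 = E0 := by rw [hE0, ← Matrix.map_mul, hE]
  set P₀ := LinearMap.range (Matrix.toLin' E0) with hP₀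
  set inc : P₀ →ₗ[A] (Fin n → A) := P₀.subtype with hinc
  set pr : (Fin n → A) →ₗ[A] P₀ := (Matrix.toLin' E0).rangeRestrict with hpr
  have hprinc : pr ∘ₗ inc = LinearMap.id :=
    LinearMap.ext fun x => rangeRestrict_coe E0 hE0i x
  have hincpr : inc ∘ₗ pr = Matrix.toLin' E0 := LinearMap.ext fun x => rfl
  set Ψ₀ : A[X] ⊗[A] P₀ →ₗ[A[X]] (Fin n → A[X]) :=
    (thet A A[X] n).toLinearMap ∘ₗ inc.baseChange A[X] with hΨ₀
  set Φ₀ : (Fin n → A[X]) →ₗ[A[X]] A[X] ⊗[A] P₀ :=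
    pr.baseChange A[X] ∘ₗ (thet A A[X] n).symm.toLinearMap with hΦ₀
  have hΦΨ : Φ₀ ∘ₗ Ψ₀ = LinearMap.id := by
    refine LinearMap.ext fun x => ?_
    rw [hΦ₀, hΨ₀]
    simp only [LinearMap.comp_apply, LinearEquiv.coe_coe, LinearEquiv.symm_apply_apply]
    rw [← LinearMap.comp_apply, ← LinearMap.baseChange_comp, hprinc, LinearMap.baseChange_id]
  have hΨΦ : Ψ₀ ∘ₗ Φ₀ = Matrix.toLin' (E.map (Polynomial.C.comp (evalRingHom 0))) := by
    have : E.map (Polynomial.C.comp (evalRingHom (0 : A))) = E0.map (algebraMap A A[X]) := by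
      rw [hE0, Matrix.map_map]
      rfl
    rw [this, ← baseChange_toLin', ← hincpr, LinearMap.baseChange_comp]
    rfl
  obtain ⟨G, H, hGH, hHG⟩ := h
  refine ⟨P₀, inferInstance, inferInstance,
    ⟨equivOfFactor s π hπs Ψ₀ Φ₀ hΦΨ (Matrix.toLin' G) (Matrix.toLin' H) ?_ ?_⟩⟩
  · rw [← Matrix.toLin'_mul, hGH, hsπ]
  · rw [← Matrix.toLin'_mul, hHG, hΨΦ]

end Extended

section Extract

variable {A : Type*} [CommRing A]

theorem sig_sig (c : A[T;T⁻¹]) : sig A (sig A c) = c := LaurentPolynomial.involutive_invert c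

theorem semilin_matrix {n m : ℕ} (f : (Fin n → A[T;T⁻¹]) → (Fin m → A[T;T⁻¹]))
    (hadd : ∀ v w, f (v + w) = f v + f w)
    (hsmul : ∀ (c : A[T;T⁻¹]) v, f (c • v) = sig A c • f v) (v : Fin n → A[T;T⁻¹]) :
    f v = (Matrix.of fun i j => f (Pi.single j 1) i) *ᵥ (sig A ∘ v) := by
  set fa : (Fin n → A[T;T⁻¹]) →+ (Fin m → A[T;T⁻¹]) := AddMonoidHom.mk' f hadd with hfa
  have h1 : v = ∑ j, v j • (Pi.single j (1 : A[T;T⁻¹]) : Fin n → A[T;T⁻¹]) := by
    conv_lhs => rw [← Finset.univ_sum_single v]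
    refine Finset.sum_congr rfl fun j _ => ?_
    funext k
    simp [Pi.single_apply]
  have h2 : f v = ∑ j, sig A (v j) • f (Pi.single j 1) := by
    conv_lhs => rw [h1]
    show fa _ = _
    rw [map_sum]
    refine Finset.sum_congr rfl fun j _ => ?_
    exact hsmul _ _
  rw [h2]
  funext i
  simp only [Finset.sum_apply, Pi.smul_apply, smul_eq_mul, Matrix.mulVec, dotProduct,
    Matrix.of_apply, Function.comp_apply]
  refine Finset.sum_congr rfl fun j _ => ?_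
  exact mul_comm _ _

variable {M N : Type*} [AddCommGroup M] [Module A[X] M] [AddCommGroup N] [Module A[X] N]
  {n m : ℕ}

theorem exists_matrices
    (e : (A[T;T⁻¹] ⊗[A[X]] M) →ₛₗ[sig A] (A[T;T⁻¹] ⊗[A[X]] N)) (he : Function.Bijective e)
    (s : M →ₗ[A[X]] (Fin n → A[X])) (π : (Fin n → A[X]) →ₗ[A[X]] M)
    (hπs : π ∘ₗ s = LinearMap.id) (E : Matrix (Fin n) (Fin n) A[X])
    (hsπ : s ∘ₗ π = Matrix.toLin' E)
    (t : N →ₗ[A[X]] (Fin m → A[X])) (ϖ : (Fin m → A[X]) →ₗ[A[X]] N)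
    (hϖt : ϖ ∘ₗ t = LinearMap.id) (F : Matrix (Fin m) (Fin m) A[X])
    (htϖ : t ∘ₗ ϖ = Matrix.toLin' F) :
    ∃ (U : Matrix (Fin m) (Fin n) A[T;T⁻¹]) (V : Matrix (Fin n) (Fin m) A[T;T⁻¹]),
      V * U = E.map (iot A) ∧ U * V = (F.map (iot A)).map (sig A) := by
  set eq := Equiv.ofBijective e he with heq
  have hee : ∀ y, e (eq.symm y) = y := fun y => Equiv.ofBijective_apply_symm_apply e he y
  have hee' : ∀ x, eq.symm (e x) = x := fun x => Equiv.ofBijective_symm_apply_apply e he x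
  have hinvadd : ∀ y y', eq.symm (y + y') = eq.symm y + eq.symm y' := by
    intro y y'
    apply he.injective
    rw [hee, map_add, hee, hee]
  have hinvsmul : ∀ (c : A[T;T⁻¹]) y, eq.symm (c • y) = sig A c • eq.symm y := by
    intro c y
    apply he.injective
    rw [hee, map_smulₛₗ, sig_sig, hee]
  set Φ : (Fin n → A[T;T⁻¹]) → (Fin m → A[T;T⁻¹]) :=
    fun v => sHat A[T;T⁻¹] t (e (piHat A[T;T⁻¹] π v)) with hΦ
  set Ψ : (Fin m → A[T;T⁻¹]) → (Fin n → A[T;T⁻¹]) :=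
    fun w => sHat A[T;T⁻¹] s (eq.symm (piHat A[T;T⁻¹] ϖ w)) with hΨ
  have hΦadd : ∀ v w, Φ (v + w) = Φ v + Φ w := by
    intro v w; simp only [hΦ, map_add]
  have hΦsmul : ∀ (c : A[T;T⁻¹]) v, Φ (c • v) = sig A c • Φ v := by
    intro c v; simp only [hΦ, map_smul, map_smulₛₗ]
  have hΨadd : ∀ v w, Ψ (v + w) = Ψ v + Ψ w := by
    intro v w; simp only [hΨ, map_add, hinvadd]
  have hΨsmul : ∀ (c : A[T;T⁻¹]) v, Ψ (c • v) = sig A c • Ψ v := by
    intro c v; simp only [hΨ, map_smul, hinvsmul]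
  set U₁ : Matrix (Fin m) (Fin n) A[T;T⁻¹] := Matrix.of fun i j => Φ (Pi.single j 1) i with hU₁
  set V₁ : Matrix (Fin n) (Fin m) A[T;T⁻¹] := Matrix.of fun i j => Ψ (Pi.single j 1) i with hV₁
  have hΦm : ∀ v, Φ v = U₁ *ᵥ (sig A ∘ v) := semilin_matrix Φ hΦadd hΦsmul
  have hΨm : ∀ w, Ψ w = V₁ *ᵥ (sig A ∘ w) := semilin_matrix Ψ hΨadd hΨsmul
  have hsigmul : ∀ {a b : ℕ} (Mx : Matrix (Fin a) (Fin b) A[T;T⁻¹]) (w : Fin b → A[T;T⁻¹]),
      sig A ∘ (Mx *ᵥ (sig A ∘ w)) = Mx.map (sig A) *ᵥ w := by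
    intro a b Mx w
    funext i
    rw [Function.comp_apply, RingHom.map_mulVec]
    have : (sig A) ∘ (sig A) ∘ w = w := by
      funext j
      simp only [Function.comp_apply, sig_sig]
    rw [this]
  have hΨΦ : ∀ v, Ψ (Φ v) = Matrix.toLin' (E.map (iot A)) v := by
    intro v
    show sHat A[T;T⁻¹] s (eq.symm (piHat A[T;T⁻¹] ϖ (sHat A[T;T⁻¹] t
      (e (piHat A[T;T⁻¹] π v))))) = _
    rw [piHat_sHat A[T;T⁻¹] hϖt, hee', sHat_piHat A[T;T⁻¹] hsπ]
    rfl
  have hΦΨ : ∀ w, Φ (Ψ w) = Matrix.toLin' (F.map (iot A)) w := by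
    intro w
    show sHat A[T;T⁻¹] t (e (piHat A[T;T⁻¹] π (sHat A[T;T⁻¹] s
      (eq.symm (piHat A[T;T⁻¹] ϖ w))))) = _
    rw [piHat_sHat A[T;T⁻¹] hπs, hee, sHat_piHat A[T;T⁻¹] htϖ]
    rfl
  refine ⟨U₁.map (sig A), V₁, ?_, ?_⟩
  · apply Matrix.toLin'.injective
    refine LinearMap.ext fun v => ?_
    rw [← hΨΦ v, hΨm, hΦm, hsigmul, Matrix.toLin'_apply, Matrix.mulVec_mulVec]
  · have h1 : U₁ * V₁.map (sig A) = F.map (iot A) := by
      apply Matrix.toLin'.injective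
      refine LinearMap.ext fun w => ?_
      rw [← hΦΨ w, hΦm, hΨm, hsigmul, Matrix.toLin'_apply, Matrix.mulVec_mulVec]
    rw [← h1, Matrix.map_mul, Matrix.map_map]
    congr 1
    refine Matrix.ext fun i j => ?_
    simp only [Matrix.map_apply, Function.comp_apply, sig_sig]

end Extract

end Groth.Agent.Lib.helper10.HorF
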