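import Mathlib
import Groth.Agent.Lib.helper10.HorF

set_option autoImplicit false
set_option maxHeartbeats 800000

/-!
# Affine Horrocks (Quillen): a projective module over `A[X]` extending to `ℙ¹_A` is extended
-/

namespace Groth.Agent.Lib.helper10.HorG

open Matrix Polynomial LaurentPolynomial TensorProduct
open Groth.Agent.Lib.helper10.HorC Groth.Agent.Lib.helper10.HorD Groth.Agent.Lib.helper10.HorE
open Groth.Agent.Lib.helper10.HorF

universe u

variable {A : Type u} [CommRing A]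

theorem idem_of_retract {R : Type*} [CommRing R] {M : Type*} [AddCommGroup M] [Module R M] {n : ℕ}
    {s : M →ₗ[R] (Fin n → R)} {π : (Fin n → R) →ₗ[R] M} (hπs : π ∘ₗ s = LinearMap.id)
    {E : Matrix (Fin n) (Fin n) R} (hsπ : s ∘ₗ π = Matrix.toLin' E) : E * E = E := by
  apply Matrix.toLin'.injective
  rw [Matrix.toLin'_mul, ← hsπ]
  calc (s ∘ₗ π) ∘ₗ (s ∘ₗ π) = s ∘ₗ (π ∘ₗ s) ∘ₗ π := by
        simp only [LinearMap.comp_assoc]
    _ = s ∘ₗ π := by rw [hπs, LinearMap.id_comp]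

/-- **Affine Horrocks theorem.** -/
theorem extended_of_gluing (M : Type u) [AddCommGroup M] [Module A[X] M] [Module.Finite A[X] M]
    [Module.Projective A[X] M] (N : Type u) [AddCommGroup N] [Module A[X] N]
    [Module.Finite A[X] N] [Module.Projective A[X] N]
    (e : (A[T;T⁻¹] ⊗[A[X]] M) →ₛₗ[sig A] (A[T;T⁻¹] ⊗[A[X]] N)) (he : Function.Bijective e) :
    ∃ (P : Type u) (_ : AddCommGroup P) (_ : Module A P),
      Nonempty (M ≃ₗ[A[X]] (A[X] ⊗[A] P)) := by
  obtain ⟨n, s, π, hπs⟩ := exists_retract (R := A[X]) M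
  obtain ⟨m, t, ϖ, hϖt⟩ := exists_retract (R := A[X]) N
  set E := LinearMap.toMatrix' (s ∘ₗ π) with hEdef
  set F := LinearMap.toMatrix' (t ∘ₗ ϖ) with hFdef
  have hsπ : s ∘ₗ π = Matrix.toLin' E := (Matrix.toLin'_toMatrix' _).symm
  have htϖ : t ∘ₗ ϖ = Matrix.toLin' F := (Matrix.toLin'_toMatrix' _).symm
  have hE := idem_of_retract hπs hsπ
  have hF := idem_of_retract hϖt htϖ
  obtain ⟨U, V, hVU, hUV⟩ := exists_matrices e he s π hπs E hsπ t ϖ hϖt F htϖ
  exact exists_extended s π hπs E hsπ (extended_of_data E hE F hF U V hVU hUV)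

instance : IsScalarTower A A[X] A[T;T⁻¹] :=
  IsScalarTower.of_algebraMap_eq fun a => by
    rw [LaurentPolynomial.algebraMap_eq_toLaurent, ← Polynomial.C_eq_algebraMap,
      Polynomial.toLaurent_C]
    rfl

/-- the converse: an extended module extends to the projective line -/
theorem gluing_of_extended (M : Type u) [AddCommGroup M] [Module A[X] M] (P : Type u)
    [AddCommGroup P] [Module A P] (φ : M ≃ₗ[A[X]] (A[X] ⊗[A] P)) :
    ∃ e : (A[T;T⁻¹] ⊗[A[X]] M) →ₛₗ[sig A] (A[T;T⁻¹] ⊗[A[X]] M), Function.Bijective e := by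
  set c : A[T;T⁻¹] ⊗[A[X]] M ≃ₗ[A[T;T⁻¹]] A[T;T⁻¹] ⊗[A] P :=
    (LinearEquiv.baseChange A[X] A[T;T⁻¹] M _ φ) ≪≫ₗ
      (TensorProduct.AlgebraTensorModule.cancelBaseChange A A[X] A[T;T⁻¹] A[T;T⁻¹] P) with hc
  set τ : A[T;T⁻¹] ⊗[A] P →ₗ[A] A[T;T⁻¹] ⊗[A] P :=
    (LaurentPolynomial.invert (R := A)).toLinearMap.rTensor P with hτ
  have hτsmul : ∀ (a : A[T;T⁻¹]) (x : A[T;T⁻¹] ⊗[A] P), τ (a • x) = sig A a • τ x := by
    intro a x
    induction x using TensorProduct.induction_on with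
    | zero => simp
    | tmul l p =>
      rw [TensorProduct.smul_tmul', hτ, LinearMap.rTensor_tmul, LinearMap.rTensor_tmul,
        TensorProduct.smul_tmul', smul_eq_mul, smul_eq_mul]
      simp
    | add x y hx hy => rw [smul_add, map_add, hx, hy, map_add, smul_add]
  have hττ : ∀ x, τ (τ x) = x := by
    intro x
    induction x using TensorProduct.induction_on with
    | zero => simp
    | tmul l p =>
      rw [hτ, LinearMap.rTensor_tmul, LinearMap.rTensor_tmul]
      show invert (invert l) ⊗ₜ[A] p = l ⊗ₜ[A] p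
      rw [LaurentPolynomial.involutive_invert l]
    | add x y hx hy => rw [map_add, map_add, hx, hy]
  let e : (A[T;T⁻¹] ⊗[A[X]] M) →ₛₗ[sig A] (A[T;T⁻¹] ⊗[A[X]] M) :=
    { toFun := fun x => c.symm (τ (c x))
      map_add' := fun x y => by simp only [map_add]
      map_smul' := fun a x => by
        simp only [map_smul, hτsmul] }
  refine ⟨e, Function.bijective_iff_has_inverse.mpr ⟨e, fun x => ?_, fun x => ?_⟩⟩ <;>
  · show c.symm (τ (c (c.symm (τ (c x))))) = x
    rw [LinearEquiv.apply_symm_apply, hττ, LinearEquiv.symm_apply_apply]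

end Groth.Agent.Lib.helper10.HorG
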