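import Mathlib
import Groth.Agent.Lib.helper10.HorG

set_option autoImplicit false
set_option maxHeartbeats 800000

/-!
# Local freeness on the base of bundles on the projective line
-/

namespace Groth.Agent.Lib.helper10.HorH

open Matrix Polynomial LaurentPolynomial TensorProduct
open Groth.Agent.Lib.helper10.HorC Groth.Agent.Lib.helper10.HorD Groth.Agent.Lib.helper10.HorE
open Groth.Agent.Lib.helper10.HorF Groth.Agent.Lib.helper10.HorG

section Clear

variable {R S : Type*} [CommRing R] [CommRing S] [Algebra R S] (M : Submonoid R)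
  [IsLocalization M S]

theorem exists_clear_rect {da db : ℕ} (E : Matrix (Fin da) (Fin da) R) (E₀ : Matrix (Fin db) (Fin db) R)
    (α : Matrix (Fin da) (Fin db) S) (β : Matrix (Fin db) (Fin da) S)
    (h1 : α * β = E.map (algebraMap R S)) (h2 : β * α = E₀.map (algebraMap R S)) :
    ∃ g ∈ M, ∃ (α' : Matrix (Fin da) (Fin db) R) (β' : Matrix (Fin db) (Fin da) R),
      α' * β' = g • E ∧ β' * α' = g • E₀ := by
  classical
  obtain ⟨b, hb⟩ := IsLocalization.exist_integer_multiples_of_finite M
    (fun p : (Fin da × Fin db) ⊕ (Fin db × Fin da) =>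
      Sum.elim (fun p => α p.1 p.2) (fun p => β p.1 p.2) p)
  choose α₀ hα₀ using fun i j => hb (Sum.inl (i, j))
  choose β₀ hβ₀ using fun i j => hb (Sum.inr (i, j))
  have hα : (Matrix.of α₀).map (algebraMap R S) = algebraMap R S b • α := by
    refine Matrix.ext fun i j => ?_
    rw [Matrix.map_apply, Matrix.of_apply, hα₀ i j, Matrix.smul_apply, Sum.elim_inl,
      Algebra.smul_def, smul_eq_mul]
  have hβ : (Matrix.of β₀).map (algebraMap R S) = algebraMap R S b • β := by
    refine Matrix.ext fun i j => ?_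
    rw [Matrix.map_apply, Matrix.of_apply, hβ₀ i j, Matrix.smul_apply, Sum.elim_inr,
      Algebra.smul_def, smul_eq_mul]
  set e := Matrix.of α₀ * Matrix.of β₀ - ((b : R) * b) • E with he
  set e' := Matrix.of β₀ * Matrix.of α₀ - ((b : R) * b) • E₀ with he'
  have hemap : e.map (algebraMap R S) = 0 := by
    rw [he, Matrix.map_sub _ (map_sub _), Matrix.map_mul, hα, hβ, Matrix.smul_mul, Matrix.mul_smul,
      h1, smul_smul, HorD.map_smul_ringHom, map_mul, sub_self]
  have he'map : e'.map (algebraMap R S) = 0 := by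
    rw [he', Matrix.map_sub _ (map_sub _), Matrix.map_mul, hα, hβ, Matrix.smul_mul,
      Matrix.mul_smul, h2, smul_smul, HorD.map_smul_ringHom, map_mul, sub_self]
  have hk : ∀ i j, ∃ m : M, (m : R) * e i j = 0 := fun i j =>
    (IsLocalization.map_eq_zero_iff M S _).mp (congrFun (congrFun hemap i) j)
  have hk' : ∀ i j, ∃ m : M, (m : R) * e' i j = 0 := fun i j =>
    (IsLocalization.map_eq_zero_iff M S _).mp (congrFun (congrFun he'map i) j)
  choose k hk using hk
  choose k' hk' using hk'
  set g₁ : R := (∏ p : Fin da × Fin da, (k p.1 p.2 : R)) * (∏ p : Fin db × Fin db, (k' p.1 p.2 : R))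
    with hg₁
  have hg₁M : g₁ ∈ M := Submonoid.mul_mem _ (Submonoid.prod_mem _ fun p _ => (k p.1 p.2).2)
    (Submonoid.prod_mem _ fun p _ => (k' p.1 p.2).2)
  have hg₁e : g₁ • e = 0 := by
    refine Matrix.ext fun i j => ?_
    rw [Matrix.smul_apply, smul_eq_mul, Matrix.zero_apply]
    obtain ⟨c, hc⟩ : (k i j : R) ∣ g₁ := Dvd.dvd.mul_right
      (Finset.dvd_prod_of_mem (fun p : Fin da × Fin da => (k p.1 p.2 : R))
        (Finset.mem_univ ((i, j) : Fin da × Fin da))) _
    rw [hc, mul_comm (k i j : R) c, mul_assoc, hk i j, mul_zero]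
  have hg₁e' : g₁ • e' = 0 := by
    refine Matrix.ext fun i j => ?_
    rw [Matrix.smul_apply, smul_eq_mul, Matrix.zero_apply]
    obtain ⟨c, hc⟩ : (k' i j : R) ∣ g₁ := Dvd.dvd.mul_left
      (Finset.dvd_prod_of_mem (fun p : Fin db × Fin db => (k' p.1 p.2 : R))
        (Finset.mem_univ ((i, j) : Fin db × Fin db))) _
    rw [hc, mul_comm (k' i j : R) c, mul_assoc, hk' i j, mul_zero]
  have hgbM : g₁ * b ∈ M := Submonoid.mul_mem _ hg₁M b.2
  refine ⟨(g₁ * b) * (g₁ * b), Submonoid.mul_mem _ hgbM hgbM,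
    g₁ • Matrix.of α₀, g₁ • Matrix.of β₀, ?_, ?_⟩
  · have : Matrix.of α₀ * Matrix.of β₀ = e + ((b : R) * b) • E := by rw [he]; abel
    rw [Matrix.smul_mul, Matrix.mul_smul, this, smul_add, smul_add, hg₁e, smul_zero, zero_add,
      smul_smul, smul_smul]
    congr 1
    ring
  · have : Matrix.of β₀ * Matrix.of α₀ = e' + ((b : R) * b) • E₀ := by rw [he']; abel
    rw [Matrix.smul_mul, Matrix.mul_smul, this, smul_add, smul_add, hg₁e', smul_zero, zero_add,
      smul_smul, smul_smul]
    congr 1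
    ring

end Clear

section QuasiInverse

variable {R : Type*} [CommRing R] [IsDomain R] {c : R} (hc : c ≠ 0) {P : Type*} [AddCommGroup P]
  [Module R P] {r : ℕ}

/-- the coordinatewise localisation map -/
noncomputable def ell (c : R) (r : ℕ) : (Fin r → R) →ₗ[R] (Fin r → Localization.Away c) :=
  (Algebra.linearMap R (Localization.Away c)).compLeft (Fin r)

include hc in
theorem isLocalizedModule_of_quasiInverse (β : P →ₗ[R] (Fin r → R)) (bb : (Fin r → R) →ₗ[R] P)
    (h1 : ∀ z, bb (β z) = c • z) (h2 : ∀ v, β (bb v) = c • v) :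
    IsLocalizedModule (Submonoid.powers c) (ell c r ∘ₗ β) where
  map_units := (isLocalizedModule_id (Submonoid.powers c) (Fin r → Localization.Away c)
    (Localization.Away c)).map_units
  surj := by
    intro y
    obtain ⟨b, hb⟩ := IsLocalization.exist_integer_multiples_of_finite (Submonoid.powers c) y
    choose a ha using hb
    refine ⟨(bb a, ⟨c, Submonoid.mem_powers c⟩ * b), ?_⟩
    rw [LinearMap.comp_apply, h2, map_smul]
    funext j
    have := ha j
    simp only [ell, LinearMap.compLeft_apply, Function.comp_apply, Algebra.linearMap_apply,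
      Pi.smul_apply] at this ⊢
    rw [this, Submonoid.smul_def, Submonoid.coe_mul, mul_smul]
  exists_of_eq := by
    intro z₁ z₂ h
    have hinj : Function.Injective (algebraMap R (Localization.Away c)) :=
      IsLocalization.injective _ (powers_le_nonZeroDivisors_of_noZeroDivisors hc)
    have : β z₁ = β z₂ := by
      funext j
      have := congrFun h j
      simp only [ell, LinearMap.comp_apply, LinearMap.compLeft_apply, Function.comp_apply,
        Algebra.linearMap_apply] at this
      exact hinj this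
    refine ⟨⟨c, Submonoid.mem_powers c⟩, ?_⟩
    show c • z₁ = c • z₂
    rw [← h1, ← h1, this]

include hc in
theorem free_of_quasiInverse (β : P →ₗ[R] (Fin r → R)) (bb : (Fin r → R) →ₗ[R] P)
    (h1 : ∀ z, bb (β z) = c • z) (h2 : ∀ v, β (bb v) = c • v) :
    Module.Free (Localization.Away c) (LocalizedModule (Submonoid.powers c) P) := by
  haveI := isLocalizedModule_of_quasiInverse hc β bb h1 h2
  have e := (IsLocalizedModule.iso (Submonoid.powers c) (ell c r ∘ₗ β)).extendScalarsOfIsLocalization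
    (Submonoid.powers c) (Localization.Away c)
  exact Module.Free.of_equiv e.symm

end QuasiInverse

section Main

universe u

theorem exists_eqv {A : Type u} [CommRing A] (M : Type u) [AddCommGroup M] [Module A[X] M]
    [Module.Finite A[X] M] [Module.Projective A[X] M] (N : Type u) [AddCommGroup N]
    [Module A[X] N] [Module.Finite A[X] N] [Module.Projective A[X] N]
    (e : (A[T;T⁻¹] ⊗[A[X]] M) →ₛₗ[sig A] (A[T;T⁻¹] ⊗[A[X]] N)) (he : Function.Bijective e) :
    ∃ (n : ℕ) (s : M →ₗ[A[X]] (Fin n → A[X])) (π : (Fin n → A[X]) →ₗ[A[X]] M)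
      (E : Matrix (Fin n) (Fin n) A[X]), π ∘ₗ s = LinearMap.id ∧ s ∘ₗ π = Matrix.toLin' E ∧
        Eqv E (E.map (Polynomial.C.comp (evalRingHom 0))) := by
  obtain ⟨n, s, π, hπs⟩ := exists_retract (R := A[X]) M
  obtain ⟨m, t, ϖ, hϖt⟩ := exists_retract (R := A[X]) N
  set E := LinearMap.toMatrix' (s ∘ₗ π) with hEdef
  set F := LinearMap.toMatrix' (t ∘ₗ ϖ) with hFdef
  have hsπ : s ∘ₗ π = Matrix.toLin' E := (Matrix.toLin'_toMatrix' _).symm
  have htϖ : t ∘ₗ ϖ = Matrix.toLin' F := (Matrix.toLin'_toMatrix' _).symm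
  have hE := idem_of_retract hπs hsπ
  have hF := idem_of_retract hϖt htϖ
  obtain ⟨U, V, hVU, hUV⟩ := exists_matrices e he s π hπs E hsπ t ϖ hϖt F htϖ
  exact ⟨n, s, π, E, hπs, hsπ, extended_of_data E hE F hF U V hVU hUV⟩

variable {R : Type u} [CommRing R] [IsDomain R]

theorem free_localized {P : Type*} [AddCommGroup P] [Module R[X] P] {n : ℕ}
    (s : P →ₗ[R[X]] (Fin n → R[X])) (π : (Fin n → R[X]) →ₗ[R[X]] P)
    (hπs : π ∘ₗ s = LinearMap.id) (E : Matrix (Fin n) (Fin n) R[X])
    (hsπ : s ∘ₗ π = Matrix.toLin' E)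
    (h : Eqv E (E.map (Polynomial.C.comp (evalRingHom 0)))) (g : R) (hg : g ≠ 0) {r : ℕ}
    (X' : Matrix (Fin r) (Fin n) R) (Y' : Matrix (Fin n) (Fin r) R)
    (h1 : X' * Y' = g • (1 : Matrix (Fin r) (Fin r) R))
    (h2 : Y' * X' = g • E.map (evalRingHom 0)) :
    Module.Free (Localization.Away (Polynomial.C g))
      (LocalizedModule (Submonoid.powers (Polynomial.C g)) P) := by
  obtain ⟨G, H, hGH, hHG⟩ := h
  have hE := idem_of_retract hπs hsπ
  set E₀ := E.map (Polynomial.C.comp (evalRingHom (0 : R))) with hE₀def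
  have hE₀ : E₀ * E₀ = E₀ := map_idem hE _
  set CX := X'.map (Polynomial.C : R →+* R[X]) with hCX
  set CY := Y'.map (Polynomial.C : R →+* R[X]) with hCY
  have hcg : (Polynomial.C g : R[X]) ≠ 0 := Polynomial.C_ne_zero.mpr hg
  have hXY : CX * CY = Polynomial.C g • (1 : Matrix (Fin r) (Fin r) R[X]) := by
    rw [hCX, hCY, ← Matrix.map_mul, h1, HorD.map_smul_ringHom, map_one_ringHom]
  have hYX : CY * CX = Polynomial.C g • E₀ := by
    rw [hCX, hCY, ← Matrix.map_mul, h2, HorD.map_smul_ringHom, Matrix.map_map]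
    rfl
  have key : CX * E₀ * CY = Polynomial.C g • (1 : Matrix (Fin r) (Fin r) R[X]) := by
    have e1 : Polynomial.C g • (CX * E₀ * CY) =
        Polynomial.C g • (Polynomial.C g • (1 : Matrix (Fin r) (Fin r) R[X])) := by
      calc Polynomial.C g • (CX * E₀ * CY) = CX * (Polynomial.C g • E₀) * CY := by
            rw [Matrix.mul_smul, Matrix.smul_mul]
        _ = (CX * CY) * (CX * CY) := by rw [← hYX]; simp only [Matrix.mul_assoc]
        _ = _ := by rw [hXY, Matrix.smul_mul, Matrix.one_mul]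
    refine Matrix.ext fun i j => ?_
    have := congrFun (congrFun e1 i) j
    simp only [Matrix.smul_apply, smul_eq_mul] at this
    exact mul_left_cancel₀ hcg this
  have hss : ∀ z, s (π (s z)) = s z := fun z => by
    rw [← LinearMap.comp_apply π s, hπs, LinearMap.id_apply]
  have hsπv : ∀ v, s (π v) = Matrix.toLin' E v := fun v => LinearMap.congr_fun hsπ v
  have hπsz : ∀ z, π (s z) = z := fun z => LinearMap.congr_fun hπs z
  set β : P →ₗ[R[X]] (Fin r → R[X]) := Matrix.toLin' (CX * H) ∘ₗ s with hβ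
  set bb : (Fin r → R[X]) →ₗ[R[X]] P := π ∘ₗ Matrix.toLin' (G * CY) with hbb
  have m1 : G * CY * (CX * H) = Polynomial.C g • E := by
    calc G * CY * (CX * H) = G * ((CY * CX) * H) := by simp only [Matrix.mul_assoc]
      _ = Polynomial.C g • (G * ((H * G) * H)) := by
          rw [hYX, hHG, Matrix.smul_mul, Matrix.mul_smul]
      _ = Polynomial.C g • ((G * H) * (G * H)) := by simp only [Matrix.mul_assoc]
      _ = _ := by rw [hGH, hE]
  have m2 : CX * H * E * (G * CY) = Polynomial.C g • (1 : Matrix (Fin r) (Fin r) R[X]) := by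
    calc CX * H * E * (G * CY) = CX * ((H * (G * H)) * G) * CY := by
          rw [hGH]; simp only [Matrix.mul_assoc]
      _ = CX * ((H * G) * (H * G)) * CY := by simp only [Matrix.mul_assoc]
      _ = _ := by rw [hHG, hE₀, key]
  refine free_of_quasiInverse hcg β bb (fun z => ?_) (fun v => ?_)
  · show π (Matrix.toLin' (G * CY) (Matrix.toLin' (CX * H) (s z))) = _
    rw [← Matrix.toLin'_mul_apply, m1, Matrix.toLin'_apply, Matrix.smul_mulVec, map_smul,
      ← Matrix.toLin'_apply, ← hsπv, hπsz, hπsz]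
  · show Matrix.toLin' (CX * H) (s (π (Matrix.toLin' (G * CY) v))) = _
    rw [hsπv, ← Matrix.toLin'_mul_apply, ← Matrix.toLin'_mul_apply, m2, Matrix.toLin'_apply,
      Matrix.smul_mulVec, Matrix.one_mulVec]

theorem exists_cover {P : Type*} [AddCommGroup P] [Module R[X] P] {n : ℕ}
    (s : P →ₗ[R[X]] (Fin n → R[X])) (π : (Fin n → R[X]) →ₗ[R[X]] P)
    (hπs : π ∘ₗ s = LinearMap.id) (E : Matrix (Fin n) (Fin n) R[X])
    (hsπ : s ∘ₗ π = Matrix.toLin' E)
    (h : Eqv E (E.map (Polynomial.C.comp (evalRingHom 0)))) :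
    ∃ (k : ℕ) (g : Fin k → R), Ideal.span (Set.range g) = ⊤ ∧
      ∀ i, Module.Free (Localization.Away (Polynomial.C (g i) : R[X]))
        (LocalizedModule (Submonoid.powers (Polynomial.C (g i) : R[X])) P) := by
  have hE := idem_of_retract hπs hsπ
  set E0 := E.map (evalRingHom (0 : R)) with hE0def
  have hE0 : E0 * E0 = E0 := map_idem hE _
  set Good : Set R := {g | g ≠ 0 ∧ ∃ (r : ℕ) (X' : Matrix (Fin r) (Fin n) R)
    (Y' : Matrix (Fin n) (Fin r) R), X' * Y' = g • (1 : Matrix (Fin r) (Fin r) R) ∧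
      Y' * X' = g • E0} with hGood
  have hspan : Ideal.span Good = ⊤ := by
    by_contra hne
    obtain ⟨𝔪, h𝔪, hle⟩ := Ideal.exists_le_maximal _ hne
    haveI := h𝔪.isPrime
    set R' := Localization.AtPrime 𝔪 with hR'
    set E0' := E0.map (algebraMap R R') with hE0'
    have hE0'i : E0' * E0' = E0' := map_idem hE0 _
    haveI := projective_range E0' hE0'i
    have hfree : Module.Free R' (LinearMap.range (Matrix.toLin' E0')) :=
      Module.free_of_flat_of_isLocalRing
    obtain ⟨r, X₀, Y₀, hXY, hYX⟩ := exists_factor_of_free E0' hE0'i hfree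
    obtain ⟨g, hg, X', Y', e1, e2⟩ := exists_clear_rect 𝔪.primeCompl
      (1 : Matrix (Fin r) (Fin r) R) E0 X₀ Y₀ (by rw [hXY, map_one_ringHom]) hYX
    have hg0 : g ≠ 0 := by
      rintro rfl
      exact hg 𝔪.zero_mem
    exact hg (hle (Ideal.subset_span ⟨hg0, r, X', Y', e1, e2⟩))
  obtain ⟨s', hs', hs'top⟩ := (Ideal.span_eq_top_iff_finite Good).mp hspan
  refine ⟨s'.card, fun i => (s'.equivFin.symm i : R), ?_, fun i => ?_⟩
  · have : Set.range (fun i => (s'.equivFin.symm i : R)) = (s' : Set R) := by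
      ext x
      constructor
      · rintro ⟨i, rfl⟩
        exact (s'.equivFin.symm i).2
      · intro hx
        exact ⟨s'.equivFin ⟨x, hx⟩, by simp⟩
    rw [this, hs'top]
  · obtain ⟨hg0, r, X', Y', e1, e2⟩ := hs' (s'.equivFin.symm i).2
    exact free_localized s π hπs E hsπ h _ hg0 X' Y' e1 e2

end Main

end Groth.Agent.Lib.helper10.HorH
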