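import Mathlib
import Groth.Agent.Lib.helper10.HorH

set_option autoImplicit false
set_option maxHeartbeats 800000

/-!
# Projective modules that become isomorphic over `A(t)` are isomorphic
-/

namespace Groth.Agent.Lib.helper10.HorI

open Matrix Polynomial LaurentPolynomial TensorProduct
open Groth.Agent.Lib.helper10.HorC Groth.Agent.Lib.helper10.HorD Groth.Agent.Lib.helper10.HorE
open Groth.Agent.Lib.helper10.HorF Groth.Agent.Lib.helper10.HorG

section Reindex

variable {A : Type*} [CommRing A] {ι κ : Type*} [Fintype ι] [DecidableEq ι] [Fintype κ]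
  [DecidableEq κ]

/-- affine Horrocks in matrix form, for arbitrary finite index types -/
theorem extended_of_data' (E : Matrix ι ι A[X]) (hE : E * E = E) (F : Matrix κ κ A[X])
    (hF : F * F = F) (U : Matrix κ ι A[T;T⁻¹]) (V : Matrix ι κ A[T;T⁻¹])
    (hVU : V * U = E.map (iot A)) (hUV : U * V = (F.map (iot A)).map (sig A)) :
    ∃ G H : Matrix ι ι A[X], G * H = E ∧ H * G = E.map (Polynomial.C.comp (evalRingHom 0)) := by
  set eι := Fintype.equivFin ι with heι
  set eκ := Fintype.equivFin κ with heκ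
  obtain ⟨G, H, h1, h2⟩ := extended_of_data (E.submatrix eι.symm eι.symm)
    (by rw [Matrix.submatrix_mul_equiv, hE])
    (F.submatrix eκ.symm eκ.symm) (by rw [Matrix.submatrix_mul_equiv, hF])
    (U.submatrix eκ.symm eι.symm) (V.submatrix eι.symm eκ.symm)
    (by rw [Matrix.submatrix_mul_equiv, hVU]; rfl)
    (by rw [Matrix.submatrix_mul_equiv, hUV]; rfl)
  refine ⟨G.submatrix eι eι, H.submatrix eι eι, ?_, ?_⟩
  · rw [Matrix.submatrix_mul_equiv, h1, Matrix.submatrix_submatrix]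
    simp
  · rw [Matrix.submatrix_mul_equiv, h2]
    ext i j
    simp

end Reindex

section Isogeny

variable {A : Type*} [CommRing A] {n n' : ℕ}

theorem exists_uv {h : A[X]} (h0 : h.eval 0 = 1) (m : ℕ) :
    ∃ u v : A[X], u * h + v * X ^ m = 1 := by
  obtain ⟨q, hq⟩ := sub_dvd_pow_sub_pow (1 : A[X]) (1 - h) m
  have hX : (X : A[X]) ∣ 1 - h := by
    rw [Polynomial.X_dvd_iff, coeff_sub, coeff_one_zero, coeff_zero_eq_eval_zero, h0, sub_self]
  obtain ⟨w, hw⟩ := pow_dvd_pow_of_dvd hX m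
  refine ⟨q, w, ?_⟩
  have : (1 : A[X]) - (1 - h) = h := by ring
  rw [this, one_pow] at hq
  linear_combination (-1 : A[X]) * hq - hw

theorem mvn_of_isogeny (p : Matrix (Fin n) (Fin n) A) (p' : Matrix (Fin n') (Fin n') A)
    (hp : p * p = p) (hp' : p' * p' = p')
    (a : Matrix (Fin n) (Fin n') A[X]) (b : Matrix (Fin n') (Fin n) A[X]) (h : A[X]) (m : ℕ)
    (h0 : h.eval 0 = 1)
    (hab : a * b = (X ^ m * h) • p.map (Polynomial.C : A →+* A[X]))
    (hba : b * a = (X ^ m * h) • p'.map (Polynomial.C : A →+* A[X]))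
    (hpa : p.map (Polynomial.C : A →+* A[X]) * a = a)
    (hap' : a * p'.map (Polynomial.C : A →+* A[X]) = a)
    (hp'b : p'.map (Polynomial.C : A →+* A[X]) * b = b)
    (hbp : b * p.map (Polynomial.C : A →+* A[X]) = b) :
    ∃ (a₀ : Matrix (Fin n) (Fin n') A) (b₀ : Matrix (Fin n') (Fin n) A),
      a₀ * b₀ = p ∧ b₀ * a₀ = p' := by
  obtain ⟨u, v, huv⟩ := exists_uv h0 m
  set Cp := p.map (Polynomial.C : A →+* A[X]) with hCp
  set Cp' := p'.map (Polynomial.C : A →+* A[X]) with hCp'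
  have hCpi : Cp * Cp = Cp := map_idem hp _
  have hCp'i : Cp' * Cp' = Cp' := map_idem hp' _
  -- the four structure matrices
  set J₁ : Matrix (Fin n' ⊕ Fin n) (Fin n') A[X] := Matrix.fromRows (h • Cp') a with hJ₁
  set P₁ : Matrix (Fin n') (Fin n' ⊕ Fin n) A[X] := Matrix.fromCols Cp' 0 with hP₁
  set J₂ : Matrix (Fin n' ⊕ Fin n) (Fin n) A[X] := Matrix.fromRows b ((X ^ m : A[X]) • Cp) with hJ₂
  set P₂ : Matrix (Fin n) (Fin n' ⊕ Fin n) A[X] := Matrix.fromCols 0 Cp with hP₂
  have r11 : P₁ * J₁ = h • Cp' := by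
    rw [hP₁, hJ₁, Matrix.fromCols_mul_fromRows, Matrix.zero_mul, add_zero, Matrix.mul_smul, hCp'i]
  have r22 : P₂ * J₂ = (X ^ m : A[X]) • Cp := by
    rw [hP₂, hJ₂, Matrix.fromCols_mul_fromRows, Matrix.zero_mul, zero_add, Matrix.mul_smul, hCpi]
  have r12 : P₁ * J₂ = b := by
    rw [hP₁, hJ₂, Matrix.fromCols_mul_fromRows, Matrix.zero_mul, add_zero, hp'b]
  have r21 : P₂ * J₁ = a := by
    rw [hP₂, hJ₁, Matrix.fromCols_mul_fromRows, Matrix.zero_mul, zero_add, hpa]
  have j1 : J₁ * Cp' = J₁ := by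
    rw [hJ₁, Matrix.fromRows_mul, Matrix.smul_mul, hCp'i, hap']
  have j2 : J₂ * Cp = J₂ := by
    rw [hJ₂, Matrix.fromRows_mul, Matrix.smul_mul, hCpi, hbp]
  have j1b : J₁ * b = h • J₂ := by
    rw [hJ₁, hJ₂, Matrix.fromRows_mul, Matrix.smul_mul, hp'b, hab]
    refine Matrix.ext fun i j => ?_
    rcases i with i | i
    · simp
    · simp only [Matrix.fromRows_apply_inr, Matrix.smul_apply, smul_eq_mul]
      ring
  have j2a : J₂ * a = (X ^ m : A[X]) • J₁ := by
    rw [hJ₁, hJ₂, Matrix.fromRows_mul, Matrix.smul_mul, hpa, hba]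
    refine Matrix.ext fun i j => ?_
    rcases i with i | i
    · simp only [Matrix.fromRows_apply_inl, Matrix.smul_apply, smul_eq_mul]
      ring
    · simp
  set e₁ := J₁ * P₁ with he₁
  set e₂ := J₂ * P₂ with he₂
  set EE := u • e₁ + v • e₂ with hEE
  have EJ₁ : EE * J₁ = J₁ := by
    rw [hEE, Matrix.add_mul, Matrix.smul_mul, Matrix.smul_mul, he₁, he₂, Matrix.mul_assoc,
      Matrix.mul_assoc, r11, r21, Matrix.mul_smul, j1, j2a, smul_smul, smul_smul, ← add_smul, huv,
      one_smul]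
  have EJ₂ : EE * J₂ = J₂ := by
    rw [hEE, Matrix.add_mul, Matrix.smul_mul, Matrix.smul_mul, he₁, he₂, Matrix.mul_assoc,
      Matrix.mul_assoc, r12, r22, Matrix.mul_smul, j2, j1b, smul_smul, smul_smul, ← add_smul, huv,
      one_smul]
  have hEEi : EE * EE = EE := by
    conv_lhs => rw [hEE]
    rw [Matrix.mul_add, Matrix.mul_smul, Matrix.mul_smul, he₁, he₂, ← Matrix.mul_assoc,
      ← Matrix.mul_assoc, EJ₁, EJ₂]
  have e1E : e₁ * EE = h • EE := by
    rw [hEE, Matrix.mul_add, Matrix.mul_smul, Matrix.mul_smul]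
    have h11 : e₁ * e₁ = h • e₁ := by
      rw [he₁, Matrix.mul_assoc, ← Matrix.mul_assoc P₁, r11, Matrix.smul_mul, Matrix.mul_smul,
        ← Matrix.mul_assoc, j1]
    have h12 : e₁ * e₂ = h • e₂ := by
      rw [he₁, he₂, Matrix.mul_assoc, ← Matrix.mul_assoc P₁, r12, ← Matrix.mul_assoc, j1b,
        Matrix.smul_mul]
    rw [h11, h12, smul_add, smul_comm u h, smul_comm v h]
  have e2E : e₂ * EE = (X ^ m : A[X]) • EE := by
    rw [hEE, Matrix.mul_add, Matrix.mul_smul, Matrix.mul_smul]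
    have h21 : e₂ * e₁ = (X ^ m : A[X]) • e₁ := by
      rw [he₁, he₂, Matrix.mul_assoc, ← Matrix.mul_assoc P₂, r21, ← Matrix.mul_assoc, j2a,
        Matrix.smul_mul]
    have h22 : e₂ * e₂ = (X ^ m : A[X]) • e₂ := by
      rw [he₂, Matrix.mul_assoc, ← Matrix.mul_assoc P₂, r22, Matrix.smul_mul, Matrix.mul_smul,
        ← Matrix.mul_assoc, j2]
    rw [h21, h22, smul_add, smul_comm u (X ^ m : A[X]), smul_comm v (X ^ m : A[X])]
  -- Horrocks
  set V : Matrix (Fin n' ⊕ Fin n) (Fin n) A[T;T⁻¹] := (T (-(m : ℤ)) : A[T;T⁻¹]) • J₂.map (iot A)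
    with hV
  set U : Matrix (Fin n) (Fin n' ⊕ Fin n) A[T;T⁻¹] := (P₂ * EE).map (iot A) with hU
  have hTm : (T (-(m : ℤ)) : A[T;T⁻¹]) * iot A (X ^ m) = 1 := by
    show T (-(m : ℤ)) * toLaurent (X ^ m) = 1
    rw [Polynomial.toLaurent_X_pow, ← T_add, neg_add_cancel, T_zero]
  have hVU : V * U = EE.map (iot A) := by
    rw [hV, hU, Matrix.smul_mul, ← Matrix.map_mul, ← Matrix.mul_assoc, ← he₂, e2E,
      HorD.map_smul_ringHom, smul_smul, hTm, one_smul]
  have hUV : U * V = (Cp.map (iot A)).map (sig A) := by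
    rw [hV, hU, Matrix.mul_smul, ← Matrix.map_mul, Matrix.mul_assoc, EJ₂, r22,
      HorD.map_smul_ringHom, smul_smul, hTm, one_smul, hCp]
    refine Matrix.ext fun i j => ?_
    simp only [Matrix.map_apply]
    show toLaurent (Polynomial.C (p i j)) = invert (toLaurent (Polynomial.C (p i j)))
    rw [Polynomial.toLaurent_C, invert_C]
  obtain ⟨G, H, hGH, hHG⟩ := extended_of_data' EE hEEi Cp hCpi U V hVU hUV
  -- evaluations
  set ev0 : A[X] →+* A := evalRingHom 0 with hev0
  set ev1 : A[X] →+* A := evalRingHom 1 with hev1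
  have hev0C : ∀ (ι κ : Type) (Mx : Matrix ι κ A), (Mx.map (Polynomial.C : A →+* A[X])).map ev0 = Mx := by
    intro ι κ Mx
    rw [Matrix.map_map]
    refine Matrix.ext fun i j => ?_
    simp [hev0]
  have hev1C : ∀ (ι κ : Type) (Mx : Matrix ι κ A), (Mx.map (Polynomial.C : A →+* A[X])).map ev1 = Mx := by
    intro ι κ Mx
    rw [Matrix.map_map]
    refine Matrix.ext fun i j => ?_
    simp [hev1]
  -- the three equivalences
  have q1 : (J₁.map ev0) * ((P₁ * EE).map ev0) = EE.map ev0 := by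
    rw [← Matrix.map_mul, ← Matrix.mul_assoc, ← he₁, e1E, HorD.map_smul_ringHom]
    have : ev0 h = 1 := h0
    rw [this, one_smul]
  have q1' : ((P₁ * EE).map ev0) * (J₁.map ev0) = p' := by
    rw [← Matrix.map_mul, Matrix.mul_assoc, EJ₁, r11, HorD.map_smul_ringHom]
    have : ev0 h = 1 := h0
    rw [this, one_smul, hCp', hev0C]
  have q2 : (J₂.map ev1) * ((P₂ * EE).map ev1) = EE.map ev1 := by
    rw [← Matrix.map_mul, ← Matrix.mul_assoc, ← he₂, e2E, HorD.map_smul_ringHom]
    have : ev1 (X ^ m) = 1 := by simp [hev1]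
    rw [this, one_smul]
  have q2' : ((P₂ * EE).map ev1) * (J₂.map ev1) = p := by
    rw [← Matrix.map_mul, Matrix.mul_assoc, EJ₂, r22, HorD.map_smul_ringHom]
    have : ev1 (X ^ m) = 1 := by simp [hev1]
    rw [this, one_smul, hCp, hev1C]
  have q3 : G.map ev1 * H.map ev1 = EE.map ev1 := by rw [← Matrix.map_mul, hGH]
  have q3' : H.map ev1 * G.map ev1 = EE.map ev0 := by
    rw [← Matrix.map_mul, hHG, Matrix.map_map]
    refine Matrix.ext fun i j => ?_
    simp [hev1, hev0]
  have hE0i : EE.map ev0 * EE.map ev0 = EE.map ev0 := by rw [← Matrix.map_mul, hEEi]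
  have hE1i : EE.map ev1 * EE.map ev1 = EE.map ev1 := by rw [← Matrix.map_mul, hEEi]
  refine ⟨(P₂ * EE).map ev1 * G.map ev1 * J₁.map ev0,
    (P₁ * EE).map ev0 * H.map ev1 * J₂.map ev1, ?_, ?_⟩
  · calc (P₂ * EE).map ev1 * G.map ev1 * J₁.map ev0 *
          ((P₁ * EE).map ev0 * H.map ev1 * J₂.map ev1)
        = (P₂ * EE).map ev1 * (G.map ev1 * ((J₁.map ev0 * (P₁ * EE).map ev0) * H.map ev1)) *
          J₂.map ev1 := by simp only [Matrix.mul_assoc]
      _ = (P₂ * EE).map ev1 * ((G.map ev1 * H.map ev1) * (G.map ev1 * H.map ev1)) *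
          J₂.map ev1 := by rw [q1, ← q3']; simp only [Matrix.mul_assoc]
      _ = ((P₂ * EE).map ev1 * J₂.map ev1) * ((P₂ * EE).map ev1 * J₂.map ev1) := by
          rw [q3, hE1i, ← q2]; simp only [Matrix.mul_assoc]
      _ = p := by rw [q2', hp]
  · calc (P₁ * EE).map ev0 * H.map ev1 * J₂.map ev1 *
          ((P₂ * EE).map ev1 * G.map ev1 * J₁.map ev0)
        = (P₁ * EE).map ev0 * (H.map ev1 * ((J₂.map ev1 * (P₂ * EE).map ev1) * G.map ev1)) *
          J₁.map ev0 := by simp only [Matrix.mul_assoc]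
      _ = (P₁ * EE).map ev0 * ((H.map ev1 * G.map ev1) * (H.map ev1 * G.map ev1)) *
          J₁.map ev0 := by rw [q2, ← q3]; simp only [Matrix.mul_assoc]
      _ = ((P₁ * EE).map ev0 * J₁.map ev0) * ((P₁ * EE).map ev0 * J₁.map ev0) := by
          rw [q3', hE0i, ← q1]; simp only [Matrix.mul_assoc]
      _ = p' := by rw [q1', hp']

end Isogeny


section Normalize

variable {R : Type*} [CommRing R] {ι κ : Type*} [Fintype ι] [Fintype κ] [DecidableEq ι]
  [DecidableEq κ]

theorem normalize (c : Matrix ι ι R) (c' : Matrix κ κ R) (hc : c * c = c) (hc' : c' * c' = c')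
    (g : R) (α : Matrix ι κ R) (β : Matrix κ ι R) (h1 : α * β = g • c) (h2 : β * α = g • c') :
    ∃ (a : Matrix ι κ R) (b : Matrix κ ι R), a * b = (g ^ 3) • c ∧ b * a = (g ^ 3) • c' ∧
      c * a = a ∧ a * c' = a ∧ c' * b = b ∧ b * c = b := by
  refine ⟨α * β * α, β * α * β, ?_, ?_, ?_, ?_, ?_, ?_⟩
  · calc α * β * α * (β * α * β) = (α * β) * (α * β) * (α * β) := by
          simp only [Matrix.mul_assoc]
      _ = (g ^ 3) • c := by
          rw [h1]
          simp only [Matrix.smul_mul, Matrix.mul_smul, hc, smul_smul]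
          congr 1
          ring
  · calc β * α * β * (α * β * α) = (β * α) * (β * α) * (β * α) := by
          simp only [Matrix.mul_assoc]
      _ = (g ^ 3) • c' := by
          rw [h2]
          simp only [Matrix.smul_mul, Matrix.mul_smul, hc', smul_smul]
          congr 1
          ring
  · rw [h1, ← Matrix.mul_assoc, Matrix.mul_smul, hc]
  · rw [Matrix.mul_assoc α β α, h2, Matrix.mul_assoc, Matrix.smul_mul, hc']
  · rw [h2, ← Matrix.mul_assoc, Matrix.mul_smul, hc']
  · rw [Matrix.mul_assoc β α β, h1, Matrix.mul_assoc, Matrix.smul_mul, hc]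

end Normalize

section Reflect

variable {A : Type*} [CommRing A] {ι κ : Type*}

theorem map_reflect (k : ℕ) (a : Matrix ι κ A[X]) (hk : ∀ i j, (a i j).natDegree ≤ k) :
    (a.map (reflect k)).map (iot A) = (T (k : ℤ) : A[T;T⁻¹]) • (a.map (iot A)).map (sig A) := by
  refine Matrix.ext fun i j => ?_
  simp only [Matrix.map_apply, Matrix.smul_apply, smul_eq_mul]
  show toLaurent (reflect k (a i j)) = T k * invert (toLaurent (a i j))
  rw [toLaurent_reflect k _ (hk i j), mul_comm]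

theorem map_C_iot_sig (c : Matrix ι κ A) :
    ((c.map (Polynomial.C : A →+* A[X])).map (iot A)).map (sig A) =
      (c.map (Polynomial.C : A →+* A[X])).map (iot A) := by
  refine Matrix.ext fun i j => ?_
  simp only [Matrix.map_apply]
  show invert (toLaurent (Polynomial.C (c i j))) = toLaurent (Polynomial.C (c i j))
  rw [Polynomial.toLaurent_C, invert_C]

variable [Fintype κ]

theorem reflect_relation (k d : ℕ) (a : Matrix ι κ A[X]) (b : Matrix κ ι A[X]) (g : A[X])
    (hg : g.natDegree ≤ d) (hdk : d ≤ 2 * k) (c : Matrix ι ι A)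
    (ha : ∀ i j, (a i j).natDegree ≤ k) (hb : ∀ i j, (b i j).natDegree ≤ k)
    (hab : a * b = g • c.map (Polynomial.C : A →+* A[X])) :
    a.map (reflect k) * b.map (reflect k) =
      (X ^ (2 * k - d) * reflect d g) • c.map (Polynomial.C : A →+* A[X]) := by
  apply Matrix.map_injective (Polynomial.toLaurent_injective (R := A))
  show (a.map (reflect k) * b.map (reflect k)).map (iot A) =
    ((X ^ (2 * k - d) * reflect d g) • c.map (Polynomial.C : A →+* A[X])).map (iot A)
  rw [Matrix.map_mul, map_reflect k a ha, map_reflect k b hb, Matrix.smul_mul, Matrix.mul_smul,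
    smul_smul, ← Matrix.map_mul, ← Matrix.map_mul, hab, HorD.map_smul_ringHom,
    HorD.map_smul_ringHom, HorD.map_smul_ringHom, map_C_iot_sig, smul_smul, map_mul]
  congr 1
  have h1 : iot A (reflect d g) = sig A (iot A g) * T (d : ℤ) := toLaurent_reflect d g hg
  have h2 : iot A (X ^ (2 * k - d)) = T ((2 * k - d : ℕ) : ℤ) := Polynomial.toLaurent_X_pow _
  rw [h1, h2, ← T_add]
  have h3 : (T ((2 * k - d : ℕ) : ℤ) : A[T;T⁻¹]) * (sig A (iot A g) * T (d : ℤ)) =
      T ((2 * k - d : ℕ) : ℤ) * T (d : ℤ) * sig A (iot A g) := by ring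
  rw [h3, ← T_add]
  congr 2
  omega

end Reflect

section Abstract2

variable {R : Type*} [CommRing R] {M V M' V' : Type*} [AddCommGroup M] [AddCommGroup V]
  [AddCommGroup M'] [AddCommGroup V'] [Module R M] [Module R V] [Module R M'] [Module R V']

/-- two retracts (of possibly different modules) whose idempotents are Murray–von Neumann
equivalent are isomorphic -/
noncomputable def equivOfFactor₂ (s : M →ₗ[R] V) (π : V →ₗ[R] M) (hπs : π ∘ₗ s = LinearMap.id)
    (s' : M' →ₗ[R] V') (π' : V' →ₗ[R] M') (hπs' : π' ∘ₗ s' = LinearMap.id)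
    (g : V' →ₗ[R] V) (h : V →ₗ[R] V')
    (hgh : g ∘ₗ h = s ∘ₗ π) (hhg : h ∘ₗ g = s' ∘ₗ π') : M ≃ₗ[R] M' :=
  LinearEquiv.ofLinear (π' ∘ₗ h ∘ₗ s) (π ∘ₗ g ∘ₗ s')
    (by
      have e1 : ∀ v, s (π v) = g (h v) := fun v => (LinearMap.congr_fun hgh v).symm
      have e2 : ∀ v, h (g v) = s' (π' v) := fun v => LinearMap.congr_fun hhg v
      have e3 : ∀ q, π' (s' q) = q := fun q => LinearMap.congr_fun hπs' q
      refine LinearMap.ext fun q => ?_
      simp only [LinearMap.comp_apply, LinearMap.id_apply]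
      rw [e1, e2, e2, e3, e3]
      exact e3 q)
    (by
      have e1 : ∀ v, g (h v) = s (π v) := fun v => LinearMap.congr_fun hgh v
      have e2 : ∀ v, s' (π' v) = h (g v) := fun v => (LinearMap.congr_fun hhg v).symm
      have e3 : ∀ z, π (s z) = z := fun z => LinearMap.congr_fun hπs z
      refine LinearMap.ext fun z => ?_
      simp only [LinearMap.comp_apply, LinearMap.id_apply]
      rw [e2, e1, e1, e3, e3]
      exact e3 z)

end Abstract2


section Main

universe u

variable {A : Type u} [CommRing A]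

theorem exists_matrices_At (At : Type*) [CommRing At] [Algebra A At]
    {P P' : Type*} [AddCommGroup P] [Module A P] [AddCommGroup P'] [Module A P'] {n n' : ℕ}
    {s : P →ₗ[A] (Fin n → A)} {π : (Fin n → A) →ₗ[A] P} (hπs : π ∘ₗ s = LinearMap.id)
    {s' : P' →ₗ[A] (Fin n' → A)} {π' : (Fin n' → A) →ₗ[A] P'} (hπs' : π' ∘ₗ s' = LinearMap.id)
    {p : Matrix (Fin n) (Fin n) A} (hp : s ∘ₗ π = Matrix.toLin' p)
    {p' : Matrix (Fin n') (Fin n') A} (hp' : s' ∘ₗ π' = Matrix.toLin' p')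
    (φ : (At ⊗[A] P) ≃ₗ[At] (At ⊗[A] P')) :
    ∃ (α : Matrix (Fin n) (Fin n') At) (β : Matrix (Fin n') (Fin n) At),
      α * β = p.map (algebraMap A At) ∧ β * α = p'.map (algebraMap A At) := by
  refine ⟨LinearMap.toMatrix' (sHat At s ∘ₗ φ.symm.toLinearMap ∘ₗ piHat At π'),
    LinearMap.toMatrix' (sHat At s' ∘ₗ φ.toLinearMap ∘ₗ piHat At π), ?_, ?_⟩
  · rw [← LinearMap.toMatrix'_comp]
    have : (sHat At s ∘ₗ φ.symm.toLinearMap ∘ₗ piHat At π') ∘ₗ
        (sHat At s' ∘ₗ φ.toLinearMap ∘ₗ piHat At π) =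
        Matrix.toLin' (p.map (algebraMap A At)) := by
      refine LinearMap.ext fun v => ?_
      simp only [LinearMap.comp_apply, LinearEquiv.coe_coe]
      rw [piHat_sHat At hπs', LinearEquiv.symm_apply_apply, sHat_piHat At hp]
    rw [this, LinearMap.toMatrix'_toLin']
  · rw [← LinearMap.toMatrix'_comp]
    have : (sHat At s' ∘ₗ φ.toLinearMap ∘ₗ piHat At π) ∘ₗ
        (sHat At s ∘ₗ φ.symm.toLinearMap ∘ₗ piHat At π') =
        Matrix.toLin' (p'.map (algebraMap A At)) := by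
      refine LinearMap.ext fun v => ?_
      simp only [LinearMap.comp_apply, LinearEquiv.coe_coe]
      rw [piHat_sHat At hπs, LinearEquiv.apply_symm_apply, sHat_piHat At hp']
    rw [this, LinearMap.toMatrix'_toLin']

theorem main (M : Submonoid A[X]) (hM : ∀ f : A[X], f ∈ M ↔ f.Monic)
    (At : Type u) [CommRing At] [Algebra A[X] At] [IsLocalization M At]
    [Algebra A At] [IsScalarTower A A[X] At]
    (P P' : Type u) [AddCommGroup P] [Module A P] [Module.Finite A P] [Module.Projective A P]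
    [AddCommGroup P'] [Module A P'] [Module.Finite A P'] [Module.Projective A P']
    (φ : (At ⊗[A] P) ≃ₗ[At] (At ⊗[A] P')) : Nonempty (P ≃ₗ[A] P') := by
  obtain ⟨n, s, π, hπs⟩ := exists_retract (R := A) P
  obtain ⟨n', s', π', hπs'⟩ := exists_retract (R := A) P'
  set p := LinearMap.toMatrix' (s ∘ₗ π) with hpdef
  set p' := LinearMap.toMatrix' (s' ∘ₗ π') with hp'def
  have hp : s ∘ₗ π = Matrix.toLin' p := (Matrix.toLin'_toMatrix' _).symm
  have hp' : s' ∘ₗ π' = Matrix.toLin' p' := (Matrix.toLin'_toMatrix' _).symm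
  have hpi : p * p = p := idem_of_retract hπs hp
  have hp'i : p' * p' = p' := idem_of_retract hπs' hp'
  obtain ⟨α, β, hαβ, hβα⟩ := exists_matrices_At At hπs hπs' hp hp' φ
  have hC : ∀ (k l : ℕ) (c : Matrix (Fin k) (Fin l) A),
      (c.map (Polynomial.C : A →+* A[X])).map (algebraMap A[X] At) = c.map (algebraMap A At) := by
    intro k l c
    refine Matrix.ext fun i j => ?_
    simp only [Matrix.map_apply]
    rw [IsScalarTower.algebraMap_apply A A[X] At, Polynomial.algebraMap_apply,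
      Algebra.algebraMap_self, RingHom.id_apply]
  obtain ⟨g, hgM, α₁, β₁, h1, h2⟩ := HorH.exists_clear_rect M
    (p.map (Polynomial.C : A →+* A[X])) (p'.map (Polynomial.C : A →+* A[X])) α β
    (by rw [hαβ, hC]) (by rw [hβα, hC])
  have hgm : g.Monic := (hM g).1 hgM
  set d := g.natDegree with hd
  set kα := Finset.univ.sup (fun q : Fin n × Fin n' => (α₁ q.1 q.2).natDegree) with hkα
  set kβ := Finset.univ.sup (fun q : Fin n' × Fin n => (β₁ q.1 q.2).natDegree) with hkβ
  set k := d + kα + kβ with hk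
  have hα : ∀ i j, (α₁ i j).natDegree ≤ k := fun i j =>
    le_trans (Finset.le_sup (f := fun q : Fin n × Fin n' => (α₁ q.1 q.2).natDegree)
      (Finset.mem_univ (i, j))) (by omega)
  have hβ : ∀ i j, (β₁ i j).natDegree ≤ k := fun i j =>
    le_trans (Finset.le_sup (f := fun q : Fin n' × Fin n => (β₁ q.1 q.2).natDegree)
      (Finset.mem_univ (i, j))) (by omega)
  have hdk : d ≤ 2 * k := by omega
  have R1 := reflect_relation k d α₁ β₁ g le_rfl hdk p hα hβ h1
  have R2 := reflect_relation k d β₁ α₁ g le_rfl hdk p' hβ hα h2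
  obtain ⟨a, b, hab, hba, n1, n2, n3, n4⟩ := normalize (p.map (Polynomial.C : A →+* A[X]))
    (p'.map (Polynomial.C : A →+* A[X])) (map_idem hpi _) (map_idem hp'i _) _ _ _ R1 R2
  have hh0 : ((reflect d g) ^ 3).eval 0 = 1 := by
    rw [eval_pow, ← coeff_zero_eq_eval_zero, coeff_reflect, revAt_le (Nat.zero_le d),
      Nat.sub_zero, hd, coeff_natDegree, hgm.leadingCoeff, one_pow]
  have hpow : (X ^ (2 * k - d) * reflect d g) ^ 3 = X ^ (3 * (2 * k - d)) * (reflect d g) ^ 3 := by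
    rw [mul_pow, ← pow_mul, mul_comm 3]
  rw [hpow] at hab hba
  obtain ⟨a₀, b₀, e1, e2⟩ := mvn_of_isogeny p p' hpi hp'i a b ((reflect d g) ^ 3)
    (3 * (2 * k - d)) hh0 hab hba n1 n2 n3 n4
  exact ⟨equivOfFactor₂ s π hπs s' π' hπs' (Matrix.toLin' a₀) (Matrix.toLin' b₀)
    (by rw [← Matrix.toLin'_mul, e1, hp]) (by rw [← Matrix.toLin'_mul, e2, hp'])⟩

end Main

end Groth.Agent.Lib.helper10.HorI
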