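import Mathlib
import Groth.Agent.Lib.helper10.HorI

set_option autoImplicit false
set_option maxHeartbeats 800000

/-!
# Projective modules that become isomorphic over `R((t))` are isomorphic
-/

namespace Groth.Agent.Lib.helper10.HorJ

open Matrix Polynomial TensorProduct
open Groth.Agent.Lib.helper10.HorD Groth.Agent.Lib.helper10.HorF Groth.Agent.Lib.helper10.HorG
open Groth.Agent.Lib.helper10.HorI

section LemmaB

variable {B : Type*} [CommRing B] {n n' : ℕ}

theorem isogeny_of_near (p : Matrix (Fin n) (Fin n) B) (p' : Matrix (Fin n') (Fin n') B)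
    (a₀ : Matrix (Fin n) (Fin n') B) (b₀ : Matrix (Fin n') (Fin n) B)
    (c' : Matrix (Fin n) (Fin n) B) (c'' : Matrix (Fin n') (Fin n') B) (g : B)
    (hg : ∀ M : Matrix (Fin n) (Fin n') B, g • M = 0 → M = 0)
    (H1 : a₀ * b₀ = g • (p - c')) (H2 : b₀ * a₀ = g • (p' - c''))
    (hpa : p * a₀ = a₀) (hap' : a₀ * p' = a₀) (hc' : c' * p = c') (hc'' : c'' * p' = c'') :
    ∃ (b : Matrix (Fin n') (Fin n) B),
      a₀ * b = (g * ((1 - c').det * (1 - c'').det)) • p ∧
      b * a₀ = (g * ((1 - c').det * (1 - c'').det)) • p' := by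
  set h₁ := (1 - c').det with hh₁
  set h₂ := (1 - c'').det with hh₂
  set w' := (1 - c').adjugate with hw'
  set w'' := (1 - c'').adjugate with hw''
  have e1 : w' * (1 - c') = h₁ • (1 : Matrix (Fin n) (Fin n) B) := Matrix.adjugate_mul _
  have e2 : (1 - c'') * w'' = h₂ • (1 : Matrix (Fin n') (Fin n') B) := Matrix.mul_adjugate _
  have e2' : w'' * (1 - c'') = h₂ • (1 : Matrix (Fin n') (Fin n') B) := Matrix.adjugate_mul _
  have k1 : p - c' = (1 - c') * p := by rw [Matrix.sub_mul, Matrix.one_mul, hc']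
  have k2 : p' - c'' = (1 - c'') * p' := by rw [Matrix.sub_mul, Matrix.one_mul, hc'']
  have iii : (1 - c') * a₀ = a₀ * (1 - c'') := by
    have : g • ((1 - c') * a₀ - a₀ * (1 - c'')) = 0 := by
      have l1 : a₀ * b₀ * a₀ = g • ((1 - c') * a₀) := by
        rw [H1, Matrix.smul_mul, k1, Matrix.mul_assoc, hpa]
      have l2 : a₀ * b₀ * a₀ = g • (a₀ * (1 - c'')) := by
        rw [Matrix.mul_assoc, H2, Matrix.mul_smul, k2, ← Matrix.mul_assoc]
        congr 1
        rw [Matrix.mul_sub, Matrix.mul_one, Matrix.sub_mul, hap', Matrix.mul_assoc, hc'']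
      rw [smul_sub, ← l1, ← l2, sub_self]
    exact sub_eq_zero.mp (hg _ this)
  have iv : h₁ • (a₀ * w'') = h₂ • (w' * a₀) := by
    calc h₁ • (a₀ * w'') = (w' * (1 - c')) * a₀ * w'' := by
          rw [e1, Matrix.smul_mul, Matrix.one_mul, Matrix.smul_mul]
      _ = w' * (a₀ * (1 - c'')) * w'' := by rw [Matrix.mul_assoc w', iii]
      _ = w' * a₀ * ((1 - c'') * w'') := by simp only [Matrix.mul_assoc]
      _ = h₂ • (w' * a₀) := by rw [e2, Matrix.mul_smul, Matrix.mul_one]
  refine ⟨h₁ • (w'' * b₀), ?_, ?_⟩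
  · calc a₀ * (h₁ • (w'' * b₀)) = (h₁ • (a₀ * w'')) * b₀ := by
          rw [Matrix.mul_smul, Matrix.smul_mul, Matrix.mul_assoc]
      _ = h₂ • (w' * (a₀ * b₀)) := by rw [iv, Matrix.smul_mul, Matrix.mul_assoc]
      _ = h₂ • (g • ((w' * (1 - c')) * p)) := by
          rw [H1, k1, Matrix.mul_smul, Matrix.mul_assoc]
      _ = (g * (h₁ * h₂)) • p := by
          rw [e1, Matrix.smul_mul, Matrix.one_mul, smul_smul, smul_smul]
          congr 1
          ring
  · calc h₁ • (w'' * b₀) * a₀ = h₁ • (w'' * (b₀ * a₀)) := by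
          rw [Matrix.smul_mul, Matrix.mul_assoc]
      _ = h₁ • (g • ((w'' * (1 - c'')) * p')) := by
          rw [H2, k2, Matrix.mul_smul, Matrix.mul_assoc]
      _ = (g * (h₁ * h₂)) • p' := by
          rw [e2', Matrix.smul_mul, Matrix.one_mul, smul_smul, smul_smul]
          congr 1
          ring

end LemmaB


section LemmaA

variable {R : Type*} [CommRing R]

/-- the coercion `R[X] → R⟦X⟧` as a ring hom -/
noncomputable abbrev iP (R : Type*) [CommRing R] : R[X] →+* PowerSeries R :=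
  Polynomial.coeToPowerSeries.ringHom

theorem map_C_iP {ι κ : Type*} (c : Matrix ι κ R) :
    (c.map (Polynomial.C : R →+* R[X])).map (iP R) = c.map (PowerSeries.C : R →+* PowerSeries R) := by
  refine Matrix.ext fun i j => ?_
  simp only [Matrix.map_apply]
  show ((Polynomial.C (c i j) : R[X]) : PowerSeries R) = PowerSeries.C (c i j)
  exact Polynomial.coe_C _

theorem exists_trunc_matrix {ι κ : Type*} (K : ℕ) (α : Matrix ι κ (PowerSeries R)) :
    ∃ (t : Matrix ι κ R[X]) (α₁ : Matrix ι κ (PowerSeries R)),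
      t.map (iP R) = α - (PowerSeries.X ^ K : PowerSeries R) • α₁ := by
  refine ⟨α.map (PowerSeries.trunc K),
    α.map (fun f => PowerSeries.mk fun i => PowerSeries.coeff (i + K) f), ?_⟩
  refine Matrix.ext fun i j => ?_
  simp only [Matrix.map_apply, Matrix.sub_apply, Matrix.smul_apply, smul_eq_mul]
  rw [eq_sub_iff_add_eq, add_comm]
  exact (PowerSeries.eq_X_pow_mul_shift_add_trunc K (α i j)).symm

theorem prod_trunc {n m : ℕ} (p : Matrix (Fin n) (Fin n) R) (A₀ : Matrix (Fin n) (Fin m) R[X])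
    (B₀ : Matrix (Fin m) (Fin n) R[X]) (α α₂ : Matrix (Fin n) (Fin m) (PowerSeries R))
    (β β₂ : Matrix (Fin m) (Fin n) (PowerSeries R)) (N : ℕ)
    (hA : A₀.map (iP R) = α - (PowerSeries.X ^ (N + 1) : PowerSeries R) • α₂)
    (hB : B₀.map (iP R) = β - (PowerSeries.X ^ (N + 1) : PowerSeries R) • β₂)
    (hαβ : α * β = (PowerSeries.X ^ N : PowerSeries R) •
      p.map (PowerSeries.C : R →+* PowerSeries R)) :
    ∃ c : Matrix (Fin n) (Fin n) R[X],
      A₀ * B₀ = (X ^ N : R[X]) • (p.map (Polynomial.C : R →+* R[X]) - c) ∧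
      c.map (evalRingHom (0 : R)) = 0 := by
  set e : Matrix (Fin n) (Fin n) (PowerSeries R) :=
    α₂ * β + α * β₂ - (PowerSeries.X ^ (N + 1) : PowerSeries R) • (α₂ * β₂) with he
  have hprod : (A₀ * B₀).map (iP R) = (PowerSeries.X ^ N : PowerSeries R) •
      p.map (PowerSeries.C : R →+* PowerSeries R) -
      (PowerSeries.X ^ (N + 1) : PowerSeries R) • e := by
    rw [Matrix.map_mul, hA, hB, Matrix.sub_mul, Matrix.mul_sub, Matrix.mul_sub, hαβ, he]
    simp only [Matrix.smul_mul, Matrix.mul_smul, smul_sub, smul_add]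
    abel
  have hentry : ∀ i j, (((A₀ * B₀) i j : R[X]) : PowerSeries R) =
      PowerSeries.X ^ N * PowerSeries.C (p i j) - PowerSeries.X ^ (N + 1) * e i j := by
    intro i j
    have := congrFun (congrFun hprod i) j
    simp only [Matrix.map_apply, Matrix.sub_apply, Matrix.smul_apply, smul_eq_mul] at this
    exact this
  have hcoef : ∀ i j d, ((A₀ * B₀) i j).coeff d =
      (if N ≤ d then PowerSeries.coeff (d - N) (PowerSeries.C (p i j)) else 0) -
      (if N + 1 ≤ d then PowerSeries.coeff (d - (N + 1)) (e i j) else 0) := by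
    intro i j d
    rw [← Polynomial.coeff_coe, hentry, map_sub, PowerSeries.coeff_X_pow_mul',
      PowerSeries.coeff_X_pow_mul']
  have hdvd : ∀ i j, (X ^ N : R[X]) ∣ (A₀ * B₀) i j := by
    intro i j
    rw [Polynomial.X_pow_dvd_iff]
    intro d hd
    rw [hcoef, if_neg (by omega), if_neg (by omega), sub_zero]
  choose q hq using hdvd
  have hq0 : ∀ i j, (q i j).coeff 0 = p i j := by
    intro i j
    have h1 := hcoef i j N
    rw [hq i j, Polynomial.coeff_X_pow_mul', if_pos le_rfl, Nat.sub_self, if_pos le_rfl,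
      if_neg (by omega), sub_zero, PowerSeries.coeff_zero_eq_constantCoeff_apply,
      PowerSeries.constantCoeff_C] at h1
    exact h1
  refine ⟨Matrix.of fun i j => Polynomial.C (p i j) - q i j, ?_, ?_⟩
  · refine Matrix.ext fun i j => ?_
    simp only [Matrix.smul_apply, Matrix.sub_apply, Matrix.map_apply, Matrix.of_apply,
      smul_eq_mul, sub_sub_cancel]
    exact hq i j
  · refine Matrix.ext fun i j => ?_
    simp only [Matrix.map_apply, Matrix.of_apply, Matrix.zero_apply, coe_evalRingHom, eval_sub,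
      eval_C]
    rw [← Polynomial.coeff_zero_eq_eval_zero, hq0, sub_self]

end LemmaA


section Main

universe u

variable {R : Type u} [CommRing R]

theorem smul_X_pow_cancel {ι κ : Type*} (M : ℕ) (Mx : Matrix ι κ R[X])
    (h : (X ^ M : R[X]) • Mx = 0) : Mx = 0 := by
  refine Matrix.ext fun i j => ?_
  have := congrFun (congrFun h i) j
  simp only [Matrix.smul_apply, smul_eq_mul, Matrix.zero_apply] at this
  exact (monic_X_pow M).mul_right_eq_zero_iff.mp this

theorem eval_det_one_sub {n : ℕ} (c : Matrix (Fin n) (Fin n) R[X])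
    (hc : c.map (evalRingHom (0 : R)) = 0) : ((1 - c).det).eval 0 = 1 := by
  have h1 : (evalRingHom (0 : R)) (1 - c).det = ((1 - c).map (evalRingHom (0 : R))).det := by
    rw [RingHom.map_det, RingHom.mapMatrix_apply]
  have h2 : (1 - c).map (evalRingHom (0 : R)) = 1 := by
    rw [Matrix.map_sub _ (map_sub (evalRingHom (0 : R))), hc, sub_zero,
      Matrix.map_one _ (map_zero _) (map_one _)]
  rw [h2, Matrix.det_one] at h1
  exact h1

theorem exists_mvn {n n' : ℕ} (p : Matrix (Fin n) (Fin n) R) (p' : Matrix (Fin n') (Fin n') R)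
    (hp : p * p = p) (hp' : p' * p' = p')
    (α : Matrix (Fin n) (Fin n') (PowerSeries R)) (β : Matrix (Fin n') (Fin n) (PowerSeries R))
    (N : ℕ)
    (hαβ : α * β = (PowerSeries.X ^ N : PowerSeries R) •
      p.map (PowerSeries.C : R →+* PowerSeries R))
    (hβα : β * α = (PowerSeries.X ^ N : PowerSeries R) •
      p'.map (PowerSeries.C : R →+* PowerSeries R)) :
    ∃ (a₀ : Matrix (Fin n) (Fin n') R) (b₀ : Matrix (Fin n') (Fin n) R),
      a₀ * b₀ = p ∧ b₀ * a₀ = p' := by
  set pS := p.map (PowerSeries.C : R →+* PowerSeries R) with hpS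
  set pS' := p'.map (PowerSeries.C : R →+* PowerSeries R) with hpS'
  set Cp := p.map (Polynomial.C : R →+* R[X]) with hCp
  set Cp' := p'.map (Polynomial.C : R →+* R[X]) with hCp'
  have hpSi : pS * pS = pS := map_idem hp _
  have hpS'i : pS' * pS' = pS' := map_idem hp' _
  have hCpi : Cp * Cp = Cp := map_idem hp _
  have hCp'i : Cp' * Cp' = Cp' := map_idem hp' _
  have hCpS : Cp.map (iP R) = pS := map_C_iP p
  have hCpS' : Cp'.map (iP R) = pS' := map_C_iP p'
  obtain ⟨α', β', hα'β', hβ'α', n1, n2, n3, n4⟩ := normalize pS pS' hpSi hpS'i _ α β hαβ hβα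
  rw [← pow_mul] at hα'β' hβ'α'
  set M := N * 3 with hM
  obtain ⟨tα, α₁, htα⟩ := exists_trunc_matrix (M + 1) α'
  obtain ⟨tβ, β₁, htβ⟩ := exists_trunc_matrix (M + 1) β'
  set A₀ := Cp * tα * Cp' with hA₀
  set B₀ := Cp' * tβ * Cp with hB₀
  have hA : A₀.map (iP R) = α' - (PowerSeries.X ^ (M + 1) : PowerSeries R) • (pS * α₁ * pS') := by
    rw [hA₀, Matrix.map_mul, Matrix.map_mul, hCpS, hCpS', htα, Matrix.mul_sub, Matrix.sub_mul, n1,
      n2, Matrix.mul_smul, Matrix.smul_mul]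
  have hB : B₀.map (iP R) = β' - (PowerSeries.X ^ (M + 1) : PowerSeries R) • (pS' * β₁ * pS) := by
    rw [hB₀, Matrix.map_mul, Matrix.map_mul, hCpS, hCpS', htβ, Matrix.mul_sub, Matrix.sub_mul, n3,
      n4, Matrix.mul_smul, Matrix.smul_mul]
  obtain ⟨c', H1, hc'0⟩ := prod_trunc p A₀ B₀ α' _ β' _ M hA hB hα'β'
  obtain ⟨c'', H2, hc''0⟩ := prod_trunc p' B₀ A₀ β' _ α' _ M hB hA hβ'α'
  have m1 : Cp * A₀ = A₀ := by
    rw [hA₀, ← Matrix.mul_assoc, ← Matrix.mul_assoc, hCpi]
  have m2 : A₀ * Cp' = A₀ := by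
    rw [hA₀, Matrix.mul_assoc, hCp'i]
  have m4 : B₀ * Cp = B₀ := by
    rw [hB₀, Matrix.mul_assoc, hCpi]
  have hc'p : c' * Cp = c' := by
    have h1 : (X ^ M : R[X]) • ((Cp - c') * Cp - (Cp - c')) = 0 := by
      rw [smul_sub, ← Matrix.smul_mul, ← H1, Matrix.mul_assoc, m4, sub_self]
    have h2 := smul_X_pow_cancel M _ h1
    rw [Matrix.sub_mul, hCpi] at h2
    have h3 : Cp - c' * Cp = Cp - c' := sub_eq_zero.mp h2
    exact sub_right_injective h3
  have hc''p : c'' * Cp' = c'' := by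
    have h1 : (X ^ M : R[X]) • ((Cp' - c'') * Cp' - (Cp' - c'')) = 0 := by
      rw [smul_sub, ← Matrix.smul_mul, ← H2, Matrix.mul_assoc, m2, sub_self]
    have h2 := smul_X_pow_cancel M _ h1
    rw [Matrix.sub_mul, hCp'i] at h2
    have h3 : Cp' - c'' * Cp' = Cp' - c'' := sub_eq_zero.mp h2
    exact sub_right_injective h3
  obtain ⟨b, K1, K2⟩ := isogeny_of_near Cp Cp' A₀ B₀ c' c'' (X ^ M : R[X])
    (fun Mx h => smul_X_pow_cancel M Mx h) H1 H2 m1 m2 hc'p hc''p
  obtain ⟨a₂, b₂, hab, hba, k1, k2, k3, k4⟩ := normalize Cp Cp' hCpi hCp'i _ A₀ b K1 K2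
  set h := ((1 - c').det * (1 - c'').det) ^ 3 with hh
  have hh0 : h.eval 0 = 1 := by
    rw [hh, eval_pow, eval_mul, eval_det_one_sub c' hc'0, eval_det_one_sub c'' hc''0, one_mul,
      one_pow]
  have hpow : ((X ^ M : R[X]) * ((1 - c').det * (1 - c'').det)) ^ 3 = X ^ (M * 3) * h := by
    rw [mul_pow, ← pow_mul]
  rw [hpow] at hab hba
  exact mvn_of_isogeny p p' hp hp' a₂ b₂ h (M * 3) hh0 hab hba k1 k2 k3 k4

theorem main (L : Type u) [CommRing L] [Algebra R L] (eL : L ≃ₐ[R] LaurentSeries R)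
    (P P' : Type u) [AddCommGroup P] [Module R P] [Module.Finite R P] [Module.Projective R P]
    [AddCommGroup P'] [Module R P'] [Module.Finite R P'] [Module.Projective R P']
    (φ : L ⊗[R] P ≃ₗ[L] L ⊗[R] P') : Nonempty (P ≃ₗ[R] P') := by
  obtain ⟨n, s, π, hπs⟩ := exists_retract (R := R) P
  obtain ⟨n', s', π', hπs'⟩ := exists_retract (R := R) P'
  set p := LinearMap.toMatrix' (s ∘ₗ π) with hpdef
  set p' := LinearMap.toMatrix' (s' ∘ₗ π') with hp'def
  have hp : s ∘ₗ π = Matrix.toLin' p := (Matrix.toLin'_toMatrix' _).symm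
  have hp' : s' ∘ₗ π' = Matrix.toLin' p' := (Matrix.toLin'_toMatrix' _).symm
  have hpi : p * p = p := idem_of_retract hπs hp
  have hp'i : p' * p' = p' := idem_of_retract hπs' hp'
  obtain ⟨α, β, hαβ, hβα⟩ := exists_matrices_At L hπs hπs' hp hp' φ
  have hC : ∀ (k l : ℕ) (c : Matrix (Fin k) (Fin l) R),
      (c.map (PowerSeries.C : R →+* PowerSeries R)).map
        (algebraMap (PowerSeries R) (LaurentSeries R)) =
      (c.map (algebraMap R L)).map (eL : L →+* LaurentSeries R) := by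
    intro k l c
    refine Matrix.ext fun i j => ?_
    simp only [Matrix.map_apply]
    show algebraMap (PowerSeries R) (LaurentSeries R) (PowerSeries.C (c i j)) =
      eL (algebraMap R L (c i j))
    rw [eL.commutes, LaurentSeries.coe_algebraMap, HahnSeries.algebraMap_apply',
      PowerSeries.algebraMap_apply, Algebra.algebraMap_self, RingHom.id_apply]
  obtain ⟨g, hgM, α₁, β₁, h1, h2⟩ := HorH.exists_clear_rect
    (Submonoid.powers (PowerSeries.X : PowerSeries R))
    (p.map (PowerSeries.C : R →+* PowerSeries R)) (p'.map (PowerSeries.C : R →+* PowerSeries R))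
    (α.map (eL : L →+* LaurentSeries R)) (β.map (eL : L →+* LaurentSeries R))
    (by rw [← Matrix.map_mul, hαβ, hC]) (by rw [← Matrix.map_mul, hβα, hC])
  obtain ⟨N, rfl⟩ := hgM
  obtain ⟨a₀, b₀, e1, e2⟩ := exists_mvn p p' hpi hp'i α₁ β₁ N h1 h2
  exact ⟨equivOfFactor₂ s π hπs s' π' hπs' (Matrix.toLin' a₀) (Matrix.toLin' b₀)
    (by rw [← Matrix.toLin'_mul, e1, hp]) (by rw [← Matrix.toLin'_mul, e2, hp'])⟩

end Main

end Groth.Agent.Lib.helper10.HorJ
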