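import Mathlib

set_option autoImplicit false
set_option maxHeartbeats 400000
universe u

namespace Groth.Agent.Lib.helper10.PiVal

open scoped BigOperators

/-- In a Bézout ring, a finite family has a common "gcd" that is a combination. -/
lemma exists_gen {B : Type*} [CommRing B] [IsBezout B] {l : ℕ} (x : Fin l → B) :
    ∃ (c : B) (u a : Fin l → B), (∑ i, u i * x i = c) ∧ ∀ i, a i * c = x i := by
  have hfg : (Ideal.span (Set.range x)).FG :=
    Submodule.fg_span (Set.finite_range x)
  obtain ⟨⟨c, hc⟩⟩ := IsBezout.isPrincipal_of_FG _ hfg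
  have hc' : Ideal.span (Set.range x) = Ideal.span {c} := hc
  have h1 : c ∈ Ideal.span (Set.range x) := by
    rw [hc']; exact Ideal.subset_span rfl
  obtain ⟨u, hu⟩ := (Submodule.mem_span_range_iff_exists_fun B).1 h1
  have h2 : ∀ i, ∃ a, a * c = x i := by
    intro i
    have : x i ∈ Ideal.span {c} := by
      rw [← hc']; exact Ideal.subset_span ⟨i, rfl⟩
    exact Ideal.mem_span_singleton'.1 this
  choose a ha using h2
  exact ⟨c, u, a, by simpa [smul_eq_mul] using hu, ha⟩

variable {J : Type u} (A : J → Type u) [∀ j, CommRing (A j)] [∀ j, IsDomain (A j)]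
    [∀ j, ValuationRing (A j)]

open Classical in
theorem flat (I : Ideal (∀ j, A j)) : Module.Flat (∀ j, A j) I := by
  rw [Module.Flat.iff_forall_isTrivialRelation]
  intro l f x hfx
  have hfx' : ∀ j, ∑ i, f i j * (x i : ∀ j, A j) j = 0 := by
    intro j
    have := congrArg (fun z : I => (z : ∀ j, A j) j) hfx
    simpa using this
  have key : ∀ j, ∃ (c : A j) (u a : Fin l → A j),
      (∑ i, u i * (x i : ∀ j, A j) j = c) ∧ ∀ i, a i * c = (x i : ∀ j, A j) j :=
    fun j => exists_gen (fun i => (x i : ∀ j, A j) j)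
  choose c u a hu ha using key
  -- the generator, as an element of I
  have hcI : (fun j => c j) ∈ I := by
    have : (fun j => c j) = ∑ i, (fun j => u j i) * (x i : ∀ j, A j) := by
      funext j
      simp [Finset.sum_apply, hu j]
    rw [this]
    exact I.sum_mem fun i _ => I.mul_mem_left _ (x i).2
  refine ⟨1, fun i _ => fun j => if c j = 0 then 0 else a j i, fun _ => ⟨fun j => c j, hcI⟩, ?_, ?_⟩
  · intro i
    ext j
    simp only [Finset.univ_unique, Finset.sum_singleton, SetLike.mk_smul_mk, smul_eq_mul,
      Pi.mul_apply]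
    by_cases h : c j = 0
    · simp only [h, if_true, zero_mul]
      rw [← ha j i, h, mul_zero]
    · simp only [h, if_false]
      exact (ha j i).symm
  · intro _
    funext j
    simp only [Finset.sum_apply, Pi.mul_apply, Pi.zero_apply]
    by_cases h : c j = 0
    · simp [h]
    · simp only [h, if_false]
      have h3 : (∑ i, f i j * a j i) * c j = 0 := by
        rw [Finset.sum_mul, ← hfx' j]
        refine Finset.sum_congr rfl fun i _ => ?_
        rw [mul_assoc, ha j i]
      exact (mul_eq_zero.1 h3).resolve_right h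

variable (K : J → Type u) [∀ j, Field (K j)] [∀ j, Algebra (A j) (K j)]
    [∀ j, IsFractionRing (A j) (K j)]

omit [∀ j, ValuationRing (A j)] in
lemma mem_nzd_iff (s : ∀ j, A j) : s ∈ nonZeroDivisors (∀ j, A j) ↔ ∀ j, s j ≠ 0 := by
  classical
  constructor
  · intro hs j hj
    have h1 : (Pi.single j (1 : A j) : ∀ j, A j) * s = 0 := by
      funext j'
      by_cases hjj : j' = j
      · subst hjj; simp [hj]
      · simp [Pi.single_eq_of_ne hjj]
    have h2 := (mem_nonZeroDivisors_iff.1 hs).2 _ h1
    have := congrFun h2 j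
    simp at this
  · intro hs
    rw [mem_nonZeroDivisors_iff]
    refine ⟨fun x hx => ?_, fun x hx => ?_⟩
    · funext j
      have := congrFun hx j
      simp only [Pi.mul_apply, Pi.zero_apply] at this
      exact (mul_eq_zero.1 this).resolve_left (hs j)
    · funext j
      have := congrFun hx j
      simp only [Pi.mul_apply, Pi.zero_apply] at this
      exact (mul_eq_zero.1 this).resolve_right (hs j)

omit [∀ j, ValuationRing (A j)] in
theorem isLoc : IsLocalization (nonZeroDivisors (∀ j, A j)) (∀ j, K j) := by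
  classical
  rw [isLocalization_iff]
  refine ⟨?_, ?_, ?_⟩
  · rintro ⟨s, hs⟩
    rw [mem_nzd_iff] at hs
    rw [Pi.isUnit_iff]
    intro j
    have : algebraMap (A j) (K j) (s j) ≠ 0 := by
      intro h
      exact hs j ((IsFractionRing.injective (A j) (K j)) (by simpa using h))
    exact this.isUnit
  · intro z
    have h : ∀ j, ∃ (x : A j) (s : A j), s ≠ 0 ∧ z j * algebraMap (A j) (K j) s = algebraMap (A j) (K j) x := by
      intro j
      obtain ⟨⟨x, s⟩, hxs⟩ := IsLocalization.surj (nonZeroDivisors (A j)) (z j)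
      exact ⟨x, s, nonZeroDivisors.ne_zero s.2, hxs⟩
    choose x s hs hxs using h
    refine ⟨⟨fun j => x j, ⟨fun j => s j, (mem_nzd_iff A _).2 hs⟩⟩, ?_⟩
    funext j
    exact hxs j
  · intro x y hxy
    refine ⟨1, ?_⟩
    funext j
    have := congrFun hxy j
    simpa using (IsFractionRing.injective (A j) (K j)) this

theorem main :
    (∀ I : Ideal (∀ j, A j), Module.Flat (∀ j, A j) I) ∧
      IsLocalization (nonZeroDivisors (∀ j, A j)) (∀ j, K j) :=
  ⟨flat A, isLoc A K⟩

end Groth.Agent.Lib.helper10.PiVal
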