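import Mathlib
import Groth.Agent.Lib.helper10.PiVal

set_option autoImplicit false
set_option maxHeartbeats 400000
universe u

namespace Groth.Agent.Lib.helper10.IdealsFlat

open scoped BigOperators TensorProduct
open Groth.Agent.Lib.helper10

section sub

variable {A : Type*} [CommRing A]

lemma sub_flat (h2 : ∀ I : Ideal A, I.FG → Module.Flat A I)
    (M : Type*) [AddCommGroup M] [Module A M] [Module.Flat A M] (N : Submodule A M) :
    Module.Flat A N := by
  rw [Module.Flat.iff_rTensor_injective]
  intro I hI
  have := h2 I hI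
  have h1 : Function.Injective (N.subtype.lTensor I) :=
    Module.Flat.lTensor_preserves_injective_linearMap _ N.injective_subtype
  have h2' : Function.Injective (I.subtype.rTensor M) :=
    Module.Flat.rTensor_preserves_injective_linearMap _ I.injective_subtype
  have hcomp : (N.subtype.lTensor A) ∘ₗ (I.subtype.rTensor N) =
      (I.subtype.rTensor M) ∘ₗ (N.subtype.lTensor I) := by
    ext; simp
  have : Function.Injective ((N.subtype.lTensor A) ∘ (I.subtype.rTensor N)) := by
    rw [← LinearMap.coe_comp, hcomp, LinearMap.coe_comp]; exact h2'.comp h1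
  exact Function.Injective.of_comp this

end sub

section bezout

variable {B : Type*} [CommRing B] [IsDomain B] [IsBezout B]

open Classical in
theorem flat_of_bezout_domain (I : Ideal B) : Module.Flat B I := by
  rw [Module.Flat.iff_forall_isTrivialRelation]
  intro l f x hfx
  have hfx' : ∑ i, f i * (x i : B) = 0 := by
    have := congrArg (fun z : I => (z : B)) hfx
    simpa using this
  obtain ⟨c, u, a, hu, ha⟩ := PiVal.exists_gen (fun i => (x i : B))
  have hcI : c ∈ I := by
    rw [← hu]
    exact I.sum_mem fun i _ => I.mul_mem_left _ (x i).2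
  by_cases h : c = 0
  · refine ⟨0, fun _ _ => 0, fun _ => 0, ?_, fun j => j.elim0⟩
    intro i
    ext
    simp only [Finset.univ_eq_empty, Finset.sum_empty, Submodule.coe_zero]
    rw [← ha i, h, mul_zero]
  · refine ⟨1, fun i _ => a i, fun _ => ⟨c, hcI⟩, ?_, ?_⟩
    · intro i
      ext
      simp only [Finset.univ_unique, Finset.sum_singleton, SetLike.mk_smul_mk, smul_eq_mul]
      exact (ha i).symm
    · intro _
      have h3 : (∑ i, f i * a i) * c = 0 := by
        rw [Finset.sum_mul, ← hfx']
        refine Finset.sum_congr rfl fun i _ => ?_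
        rw [mul_assoc, ha i]
      exact (mul_eq_zero.1 h3).resolve_right h

end bezout

section local_part

variable {A : Type u} [CommRing A]

lemma key_domain (h2 : ∀ I : Ideal A, I.FG → Module.Flat A I) (p : Ideal A) [p.IsPrime]
    (x y : A) (hxy : x * y = 0) : (∃ s ∉ p, s * x = 0) ∨ (∃ s ∉ p, s * y = 0) := by
  have hflat := h2 (Ideal.span {x}) (Submodule.fg_span (Set.toFinite _))
  rw [Module.Flat.iff_forall_isTrivialRelation] at hflat
  have hx : x ∈ Ideal.span {x} := Ideal.subset_span rfl
  have hrel : ∑ i : Fin 1, (fun _ => y) i • (fun _ => (⟨x, hx⟩ : Ideal.span {x})) i = 0 := by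
    ext
    simp [mul_comm y x, hxy]
  obtain ⟨k, a, z, hz, ha⟩ := hflat hrel
  have hzm : ∀ j, ∃ q, q * x = (z j : A) := fun j => Ideal.mem_span_singleton'.1 (z j).2
  choose pc hpc using hzm
  have hx1 : x = (∑ j, a 0 j * pc j) * x := by
    have := congrArg (fun w : Ideal.span {x} => (w : A)) (hz 0)
    simp only [Submodule.coe_sum, Submodule.coe_smul, smul_eq_mul] at this
    rw [Finset.sum_mul]
    refine this.trans (Finset.sum_congr rfl fun j _ => ?_)
    rw [mul_assoc, hpc j]
  by_cases ht : (1 - ∑ j, a 0 j * pc j) ∈ p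
  · right
    have ht' : (∑ j, a 0 j * pc j) ∉ p := by
      intro h
      have : (1 : A) ∈ p := by
        have := p.add_mem ht h
        simpa using this
      exact (Ideal.ne_top_iff_one p).1 (Ideal.IsPrime.ne_top inferInstance) this
    have : ∃ j, a 0 j * pc j ∉ p := by
      by_contra hcon
      push Not at hcon
      exact ht' (p.sum_mem fun j _ => hcon j)
    obtain ⟨j, hj⟩ := this
    have haj : a 0 j ∉ p := fun h => hj (p.mul_mem_right _ h)
    refine ⟨a 0 j, haj, ?_⟩
    have := ha j
    simp only [Finset.univ_unique, Finset.sum_singleton] at this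
    rw [mul_comm]
    convert this
  · left
    refine ⟨_, ht, ?_⟩
    rw [sub_mul, one_mul, ← hx1, sub_self]

lemma key_dvd (h2 : ∀ I : Ideal A, I.FG → Module.Flat A I) (p : Ideal A) [p.IsPrime]
    (x y : A) : (∃ s ∉ p, ∃ c, s * x = c * y) ∨ (∃ s ∉ p, ∃ c, s * y = c * x) := by
  have hflat := h2 (Ideal.span {x, y}) (Submodule.fg_span (Set.toFinite _))
  rw [Module.Flat.iff_forall_isTrivialRelation] at hflat
  have hx : x ∈ Ideal.span {x, y} := Ideal.subset_span (by simp)
  have hy : y ∈ Ideal.span {x, y} := Ideal.subset_span (by simp)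
  have hrel : ∑ i : Fin 2, (![y, -x] : Fin 2 → A) i •
      (![⟨x, hx⟩, ⟨y, hy⟩] : Fin 2 → Ideal.span {x, y}) i = 0 := by
    ext
    simp [Fin.sum_univ_two, mul_comm y x]
  obtain ⟨k, a, z, hz, ha⟩ := hflat hrel
  have hzm : ∀ j, ∃ q r, q * x + r * y = (z j : A) := fun j => Ideal.mem_span_pair.1 (z j).2
  choose pc qc hpc using hzm
  have hx1 : x = (∑ j, a 0 j * pc j) * x + (∑ j, a 0 j * qc j) * y := by
    have := congrArg (fun w : Ideal.span {x, y} => (w : A)) (hz 0)
    simp only [Submodule.coe_sum, Submodule.coe_smul, smul_eq_mul, Matrix.cons_val_zero] at this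
    rw [Finset.sum_mul, Finset.sum_mul, ← Finset.sum_add_distrib]
    refine this.trans (Finset.sum_congr rfl fun j _ => ?_)
    rw [← hpc j]; ring
  by_cases ht : (1 - ∑ j, a 0 j * pc j) ∈ p
  · right
    have ht' : (∑ j, a 0 j * pc j) ∉ p := by
      intro h
      have : (1 : A) ∈ p := by
        have := p.add_mem ht h
        simpa using this
      exact (Ideal.ne_top_iff_one p).1 (Ideal.IsPrime.ne_top inferInstance) this
    have : ∃ j, a 0 j * pc j ∉ p := by
      by_contra hcon
      push Not at hcon
      exact ht' (p.sum_mem fun j _ => hcon j)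
    obtain ⟨j, hj⟩ := this
    have haj : a 0 j ∉ p := fun h => hj (p.mul_mem_right _ h)
    refine ⟨a 0 j, haj, a 1 j, ?_⟩
    have := ha j
    simp only [Fin.sum_univ_two, Matrix.cons_val_zero, Matrix.cons_val_one] at this
    linear_combination this
  · left
    refine ⟨_, ht, ∑ j, a 0 j * qc j, ?_⟩
    linear_combination hx1

variable (h2 : ∀ I : Ideal A, I.FG → Module.Flat A I) (p : Ideal A) [p.IsPrime]

include h2 in
lemma isDomain_loc : IsDomain (Localization.AtPrime p) := by
  have : NoZeroDivisors (Localization.AtPrime p) := by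
    refine ⟨fun {b1 b2} h => ?_⟩
    obtain ⟨x, s, rfl⟩ := IsLocalization.exists_mk'_eq p.primeCompl b1
    obtain ⟨y, t, rfl⟩ := IsLocalization.exists_mk'_eq p.primeCompl b2
    rw [← IsLocalization.mk'_mul, IsLocalization.mk'_eq_zero_iff] at h
    obtain ⟨w, hw⟩ := h
    have hxy : x * ((w : A) * y) = 0 := by
      linear_combination hw
    rcases key_domain h2 p x (w * y) hxy with ⟨s', hs', h0⟩ | ⟨s', hs', h0⟩
    · left
      rw [IsLocalization.mk'_eq_zero_iff]
      exact ⟨⟨s', hs'⟩, h0⟩
    · right
      rw [IsLocalization.mk'_eq_zero_iff]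
      refine ⟨⟨s', hs'⟩ * w, ?_⟩
      simp only [Submonoid.coe_mul]
      linear_combination h0
  exact NoZeroDivisors.to_isDomain _

include h2 in
lemma dvd_total_loc (b1 b2 : Localization.AtPrime p) : b1 ∣ b2 ∨ b2 ∣ b1 := by
  obtain ⟨x, s, rfl⟩ := IsLocalization.exists_mk'_eq p.primeCompl b1
  obtain ⟨y, t, rfl⟩ := IsLocalization.exists_mk'_eq p.primeCompl b2
  set B := Localization.AtPrime p
  have hu : ∀ w : A, w ∉ p → IsUnit (algebraMap A B w) := fun w hw =>
    IsLocalization.map_units B (⟨w, hw⟩ : p.primeCompl)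
  have h1 : (IsLocalization.mk' B x s) * algebraMap A B s = algebraMap A B x :=
    IsLocalization.mk'_spec B x s
  have h2' : (IsLocalization.mk' B y t) * algebraMap A B t = algebraMap A B y :=
    IsLocalization.mk'_spec B y t
  rcases key_dvd h2 p x y with ⟨s', hs', c, hc⟩ | ⟨s', hs', c, hc⟩
  · right
    have e : algebraMap A B s' * (IsLocalization.mk' B x s * algebraMap A B s) =
        IsLocalization.mk' B y t * (algebraMap A B c * algebraMap A B t) := by
      rw [h1, ← map_mul, hc, map_mul, ← h2']; ring
    have d : IsLocalization.mk' B y t ∣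
        algebraMap A B s' * (IsLocalization.mk' B x s * algebraMap A B s) := ⟨_, e⟩
    exact ((hu s s.2).dvd_mul_right).1 (((hu s' hs').dvd_mul_left).1 d)
  · left
    have e : algebraMap A B s' * (IsLocalization.mk' B y t * algebraMap A B t) =
        IsLocalization.mk' B x s * (algebraMap A B c * algebraMap A B s) := by
      rw [h2', ← map_mul, hc, map_mul, ← h1]; ring
    have d : IsLocalization.mk' B x s ∣
        algebraMap A B s' * (IsLocalization.mk' B y t * algebraMap A B t) := ⟨_, e⟩
    exact ((hu t t.2).dvd_mul_right).1 (((hu s' hs').dvd_mul_left).1 d)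

include h2 in
theorem two_to_four :
    ∃ _ : IsDomain (Localization.AtPrime p), ValuationRing (Localization.AtPrime p) := by
  refine ⟨isDomain_loc h2 p, ?_⟩
  have := isDomain_loc h2 p
  rw [ValuationRing.iff_dvd_total]
  exact ⟨dvd_total_loc h2 p⟩

end local_part

section global

variable {A : Type u} [CommRing A]

theorem four_to_one
    (h4 : ∀ (p : Ideal A) [p.IsPrime],
      ∃ _ : IsDomain (Localization.AtPrime p), ValuationRing (Localization.AtPrime p))
    (I : Ideal A) : Module.Flat A I := by
  refine Module.flat_of_isLocalized_maximal (R := A) (S := A) I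
    (fun P _ => ↥(Submodule.localized' (Localization.AtPrime P) P.primeCompl
      (Algebra.linearMap A (Localization.AtPrime P)) I))
    (fun P _ => Submodule.toLocalized' (Localization.AtPrime P) P.primeCompl
      (Algebra.linearMap A (Localization.AtPrime P)) I) ?_
  intro P hP
  obtain ⟨hd, hv⟩ := h4 P
  have : Module.Flat (Localization.AtPrime P)
      ↥(Submodule.localized' (Localization.AtPrime P) P.primeCompl
      (Algebra.linearMap A (Localization.AtPrime P)) I) :=
    flat_of_bezout_domain (B := Localization.AtPrime P) _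
  exact Module.Flat.trans A (Localization.AtPrime P) _

theorem main (A : Type u) [CommRing A] :
    List.TFAE [∀ I : Ideal A, Module.Flat A I,
      ∀ I : Ideal A, I.FG → Module.Flat A I,
      ∀ (M : Type u) [AddCommGroup M] [Module A M], Module.Flat A M → ∀ N : Submodule A M, Module.Flat A N,
      ∀ (p : Ideal A) [p.IsPrime], ∃ _ : IsDomain (Localization.AtPrime p), ValuationRing (Localization.AtPrime p)] := by
  tfae_have 1 → 2 := fun h I _ => h I
  tfae_have 2 → 3 := fun h M _ _ hM N => sub_flat h M N
  tfae_have 3 → 1 := fun h I => h A inferInstance I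
  tfae_have 2 → 4 := fun h p _ => two_to_four h p
  tfae_have 4 → 1 := fun h I => four_to_one h I
  tfae_finish

end global

end Groth.Agent.Lib.helper10.IdealsFlat
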