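import Mathlib
import Groth.Prelude.Def_DualLC
import Groth.Agent.S1733

set_option maxHeartbeats 400000
set_option autoImplicit false
universe u
open LocCoh

namespace H10S1757

theorem length_add_last (A : Type u) [CommRing A] (r : ℕ) (f : Fin (r + 1) → A) (g : A) (h : Dual2.Independent (Function.update f (Fin.last r) (f (Fin.last r) * g))) : Module.length A (A ⧸ Ideal.span (Set.range (Function.update f (Fin.last r) (f (Fin.last r) * g)))) = Module.length A (A ⧸ Ideal.span (Set.range f)) + Module.length A (A ⧸ Ideal.span (Set.range (Function.update f (Fin.last r) g))) := by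
  classical
  set fl := f (Fin.last r) with hfl
  set f' := Function.update f (Fin.last r) (fl * g) with hf'
  set fg := Function.update f (Fin.last r) g with hfg
  have hf'c : ∀ i : Fin r, f' i.castSucc = f i.castSucc := fun i => by
    rw [hf', Function.update_of_ne (Fin.castSucc_lt_last i).ne]
  have hf'l : f' (Fin.last r) = fl * g := by rw [hf', Function.update_self]
  have hfgc : ∀ i : Fin r, fg i.castSucc = f i.castSucc := fun i => by
    rw [hfg, Function.update_of_ne (Fin.castSucc_lt_last i).ne]
  have hfgl : fg (Fin.last r) = g := by rw [hfg, Function.update_self]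
  -- membership characterisations
  have mem : ∀ (v : Fin (r + 1) → A) (x : A), x ∈ Ideal.span (Set.range v) ↔
      ∃ c : Fin (r + 1) → A, ∑ i : Fin r, c i.castSucc * v i.castSucc
        + c (Fin.last r) * v (Fin.last r) = x := by
    intro v x
    rw [Ideal.mem_span_range_iff_exists_fun]
    simp only [Fin.sum_univ_castSucc]
  have hle : Ideal.span (Set.range f') ≤ Ideal.span (Set.range f) := by
    rw [Ideal.span_le]
    rintro _ ⟨j, rfl⟩
    induction j using Fin.lastCases with
    | last => rw [hf'l]; exact Ideal.mul_mem_right _ _ (Ideal.subset_span ⟨_, rfl⟩)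
    | cast i => rw [hf'c]; exact Ideal.subset_span ⟨_, rfl⟩
  have hleg : Ideal.span (Set.range f') ≤ Ideal.span (Set.range fg) := by
    rw [Ideal.span_le]
    rintro _ ⟨j, rfl⟩
    induction j using Fin.lastCases with
    | last =>
      rw [hf'l]
      exact Ideal.mul_mem_left _ _ (Ideal.subset_span ⟨Fin.last r, hfgl⟩)
    | cast i => rw [hf'c, ← hfgc]; exact Ideal.subset_span ⟨_, rfl⟩
  -- the multiplication map
  have hμ : Ideal.span (Set.range fg) ≤
      Submodule.comap (LinearMap.mul A A fl) (Ideal.span (Set.range f')) := by
    rw [Ideal.span_le]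
    rintro _ ⟨j, rfl⟩
    change fl * fg j ∈ Ideal.span (Set.range f')
    induction j using Fin.lastCases with
    | last => rw [hfgl, ← hf'l]; exact Ideal.subset_span ⟨_, rfl⟩
    | cast i =>
      rw [hfgc, ← hf'c]
      exact Ideal.mul_mem_left _ _ (Ideal.subset_span ⟨_, rfl⟩)
  let μ : (A ⧸ Ideal.span (Set.range fg)) →ₗ[A] (A ⧸ Ideal.span (Set.range f')) :=
    Submodule.mapQ _ _ (LinearMap.mul A A fl) hμ
  let π : (A ⧸ Ideal.span (Set.range f')) →ₗ[A] (A ⧸ Ideal.span (Set.range f)) :=
    Submodule.mapQ _ _ LinearMap.id hle
  have hμ_apply : ∀ a : A, μ (Submodule.Quotient.mk a) = Submodule.Quotient.mk (fl * a) :=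
    fun a => rfl
  have hπ_apply : ∀ a : A, π (Submodule.Quotient.mk a) = Submodule.Quotient.mk a :=
    fun a => rfl
  have hinj : Function.Injective μ := by
    rw [← LinearMap.ker_eq_bot, LinearMap.ker_eq_bot']
    intro x hx
    obtain ⟨a, rfl⟩ := Submodule.Quotient.mk_surjective _ x
    rw [hμ_apply, Submodule.Quotient.mk_eq_zero] at hx
    rw [Submodule.Quotient.mk_eq_zero]
    obtain ⟨c, hc⟩ := (mem f' _).1 hx
    simp only [hf'c, hf'l] at hc
    have h3 := h (Function.update (fun j => c j * g) (Fin.last r) (c (Fin.last r) * g - a)) (by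
      rw [Fin.sum_univ_castSucc]
      simp only [Function.update_self, Function.update_of_ne (Fin.castSucc_lt_last _).ne,
        hf'c, hf'l]
      have : ∑ i : Fin r, c i.castSucc * g * f i.castSucc
          = g * ∑ i : Fin r, c i.castSucc * f i.castSucc := by
        rw [Finset.mul_sum]; exact Finset.sum_congr rfl (fun i _ => by ring)
      rw [this]
      linear_combination g * hc) (Fin.last r)
    rw [Function.update_self] at h3
    have h4 := hleg h3
    have h5 : c (Fin.last r) * g ∈ Ideal.span (Set.range fg) :=
      Ideal.mul_mem_left _ _ (Ideal.subset_span ⟨Fin.last r, hfgl⟩)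
    have := Ideal.sub_mem _ h5 h4
    simpa using this
  have hsurj : Function.Surjective π := by
    intro y
    obtain ⟨a, rfl⟩ := Submodule.Quotient.mk_surjective _ y
    exact ⟨Submodule.Quotient.mk a, rfl⟩
  have hex : Function.Exact μ π := by
    intro y
    obtain ⟨a, rfl⟩ := Submodule.Quotient.mk_surjective _ y
    rw [hπ_apply, Submodule.Quotient.mk_eq_zero]
    constructor
    · intro ha
      obtain ⟨c, hc⟩ := (mem f _).1 ha
      rw [← hfl] at hc
      refine ⟨Submodule.Quotient.mk (c (Fin.last r)), ?_⟩
      rw [hμ_apply, Submodule.Quotient.eq]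
      have : fl * c (Fin.last r) - a = -∑ i : Fin r, c i.castSucc * f' i.castSucc := by
        simp only [hf'c]
        linear_combination hc
      rw [this]
      refine Ideal.neg_mem_iff _ |>.2 (Ideal.sum_mem _ (fun i _ => ?_))
      exact Ideal.mul_mem_left _ _ (Ideal.subset_span ⟨_, rfl⟩)
    · rintro ⟨x, hx⟩
      obtain ⟨b, rfl⟩ := Submodule.Quotient.mk_surjective _ x
      rw [hμ_apply, Submodule.Quotient.eq] at hx
      have h1 := hle hx
      have h2 : fl * b ∈ Ideal.span (Set.range f) :=
        Ideal.mul_mem_right _ _ (Ideal.subset_span ⟨Fin.last r, rfl⟩)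
      have := Ideal.sub_mem _ h2 h1
      simpa using this
  rw [Module.length_eq_add_of_exact μ π hinj hsurj hex, add_comm]


end H10S1757

namespace H10S1757

lemma independent_comp_equiv {A : Type u} [CommRing A] {r : ℕ} (f : Fin r → A)
    (σ : Equiv.Perm (Fin r)) (h : Dual2.Independent (f ∘ σ)) : Dual2.Independent f := by
  intro a ha j
  have hr : Set.range (f ∘ σ) = Set.range f := σ.surjective.range_comp f
  have h1 := h (a ∘ σ) (by
    rw [← ha]
    exact Equiv.sum_comp σ (fun i => a i * f i)) (σ.symm j)
  rw [hr] at h1
  simpa using h1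

lemma independent_comp_equiv_iff {A : Type u} [CommRing A] {r : ℕ} (f : Fin r → A)
    (σ : Equiv.Perm (Fin r)) : Dual2.Independent (f ∘ σ) ↔ Dual2.Independent f := by
  refine ⟨independent_comp_equiv f σ, fun h => ?_⟩
  apply independent_comp_equiv (f ∘ σ) σ.symm
  have : (f ∘ σ) ∘ σ.symm = f := by
    funext j; simp
  rw [this]; exact h

lemma update_comp_swap {A : Type u} {r : ℕ} (f : Fin (r + 1) → A) (i : Fin (r + 1)) (v : A) :
    Function.update f i v ∘ (Equiv.swap i (Fin.last r))
      = Function.update (f ∘ Equiv.swap i (Fin.last r)) (Fin.last r) v := by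
  rw [Function.update_comp_equiv]
  congr 1
  simp

/-- general index version of S1733 -/
theorem independent_of_mul (A : Type u) [CommRing A] (r : ℕ) (f : Fin (r + 1) → A)
    (i : Fin (r + 1)) (g : A)
    (h : Dual2.Independent (Function.update f i (f i * g))) : Dual2.Independent f := by
  set σ := Equiv.swap i (Fin.last r) with hσ
  rw [← independent_comp_equiv_iff _ σ, update_comp_swap] at h
  have h2 : f i = (f ∘ σ) (Fin.last r) := by simp [hσ]
  rw [h2] at h
  exact (independent_comp_equiv_iff f σ).1 (Groth.Agent.S1733.result A r (f ∘ σ) g h)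

/-- general index version of S1734, without the finiteness hypothesis. -/
theorem length_add (A : Type u) [CommRing A] (r : ℕ) (f : Fin (r + 1) → A)
    (i : Fin (r + 1)) (g : A)
    (h : Dual2.Independent (Function.update f i (f i * g))) :
    Module.length A (A ⧸ Ideal.span (Set.range (Function.update f i (f i * g))))
      = Module.length A (A ⧸ Ideal.span (Set.range f))
        + Module.length A (A ⧸ Ideal.span (Set.range (Function.update f i g))) := by
  set σ := Equiv.swap i (Fin.last r) with hσ
  have hr : ∀ v : Fin (r + 1) → A, Set.range (v ∘ σ) = Set.range v :=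
    fun v => σ.surjective.range_comp v
  rw [← independent_comp_equiv_iff _ σ, update_comp_swap] at h
  have h2 : f i = (f ∘ σ) (Fin.last r) := by simp [hσ]
  have key := length_add_last A r (f ∘ σ) g (by rw [← h2]; exact h)
  rw [← h2, ← update_comp_swap, ← update_comp_swap, hr, hr, hr] at key
  exact key

end H10S1757

namespace H10S1757

theorem main_aux (A : Type u) [CommRing A] [IsLocalRing A] (r : ℕ) (x : Fin r → A)
    (hx : Ideal.span (Set.range x) = IsLocalRing.maximalIdeal A) :
    ∀ (N : ℕ) (e : Fin r → ℕ), ∑ i, e i = N → (∀ i, 0 < e i) →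
      Dual2.Independent (fun i => x i ^ e i) →
      Module.length A (A ⧸ Ideal.span (Set.range (fun i => x i ^ e i))) = ∏ i, (e i : ℕ∞) := by
  classical
  intro N
  induction N using Nat.strong_induction_on with
  | _ N ih =>
    intro e hN he hind
    by_cases hall : ∀ i, e i = 1
    · have h1 : (fun i => x i ^ e i) = x := by
        funext i; rw [hall i, pow_one]
      rw [h1, hx]
      have : IsSimpleModule A (A ⧸ IsLocalRing.maximalIdeal A) :=
        isSimpleModule_iff_isCoatom.mpr (Ideal.isMaximal_def.mp inferInstance)
      rw [Module.length_eq_one_iff.mpr this]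
      simp [hall]
    · rw [not_forall] at hall
      obtain ⟨i, hi⟩ := hall
      have hi2 : 2 ≤ e i := by have := he i; omega
      obtain ⟨r', rfl⟩ : ∃ r', r = r' + 1 :=
        Nat.exists_eq_succ_of_ne_zero (by rintro rfl; exact i.elim0)
      set e' : Fin (r' + 1) → ℕ := Function.update e i (e i - 1) with he'
      set e'' : Fin (r' + 1) → ℕ := Function.update e i 1 with he''
      set f : Fin (r' + 1) → A := fun j => x j ^ e j with hf
      set f' : Fin (r' + 1) → A := fun j => x j ^ e' j with hf'
      set f'' : Fin (r' + 1) → A := fun j => x j ^ e'' j with hf''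
      have hf1 : f = Function.update f' i (f' i * x i) := by
        funext j
        by_cases hj : j = i
        · subst hj
          simp only [hf, hf', he', Function.update_self]
          rw [← pow_succ, Nat.sub_add_cancel (by omega)]
        · simp only [hf, hf', he', Function.update_of_ne hj]
      have hf2 : f'' = Function.update f' i (x i) := by
        funext j
        by_cases hj : j = i
        · subst hj
          simp only [hf'', he'', Function.update_self, pow_one]
        · simp only [hf'', hf', he', he'', Function.update_of_ne hj]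
      have hf3 : f = Function.update f'' i (f'' i * x i ^ (e i - 1)) := by
        funext j
        by_cases hj : j = i
        · subst hj
          simp only [hf, hf'', he'', Function.update_self, pow_one]
          rw [← pow_succ', Nat.sub_add_cancel (by omega)]
        · simp only [hf, hf'', he'', Function.update_of_ne hj]
      have hind' : Dual2.Independent f' :=
        independent_of_mul A r' f' i (x i) (by rw [← hf1]; exact hind)
      have hind'' : Dual2.Independent f'' :=
        independent_of_mul A r' f'' i (x i ^ (e i - 1)) (by rw [← hf3]; exact hind)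
      have hlen := length_add A r' f' i (x i) (by rw [← hf1]; exact hind)
      rw [← hf1, ← hf2] at hlen
      -- sums
      have hsum : ∑ j, e j = e i + ∑ j ∈ Finset.univ \ {i}, e j :=
        Finset.sum_eq_add_sum_sdiff_singleton_of_mem (Finset.mem_univ i) e
      have hsum' : ∑ j, e' j = (e i - 1) + ∑ j ∈ Finset.univ \ {i}, e j :=
        Finset.sum_update_of_mem (Finset.mem_univ i) e (e i - 1)
      have hsum'' : ∑ j, e'' j = 1 + ∑ j ∈ Finset.univ \ {i}, e j :=
        Finset.sum_update_of_mem (Finset.mem_univ i) e 1
      have hprod : ∏ j, e j = e i * ∏ j ∈ Finset.univ \ {i}, e j :=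
        Finset.prod_eq_mul_prod_sdiff_singleton_of_mem (Finset.mem_univ i) e
      have hprod' : ∏ j, e' j = (e i - 1) * ∏ j ∈ Finset.univ \ {i}, e j :=
        Finset.prod_update_of_mem (Finset.mem_univ i) e (e i - 1)
      have hprod'' : ∏ j, e'' j = 1 * ∏ j ∈ Finset.univ \ {i}, e j :=
        Finset.prod_update_of_mem (Finset.mem_univ i) e 1
      have he'pos : ∀ j, 0 < e' j := by
        intro j
        by_cases hj : j = i
        · subst hj; simp only [he', Function.update_self]; omega
        · simp only [he', Function.update_of_ne hj]; exact he j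
      have he''pos : ∀ j, 0 < e'' j := by
        intro j
        by_cases hj : j = i
        · subst hj; simp only [he'', Function.update_self]; omega
        · simp only [he'', Function.update_of_ne hj]; exact he j
      have ih' := ih (∑ j, e' j) (by rw [hsum', ← hN, hsum]; omega) e' rfl he'pos hind'
      have ih'' := ih (∑ j, e'' j) (by rw [hsum'', ← hN, hsum]; omega) e'' rfl he''pos hind''
      change Module.length A (A ⧸ Ideal.span (Set.range f)) = _
      rw [hlen]
      change Module.length A (A ⧸ Ideal.span (Set.range f')) = _ at ih'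
      change Module.length A (A ⧸ Ideal.span (Set.range f'')) = _ at ih''
      rw [ih', ih'', ← Nat.cast_prod, ← Nat.cast_prod, ← Nat.cast_prod, ← Nat.cast_add,
        hprod, hprod', hprod'']
      congr 1
      obtain ⟨k, hk⟩ : ∃ k, e i = k + 1 := ⟨e i - 1, by omega⟩
      rw [hk, Nat.add_sub_cancel]
      ring

theorem main (A : Type u) [CommRing A] [IsLocalRing A] (r : ℕ) (x : Fin r → A)
    (hx : Ideal.span (Set.range x) = IsLocalRing.maximalIdeal A) (e : Fin r → ℕ)
    (he : ∀ i, 0 < e i) (hind : Dual2.Independent (fun i => x i ^ e i)) :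
    Module.length A (A ⧸ Ideal.span (Set.range (fun i => x i ^ e i))) = ∏ i, (e i : ℕ∞) :=
  main_aux A r x hx _ e rfl he hind

end H10S1757
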