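import Mathlib
import Groth.Agent.Lib.helper10.DecompInertia

set_option maxHeartbeats 400000
set_option autoImplicit false
universe u v

namespace Groth.Agent.Lib.helper10.InertiaSep
open scoped Pointwise
open Polynomial

variable {B : Type u} [CommRing B] {Γ : Type v} [Group Γ] [Finite Γ] [MulSemiringAction Γ B]

/-- coset trace -/
noncomputable def cosetTr (H : Subgroup Γ) (w : B) : B :=
  ∑ᶠ q : Γ ⧸ H, (Quotient.out q : Γ) • w

omit [Finite Γ] in
lemma out_smul (H : Subgroup Γ) (w : B) (hw : ∀ h ∈ H, h • w = w) (g : Γ) :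
    (Quotient.out (g : Γ ⧸ H) : Γ) • w = g • w := by
  have h1 : ((Quotient.out (g : Γ ⧸ H) : Γ) : Γ ⧸ H) = (g : Γ ⧸ H) := QuotientGroup.out_eq' _
  rw [QuotientGroup.eq] at h1
  have h2 := hw _ h1
  rw [mul_smul] at h2
  have h3 : (Quotient.out (g : Γ ⧸ H) : Γ) • w =
      (Quotient.out (g : Γ ⧸ H) : Γ) • ((Quotient.out (g : Γ ⧸ H) : Γ)⁻¹ • g • w) := by rw [h2]
  rw [h3, smul_inv_smul]

omit [Finite Γ] in
lemma cosetTr_eq_sum (H : Subgroup Γ) (w : B) [Fintype (Γ ⧸ H)] :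
    cosetTr H w = ∑ q : Γ ⧸ H, (Quotient.out q : Γ) • w :=
  finsum_eq_sum_of_fintype _

lemma smul_cosetTr (H : Subgroup Γ) (w : B) (hw : ∀ h ∈ H, h • w = w) (γ : Γ) :
    γ • cosetTr H w = cosetTr H w := by
  classical
  let _ := Fintype.ofFinite (Γ ⧸ H)
  rw [cosetTr_eq_sum, Finset.smul_sum]
  refine Fintype.sum_equiv (MulAction.toPerm γ) _ _ (fun q => ?_)
  rw [MulAction.toPerm_apply]
  obtain ⟨g, rfl⟩ := QuotientGroup.mk_surjective q
  rw [out_smul H w hw g]
  have : γ • (g : Γ ⧸ H) = ((γ * g : Γ) : Γ ⧸ H) := rfl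
  rw [this, out_smul H w hw, mul_smul]

/-- product over a subgroup -/
noncomputable def normH (H : Subgroup Γ) (s : B) : B := ∏ᶠ τ : H, (τ : Γ) • s

omit [Finite Γ] in
lemma normH_eq_prod (H : Subgroup Γ) (s : B) [Fintype H] :
    normH H s = ∏ τ : H, (τ : Γ) • s :=
  finprod_eq_prod_of_fintype _

lemma smul_normH (H : Subgroup Γ) (s : B) (τ' : Γ) (hτ' : τ' ∈ H) :
    τ' • normH H s = normH H s := by
  classical
  let _ := Fintype.ofFinite H
  rw [normH_eq_prod, Finset.smul_prod']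
  refine Fintype.prod_equiv (Equiv.mulLeft (⟨τ', hτ'⟩ : H)) _ _ (fun τ => ?_)
  rw [Equiv.coe_mulLeft, Subgroup.coe_mul, mul_smul]

lemma map_normH {R : Type*} [CommRing R] (φ : B →+* R) (H : Subgroup Γ) (s : B)
    (h : ∀ τ ∈ H, φ (τ • s) = φ s) : φ (normH H s) = φ s ^ Nat.card H := by
  classical
  let _ := Fintype.ofFinite H
  rw [normH_eq_prod, map_prod, Finset.prod_congr rfl (fun τ _ => h τ.1 τ.2), Finset.prod_const,
    Finset.card_univ, Nat.card_eq_fintype_card]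

lemma smul_normH_mem (H : Subgroup Γ) (s : B) (P : Ideal B) (γ : Γ) (h : γ • s ∈ P) :
    γ • normH H s ∈ P := by
  classical
  let _ := Fintype.ofFinite H
  rw [normH_eq_prod, Finset.smul_prod']
  refine Ideal.prod_mem P (Finset.mem_univ (1 : H)) ?_
  rwa [Subgroup.coe_one, one_smul]

section crt
variable (P : Ideal B) [P.IsMaximal]

omit [Finite Γ] [P.IsMaximal] in
lemma mem_inertia_iff (τ : Γ) : τ ∈ P.inertia Γ ↔ ∀ x : B, τ • x - x ∈ P := Iff.rfl

omit [Finite Γ] in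
lemma exists_sep_elt (γ : Γ) (hγ : γ ∉ MulAction.stabilizer Γ P) :
    ∃ u : B, u ∉ P ∧ γ • u ∈ P := by
  by_contra h
  push Not at h
  apply hγ
  rw [MulAction.mem_stabilizer_iff]
  symm
  refine Ideal.IsMaximal.eq_of_le inferInstance (Ideal.IsPrime.ne_top inferInstance) ?_
  intro x hx
  rw [Ideal.mem_pointwise_smul_iff_inv_smul_mem]
  by_contra hx'
  exact h _ hx' (by rwa [smul_inv_smul])

lemma exists_crt : ∃ e : B, (∀ τ ∈ P.inertia Γ, τ • e = e) ∧ e - 1 ∈ P ∧
    ∀ γ : Γ, γ ∉ MulAction.stabilizer Γ P → γ • e ∈ P := by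
  classical
  let _ := Fintype.ofFinite Γ
  have h0 := exists_sep_elt (Γ := Γ) P
  choose! u hu1 hu2 using h0
  set e₁ : B := ∏ γ ∈ Finset.univ.filter (fun γ : Γ => γ ∉ MulAction.stabilizer Γ P), u γ with he₁
  have h1 : e₁ ∉ P := by
    rw [he₁, Ideal.IsPrime.prod_mem_iff]
    rintro ⟨γ, hγ, hmem⟩
    exact hu1 γ (Finset.mem_filter.1 hγ).2 hmem
  obtain ⟨s, i, hi, hs⟩ := Ideal.IsMaximal.exists_inv (inferInstance : P.IsMaximal) h1
  have h2 : Ideal.Quotient.mk P (s * e₁) = 1 := by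
    rw [← map_one (Ideal.Quotient.mk P), Ideal.Quotient.eq]
    have : s * e₁ - 1 = - i := by rw [← hs]; ring
    rw [this]; exact P.neg_mem hi
  refine ⟨normH (P.inertia Γ) (s * e₁), fun τ hτ => smul_normH _ _ τ hτ, ?_, fun γ hγ => ?_⟩
  · rw [← Ideal.Quotient.eq, map_one, map_normH (Ideal.Quotient.mk P) (P.inertia Γ) _
      (fun τ hτ => Ideal.Quotient.eq.2 ((mem_inertia_iff P τ).1 hτ _)), h2, one_pow]
  · refine smul_normH_mem _ _ P γ ?_
    rw [smul_mul']
    refine P.mul_mem_left _ ?_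
    rw [he₁, Finset.smul_prod']
    exact Ideal.prod_mem P (Finset.mem_filter.2 ⟨Finset.mem_univ γ, hγ⟩) (hu2 γ hγ)

omit [Finite Γ] [P.IsMaximal] in
lemma stab_mem_iff (δ : Γ) (hδ : δ ∈ MulAction.stabilizer Γ P) (x : B) : δ • x ∈ P ↔ x ∈ P := by
  rw [MulAction.mem_stabilizer_iff] at hδ
  conv_lhs => rw [← hδ]
  exact Ideal.smul_mem_pointwise_smul_iff

omit [Finite Γ] [P.IsMaximal] in
lemma mk_cosetTr (e : B) (he : e - 1 ∈ P)
    (he' : ∀ γ : Γ, γ ∉ MulAction.stabilizer Γ P → γ • e ∈ P) (u : B)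
    [Fintype (Γ ⧸ P.inertia Γ)] [DecidablePred (· ∈ MulAction.stabilizer Γ P)] :
    Ideal.Quotient.mk P (cosetTr (P.inertia Γ) (u * e)) =
      ∑ q : Γ ⧸ P.inertia Γ, if (Quotient.out q : Γ) ∈ MulAction.stabilizer Γ P then
        Ideal.Quotient.mk P ((Quotient.out q : Γ) • u) else 0 := by
  rw [cosetTr_eq_sum, map_sum]
  refine Finset.sum_congr rfl (fun q _ => ?_)
  rw [smul_mul', map_mul]
  split_ifs with hq
  · have : Ideal.Quotient.mk P ((Quotient.out q : Γ) • e) = 1 := by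
      rw [← map_one (Ideal.Quotient.mk P), Ideal.Quotient.eq]
      have h1 : (Quotient.out q : Γ) • e - 1 = (Quotient.out q : Γ) • (e - 1) := by
        rw [smul_sub, smul_one]
      rw [h1, stab_mem_iff P _ hq]
      exact he
    rw [this, mul_one]
  · rw [Ideal.Quotient.eq_zero_iff_mem.2 (he' _ hq), mul_zero]

lemma exists_trace_ne_zero
    [Fintype (Γ ⧸ P.inertia Γ)] [DecidablePred (· ∈ MulAction.stabilizer Γ P)] :
    ∃ z : B, (∀ τ ∈ P.inertia Γ, τ • z = z) ∧
      (∑ q : Γ ⧸ P.inertia Γ, if (Quotient.out q : Γ) ∈ MulAction.stabilizer Γ P then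
        Ideal.Quotient.mk P ((Quotient.out q : Γ) • z) else 0) ≠ 0 := by
  classical
  by_contra hcon
  push Not at hcon
  let S := FixedPoints.subring B (P.inertia Γ)
  let χ : (Γ ⧸ P.inertia Γ) → (S →* (B ⧸ P)) := fun q =>
    (((Ideal.Quotient.mk P).comp ((MulSemiringAction.toRingHom Γ B (Quotient.out q)).comp
      S.subtype) : S →+* (B ⧸ P)) : S →* (B ⧸ P))
  have hχ : ∀ q (b : S), χ q b = Ideal.Quotient.mk P ((Quotient.out q : Γ) • (b : B)) :=
    fun q b => rfl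
  have hinj : Set.InjOn χ (Finset.univ.filter
      (fun q : Γ ⧸ P.inertia Γ => (Quotient.out q : Γ) ∈ MulAction.stabilizer Γ P) : Set _) := by
    intro q hq q' hq' hqq'
    simp only [Finset.coe_filter, Finset.mem_univ, true_and, Set.mem_ofPred_eq] at hq hq'
    have h1 : ∀ x : B, (∀ ω ∈ P.inertia Γ, ω • x = x) →
        ((Quotient.out q' : Γ)⁻¹ * (Quotient.out q : Γ)) • x - x ∈ P := by
      intro x hx
      have h2 := DFunLike.congr_fun hqq' ⟨x, (DecompInertia.mem_fixed B Γ _ x).2 hx⟩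
      rw [hχ, hχ, Ideal.Quotient.eq] at h2
      have h3 : ((Quotient.out q' : Γ)⁻¹ * (Quotient.out q : Γ)) • x - x =
          (Quotient.out q' : Γ)⁻¹ • ((Quotient.out q : Γ) • x - (Quotient.out q' : Γ) • x) := by
        rw [smul_sub, mul_smul, inv_smul_smul]
      rw [h3, stab_mem_iff P _ (inv_mem hq')]
      exact h2
    obtain ⟨ω, hω, h4⟩ := DecompInertia.inertia_forward B Γ (P.inertia Γ) P _ h1
    have h5 : (Quotient.out q' : Γ)⁻¹ * (Quotient.out q : Γ) * ω ∈ P.inertia Γ := h4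
    have h6 : (Quotient.out q' : Γ)⁻¹ * (Quotient.out q : Γ) ∈ P.inertia Γ := by
      have := (P.inertia Γ).mul_mem h5 (inv_mem hω)
      rwa [mul_inv_cancel_right] at this
    rw [← QuotientGroup.out_eq' q, ← QuotientGroup.out_eq' q']
    exact (QuotientGroup.eq.2 h6).symm
  have hli := linearIndependent_monoidHom S (B ⧸ P)
  rw [linearIndependent_iff'] at hli
  have h7 := hli ((Finset.univ.filter
      (fun q : Γ ⧸ P.inertia Γ => (Quotient.out q : Γ) ∈ MulAction.stabilizer Γ P)).image χ)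
      (fun _ => 1) (by
    funext b
    rw [Finset.sum_apply, Finset.sum_image hinj]
    simp only [one_smul, Pi.zero_apply]
    rw [Finset.sum_filter]
    exact hcon b.1 ((DecompInertia.mem_fixed B Γ _ b.1).1 b.2))
  have h8 : (Quotient.out ((1 : Γ) : Γ ⧸ P.inertia Γ) : Γ) ∈ P.inertia Γ := by
    have h9 : ((Quotient.out ((1 : Γ) : Γ ⧸ P.inertia Γ) : Γ) : Γ ⧸ P.inertia Γ) = ((1 : Γ) : _) :=
      QuotientGroup.out_eq' _
    rw [QuotientGroup.eq, mul_one] at h9
    exact inv_mem_iff.1 h9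
  have h10 := h7 (χ ((1 : Γ) : Γ ⧸ P.inertia Γ)) (Finset.mem_image_of_mem _
    (Finset.mem_filter.2 ⟨Finset.mem_univ _, Ideal.inertia_le_stabilizer P h8⟩))
  exact one_ne_zero h10

end crt

section forward
variable (P : Ideal B) [P.IsMaximal]

omit [Finite Γ] [P.IsMaximal] in
lemma conj_mem_inertia (δ : Γ) (hδ : δ ∈ MulAction.stabilizer Γ P) (τ : Γ)
    (hτ : τ ∈ P.inertia Γ) : δ⁻¹ * τ * δ ∈ P.inertia Γ := by
  rw [mem_inertia_iff]
  intro x
  have h1 : (δ⁻¹ * τ * δ) • x - x = δ⁻¹ • (τ • (δ • x) - δ • x) := by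
    rw [smul_sub, mul_smul, mul_smul, inv_smul_smul]
  rw [h1]
  exact (stab_mem_iff P _ (inv_mem hδ) _).2 ((mem_inertia_iff P τ).1 hτ _)

omit [Finite Γ] [P.IsMaximal] in
lemma smul_stab_inv (δ : Γ) (hδ : δ ∈ MulAction.stabilizer Γ P) (y : B)
    (hy : ∀ τ ∈ P.inertia Γ, τ • y = y) (τ : Γ) (hτ : τ ∈ P.inertia Γ) :
    τ • δ • y = δ • y := by
  have := hy _ (conj_mem_inertia P δ hδ τ hτ)
  rw [mul_smul, mul_smul, inv_smul_eq_iff] at this
  exact this

theorem forward (x y : B) (hy : ∀ τ ∈ P.inertia Γ, τ • y = y) (hxy : x - y ∈ P) :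
    ∃ g : B[X], (∀ (i : ℕ) (γ : Γ), γ • g.coeff i = g.coeff i) ∧
      (g.map (Ideal.Quotient.mk P)).Separable ∧ aeval x g ∈ P := by
  classical
  let _ := Fintype.ofFinite Γ
  let _ := Fintype.ofFinite (Γ ⧸ P.inertia Γ)
  let _ : Field (B ⧸ P) := Ideal.Quotient.field P
  obtain ⟨e, he1, he2, he3⟩ := exists_crt (Γ := Γ) P
  obtain ⟨z, hz1, hz2⟩ := exists_trace_ne_zero (Γ := Γ) P
  set t := ∑ q : Γ ⧸ P.inertia Γ, if (Quotient.out q : Γ) ∈ MulAction.stabilizer Γ P then
        Ideal.Quotient.mk P ((Quotient.out q : Γ) • z) else 0 with ht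
  set π := Ideal.Quotient.mk P with hπ
  let SO : Finset (B ⧸ P) :=
    (Finset.univ.filter (fun δ : Γ => δ ∈ MulAction.stabilizer Γ P)).image (fun δ => π (δ • y))
  have hSO : ∀ c ∈ SO, ∃ δ : Γ, δ ∈ MulAction.stabilizer Γ P ∧ π (δ • y) = c := by
    intro c hc
    obtain ⟨δ, hδ, rfl⟩ := Finset.mem_image.1 hc
    exact ⟨δ, (Finset.mem_filter.1 hδ).2, rfl⟩
  choose! dl hdl1 hdl2 using hSO
  let h : (B ⧸ P)[X] := ∏ c ∈ SO, (X - C c)
  let hB : B[X] := ∏ c ∈ SO, (X - C (dl c • y))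
  have hmap : hB.map π = h := by
    rw [Polynomial.map_prod]
    refine Finset.prod_congr rfl (fun c hc => ?_)
    rw [Polynomial.map_sub, Polynomial.map_X, Polynomial.map_C, hdl2 c hc]
  have hsep : h.Separable := separable_prod_X_sub_C_iff'.2 (fun _ _ _ _ hxy => hxy)
  have hroot : h.eval (π x) = 0 := by
    rw [Polynomial.eval_prod]
    refine Finset.prod_eq_zero (i := π x) ?_ ?_
    · rw [Ideal.Quotient.eq.2 hxy]
      exact Finset.mem_image.2 ⟨1, Finset.mem_filter.2 ⟨Finset.mem_univ _, one_mem _⟩,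
        by rw [one_smul]⟩
    · simp
  have hBT : ∀ τ ∈ P.inertia Γ, τ • hB = hB := by
    intro τ hτ
    rw [Finset.smul_prod']
    refine Finset.prod_congr rfl (fun c hc => ?_)
    rw [smul_sub, Polynomial.smul_X, Polynomial.smul_C, smul_stab_inv P _ (hdl1 c hc) y hy τ hτ]
  have hBD : ∀ δ ∈ MulAction.stabilizer Γ P, ∀ i, π (δ • hB.coeff i) = π (hB.coeff i) := by
    intro δ hδ i
    let φ : (B ⧸ P) →+* (B ⧸ P) := Ideal.quotientMap P (MulSemiringAction.toRingHom Γ B δ)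
      (fun a ha => (stab_mem_iff P δ hδ a).2 ha)
    have hφ : ∀ b, φ (π b) = π (δ • b) := fun b => rfl
    have hφh : h.map φ = h := by
      rw [Polynomial.map_prod]
      simp only [Polynomial.map_sub, Polynomial.map_X, Polynomial.map_C]
      rw [← Finset.prod_image (s := SO) (g := φ) (f := fun c => X - C c) (φ.injective.injOn)]
      congr 1
      refine Finset.eq_of_subset_of_card_le ?_ ?_
      · intro c hc
        obtain ⟨c', hc', rfl⟩ := Finset.mem_image.1 hc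
        obtain ⟨δ', hδ', rfl⟩ := Finset.mem_image.1 hc'
        rw [hφ, ← mul_smul]
        exact Finset.mem_image.2 ⟨δ * δ', Finset.mem_filter.2 ⟨Finset.mem_univ _,
          mul_mem hδ (Finset.mem_filter.1 hδ').2⟩, rfl⟩
      · rw [Finset.card_image_of_injective _ φ.injective]
    rw [← hφ, ← Polynomial.coeff_map, hmap, ← Polynomial.coeff_map, hφh]
  let w : B[X] := hB * C (z * e)
  have hwT : ∀ τ ∈ P.inertia Γ, τ • w = w := by
    intro τ hτ
    rw [smul_mul', hBT τ hτ, Polynomial.smul_C, smul_mul', hz1 τ hτ, he1 τ hτ]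
  let g : B[X] := cosetTr (P.inertia Γ) w
  have hgcoeff : ∀ i, g.coeff i = cosetTr (P.inertia Γ) (hB.coeff i * z * e) := by
    intro i
    have hg : g = ∑ q : Γ ⧸ P.inertia Γ, (Quotient.out q : Γ) • w := cosetTr_eq_sum _ _
    rw [hg, cosetTr_eq_sum, Polynomial.finsetSum_coeff]
    refine Finset.sum_congr rfl (fun q _ => ?_)
    rw [Polynomial.coeff_smul, Polynomial.coeff_mul_C, mul_assoc]
  have hgmap : g.map π = C t * h := by
    ext i
    rw [Polynomial.coeff_map, hgcoeff, mk_cosetTr P e he2 he3, Polynomial.coeff_C_mul, ht,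
      Finset.sum_mul]
    refine Finset.sum_congr rfl (fun q _ => ?_)
    split_ifs with hq
    · rw [smul_mul', map_mul, hBD _ hq, ← hmap, Polynomial.coeff_map, mul_comm]
    · rw [zero_mul]
  refine ⟨g, fun i γ => ?_, ?_, ?_⟩
  · rw [← Polynomial.coeff_smul, smul_cosetTr _ _ hwT]
  · rw [hgmap]
    have hco : IsCoprime (C t : (B ⧸ P)[X]) h :=
      ⟨C t⁻¹, 0, by rw [zero_mul, add_zero, ← C_mul, inv_mul_cancel₀ hz2, C_1]⟩
    exact Separable.mul (separable_C _ |>.2 (isUnit_iff_ne_zero.2 hz2)) hsep hco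
  · rw [← Ideal.Quotient.eq_zero_iff_mem, Polynomial.coe_aeval_eq_eval,
      ← Polynomial.eval₂_at_apply, ← Polynomial.eval_map, hgmap, eval_mul, hroot, mul_zero]

end forward

section backward
variable (P : Ideal B) [P.IsMaximal]

attribute [local instance] Ideal.Quotient.field

variable (Γ) in
/-- image of the inertia invariants in the residue field, as a subfield -/
noncomputable def resSub : Subfield (B ⧸ P) where
  toSubring := (FixedPoints.subring B (P.inertia Γ)).map (Ideal.Quotient.mk P)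
  inv_mem' := by
    rintro _ ⟨b, hb, rfl⟩
    by_cases hbP : b ∈ P
    · rw [Ideal.Quotient.eq_zero_iff_mem.2 hbP, inv_zero]
      exact Subring.zero_mem _
    · have hint : Algebra.IsIntegral (FixedPoints.subring B (P.inertia Γ)) B :=
        Algebra.IsInvariant.isIntegral _ B (P.inertia Γ)
      have hmax : (P.comap (algebraMap (FixedPoints.subring B (P.inertia Γ)) B)).IsMaximal :=
        Ideal.isMaximal_comap_of_isIntegral_of_isMaximal P
      have hb' : (⟨b, hb⟩ : FixedPoints.subring B (P.inertia Γ)) ∉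
          P.comap (algebraMap (FixedPoints.subring B (P.inertia Γ)) B) := fun h => hbP h
      obtain ⟨c, i, hi, hc⟩ := hmax.exists_inv hb'
      refine ⟨c.1, c.2, ?_⟩
      apply eq_inv_of_mul_eq_one_left
      have h1 := congrArg (fun s : FixedPoints.subring B (P.inertia Γ) =>
        Ideal.Quotient.mk P (s : B)) hc
      simp only [Subring.coe_add, Subring.coe_mul, map_add, map_mul, Subring.coe_one,
        map_one] at h1
      have hi' : (i : B) ∈ P := hi
      rw [Ideal.Quotient.eq_zero_iff_mem.2 hi', add_zero] at h1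
      exact h1

set_option linter.unusedSectionVars false in
lemma mem_resSub (a : B ⧸ P) : a ∈ resSub Γ P ↔
    ∃ b : B, (∀ τ ∈ P.inertia Γ, τ • b = b) ∧ Ideal.Quotient.mk P b = a := by
  constructor
  · rintro ⟨b, hb, rfl⟩
    exact ⟨b, (DecompInertia.mem_fixed B Γ _ b).1 hb, rfl⟩
  · rintro ⟨b, hb, rfl⟩
    exact ⟨b, (DecompInertia.mem_fixed B Γ _ b).2 hb, rfl⟩

theorem backward (x : B) (g : B[X]) (hg1 : ∀ (i : ℕ) (γ : Γ), γ • g.coeff i = g.coeff i)
    (hg2 : (g.map (Ideal.Quotient.mk P)).Separable) (hg3 : aeval x g ∈ P) :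
    ∃ y : B, (∀ τ ∈ P.inertia Γ, τ • y = y) ∧ x - y ∈ P := by
  classical
  set π := Ideal.Quotient.mk P with hπ
  let M := resSub Γ P
  have hMmem : ∀ b : B, (∀ τ ∈ P.inertia Γ, τ • b = b) → π b ∈ M :=
    fun b hb => (mem_resSub P _).2 ⟨b, hb, rfl⟩
  let Fx : B[X] := normH (P.inertia Γ) (X - C x)
  have hFx1 : ∀ i, ∀ τ ∈ P.inertia Γ, τ • Fx.coeff i = Fx.coeff i := fun i τ hτ => by
    rw [← Polynomial.coeff_smul, smul_normH _ _ τ hτ]
  have hFx2 : Fx.map π = (X - C (π x)) ^ Nat.card (P.inertia Γ) := by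
    have h1 := map_normH (Polynomial.mapRingHom π) (P.inertia Γ) (X - C x) (fun τ hτ => by
      rw [smul_sub, Polynomial.smul_X, Polynomial.smul_C]
      simp only [Polynomial.coe_mapRingHom, Polynomial.map_sub, Polynomial.map_X,
        Polynomial.map_C]
      rw [Ideal.Quotient.eq.2 ((mem_inertia_iff P τ).1 hτ x)])
    simpa only [Polynomial.coe_mapRingHom, Polynomial.map_sub, Polynomial.map_X,
      Polynomial.map_C] using h1
  have hl1 : Fx.map π ∈ Polynomial.lifts (algebraMap M (B ⧸ P)) := by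
    rw [Polynomial.lifts_iff_coeff_lifts]
    intro n
    rw [Polynomial.coeff_map]
    exact ⟨⟨_, hMmem _ (hFx1 n)⟩, rfl⟩
  have hl2 : g.map π ∈ Polynomial.lifts (algebraMap M (B ⧸ P)) := by
    rw [Polynomial.lifts_iff_coeff_lifts]
    intro n
    rw [Polynomial.coeff_map]
    exact ⟨⟨_, hMmem _ (fun τ _ => hg1 n τ)⟩, rfl⟩
  obtain ⟨p1, hp1⟩ := (Polynomial.mem_lifts _).1 hl1
  obtain ⟨p2, hp2⟩ := (Polynomial.mem_lifts _).1 hl2
  have hp2sep : p2.Separable := (Polynomial.separable_map (algebraMap M (B ⧸ P))).1 (hp2 ▸ hg2)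
  have hroot2 : aeval (π x) p2 = 0 := by
    rw [Polynomial.aeval_def, Polynomial.eval₂_eq_eval_map, hp2, Polynomial.eval_map,
      Polynomial.eval₂_at_apply, ← Polynomial.coe_aeval_eq_eval]
    exact Ideal.Quotient.eq_zero_iff_mem.2 hg3
  have hcard : Nat.card (P.inertia Γ) ≠ 0 := Nat.card_pos.ne'
  have hroot1 : aeval (π x) p1 = 0 := by
    rw [Polynomial.aeval_def, Polynomial.eval₂_eq_eval_map, hp1, hFx2, Polynomial.eval_pow,
      Polynomial.eval_sub, Polynomial.eval_X, Polynomial.eval_C, sub_self, zero_pow hcard]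
  have hint : IsIntegral M (π x) := IsAlgebraic.isIntegral ⟨p2, hp2sep.ne_zero, hroot2⟩
  set m := minpoly M (π x) with hm
  have hm1 : m ∣ p1 := minpoly.dvd M _ hroot1
  have hm2 : m ∣ p2 := minpoly.dvd M _ hroot2
  have hmsep : (m.map (algebraMap M (B ⧸ P))).Separable := (hp2sep.of_dvd hm2).map
  have hmdvd : m.map (algebraMap M (B ⧸ P)) ∣ (X - C (π x)) ^ Nat.card (P.inertia Γ) := by
    rw [← hFx2, ← hp1]
    exact Polynomial.map_dvd _ hm1
  obtain ⟨i, hi, hassoc⟩ := (dvd_prime_pow (Polynomial.prime_X_sub_C (π x)) _).1 hmdvd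
  have hi1 : i ≤ 1 := by
    by_contra hcon
    push Not at hcon
    have hsq := hmsep.squarefree
    have h2 : (X - C (π x)) * (X - C (π x)) ∣ m.map (algebraMap M (B ⧸ P)) := by
      refine dvd_trans ?_ hassoc.symm.dvd
      rw [← pow_two]
      exact pow_dvd_pow _ hcon
    exact Polynomial.not_isUnit_X_sub_C _ (hsq _ h2)
  have hdeg : m.natDegree = i := by
    have h3 := Polynomial.degree_eq_degree_of_associated hassoc
    rw [Polynomial.degree_map, Polynomial.degree_pow, Polynomial.degree_X_sub_C, nsmul_one] at h3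
    exact Polynomial.natDegree_eq_of_degree_eq_some h3
  have hpos : 0 < m.natDegree := minpoly.natDegree_pos hint
  have h1 : m.natDegree = 1 := by
    rw [hdeg] at hpos ⊢
    omega
  obtain ⟨c, hc⟩ := RingHom.mem_range.1 ((minpoly.natDegree_eq_one_iff).1 h1)
  obtain ⟨y, hy, hyc⟩ := (mem_resSub P _).1 c.2
  refine ⟨y, hy, ?_⟩
  rw [← Ideal.Quotient.eq, hyc]
  exact hc.symm

end backward

theorem main (P : Ideal B) [P.IsMaximal] (x : B) :
    (∃ y : B, (∀ γ : Γ, γ ∈ P.inertia Γ → γ • y = y) ∧ x - y ∈ P) ↔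
      ∃ g : Polynomial B, (∀ (i : ℕ) (γ : Γ), γ • g.coeff i = g.coeff i) ∧
        (g.map (Ideal.Quotient.mk P)).Separable ∧ Polynomial.aeval x g ∈ P := by
  constructor
  · rintro ⟨y, hy, hxy⟩
    exact forward P x y hy hxy
  · rintro ⟨g, hg1, hg2, hg3⟩
    exact backward P x g hg1 hg2 hg3

end Groth.Agent.Lib.helper10.InertiaSep
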