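import Mathlib

set_option autoImplicit false

namespace Groth.Agent.Lib.helper10.InvDecomp

open scoped Pointwise

variable {G R : Type*} [Group G] [CommRing R] [MulSemiringAction G R] (H : Subgroup G)

/-- the conjugates of an `H`-invariant element, indexed by cosets -/
noncomputable def F (y : FixedPoints.subring R H) (c : G ⧸ H) : R :=
  Quotient.liftOn' c (fun σ => σ • (y : R)) (fun a b hab => by
    rw [QuotientGroup.leftRel_apply] at hab
    have h1 : (a⁻¹ * b) • (y : R) = y := y.2 ⟨a⁻¹ * b, hab⟩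
    show a • (y : R) = b • (y : R)
    calc a • (y : R) = a • ((a⁻¹ * b) • (y : R)) := by rw [h1]
      _ = b • (y : R) := by rw [smul_smul, mul_inv_cancel_left])

theorem F_mk (y : FixedPoints.subring R H) (σ : G) :
    F H y (QuotientGroup.mk σ) = σ • (y : R) := rfl

theorem smul_F (g : G) (y : FixedPoints.subring R H) (c : G ⧸ H) :
    g • F H y c = F H y (g • c) := by
  induction c using QuotientGroup.induction_on with
  | H σ => rw [F_mk, MulAction.Quotient.smul_mk, F_mk, smul_smul, smul_eq_mul]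

theorem F_add (y z : FixedPoints.subring R H) (c : G ⧸ H) :
    F H (y + z) c = F H y c + F H z c := by
  induction c using QuotientGroup.induction_on with
  | H σ => simp only [F_mk, Subring.coe_add, smul_add]

theorem F_mul (y z : FixedPoints.subring R H) (c : G ⧸ H) :
    F H (y * z) c = F H y c * F H z c := by
  induction c using QuotientGroup.induction_on with
  | H σ => simp only [F_mk, Subring.coe_mul, smul_mul']

theorem F_of_fixed (y : FixedPoints.subring R H) (hy : ∀ g : G, g • (y : R) = y) (c : G ⧸ H) :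
    F H y c = y := by
  induction c using QuotientGroup.induction_on with
  | H σ => rw [F_mk, hy]

variable [Fintype (G ⧸ H)] [DecidableEq (G ⧸ H)]

/-- the trace from `H`-invariants to `G`-invariants -/
noncomputable def T (y : FixedPoints.subring R H) : R :=
  ∑ c : G ⧸ H, F H y c

/-- the product of the non-trivial conjugates -/
noncomputable def V (y : FixedPoints.subring R H) : R :=
  ∏ c ∈ (Finset.univ.erase (QuotientGroup.mk 1 : G ⧸ H)), F H y c

theorem smul_T (g : G) (y : FixedPoints.subring R H) : g • T H y = T H y := by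
  unfold T
  rw [Finset.smul_sum]
  simp_rw [smul_F]
  exact Equiv.sum_comp (MulAction.toPerm g : Equiv.Perm (G ⧸ H)) (fun c => F H y c)

theorem T_add (y z : FixedPoints.subring R H) : T H (y + z) = T H y + T H z := by
  unfold T
  simp_rw [F_add]
  rw [Finset.sum_add_distrib]

theorem T_mul_of_fixed (b y : FixedPoints.subring R H) (hb : ∀ g : G, g • (b : R) = b) :
    T H (b * y) = b * T H y := by
  unfold T
  simp_rw [F_mul, F_of_fixed H b hb]
  rw [Finset.mul_sum]

theorem T_sub_mem (q : Ideal R) (y : FixedPoints.subring R H)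
    (h : ∀ σ : G, σ ∉ H → σ • (y : R) ∈ q) : T H y - y ∈ q := by
  have h1 : T H y = F H y (QuotientGroup.mk 1) +
      ∑ c ∈ (Finset.univ.erase (QuotientGroup.mk 1 : G ⧸ H)), F H y c := by
    unfold T
    rw [Finset.add_sum_erase _ _ (Finset.mem_univ _)]
  rw [h1, F_mk, one_smul, add_sub_cancel_left]
  refine Ideal.sum_mem _ fun c hc => ?_
  induction c using QuotientGroup.induction_on with
  | H σ =>
    rw [F_mk]
    refine h σ fun hσ => ?_
    apply (Finset.mem_erase.mp hc).1
    rw [QuotientGroup.eq]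
    simpa using H.inv_mem hσ

theorem mul_V (y : FixedPoints.subring R H) : ∀ g : G, g • ((y : R) * V H y) = (y : R) * V H y := by
  have h1 : (y : R) * V H y = ∏ c : G ⧸ H, F H y c := by
    unfold V
    rw [← Finset.mul_prod_erase _ _ (Finset.mem_univ (QuotientGroup.mk 1 : G ⧸ H)), F_mk, one_smul]
  intro g
  rw [h1, Finset.smul_prod']
  simp_rw [smul_F]
  exact Equiv.prod_comp (MulAction.toPerm g : Equiv.Perm (G ⧸ H)) (fun c => F H y c)

theorem smul_V (h : G) (hh : h ∈ H) (y : FixedPoints.subring R H) : h • V H y = V H y := by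
  unfold V
  rw [Finset.smul_prod']
  simp_rw [smul_F]
  refine Finset.prod_bij' (fun c _ => h • c) (fun c _ => h⁻¹ • c) ?_ ?_ ?_ ?_ ?_
  · intro c hc
    rw [Finset.mem_erase] at hc ⊢
    refine ⟨fun h0 => hc.1 ?_, Finset.mem_univ _⟩
    have : c = h⁻¹ • (QuotientGroup.mk 1 : G ⧸ H) := by rw [← h0, inv_smul_smul]
    rw [this, MulAction.Quotient.smul_mk, QuotientGroup.eq]
    simpa using hh
  · intro c hc
    rw [Finset.mem_erase] at hc ⊢
    refine ⟨fun h0 => hc.1 ?_, Finset.mem_univ _⟩
    have : c = h • (QuotientGroup.mk 1 : G ⧸ H) := by rw [← h0, smul_inv_smul]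
    rw [this, MulAction.Quotient.smul_mk, QuotientGroup.eq]
    simpa using H.inv_mem hh
  · intro c _; exact inv_smul_smul h c
  · intro c _; exact smul_inv_smul h c
  · intro c _; rfl

theorem V_notMem (q : Ideal R) [q.IsPrime] (y : FixedPoints.subring R H)
    (h : ∀ σ : G, σ ∉ H → σ • (y : R) ∉ q) : V H y ∉ q := by
  unfold V
  rw [Ideal.IsPrime.prod_mem_iff]
  rintro ⟨c, hc, hmem⟩
  induction c using QuotientGroup.induction_on with
  | H σ =>
    rw [F_mk] at hmem
    refine h σ (fun hσ => ?_) hmem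
    apply (Finset.mem_erase.mp hc).1
    rw [QuotientGroup.eq]
    simpa using H.inv_mem hσ


section Primes

omit [Fintype (G ⧸ H)] [DecidableEq (G ⧸ H)]
variable [Finite G] (q : Ideal R) [q.IsPrime]

omit [q.IsPrime] in
theorem smul_eq_of_le_smul (τ : G) (h : q ≤ τ • q) : τ • q = q := by
  refine le_antisymm ?_ h
  have hk : ∀ k : ℕ, τ • q ≤ τ ^ (k + 1) • q := by
    intro k
    induction k with
    | zero => rw [zero_add, pow_one]
    | succ k ih =>
      refine ih.trans ?_
      rw [pow_succ (τ) (k + 1), mul_smul]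
      exact Ideal.pointwise_smul_le_pointwise_smul_iff.mpr h
  have hn : 0 < orderOf τ := orderOf_pos τ
  have := hk (orderOf τ - 1)
  rwa [Nat.sub_add_cancel hn, pow_orderOf_eq_one, one_smul] at this

omit [q.IsPrime] in
/-- if every `H`-invariant element of `P` lies in the prime `Q` then `P ≤ τ • Q` for some `τ ∈ H` -/
theorem exists_le_smul (P Q : Ideal R) [Q.IsPrime]
    (h : ∀ x : FixedPoints.subring R H, (x : R) ∈ P → (x : R) ∈ Q) : ∃ τ ∈ H, P ≤ τ • Q := by
  classical
  haveI : Fintype H := Fintype.ofFinite _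
  by_contra hcon
  push Not at hcon
  have h1 : ¬ ((P : Set R) ⊆ ⋃ τ ∈ ((Finset.univ : Finset H) : Set H), ((τ : G) • Q : Ideal R)) := by
    rw [Ideal.subset_union_prime (1 : H) (1 : H) (fun τ _ _ _ => inferInstance)]
    rintro ⟨τ, -, hτ⟩
    exact hcon τ τ.2 hτ
  rw [Set.not_subset] at h1
  obtain ⟨x, hxP, hx⟩ := h1
  simp only [Finset.coe_univ, Set.mem_univ, Set.iUnion_true, Set.mem_iUnion, SetLike.mem_coe,
    not_exists] at hx
  let y : R := ∏ τ : H, (τ : G) • x
  have hy : ∀ g : H, g • y = y := by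
    intro g
    show (g : G) • y = y
    rw [Finset.smul_prod']
    simp_rw [smul_smul]
    exact Fintype.prod_equiv (Equiv.mulLeft g) _ _ (fun τ => rfl)
  have hyP : y ∈ P := Ideal.prod_mem P (Finset.mem_univ (1 : H)) (by simpa using hxP)
  have hyQ := h ⟨y, hy⟩ hyP
  rw [Ideal.IsPrime.prod_mem_iff] at hyQ
  obtain ⟨τ, -, hτ⟩ := hyQ
  apply hx τ⁻¹
  rw [Ideal.mem_pointwise_smul_iff_inv_smul_mem]
  simpa using hτ

variable (hD : MulAction.stabilizer G q ≤ H)
include hD

theorem exists_mem_notMem (σ : G) (hσ : σ ∉ H) :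
    ∃ x : FixedPoints.subring R H, (x : R) ∈ q ∧ σ • (x : R) ∉ q := by
  by_contra hcon
  push Not at hcon
  obtain ⟨τ, hτ, hle⟩ := exists_le_smul H q (σ⁻¹ • q) (fun x hx => by
    rw [Ideal.mem_inv_pointwise_smul_iff]; exact hcon x hx)
  rw [smul_smul] at hle
  have h1 := smul_eq_of_le_smul q _ hle
  have h2 : τ * σ⁻¹ ∈ H := hD (MulAction.mem_stabilizer_iff.mpr h1)
  have h3 : σ⁻¹ ∈ H := by
    have := H.mul_mem (H.inv_mem hτ) h2
    rwa [inv_mul_cancel_left] at this
  exact hσ (by simpa using H.inv_mem h3)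

theorem exists_notMem_mem (σ : G) (hσ : σ ∉ H) :
    ∃ x : FixedPoints.subring R H, (x : R) ∉ q ∧ σ • (x : R) ∈ q := by
  by_contra hcon
  push Not at hcon
  obtain ⟨τ, hτ, hle⟩ := exists_le_smul H (σ⁻¹ • q) q (fun x hx => by
    by_contra hxq
    exact hcon x hxq (by rwa [Ideal.mem_inv_pointwise_smul_iff] at hx))
  rw [← Ideal.subset_pointwise_smul_iff, smul_smul] at hle
  have h1 := smul_eq_of_le_smul q _ hle
  have h2 : σ * τ ∈ H := hD (MulAction.mem_stabilizer_iff.mpr h1)
  have h3 : σ ∈ H := by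
    have := H.mul_mem h2 (H.inv_mem hτ)
    rwa [mul_inv_cancel_right] at this
  exact hσ h3

/-- an `H`-invariant element outside `q` all of whose conjugates by `σ ∉ H` lie in `q` -/
theorem exists_c : ∃ c : FixedPoints.subring R H, (c : R) ∉ q ∧ ∀ σ : G, σ ∉ H → σ • (c : R) ∈ q := by
  classical
  haveI : Fintype G := Fintype.ofFinite _
  choose! cσ hcσ using exists_notMem_mem H q hD
  refine ⟨∏ σ ∈ Finset.univ.filter (fun σ : G => σ ∉ H), cσ σ, ?_, ?_⟩
  · rw [SubmonoidClass.coe_finsetProd, Ideal.IsPrime.prod_mem_iff]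
    rintro ⟨σ, hσ, hmem⟩
    exact (hcσ σ (Finset.mem_filter.mp hσ).2).1 hmem
  · intro σ hσ
    rw [SubmonoidClass.coe_finsetProd, Finset.smul_prod']
    exact Ideal.prod_mem q (Finset.mem_filter.mpr ⟨Finset.mem_univ σ, hσ⟩) (hcσ σ hσ).2

/-- an `H`-invariant element of `q` none of whose conjugates by `σ ∉ H` lies in `q` -/
theorem exists_x : ∃ x : FixedPoints.subring R H, (x : R) ∈ q ∧ ∀ σ : G, σ ∉ H → σ • (x : R) ∉ q := by
  classical
  haveI : Fintype G := Fintype.ofFinite _
  by_contra hcon
  push Not at hcon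
  let Q : G → Ideal (FixedPoints.subring R H) := fun σ =>
    Ideal.comap (FixedPoints.subring R H).subtype (σ⁻¹ • q)
  have h1 : ((Ideal.comap (FixedPoints.subring R H).subtype q : Ideal (FixedPoints.subring R H)) :
      Set (FixedPoints.subring R H)) ⊆
      ⋃ σ ∈ ((Finset.univ.filter (fun σ : G => σ ∉ H) : Finset G) : Set G), Q σ := by
    intro x hx
    obtain ⟨σ, hσ, hmem⟩ := hcon x hx
    simp only [Set.mem_iUnion]
    refine ⟨σ, by simpa using hσ, ?_⟩
    show (x : R) ∈ σ⁻¹ • q
    rwa [Ideal.mem_inv_pointwise_smul_iff]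
  rw [Ideal.subset_union_prime (1 : G) (1 : G) (fun σ _ _ _ => Ideal.comap_isPrime _ _)] at h1
  obtain ⟨σ, hσ, hle⟩ := h1
  obtain ⟨x, hxq, hx⟩ := exists_mem_notMem H q hD σ (Finset.mem_filter.mp hσ).2
  apply hx
  have : (x : R) ∈ σ⁻¹ • q := hle hxq
  rwa [Ideal.mem_inv_pointwise_smul_iff] at this

end Primes


section Main

variable [Finite G] (q : Ideal R) [q.IsPrime]
  (hle : FixedPoints.subring R G ≤ FixedPoints.subring R H)

/-- the trace as a map to the `G`-invariants -/
noncomputable def TB (y : FixedPoints.subring R H) : FixedPoints.subring R G :=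
  ⟨T H y, fun g => smul_T H g y⟩

omit [Finite G] in
theorem TB_add (y z : FixedPoints.subring R H) : TB H (y + z) = TB H y + TB H z :=
  Subtype.ext (T_add H y z)

omit [Finite G] in
theorem TB_mul_incl (b : FixedPoints.subring R G) (y : FixedPoints.subring R H) :
    TB H (Subring.inclusion hle b * y) = b * TB H y :=
  Subtype.ext (T_mul_of_fixed H (Subring.inclusion hle b) y (fun g => b.2 g))

omit [Finite G] in
theorem TB_mem (I : Ideal (FixedPoints.subring R G)) (y : FixedPoints.subring R H)
    (hy : y ∈ Ideal.map (Subring.inclusion hle) I) :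
    ∀ r : FixedPoints.subring R H, TB H (r * y) ∈ I := by
  unfold Ideal.map at hy
  induction hy using Submodule.span_induction with
  | mem y hy =>
    obtain ⟨b, hb, rfl⟩ := hy
    intro r
    rw [mul_comm, TB_mul_incl]
    exact I.mul_mem_right _ hb
  | zero =>
    intro r
    have h0 : TB H (0 : FixedPoints.subring R H) = 0 := by
      have := TB_mul_incl H hle 0 0
      rwa [map_zero, zero_mul, zero_mul] at this
    rw [mul_zero, h0]
    exact I.zero_mem
  | add y z _ _ hy hz => intro r; rw [mul_add, TB_add]; exact I.add_mem (hy r) (hz r)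
  | smul a y _ hy => intro r; rw [smul_eq_mul, ← mul_assoc]; exact hy (r * a)

variable (hD : MulAction.stabilizer G q ≤ H)
include hD

theorem residue (x : FixedPoints.subring R H) :
    ∃ t b : FixedPoints.subring R G, (t : R) ∉ q ∧ (t : R) * x - b ∈ q := by
  obtain ⟨c, hcq, hc⟩ := exists_c H q hD
  have h1 : T H c - c ∈ q := T_sub_mem H q c hc
  have h2 : T H (x * c) - x * c ∈ q := T_sub_mem H q (x * c) (fun σ hσ => by
    rw [Subring.coe_mul, smul_mul']; exact q.mul_mem_left _ (hc σ hσ))
  refine ⟨TB H c, TB H (x * c), ?_, ?_⟩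
  · intro h
    apply hcq
    have : (c : R) = T H c - (T H c - c) := by ring
    rw [this]
    exact q.sub_mem h h1
  · have : (TB H c : R) * x - (TB H (x * c) : R) = (T H c - c) * x - (T H (x * c) - x * c) := by
      show T H c * (x : R) - T H (x * c) = _
      ring
    rw [this]
    exact q.sub_mem (q.mul_mem_right _ h1) h2

theorem purity (b : FixedPoints.subring R G) (s : FixedPoints.subring R H) (n : ℕ)
    (hs : (s : R) ∉ q)
    (h : s * Subring.inclusion hle b ∈ Ideal.map (Subring.inclusion hle)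
      ((Ideal.comap (Subring.inclusion hle) (Ideal.comap (FixedPoints.subring R H).subtype q)) ^ n)) :
    ∃ t : FixedPoints.subring R G, (t : R) ∉ q ∧
      t * b ∈ (Ideal.comap (Subring.inclusion hle)
        (Ideal.comap (FixedPoints.subring R H).subtype q)) ^ n := by
  obtain ⟨c, hcq, hc⟩ := exists_c H q hD
  refine ⟨TB H (s * c), ?_, ?_⟩
  · have h1 : T H (s * c) - s * c ∈ q := T_sub_mem H q (s * c) (fun σ hσ => by
      rw [Subring.coe_mul, smul_mul']; exact q.mul_mem_left _ (hc σ hσ))
    intro h2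
    have h3 : (s : R) * c ∈ q := by
      have : (s : R) * c = T H (s * c) - (T H (s * c) - s * c) := by ring
      rw [this]
      exact q.sub_mem h2 h1
    rcases Ideal.IsPrime.mem_or_mem inferInstance h3 with h4 | h4
    · exact hs h4
    · exact hcq h4
  · have h1 := TB_mem H hle _ _ h c
    have h2 : TB H (c * (s * Subring.inclusion hle b)) = TB H (s * c) * b := by
      rw [mul_comm (TB H (s * c)) b, ← TB_mul_incl H hle]
      congr 1
      ring
    rwa [h2] at h1

theorem unram (z : FixedPoints.subring R H) (hz : (z : R) ∈ q) :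
    ∃ s : FixedPoints.subring R H, (s : R) ∉ q ∧
      s * z ∈ Ideal.map (Subring.inclusion hle)
        (Ideal.comap (Subring.inclusion hle) (Ideal.comap (FixedPoints.subring R H).subtype q)) := by
  obtain ⟨c, hcq, hc⟩ := exists_c H q hD
  obtain ⟨x, hxq, hx⟩ := exists_x H q hD
  have key : ∀ w : FixedPoints.subring R H, (w : R) ∈ q → (∀ σ : G, σ ∉ H → σ • (w : R) ∉ q) →
      ∃ v : FixedPoints.subring R H, (v : R) ∉ q ∧ v * w ∈ Ideal.map (Subring.inclusion hle)
        (Ideal.comap (Subring.inclusion hle) (Ideal.comap (FixedPoints.subring R H).subtype q)) := by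
    intro w hwq hw
    refine ⟨⟨V H w, fun h => smul_V H (h : G) h.2 w⟩, V_notMem H q w hw, ?_⟩
    have h1 : (⟨V H w, fun h => smul_V H (h : G) h.2 w⟩ : FixedPoints.subring R H) * w =
        Subring.inclusion hle ⟨(w : R) * V H w, mul_V H w⟩ := by
      apply Subtype.ext
      show V H w * (w : R) = (w : R) * V H w
      ring
    rw [h1]
    refine Ideal.mem_map_of_mem _ ?_
    show (w : R) * V H w ∈ q
    exact q.mul_mem_right _ hwq
  obtain ⟨vx, hvx, hvx'⟩ := key x hxq hx
  obtain ⟨vw, hvw, hvw'⟩ := key (z * c + x) (by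
      rw [Subring.coe_add, Subring.coe_mul]
      exact q.add_mem (q.mul_mem_right _ hz) hxq) (fun σ hσ hmem => by
      rw [Subring.coe_add, Subring.coe_mul, smul_add, smul_mul'] at hmem
      apply hx σ hσ
      have : σ • (x : R) = (σ • (z : R) * σ • (c : R) + σ • (x : R)) - σ • (z : R) * σ • (c : R) := by
        ring
      rw [this]
      exact q.sub_mem hmem (q.mul_mem_left _ (hc σ hσ)))
  refine ⟨vw * vx * c, ?_, ?_⟩
  · intro hmem
    rw [Subring.coe_mul, Subring.coe_mul] at hmem
    rcases Ideal.IsPrime.mem_or_mem inferInstance hmem with h4 | h4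
    · rcases Ideal.IsPrime.mem_or_mem inferInstance h4 with h5 | h5
      · exact hvw h5
      · exact hvx h5
    · exact hcq h4
  · have : vw * vx * c * z = vx * (vw * (z * c + x)) - vw * (vx * x) := by ring
    rw [this]
    exact Ideal.sub_mem _ (Ideal.mul_mem_left _ _ hvw') (Ideal.mul_mem_left _ _ hvx')

end Main

section Abstract

variable {A S : Type*} [CommRing A] [CommRing S] (f : A →+* S) (q' : Ideal S) [q'.IsPrime]

/-- the local hom -/
noncomputable abbrev phi : Localization.AtPrime (q'.comap f) →+* Localization.AtPrime q' :=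
  Localization.localRingHom (q'.comap f) q' f rfl

theorem map_maximalIdeal_eq
    (hU : ∀ z ∈ q', ∃ s, s ∉ q' ∧ s * z ∈ Ideal.map f (q'.comap f)) :
    Ideal.map (phi f q') (IsLocalRing.maximalIdeal (Localization.AtPrime (q'.comap f))) =
      IsLocalRing.maximalIdeal (Localization.AtPrime q') := by
  rw [← Localization.AtPrime.map_eq_maximalIdeal, ← Localization.AtPrime.map_eq_maximalIdeal,
    Ideal.map_map]
  have hcomp : (phi f q').comp (algebraMap A (Localization.AtPrime (q'.comap f))) =
      (algebraMap S (Localization.AtPrime q')).comp f := by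
    ext a
    exact Localization.localRingHom_to_map _ _ _ rfl a
  rw [hcomp, ← Ideal.map_map]
  apply le_antisymm
  · exact Ideal.map_mono Ideal.map_comap_le
  · rw [Ideal.map_le_iff_le_comap]
    intro z hz
    obtain ⟨s, hs, hsz⟩ := hU z hz
    rw [Ideal.mem_comap]
    have hu : IsUnit (algebraMap S (Localization.AtPrime q') s) :=
      IsLocalization.map_units (M := q'.primeCompl) _ ⟨s, hs⟩
    have h1 : algebraMap S (Localization.AtPrime q') (s * z) ∈
        Ideal.map (algebraMap S (Localization.AtPrime q')) (Ideal.map f (q'.comap f)) :=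
      Ideal.mem_map_of_mem _ hsz
    rw [map_mul] at h1
    exact (Ideal.unit_mul_mem_iff_mem _ hu).mp h1

theorem phi_mk' (x : A) (y : (q'.comap f).primeCompl) :
    phi f q' (IsLocalization.mk' _ x y) =
      IsLocalization.mk' (Localization.AtPrime q') (f x)
        (⟨f y, y.2⟩ : q'.primeCompl) :=
  Localization.localRingHom_mk' _ _ _ rfl x y

theorem residue_surj
    (hRes : ∀ x : S, ∃ t b : A, f t ∉ q' ∧ f t * x - f b ∈ q')
    (y : Localization.AtPrime q') :
    ∃ a : Localization.AtPrime (q'.comap f),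
      y - phi f q' a ∈ IsLocalRing.maximalIdeal (Localization.AtPrime q') := by
  obtain ⟨x, s, rfl⟩ := IsLocalization.exists_mk'_eq q'.primeCompl y
  obtain ⟨t₁, b₁, ht₁, h₁⟩ := hRes x
  obtain ⟨t₂, b₂, ht₂, h₂⟩ := hRes s
  have hb₂ : f b₂ ∉ q' := by
    intro hb
    have : f t₂ * (s : S) ∈ q' := by
      have := q'.add_mem h₂ hb
      simpa using this
    rcases Ideal.IsPrime.mem_or_mem inferInstance this with h | h
    · exact ht₂ h
    · exact s.2 h
  have hd : f (t₁ * b₂) ∉ q' := by
    rw [map_mul]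
    intro h
    rcases Ideal.IsPrime.mem_or_mem inferInstance h with h | h
    · exact ht₁ h
    · exact hb₂ h
  refine ⟨IsLocalization.mk' _ (b₁ * t₂) (⟨t₁ * b₂, hd⟩ : (q'.comap f).primeCompl), ?_⟩
  rw [phi_mk']
  set d : q'.primeCompl := ⟨f (t₁ * b₂), hd⟩ with hd_def
  have hu : IsUnit (algebraMap S (Localization.AtPrime q') ((s : S) * (d : S))) :=
    IsLocalization.map_units (M := q'.primeCompl) _ (s * d)
  rw [← Ideal.unit_mul_mem_iff_mem _ hu]
  have hnum : algebraMap S (Localization.AtPrime q') ((s : S) * (d : S)) *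
      (IsLocalization.mk' (Localization.AtPrime q') x s -
        IsLocalization.mk' (Localization.AtPrime q') (f (b₁ * t₂)) d) =
      algebraMap S (Localization.AtPrime q')
        ((f t₁ * x - f b₁) * f b₂ - f b₁ * (f t₂ * s - f b₂)) := by
    have e1 : algebraMap S (Localization.AtPrime q') (s : S) *
        IsLocalization.mk' (Localization.AtPrime q') x s = algebraMap S _ x :=
      IsLocalization.mk'_spec' _ _ _
    have e2 : algebraMap S (Localization.AtPrime q') (d : S) *
        IsLocalization.mk' (Localization.AtPrime q') (f (b₁ * t₂)) d = algebraMap S _ (f (b₁ * t₂)) :=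
      IsLocalization.mk'_spec' _ _ _
    have hdv : (d : S) = f t₁ * f b₂ := by rw [hd_def]; simp
    rw [map_mul, mul_sub]
    have e3 : algebraMap S (Localization.AtPrime q') (s : S) * algebraMap S _ (d : S) *
        IsLocalization.mk' (Localization.AtPrime q') x s = algebraMap S _ (d : S) * algebraMap S _ x := by
      rw [← e1]; ring
    have e4 : algebraMap S (Localization.AtPrime q') (s : S) * algebraMap S _ (d : S) *
        IsLocalization.mk' (Localization.AtPrime q') (f (b₁ * t₂)) d =
        algebraMap S _ (s : S) * algebraMap S _ (f (b₁ * t₂)) := by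
      rw [← e2]; ring
    rw [e3, e4, hdv]
    simp only [map_mul, map_sub]
    ring
  rw [hnum, IsLocalization.AtPrime.to_map_mem_maximal_iff _ q']
  exact q'.sub_mem (q'.mul_mem_right _ h₁) (q'.mul_mem_left _ h₂)


theorem map_pow_eq
    (hU : ∀ z ∈ q', ∃ s, s ∉ q' ∧ s * z ∈ Ideal.map f (q'.comap f)) (n : ℕ) :
    Ideal.map (phi f q') (IsLocalRing.maximalIdeal (Localization.AtPrime (q'.comap f)) ^ n) =
      IsLocalRing.maximalIdeal (Localization.AtPrime q') ^ n := by
  rw [Ideal.map_pow, map_maximalIdeal_eq f q' hU]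

theorem approx_step
    (hU : ∀ z ∈ q', ∃ s, s ∉ q' ∧ s * z ∈ Ideal.map f (q'.comap f))
    (hRes : ∀ x : S, ∃ t b : A, f t ∉ q' ∧ f t * x - f b ∈ q')
    (n : ℕ) (w : Localization.AtPrime q')
    (hw : w ∈ IsLocalRing.maximalIdeal (Localization.AtPrime q') ^ n) :
    ∃ a ∈ IsLocalRing.maximalIdeal (Localization.AtPrime (q'.comap f)) ^ n,
      w - phi f q' a ∈ IsLocalRing.maximalIdeal (Localization.AtPrime q') ^ (n + 1) := by
  rw [← map_pow_eq f q' hU n] at hw
  induction hw using Submodule.span_induction with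
  | mem x hx =>
    obtain ⟨u, hu, rfl⟩ := hx
    exact ⟨u, hu, by simp⟩
  | zero => exact ⟨0, zero_mem _, by simp⟩
  | add x y _ _ hx hy =>
    obtain ⟨a, ha, ha'⟩ := hx
    obtain ⟨b, hb, hb'⟩ := hy
    refine ⟨a + b, add_mem ha hb, ?_⟩
    have := add_mem ha' hb'
    rw [map_add]
    convert this using 1
    ring
  | smul r x _ hx =>
    obtain ⟨a, ha, ha'⟩ := hx
    obtain ⟨c, hc⟩ := residue_surj f q' hRes r
    refine ⟨c * a, Ideal.mul_mem_left _ _ ha, ?_⟩
    have : r • x - phi f q' (c * a) = r * (x - phi f q' a) + (r - phi f q' c) * phi f q' a := by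
      rw [smul_eq_mul, map_mul]; ring
    rw [this]
    refine add_mem (Ideal.mul_mem_left _ _ ha') ?_
    rw [pow_succ']
    refine Ideal.mul_mem_mul hc ?_
    rw [← map_pow_eq f q' hU n]
    exact Ideal.mem_map_of_mem _ ha

theorem approx
    (hU : ∀ z ∈ q', ∃ s, s ∉ q' ∧ s * z ∈ Ideal.map f (q'.comap f))
    (hRes : ∀ x : S, ∃ t b : A, f t ∉ q' ∧ f t * x - f b ∈ q')
    (n : ℕ) (y : Localization.AtPrime q') :
    ∃ a : Localization.AtPrime (q'.comap f),
      y - phi f q' a ∈ IsLocalRing.maximalIdeal (Localization.AtPrime q') ^ n := by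
  induction n with
  | zero => exact ⟨0, by simp⟩
  | succ n ih =>
    obtain ⟨a, ha⟩ := ih
    obtain ⟨b, -, hb⟩ := approx_step f q' hU hRes n _ ha
    refine ⟨a + b, ?_⟩
    rw [map_add]
    convert hb using 1
    ring

theorem main
    (hU : ∀ z ∈ q', ∃ s, s ∉ q' ∧ s * z ∈ Ideal.map f (q'.comap f))
    (hRes : ∀ x : S, ∃ t b : A, f t ∉ q' ∧ f t * x - f b ∈ q')
    (hPur : ∀ (b : A) (s : S) (n : ℕ), s ∉ q' → s * f b ∈ Ideal.map f ((q'.comap f) ^ n) →
      ∃ t : A, f t ∉ q' ∧ t * b ∈ (q'.comap f) ^ n)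
    (n : ℕ) :
    Function.Surjective
        ((Ideal.Quotient.mk (IsLocalRing.maximalIdeal (Localization.AtPrime q') ^ n)).comp
          (phi f q')) ∧
      Ideal.comap (phi f q') (IsLocalRing.maximalIdeal (Localization.AtPrime q') ^ n) =
        IsLocalRing.maximalIdeal (Localization.AtPrime (q'.comap f)) ^ n := by
  constructor
  · intro y
    obtain ⟨y, rfl⟩ := Ideal.Quotient.mk_surjective y
    obtain ⟨a, ha⟩ := approx f q' hU hRes n y
    refine ⟨a, ?_⟩
    rw [RingHom.comp_apply, eq_comm, Ideal.Quotient.eq]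
    exact ha
  · apply le_antisymm
    · intro a ha
      rw [Ideal.mem_comap] at ha
      obtain ⟨b, t, rfl⟩ := IsLocalization.exists_mk'_eq (q'.comap f).primeCompl a
      rw [phi_mk', ← map_pow_eq f q' hU n, ← Localization.AtPrime.map_eq_maximalIdeal,
        ← Ideal.map_pow, Ideal.map_map] at ha
      have hcomp : (phi f q').comp (algebraMap A (Localization.AtPrime (q'.comap f))) =
          (algebraMap S (Localization.AtPrime q')).comp f := by
        ext a
        exact Localization.localRingHom_to_map _ _ _ rfl a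
      rw [hcomp, ← Ideal.map_map,
        IsLocalization.mk'_mem_map_algebraMap_iff (M := q'.primeCompl)] at ha
      obtain ⟨s, hs, hsb⟩ := ha
      obtain ⟨t', ht', ht'b⟩ := hPur b s n hs hsb
      rw [← Localization.AtPrime.map_eq_maximalIdeal, ← Ideal.map_pow,
        IsLocalization.mk'_mem_map_algebraMap_iff (M := (q'.comap f).primeCompl)]
      exact ⟨t', ht', ht'b⟩
    · rw [← Ideal.map_le_iff_le_comap, map_pow_eq f q' hU n]

end Abstract

end Groth.Agent.Lib.helper10.InvDecomp
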