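import Mathlib.RingTheory.Flat.IsBaseChange
import Mathlib.RingTheory.TensorProduct.IsBaseChangePi
import Mathlib.RingTheory.Etale.Descent
import Mathlib.RingTheory.Etale.Pi
import Mathlib.RingTheory.RingHom.Etale
import Mathlib.RingTheory.Localization.Away.Basic

/-!
# Invariants of a finite group acting on a (locally split) finite étale algebra

* `invSub σ`: the subalgebra of invariants of a family of algebra endomorphisms.
* `isBaseChange_inv`: invariants commute with flat base change.
* `etale_inv_of_splitStr`: for a split algebra (with a complete family of idempotents `e i` and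
  retractions `p i`), the invariants of a finite group are étale over the base.
* `etale_inv_of_split`: invariants of a finite group acting on an algebra that becomes split after a
  faithfully flat base change are étale.
-/

set_option autoImplicit false
set_option linter.style.haveILetI false
set_option linter.unusedSectionVars false

universe u

namespace Groth.Agent.Lib.helper10.InvEtale

open TensorProduct

section Inv

variable {R A : Type*} [CommRing R] [CommRing A] [Algebra R A] {G : Type*} (σ : G → A →ₐ[R] A)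

/-- The subalgebra of invariants. -/
def invSub : Subalgebra R A where
  carrier := {a | ∀ g, σ g a = a}
  mul_mem' := fun {a b} ha hb g => by rw [map_mul, ha g, hb g]
  add_mem' := fun {a b} ha hb g => by rw [map_add, ha g, hb g]
  algebraMap_mem' := fun r g => (σ g).commutes r

theorem mem_invSub {a : A} : a ∈ invSub σ ↔ ∀ g, σ g a = a := Iff.rfl

end Inv

section BaseChange

variable {R S : Type*} [CommRing R] [CommRing S] [Algebra R S] [Module.Flat R S]
  {A A' : Type*} [AddCommGroup A] [Module R A] [AddCommGroup A'] [Module R A'] [Module S A']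
  [IsScalarTower R S A'] {G : Type*} [Finite G]
  {I I' : Type*} [AddCommGroup I] [Module R I] [AddCommGroup I'] [Module R I'] [Module S I']
  [IsScalarTower R S I']

/-- Invariants commute with flat base change (module-level statement). -/
theorem isBaseChange_inv (σ : G → A →ₗ[R] A) (σ' : G → A' →ₗ[S] A') (ρ : A →ₗ[R] A')
    (hρ : IsBaseChange S ρ) (hcomm : ∀ g a, ρ (σ g a) = σ' g (ρ a))
    (j : I →ₗ[R] A) (j' : I' →ₗ[S] A') (hj : Function.Injective j) (hj' : Function.Injective j')
    (hjr : ∀ a, (∀ g, σ g a = a) ↔ a ∈ Set.range j)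
    (hjr' : ∀ a, (∀ g, σ' g a = a) ↔ a ∈ Set.range j')
    (ρ0 : I →ₗ[R] I') (hρ0 : ∀ x, j' (ρ0 x) = ρ (j x)) : IsBaseChange S ρ0 := by
  let δ : A →ₗ[R] (G → A) := LinearMap.pi fun g => σ g - LinearMap.id
  let δ' : A' →ₗ[S] (G → A') := LinearMap.pi fun g => σ' g - LinearMap.id
  let h₃ : (G → A) →ₗ[R] (G → A') := LinearMap.pi fun g => ρ ∘ₗ LinearMap.proj g
  have hb₃ : IsBaseChange S h₃ := IsBaseChange.pi (S := S) (fun _ : G => ρ) (fun _ => hρ)
  refine IsBaseChange.of_left_exact S ρ0 ρ h₃ (f := j) (g := δ) (f' := j') (g' := δ')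
    ?_ ?_ hρ hb₃ ?_ hj ?_ hj'
  · ext x
    exact (hρ0 x).symm
  · ext a g
    show ρ (σ g a - a) = σ' g (ρ a) - ρ a
    rw [map_sub, hcomm]
  · intro a
    rw [← hjr]
    constructor
    · intro h g
      have := congrFun h g
      exact sub_eq_zero.1 this
    · intro h
      funext g
      exact sub_eq_zero.2 (h g)
  · intro a
    rw [← hjr']
    constructor
    · intro h g
      have := congrFun h g
      exact sub_eq_zero.1 this
    · intro h
      funext g
      exact sub_eq_zero.2 (h g)

end BaseChange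

section Split

variable {S E : Type u} [CommRing S] [CommRing E] [Algebra S E] {G : Type*} [Group G] [Fintype G]
  (σ : G → E →ₐ[S] E) {ι : Type*} [Fintype ι] (e : ι → E) (p : ι → E →ₐ[S] S)

/-- The saturation of the idempotent `e i` under the group. -/
def sat (i : ι) : E := 1 - ∏ g, (1 - σ g (e i))

theorem e_idem (hpe : ∀ i, p i (e i) = 1)
    (hmul : ∀ i x, x * e i = algebraMap S E (p i x) * e i) (i : ι) : IsIdempotentElem (e i) := by
  have := hmul i (e i)
  rw [hpe, map_one, one_mul] at this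
  exact this

theorem sat_mem (hσmul : ∀ g h x, σ (g * h) x = σ g (σ h x)) (i : ι) : sat σ e i ∈ invSub σ := by
  intro h
  unfold sat
  rw [map_sub, map_one, map_prod]
  congr 1
  have h1 : ∀ g, σ h (1 - σ g (e i)) = 1 - σ (h * g) (e i) := by
    intro g
    rw [map_sub, map_one, hσmul]
  simp_rw [h1]
  exact Fintype.prod_equiv (Equiv.mulLeft h) _ _ (fun g => rfl)

theorem sat_idem (hpe : ∀ i, p i (e i) = 1)
    (hmul : ∀ i x, x * e i = algebraMap S E (p i x) * e i) (i : ι) :
    IsIdempotentElem (sat σ e i) := by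
  unfold sat
  apply IsIdempotentElem.one_sub
  apply Finset.prod_induction _ IsIdempotentElem (fun a b ha hb => ha.mul hb) IsIdempotentElem.one
  intro g _
  exact (((e_idem e p hpe hmul i).map (σ g))).one_sub

open Classical in
theorem prod_sat (hσ1 : ∀ x, σ 1 x = x) (hprod : ∏ i, (1 - e i) = 0) :
    ∏ i, (1 - sat σ e i) = 0 := by
  have h1 : ∀ i, 1 - sat σ e i = (1 - e i) * ∏ g ∈ Finset.univ.erase 1, (1 - σ g (e i)) := by
    intro i
    unfold sat
    rw [sub_sub_cancel, ← Finset.mul_prod_erase Finset.univ _ (Finset.mem_univ 1), hσ1]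
  simp_rw [h1]
  rw [Finset.prod_mul_distrib, hprod, zero_mul]

theorem p_sat (hσ1 : ∀ x, σ 1 x = x) (hpe : ∀ i, p i (e i) = 1) (i : ι) :
    p i (sat σ e i) = 1 := by
  unfold sat
  rw [map_sub, map_one, map_prod, Finset.prod_eq_zero (Finset.mem_univ 1), sub_zero]
  rw [map_sub, map_one, hσ1, hpe, sub_self]

theorem mul_sat (hmul : ∀ i x, x * e i = algebraMap S E (p i x) * e i) (i : ι) (x : E)
    (hx : x ∈ invSub σ) (hpx : p i x = 0) : x * sat σ e i = 0 := by
  have h1 : ∀ g, x * (1 - σ g (e i)) = x := by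
    intro g
    have h2 : x * σ g (e i) = σ g (x * e i) := by
      rw [map_mul, hx g]
    rw [mul_sub, mul_one, h2, hmul, hpx, map_zero, zero_mul, map_zero, sub_zero]
  have h3 : ∀ s : Finset G, x * ∏ g ∈ s, (1 - σ g (e i)) = x := by
    intro s
    classical
    induction s using Finset.induction_on with
    | empty => rw [Finset.prod_empty, mul_one]
    | insert a s ha ih => rw [Finset.prod_insert ha, ← mul_assoc, h1, ih]
  unfold sat
  rw [mul_sub, mul_one, h3, sub_self]

/-- The invariants of a finite group acting on a split algebra are étale over the base. -/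
theorem etale_inv_of_splitStr (hσ1 : ∀ x, σ 1 x = x) (hσmul : ∀ g h x, σ (g * h) x = σ g (σ h x))
    (hprod : ∏ i, (1 - e i) = 0) (hpe : ∀ i, p i (e i) = 1)
    (hmul : ∀ i x, x * e i = algebraMap S E (p i x) * e i) : Algebra.Etale S (invSub σ) := by
  let v : ι → invSub σ := fun i => ⟨sat σ e i, sat_mem σ e hσmul i⟩
  have h0 : ∏ i, (1 - v i) = 0 := by
    apply Subtype.ext
    have h1 : ((invSub σ).val (∏ i, (1 - v i)) : E) = ∏ i, (1 - sat σ e i) := by
      rw [map_prod]
      rfl
    exact h1.trans (prod_sat σ e hσ1 hprod)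
  have hspan : Ideal.span (Set.range v) = ⊤ := by
    rw [Ideal.eq_top_iff_one, ← Ideal.Quotient.eq_zero_iff_mem]
    have h2 : ∀ i, Ideal.Quotient.mk (Ideal.span (Set.range v)) (1 - v i) = 1 := by
      intro i
      have hm : v i ∈ Ideal.span (Set.range v) := Ideal.subset_span ⟨i, rfl⟩
      rw [map_sub, map_one, Ideal.Quotient.eq_zero_iff_mem.2 hm, sub_zero]
    have h3 := congrArg (Ideal.Quotient.mk (Ideal.span (Set.range v))) h0
    rw [map_prod, map_zero] at h3
    simp_rw [h2] at h3
    rw [Finset.prod_const_one] at h3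
    rw [map_one]
    exact h3
  rw [← RingHom.etale_algebraMap]
  apply RingHom.Etale.ofLocalizationSpanTarget (algebraMap S (invSub σ)) (Set.range v) hspan
  rintro ⟨_, i, rfl⟩
  apply RingHom.Etale.of_bijective
  let π : invSub σ →ₐ[S] S := (p i).comp (invSub σ).val
  letI : Algebra (invSub σ) S := π.toRingHom.toAlgebra
  have hvidem : IsIdempotentElem (v i) := by
    apply Subtype.ext
    exact sat_idem σ e p hpe hmul i
  have hπv : π (v i) = 1 := p_sat σ e p hσ1 hpe i
  have hloc : IsLocalization.Away (v i) S := by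
    apply IsLocalization.away_of_isIdempotentElem_of_mul hvidem
    · intro x y
      show π x = π y ↔ _
      constructor
      · intro hxy
        have h4 : p i ((x - y : invSub σ) : E) = 0 := by
          show π (x - y) = 0
          rw [map_sub, hxy, sub_self]
        have h5 := mul_sat σ e p hmul i ((x - y : invSub σ) : E) (x - y).2 h4
        have h6 : (x - y) * v i = 0 := Subtype.ext h5
        rw [sub_mul, sub_eq_zero] at h6
        rw [mul_comm (v i) x, mul_comm (v i) y]
        exact h6
      · intro hxy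
        have h7 := congrArg π hxy
        rw [map_mul, map_mul, hπv, one_mul, one_mul] at h7
        exact h7
    · intro s
      exact ⟨algebraMap S (invSub σ) s, π.commutes s⟩
  let eqv := IsLocalization.algEquiv (Submonoid.powers (v i)) (Localization.Away (v i)) S
  have hcomp : ∀ s : S, eqv (algebraMap (invSub σ) (Localization.Away (v i))
      (algebraMap S (invSub σ) s)) = s := by
    intro s
    rw [AlgEquiv.commutes]
    exact π.commutes s
  have hbij : Function.Bijective (eqv ∘ ((algebraMap (invSub σ) (Localization.Away (v i))).comp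
      (algebraMap S (invSub σ)))) := by
    have : (eqv ∘ ((algebraMap (invSub σ) (Localization.Away (v i))).comp
      (algebraMap S (invSub σ)))) = id := funext hcomp
    rw [this]
    exact Function.bijective_id
  exact (Function.Bijective.of_comp_iff' eqv.bijective _).1 hbij

end Split

section Descent

variable {R A : Type u} [CommRing R] [CommRing A] [Algebra R A] {G : Type*}
  (σ : G → A →ₐ[R] A) (B : Type u) [CommRing B] [Algebra R B]

/-- The base-changed action. -/
noncomputable def bcAct (g : G) : B ⊗[R] A →ₐ[B] B ⊗[R] A :=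
  Algebra.TensorProduct.map (AlgHom.id B B) (σ g)

theorem bcAct_tmul (g : G) (b : B) (a : A) : bcAct σ B g (b ⊗ₜ[R] a) = b ⊗ₜ[R] σ g a := rfl

theorem bcAct_one [One G] (hσ1 : ∀ x, σ 1 x = x) (x : B ⊗[R] A) : bcAct σ B 1 x = x := by
  induction x using TensorProduct.induction_on with
  | zero => rw [map_zero]
  | tmul b a => rw [bcAct_tmul, hσ1]
  | add x y hx hy => rw [map_add, hx, hy]

theorem bcAct_mul [Mul G] (hσmul : ∀ g h x, σ (g * h) x = σ g (σ h x)) (g h : G)
    (x : B ⊗[R] A) : bcAct σ B (g * h) x = bcAct σ B g (bcAct σ B h x) := by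
  induction x using TensorProduct.induction_on with
  | zero => rw [map_zero, map_zero, map_zero]
  | tmul b a => rw [bcAct_tmul, bcAct_tmul, bcAct_tmul, hσmul]
  | add x y hx hy => rw [map_add, map_add, map_add, hx, hy]

/-- The base change map on invariants. -/
noncomputable def invBC : invSub σ →ₗ[R] invSub (bcAct σ B) where
  toFun a := ⟨(1 : B) ⊗ₜ[R] (a : A), fun g => by rw [bcAct_tmul, a.2 g]⟩
  map_add' a b := Subtype.ext (TensorProduct.tmul_add _ _ _)
  map_smul' r a := Subtype.ext (TensorProduct.tmul_smul _ _ _)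

theorem invBC_coe (a : invSub σ) : ((invBC σ B a : invSub (bcAct σ B)) : B ⊗[R] A) =
    (1 : B) ⊗ₜ[R] (a : A) := rfl

theorem invBC_isBaseChange [Module.Flat R B] [Finite G] : IsBaseChange B (invBC σ B) := by
  refine isBaseChange_inv (S := B) (fun g => (σ g).toLinearMap)
    (fun g => (bcAct σ B g).toLinearMap) (TensorProduct.mk R B A 1)
    (TensorProduct.isBaseChange R A B) (fun g a => rfl)
    (invSub σ).val.toLinearMap (invSub (bcAct σ B)).val.toLinearMap
    Subtype.val_injective Subtype.val_injective ?_ ?_ (invBC σ B) (fun x => rfl)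
  · intro a
    constructor
    · intro h
      exact ⟨⟨a, h⟩, rfl⟩
    · rintro ⟨x, rfl⟩
      exact x.2
  · intro a
    constructor
    · intro h
      exact ⟨⟨a, h⟩, rfl⟩
    · rintro ⟨x, rfl⟩
      exact x.2

/-- Invariants commute with flat base change, as an isomorphism of algebras. -/
noncomputable def invBCEquiv [Module.Flat R B] [Finite G] :
    B ⊗[R] (invSub σ) ≃ₐ[B] invSub (bcAct σ B) :=
  Algebra.TensorProduct.algEquivOfLinearEquivTensorProduct (invBC_isBaseChange σ B).equiv
    (by
      intro b₁ b₂ a₁ a₂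
      rw [IsBaseChange.equiv_tmul, IsBaseChange.equiv_tmul, IsBaseChange.equiv_tmul]
      apply Subtype.ext
      show (b₁ * b₂) • ((1 : B) ⊗ₜ[R] ((a₁ * a₂ : invSub σ) : A)) =
        (b₁ • ((1 : B) ⊗ₜ[R] (a₁ : A))) * (b₂ • ((1 : B) ⊗ₜ[R] (a₂ : A)))
      rw [TensorProduct.smul_tmul', TensorProduct.smul_tmul', TensorProduct.smul_tmul',
        Algebra.TensorProduct.tmul_mul_tmul, smul_eq_mul, smul_eq_mul, smul_eq_mul, mul_one,
        mul_one, mul_one]
      rfl)
    (by
      rw [IsBaseChange.equiv_tmul, one_smul]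
      rfl)

section SplitStr

variable {B E : Type u} [CommRing B] [CommRing E] [Algebra B E] {n : ℕ}
  (ψ : E ≃ₐ[B] (Fin n → B))

/-- The standard idempotents of a split algebra. -/
noncomputable def splitE (i : Fin n) : E := ψ.symm (Pi.single i 1)

/-- The standard retractions of a split algebra. -/
noncomputable def splitP (i : Fin n) : E →ₐ[B] B :=
  (Pi.evalAlgHom B (fun _ : Fin n => B) i).comp ψ.toAlgHom

theorem splitP_apply (i : Fin n) (x : E) : splitP ψ i x = ψ x i := rfl

theorem split_prod : ∏ i, (1 - splitE ψ i) = 0 := by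
  apply ψ.injective
  rw [map_prod, map_zero]
  funext j
  rw [Finset.prod_apply, Pi.zero_apply]
  apply Finset.prod_eq_zero (Finset.mem_univ j)
  unfold splitE
  rw [map_sub, map_one, AlgEquiv.apply_symm_apply, Pi.sub_apply, Pi.one_apply, Pi.single_eq_same,
    sub_self]

theorem split_pe (i : Fin n) : splitP ψ i (splitE ψ i) = 1 := by
  rw [splitP_apply]
  unfold splitE
  rw [AlgEquiv.apply_symm_apply, Pi.single_eq_same]

theorem split_mul (i : Fin n) (x : E) :
    x * splitE ψ i = algebraMap B E (splitP ψ i x) * splitE ψ i := by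
  apply ψ.injective
  unfold splitE
  rw [map_mul, map_mul, AlgEquiv.apply_symm_apply, AlgEquiv.commutes, splitP_apply]
  funext j
  rw [Pi.mul_apply, Pi.mul_apply]
  by_cases hj : j = i
  · subst hj
    rw [Pi.single_eq_same, mul_one, mul_one]
    rfl
  · rw [Pi.single_eq_of_ne hj, mul_zero, mul_zero]

end SplitStr

/-- Invariants of a finite group acting on an algebra that is split by a faithfully flat base
change are étale. -/
theorem etale_inv_of_split [Group G] [Fintype G] (hσ1 : ∀ x, σ 1 x = x)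
    (hσmul : ∀ g h x, σ (g * h) x = σ g (σ h x)) [Module.FaithfullyFlat R B] (n : ℕ)
    (ψ : B ⊗[R] A ≃ₐ[B] (Fin n → B)) : Algebra.Etale R (invSub σ) := by
  haveI : Algebra.Etale B (invSub (bcAct σ B)) :=
    etale_inv_of_splitStr (bcAct σ B) (splitE ψ) (splitP ψ) (bcAct_one σ B hσ1)
      (bcAct_mul σ B hσmul) (split_prod ψ) (split_pe ψ) (split_mul ψ)
  haveI : Algebra.Etale B (B ⊗[R] (invSub σ)) := Algebra.Etale.of_equiv (invBCEquiv σ B).symm
  exact Algebra.Etale.of_etale_tensorProduct_of_faithfullyFlat B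

/-- Two maps to a field that agree on the invariants of a locally split algebra are conjugate
under the group. -/
theorem exists_act_eq_of_agree [Group G] [Fintype G] (hσ1 : ∀ x, σ 1 x = x)
    (hσmul : ∀ g h x, σ (g * h) x = σ g (σ h x)) [Module.Flat R B] (n : ℕ)
    (ψ : B ⊗[R] A ≃ₐ[B] (Fin n → B)) {Ω : Type*} [Field Ω] [Algebra R Ω] (β : B →ₐ[R] Ω)
    (φ φ' : A →ₐ[R] Ω) (hagree : ∀ a ∈ invSub σ, φ a = φ' a) :
    ∃ g, ∀ a, φ' (σ g a) = φ a := by
  let Φ : B ⊗[R] A →ₐ[R] Ω := Algebra.TensorProduct.lift β φ (fun _ _ => Commute.all _ _)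
  let Φ' : B ⊗[R] A →ₐ[R] Ω := Algebra.TensorProduct.lift β φ' (fun _ _ => Commute.all _ _)
  have hΦ : ∀ b a, Φ (b ⊗ₜ[R] a) = β b * φ a := fun b a => Algebra.TensorProduct.lift_tmul _ _ _ _ _
  have hΦ' : ∀ b a, Φ' (b ⊗ₜ[R] a) = β b * φ' a :=
    fun b a => Algebra.TensorProduct.lift_tmul _ _ _ _ _
  have hΦalg : ∀ b, Φ (algebraMap B (B ⊗[R] A) b) = β b := by
    intro b
    rw [Algebra.TensorProduct.algebraMap_apply, hΦ, map_one, mul_one]
    rfl
  have hΦ'alg : ∀ b, Φ' (algebraMap B (B ⊗[R] A) b) = β b := by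
    intro b
    rw [Algebra.TensorProduct.algebraMap_apply, hΦ', map_one, mul_one]
    rfl
  -- the two maps agree on the invariants of the base change
  have hagree' : ∀ x : invSub (bcAct σ B), Φ (x : B ⊗[R] A) = Φ' (x : B ⊗[R] A) := by
    intro x
    refine (invBC_isBaseChange σ B).inductionOn x
      (fun x => Φ (x : B ⊗[R] A) = Φ' (x : B ⊗[R] A)) ?_ ?_ ?_ ?_
    · show Φ 0 = Φ' 0
      rw [map_zero, map_zero]
    · intro m
      show Φ ((1 : B) ⊗ₜ[R] (m : A)) = Φ' ((1 : B) ⊗ₜ[R] (m : A))
      rw [hΦ, hΦ', hagree _ m.2]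
    · intro s y hy
      show Φ (s • (y : B ⊗[R] A)) = Φ' (s • (y : B ⊗[R] A))
      rw [Algebra.smul_def, map_mul, map_mul, hΦalg, hΦ'alg, hy]
    · intro y z hy hz
      show Φ ((y : B ⊗[R] A) + (z : B ⊗[R] A)) = Φ' ((y : B ⊗[R] A) + (z : B ⊗[R] A))
      rw [map_add, map_add, hy, hz]
  -- a sheet on which Φ is supported
  obtain ⟨i, -, hi⟩ : ∃ i ∈ Finset.univ, 1 - Φ (splitE ψ i) = 0 := by
    have h1 := congrArg Φ (split_prod ψ)
    rw [map_prod, map_zero] at h1
    simp_rw [map_sub, map_one] at h1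
    exact Finset.prod_eq_zero_iff.1 h1
  have hΦe : Φ (splitE ψ i) = 1 := (sub_eq_zero.1 hi).symm
  -- Φ' is supported on a translate of this sheet
  have hsat : Φ (sat (bcAct σ B) (splitE ψ) i) = 1 := by
    unfold sat
    rw [map_sub, map_one, map_prod, Finset.prod_eq_zero (Finset.mem_univ 1), sub_zero]
    rw [map_sub, map_one, bcAct_one σ B hσ1, hΦe, sub_self]
  have hsat' : Φ' (sat (bcAct σ B) (splitE ψ) i) = 1 := by
    rw [← hagree' ⟨_, sat_mem (bcAct σ B) (splitE ψ) (bcAct_mul σ B hσmul) i⟩]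
    exact hsat
  obtain ⟨g, -, hg⟩ : ∃ g ∈ Finset.univ, 1 - Φ' (bcAct σ B g (splitE ψ i)) = 0 := by
    unfold sat at hsat'
    rw [map_sub, map_one, map_prod, sub_eq_self] at hsat'
    simp_rw [map_sub, map_one] at hsat'
    exact Finset.prod_eq_zero_iff.1 hsat'
  have hΦ'e : Φ' (bcAct σ B g (splitE ψ i)) = 1 := (sub_eq_zero.1 hg).symm
  refine ⟨g, fun a => ?_⟩
  have h1 : ∀ x : B ⊗[R] A, Φ x = β (splitP ψ i x) := by
    intro x
    have h2 : Φ x = Φ (x * splitE ψ i) := by rw [map_mul, hΦe, mul_one]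
    rw [h2, split_mul ψ i x, map_mul, hΦe, mul_one, hΦalg]
  have h3 : ∀ x : B ⊗[R] A, Φ' (bcAct σ B g x) = β (splitP ψ i x) := by
    intro x
    have h4 : Φ' (bcAct σ B g x) = Φ' (bcAct σ B g (x * splitE ψ i)) := by
      rw [map_mul, map_mul, hΦ'e, mul_one]
    rw [h4, split_mul ψ i x, map_mul, map_mul, hΦ'e, mul_one, AlgHom.commutes, hΦ'alg]
  have h5 := (h3 ((1 : B) ⊗ₜ[R] a)).trans (h1 ((1 : B) ⊗ₜ[R] a)).symm
  rw [bcAct_tmul, hΦ', hΦ, map_one, one_mul, one_mul] at h5
  exact h5

end Descent

section GeomPoint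

/-- A finite faithfully flat algebra has a point with values in any algebraically closed field
over the base. -/
theorem exists_algHom_of_faithfullyFlat {R B Ω : Type u} [CommRing R] [CommRing B] [Algebra R B]
    [Module.Finite R B] [Module.FaithfullyFlat R B] [Field Ω] [IsAlgClosed Ω] [Algebra R Ω] :
    Nonempty (B →ₐ[R] Ω) := by
  haveI : Nontrivial (Ω ⊗[R] B) := Module.FaithfullyFlat.rTensor_nontrivial R B Ω
  obtain ⟨m, hm⟩ := Ideal.exists_maximal (Ω ⊗[R] B)
  letI : Field ((Ω ⊗[R] B) ⧸ m) := Ideal.Quotient.field m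
  haveI : Module.Finite Ω ((Ω ⊗[R] B) ⧸ m) :=
    Module.Finite.of_surjective (Ideal.Quotient.mkₐ Ω m).toLinearMap Ideal.Quotient.mk_surjective
  have hbij : Function.Bijective (algebraMap Ω ((Ω ⊗[R] B) ⧸ m)) :=
    IsAlgClosed.algebraMap_bijective_of_isIntegral
  let e : Ω ≃ₐ[Ω] ((Ω ⊗[R] B) ⧸ m) := AlgEquiv.ofBijective (Algebra.ofId Ω _) hbij
  exact ⟨((e.symm.toAlgHom.restrictScalars R).comp
    ((Ideal.Quotient.mkₐ Ω m).restrictScalars R)).comp Algebra.TensorProduct.includeRight⟩

end GeomPoint

end Groth.Agent.Lib.helper10.InvEtale
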