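import Mathlib

set_option autoImplicit false
universe u

namespace Groth.Agent.Lib.helper10.JacQ

open MvPowerSeries

variable {σ : Type*} {R : Type*} [CommRing R]

/-- monomial division: if the coefficients of `p` vanish off the monomial ideal generated by the
exponents in `s`, then `p` is a combination of the monomials with explicit coefficients. -/
lemma exists_decomp (s : Finset (σ →₀ ℕ)) (p : MvPowerSeries σ R)
    (hp : ∀ d, (∀ e ∈ s, ¬ e ≤ d) → coeff d p = 0) :
    ∃ q : (σ →₀ ℕ) → MvPowerSeries σ R, p = ∑ e ∈ s, monomial e (1 : R) * q e ∧
      ∀ e d, coeff d (q e) = 0 ∨ coeff d (q e) = coeff (d + e) p := by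
  classical
  induction s using Finset.induction_on generalizing p with
  | empty =>
    refine ⟨fun _ => 0, ?_, fun e d => Or.inl (by simp)⟩
    ext d
    simp [hp d (by simp)]
  | insert e s he ih =>
    let q0 : MvPowerSeries σ R := fun d => coeff (d + e) p
    have hq0 : ∀ d, coeff d q0 = coeff (d + e) p := fun d => rfl
    have hp' : ∀ d, coeff d (p - monomial e 1 * q0) = if e ≤ d then 0 else coeff d p := by
      intro d
      rw [map_sub, coeff_monomial_mul]
      split_ifs with h
      · rw [one_mul, hq0, tsub_add_cancel_of_le h, sub_self]
      · rw [sub_zero]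
    obtain ⟨q, hq1, hq2⟩ := ih (p - monomial e 1 * q0) (by
      intro d hd
      rw [hp']
      split_ifs with h
      · rfl
      · apply hp
        intro e' he'
        rcases Finset.mem_insert.1 he' with rfl | h'
        · exact h
        · exact hd e' h')
    refine ⟨fun e' => if e' = e then q0 else q e', ?_, ?_⟩
    · rw [Finset.sum_insert he]
      simp only [if_true]
      have : ∑ x ∈ s, monomial x (1 : R) * (if x = e then q0 else q x) =
          ∑ x ∈ s, monomial x (1 : R) * q x := by
        apply Finset.sum_congr rfl
        intro x hx
        rw [if_neg]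
        rintro rfl
        exact he hx
      rw [this, ← hq1]
      ring
    · intro e' d
      by_cases h : e' = e
      · subst h
        right
        simp only [if_true]
        exact hq0 d
      · simp only [if_neg h]
        rcases hq2 e' d with h0 | h1
        · left; exact h0
        · rw [h1, hp']
          split_ifs
          · left; rfl
          · right; rfl

/-- `p` has order at least `n`. -/
def Ord (n : ℕ) (p : MvPowerSeries σ R) : Prop := ∀ d : σ →₀ ℕ, d.degree < n → coeff d p = 0

variable (σ R) in
/-- the ideal generated by the variables. -/
noncomputable def mm : Ideal (MvPowerSeries σ R) :=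
  Ideal.span (Set.range (X : σ → MvPowerSeries σ R))

lemma X_mem_mm (s : σ) : (X s : MvPowerSeries σ R) ∈ mm σ R := Ideal.subset_span ⟨s, rfl⟩

lemma mem_pow_of_ord [Fintype σ] (n : ℕ) (p : MvPowerSeries σ R) (hp : Ord n p) :
    p ∈ (mm σ R) ^ n := by
  classical
  induction n generalizing p with
  | zero => rw [pow_zero, Ideal.one_eq_top]; trivial
  | succ n ih =>
    obtain ⟨q, hq1, hq2⟩ := exists_decomp
      (Finset.univ.image (fun s : σ => Finsupp.single s 1)) p (by
        intro d hd
        apply hp
        have hd0 : d = 0 := by
          ext s
          by_contra hs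
          apply hd (Finsupp.single s 1) (Finset.mem_image.2 ⟨s, Finset.mem_univ _, rfl⟩)
          rw [Finsupp.single_le_iff]
          exact Nat.one_le_iff_ne_zero.2 hs
        rw [hd0, map_zero]
        exact Nat.succ_pos n)
    rw [hq1, pow_succ']
    apply Ideal.sum_mem
    intro e he
    obtain ⟨s, -, rfl⟩ := Finset.mem_image.1 he
    apply Ideal.mul_mem_mul
    · rw [← X_def]; exact X_mem_mm s
    · apply ih
      intro d hd
      rcases hq2 (Finsupp.single s 1) d with h0 | h1
      · exact h0
      · rw [h1]
        apply hp
        rw [map_add, Finsupp.degree_single]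
        omega

end Groth.Agent.Lib.helper10.JacQ
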