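import Groth.Agent.Lib.helper10.JacQA

set_option autoImplicit false
universe u

namespace Groth.Agent.Lib.helper10.JacQ

open MvPowerSeries

variable {σ : Type*} {R : Type*} [CommRing R]

/-- coefficients on a downward closed set of exponents vanish on an ideal. -/
lemma coeff_mul_eq_zero (D : Set (σ →₀ ℕ)) (hD : ∀ d ∈ D, ∀ j ≤ d, j ∈ D)
    (x : MvPowerSeries σ R) (hx : ∀ d ∈ D, coeff d x = 0) (a : MvPowerSeries σ R) :
    ∀ d ∈ D, coeff d (a * x) = 0 := by
  classical
  intro d hd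
  rw [coeff_mul]
  apply Finset.sum_eq_zero
  intro ij hij
  have h1 : ij.1 + ij.2 = d := Finset.HasAntidiagonal.mem_antidiagonal.1 hij
  have h2 : ij.2 ≤ d := by rw [← h1]; exact self_le_add_left _ _
  rw [hx _ (hD d hd _ h2), mul_zero]

/-- the ideal of series whose coefficients vanish on a downward closed set. -/
def lowIdeal (D : Set (σ →₀ ℕ)) (hD : ∀ d ∈ D, ∀ j ≤ d, j ∈ D) : Ideal (MvPowerSeries σ R) where
  carrier := {x | ∀ d ∈ D, coeff d x = 0}
  add_mem' := by
    intro a b ha hb d hd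
    rw [map_add, ha d hd, hb d hd, add_zero]
  zero_mem' := by
    intro d _
    rw [map_zero]
  smul_mem' := by
    intro c x hx
    exact coeff_mul_eq_zero D hD x hx c

lemma mem_lowIdeal (D : Set (σ →₀ ℕ)) (hD : ∀ d ∈ D, ∀ j ≤ d, j ∈ D) (x : MvPowerSeries σ R) :
    x ∈ lowIdeal D hD ↔ ∀ d ∈ D, coeff d x = 0 := Iff.rfl

/-- the span of monomials is exactly the ideal of series whose coefficients vanish off the
monomial ideal. -/
lemma mem_span_monomial_iff (s : Finset (σ →₀ ℕ)) (p : MvPowerSeries σ R) :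
    p ∈ Ideal.span ((fun e => monomial e (1 : R)) '' (s : Set (σ →₀ ℕ))) ↔
      ∀ d, (∀ e ∈ s, ¬ e ≤ d) → coeff d p = 0 := by
  classical
  constructor
  · intro hp
    have hD : ∀ d ∈ {d : σ →₀ ℕ | ∀ e ∈ s, ¬ e ≤ d}, ∀ j ≤ d, j ∈ {d : σ →₀ ℕ | ∀ e ∈ s, ¬ e ≤ d} := by
      intro d hd j hj e he hej
      exact hd e he (hej.trans hj)
    have : Ideal.span ((fun e => monomial e (1 : R)) '' (s : Set (σ →₀ ℕ))) ≤ lowIdeal _ hD := by
      rw [Ideal.span_le]
      rintro _ ⟨e, he, rfl⟩ d hd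
      change coeff d (monomial e (1 : R)) = 0
      rw [coeff_monomial, if_neg]
      intro hde
      exact hd e he (le_of_eq hde.symm)
    exact this hp
  · intro hp
    obtain ⟨q, hq, -⟩ := exists_decomp s p hp
    rw [hq]
    apply Ideal.sum_mem
    intro e he
    exact Ideal.mul_mem_right _ _ (Ideal.subset_span ⟨e, he, rfl⟩)

section local_

variable {k : Type*} [Field k]

lemma mm_le_jacobson : mm σ k ≤ Ideal.jacobson ⊥ := by
  rw [IsLocalRing.jacobson_eq_maximalIdeal _ bot_ne_top]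
  unfold mm
  rw [Ideal.span_le]
  rintro _ ⟨s, rfl⟩
  rw [SetLike.mem_coe, IsLocalRing.mem_maximalIdeal, mem_nonunits_iff,
    MvPowerSeries.isUnit_iff_constantCoeff, constantCoeff_X]
  exact not_isUnit_zero

lemma mm_fg [Finite σ] : (mm σ k).FG := by
  unfold mm
  exact ⟨(Set.finite_range _).toFinset, by rw [Set.Finite.coe_toFinset]⟩

end local_

lemma ord_sub {n : ℕ} {p q : MvPowerSeries σ R} (h : ∀ d : σ →₀ ℕ, d.degree < n → coeff d p = coeff d q) :
    Ord n (p - q) := by
  intro d hd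
  rw [map_sub, h d hd, sub_self]

lemma ord_pderiv {n : ℕ} {p : MvPowerSeries σ R} (hp : Ord (n + 1) p) (s : σ) :
    Ord n (pderiv R s p) := by
  intro d hd
  rw [coeff_pderiv, hp, zero_mul]
  rw [map_add, Finsupp.degree_single]
  omega

end Groth.Agent.Lib.helper10.JacQ
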