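import Groth.Agent.Lib.helper10.JacQB

set_option autoImplicit false
universe u

namespace Groth.Agent.Lib.helper10.JacQ

open MvPowerSeries

variable (k : Type u) [Field k] (m : ℕ)

/-- the quadratic form `x₀² + Σ xᵢ xᵢ'`. -/
noncomputable def QQ : MvPowerSeries (Option (Fin m ⊕ Fin m)) k :=
  X none ^ 2 + ∑ i : Fin m, X (some (Sum.inl i)) * X (some (Sum.inr i))

/-- the ideal `(x₀², xᵢ, xᵢ')`. -/
noncomputable def II : Ideal (MvPowerSeries (Option (Fin m ⊕ Fin m)) k) :=
  Ideal.span ({X none ^ 2} ∪ Set.range fun j : Fin m ⊕ Fin m =>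
    (X (some j) : MvPowerSeries (Option (Fin m ⊕ Fin m)) k))

lemma coeff_XX {σ : Type*} [DecidableEq σ] (a b : σ) (d : σ →₀ ℕ) :
    coeff d ((X a : MvPowerSeries σ k) * X b) =
      if d = Finsupp.single a 1 + Finsupp.single b 1 then 1 else 0 := by
  rw [X_def, X_def, monomial_mul_monomial, coeff_monomial, one_mul]

lemma coeff_Xsq {σ : Type*} [DecidableEq σ] (a : σ) (d : σ →₀ ℕ) :
    coeff d ((X a : MvPowerSeries σ k) ^ 2) = if d = Finsupp.single a 2 then 1 else 0 := by
  rw [X_pow_eq, coeff_monomial]

lemma coeff_QQ (d : Option (Fin m ⊕ Fin m) →₀ ℕ) :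
    coeff d (QQ k m) = (if d = Finsupp.single none 2 then 1 else 0) +
      ∑ i : Fin m, if d = Finsupp.single (some (Sum.inl i)) 1 + Finsupp.single (some (Sum.inr i)) 1
        then 1 else 0 := by
  unfold QQ
  rw [map_add, map_sum, coeff_Xsq]
  congr 1
  apply Finset.sum_congr rfl
  intro i _
  rw [coeff_XX]

lemma ord_QQ : Ord 2 (QQ k m) := by
  intro d hd
  rw [coeff_QQ, if_neg, zero_add]
  · apply Finset.sum_eq_zero
    intro i _
    rw [if_neg]
    rintro rfl
    rw [map_add, Finsupp.degree_single, Finsupp.degree_single] at hd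
    omega
  · rintro rfl
    rw [Finsupp.degree_single] at hd
    omega

lemma mem_II_iff (p : MvPowerSeries (Option (Fin m ⊕ Fin m)) k) :
    p ∈ II k m ↔ coeff 0 p = 0 ∧ coeff (Finsupp.single none 1) p = 0 := by
  classical
  have hgen : ({X none ^ 2} ∪ Set.range fun j : Fin m ⊕ Fin m =>
      (X (some j) : MvPowerSeries (Option (Fin m ⊕ Fin m)) k)) =
      (fun e => monomial e (1 : k)) ''
        ((insert (Finsupp.single none 2) (Finset.univ.image
          (fun j : Fin m ⊕ Fin m => Finsupp.single (some j) 1)) :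
          Finset (Option (Fin m ⊕ Fin m) →₀ ℕ)) : Set (Option (Fin m ⊕ Fin m) →₀ ℕ)) := by
    ext z
    simp only [Set.singleton_union, Set.mem_insert_iff, Set.mem_range, Finset.coe_insert,
      Finset.coe_image, Finset.coe_univ, Set.image_univ, Set.mem_image]
    constructor
    · rintro (rfl | ⟨j, rfl⟩)
      · exact ⟨_, Or.inl rfl, (X_pow_eq _ _).symm⟩
      · exact ⟨_, Or.inr ⟨j, rfl⟩, (X_def _).symm⟩
    · rintro ⟨e, (rfl | ⟨j, rfl⟩), rfl⟩
      · left; exact (X_pow_eq _ _).symm
      · right; exact ⟨j, X_def _⟩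
  unfold II
  rw [hgen, mem_span_monomial_iff]
  constructor
  · intro h
    constructor
    · apply h
      intro e he
      rcases Finset.mem_insert.1 he with rfl | he
      · rw [Finsupp.single_le_iff]; simp
      · obtain ⟨j, -, rfl⟩ := Finset.mem_image.1 he
        rw [Finsupp.single_le_iff]; simp
    · apply h
      intro e he
      rcases Finset.mem_insert.1 he with rfl | he
      · rw [Finsupp.single_le_iff]; simp
      · obtain ⟨j, -, rfl⟩ := Finset.mem_image.1 he
        rw [Finsupp.single_le_iff]; simp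
  · rintro ⟨h0, h1⟩ d hd
    have hn : ¬ 2 ≤ d none := by
      have := hd (Finsupp.single none 2) (Finset.mem_insert_self _ _)
      rwa [Finsupp.single_le_iff] at this
    have hj : ∀ j, d (some j) = 0 := by
      intro j
      have := hd (Finsupp.single (some j) 1)
        (Finset.mem_insert_of_mem (Finset.mem_image.2 ⟨j, Finset.mem_univ _, rfl⟩))
      rw [Finsupp.single_le_iff] at this
      omega
    have hd' : d = Finsupp.single none (d none) := by
      ext s
      cases s with
      | none => simp
      | some j => simp [hj j]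
    have : d none = 0 ∨ d none = 1 := by omega
    rcases this with h | h
    · rw [hd', h, Finsupp.single_zero]; exact h0
    · rw [hd', h]; exact h1

end Groth.Agent.Lib.helper10.JacQ
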