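import Groth.Agent.Lib.helper10.JacQC

set_option autoImplicit false
universe u

namespace Groth.Agent.Lib.helper10.JacQ

open MvPowerSeries

/-- finrank of the quotient by an ideal which is the kernel of a surjective linear map. -/
lemma finrank_quot_eq {k : Type*} [Field k] {P : Type*} [CommRing P] [Algebra k P]
    {V : Type*} [AddCommGroup V] [Module k V] (J : Ideal P)
    (L : P →ₗ[k] V) (hL : Function.Surjective L) (hker : ∀ f, f ∈ J ↔ L f = 0) :
    Module.finrank k (P ⧸ J) = Module.finrank k V := by
  let Ψ : P →ₗ[k] (P ⧸ J) := (Ideal.Quotient.mkₐ k J).toLinearMap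
  have hΨsurj : Function.Surjective Ψ := Ideal.Quotient.mk_surjective
  have hk : LinearMap.ker Ψ = LinearMap.ker L := by
    ext f
    rw [LinearMap.mem_ker, LinearMap.mem_ker, ← hker]
    exact Ideal.Quotient.eq_zero_iff_mem
  have e1 := Ψ.quotKerEquivOfSurjective hΨsurj
  have e2 := L.quotKerEquivOfSurjective hL
  rw [← e1.finrank_eq, hk, e2.finrank_eq]

variable (k : Type u) [Field k] (m : ℕ)

lemma finrank_II : Module.finrank k (MvPowerSeries (Option (Fin m ⊕ Fin m)) k ⧸ II k m) = 2 := by
  classical
  rw [finrank_quot_eq (II k m)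
    ((coeff (R := k) (0 : Option (Fin m ⊕ Fin m) →₀ ℕ)).prod
      (coeff (R := k) (Finsupp.single (none : Option (Fin m ⊕ Fin m)) 1)))]
  · rw [Module.finrank_prod, Module.finrank_self]
  · rintro ⟨a, b⟩
    refine ⟨monomial 0 a + monomial (Finsupp.single none 1) b, ?_⟩
    show (coeff 0 (monomial 0 a + monomial (Finsupp.single none 1) b),
      coeff (Finsupp.single none 1) (monomial 0 a + monomial (Finsupp.single none 1) b)) = (a, b)
    have h01 : (0 : Option (Fin m ⊕ Fin m) →₀ ℕ) ≠ Finsupp.single none 1 := by
      intro h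
      have := DFunLike.congr_fun h none
      simp at this
    rw [map_add, map_add, coeff_monomial, coeff_monomial,
      coeff_monomial, coeff_monomial, if_pos rfl, if_pos rfl, if_neg h01, if_neg h01.symm,
      add_zero, zero_add]
  · intro f
    rw [mem_II_iff]
    show _ ↔ (coeff 0 f, coeff (Finsupp.single none 1) f) = 0
    rw [Prod.mk_eq_zero]

variable [CharP k 2] (f : MvPowerSeries (Option (Fin m ⊕ Fin m)) k)

lemma f_mem_II (hf : ∀ d : Option (Fin m ⊕ Fin m) →₀ ℕ, d.degree < 3 → coeff d f = coeff d (QQ k m)) :
    f ∈ II k m := by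
  rw [mem_II_iff]
  constructor
  · rw [hf 0 (by simp), ord_QQ k m 0 (by simp)]
  · rw [hf _ (by rw [Finsupp.degree_single]; norm_num),
      ord_QQ k m _ (by rw [Finsupp.degree_single]; norm_num)]

lemma pderiv_mem_II (hf : ∀ d : Option (Fin m ⊕ Fin m) →₀ ℕ, d.degree < 3 → coeff d f = coeff d (QQ k m))
    (s : Option (Fin m ⊕ Fin m)) : pderiv k s f ∈ II k m := by
  classical
  rw [mem_II_iff]
  constructor
  · rw [coeff_pderiv, zero_add, hf _ (by rw [Finsupp.degree_single]; norm_num),
      ord_QQ k m _ (by rw [Finsupp.degree_single]; norm_num), zero_mul]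
  · rw [coeff_pderiv, hf _ (by
      rw [map_add, Finsupp.degree_single, Finsupp.degree_single]; norm_num)]
    cases s with
    | none =>
      rw [Finsupp.single_eq_same]
      have : (((1 : ℕ) : k) + 1) = 0 := by
        rw [Nat.cast_one, one_add_one_eq_two]
        exact CharTwo.two_eq_zero
      rw [this, mul_zero]
    | some j =>
      rw [coeff_QQ, if_neg, zero_add, Finset.sum_eq_zero, zero_mul]
      · intro i _
        rw [if_neg]
        intro h
        have := DFunLike.congr_fun h none
        simp at this
      · intro h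
        have := DFunLike.congr_fun h (some j)
        simp at this

end Groth.Agent.Lib.helper10.JacQ
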