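import Groth.Agent.Lib.helper10.JacQD

set_option autoImplicit false
universe u

namespace Groth.Agent.Lib.helper10.JacQ

open MvPowerSeries

variable (k : Type u) [Field k] (m : ℕ)

lemma pderiv_QQ_inl (i : Fin m) :
    pderiv k (some (Sum.inl i)) (QQ k m) = X (some (Sum.inr i)) := by
  classical
  unfold QQ
  rw [map_add, map_sum, pderiv_pow, pderiv_X_of_ne (by simp), mul_zero, zero_add,
    Finset.sum_eq_single i]
  · rw [Derivation.leibniz, pderiv_X_self, pderiv_X_of_ne (by simp), smul_zero, zero_add,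
      smul_eq_mul, mul_one]
  · intro b _ hb
    rw [Derivation.leibniz, pderiv_X_of_ne (by simp), pderiv_X_of_ne (by simpa using hb),
      smul_zero, smul_zero, add_zero]
  · intro h; exact absurd (Finset.mem_univ i) h

lemma pderiv_QQ_inr (i : Fin m) :
    pderiv k (some (Sum.inr i)) (QQ k m) = X (some (Sum.inl i)) := by
  classical
  unfold QQ
  rw [map_add, map_sum, pderiv_pow, pderiv_X_of_ne (by simp), mul_zero, zero_add,
    Finset.sum_eq_single i]
  · rw [Derivation.leibniz, pderiv_X_self, pderiv_X_of_ne (by simp), smul_zero, add_zero,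
      smul_eq_mul, mul_one]
  · intro b _ hb
    rw [Derivation.leibniz, pderiv_X_of_ne (by simpa using hb), pderiv_X_of_ne (by simp),
      smul_zero, smul_zero, add_zero]
  · intro h; exact absurd (Finset.mem_univ i) h

variable (f : MvPowerSeries (Option (Fin m ⊕ Fin m)) k)

/-- the jacobian ideal. -/
noncomputable def JJ : Ideal (MvPowerSeries (Option (Fin m ⊕ Fin m)) k) :=
  Ideal.span ({f} ∪ Set.range fun i : Option (Fin m ⊕ Fin m) => pderiv k i f)

lemma f_mem_JJ : f ∈ JJ k m f := Ideal.subset_span (Or.inl rfl)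

lemma pderiv_mem_JJ (s : Option (Fin m ⊕ Fin m)) : pderiv k s f ∈ JJ k m f :=
  Ideal.subset_span (Or.inr ⟨s, rfl⟩)

section

variable (hf : ∀ d : Option (Fin m ⊕ Fin m) →₀ ℕ, d.degree < 3 → coeff d f = coeff d (QQ k m))
include hf

lemma X_some_mem (j : Fin m ⊕ Fin m) :
    (X (some j) : MvPowerSeries (Option (Fin m ⊕ Fin m)) k) ∈
      JJ k m f ⊔ (mm (Option (Fin m ⊕ Fin m)) k) ^ 2 := by
  have hg : Ord 3 (f - QQ k m) := ord_sub hf
  have key : ∀ s : Option (Fin m ⊕ Fin m), pderiv k s (QQ k m) ∈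
      JJ k m f ⊔ (mm (Option (Fin m ⊕ Fin m)) k) ^ 2 := by
    intro s
    have h1 : pderiv k s (QQ k m) = pderiv k s f - pderiv k s (f - QQ k m) := by
      rw [map_sub]; ring
    rw [h1]
    apply Ideal.sub_mem
    · exact Ideal.mem_sup_left (pderiv_mem_JJ k m f s)
    · exact Ideal.mem_sup_right (mem_pow_of_ord 2 _ (ord_pderiv hg s))
  cases j with
  | inl i => rw [← pderiv_QQ_inr]; exact key _
  | inr i => rw [← pderiv_QQ_inl]; exact key _

lemma mm_le : mm (Option (Fin m ⊕ Fin m)) k ≤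
    JJ k m f ⊔ Ideal.span {(X none : MvPowerSeries (Option (Fin m ⊕ Fin m)) k)} := by
  apply Submodule.le_of_le_smul_of_le_jacobson_bot (N' := mm (Option (Fin m ⊕ Fin m)) k)
    (I := mm (Option (Fin m ⊕ Fin m)) k) mm_fg mm_le_jacobson
  conv_lhs => unfold mm
  rw [Ideal.span_le]
  rintro _ ⟨s, rfl⟩
  cases s with
  | none =>
    exact Ideal.mem_sup_left (Ideal.mem_sup_right (Ideal.subset_span rfl))
  | some j =>
    have := X_some_mem k m f hf j
    rw [pow_two] at this
    obtain ⟨a, ha, b, hb, hab⟩ := Submodule.mem_sup.1 this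
    rw [← hab]
    exact Ideal.add_mem _ (Ideal.mem_sup_left (Ideal.mem_sup_left ha)) (Ideal.mem_sup_right hb)

lemma mm_sq_le : (mm (Option (Fin m ⊕ Fin m)) k) ^ 2 ≤
    JJ k m f ⊔ Ideal.span {(X none : MvPowerSeries (Option (Fin m ⊕ Fin m)) k) ^ 2} := by
  rw [pow_two, Ideal.mul_le]
  intro a ha b hb
  obtain ⟨a1, ha1, a2, ha2, rfl⟩ := Submodule.mem_sup.1 (mm_le k m f hf ha)
  obtain ⟨b1, hb1, b2, hb2, rfl⟩ := Submodule.mem_sup.1 (mm_le k m f hf hb)
  obtain ⟨c, rfl⟩ := Ideal.mem_span_singleton'.1 ha2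
  obtain ⟨d, rfl⟩ := Ideal.mem_span_singleton'.1 hb2
  have : (a1 + c * X none) * (b1 + d * X none) =
      (a1 * (b1 + d * X none) + b1 * (c * X none)) + (c * d) * X none ^ 2 := by ring
  rw [this]
  apply Ideal.add_mem
  · apply Ideal.mem_sup_left
    exact Ideal.add_mem _ (Ideal.mul_mem_right _ _ ha1) (Ideal.mul_mem_right _ _ hb1)
  · apply Ideal.mem_sup_right
    exact Ideal.mul_mem_left _ _ (Ideal.subset_span rfl)

lemma mm_cube_le : (mm (Option (Fin m ⊕ Fin m)) k) ^ 3 ≤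
    JJ k m f ⊔ (mm (Option (Fin m ⊕ Fin m)) k) •
      Ideal.span {(X none : MvPowerSeries (Option (Fin m ⊕ Fin m)) k) ^ 2} := by
  rw [pow_succ' _ 2, Ideal.mul_le]
  intro a ha b hb
  obtain ⟨b1, hb1, b2, hb2, rfl⟩ := Submodule.mem_sup.1 (mm_sq_le k m f hf hb)
  rw [mul_add]
  apply Ideal.add_mem
  · exact Ideal.mem_sup_left (Ideal.mul_mem_left _ _ hb1)
  · apply Ideal.mem_sup_right
    rw [smul_eq_mul]
    exact Ideal.mul_mem_mul ha hb2

lemma X_none_sq_mem : (X none : MvPowerSeries (Option (Fin m ⊕ Fin m)) k) ^ 2 ∈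
    JJ k m f ⊔ (mm (Option (Fin m ⊕ Fin m)) k) ^ 3 := by
  have hg : Ord 3 (f - QQ k m) := ord_sub hf
  have h1 : (X none : MvPowerSeries (Option (Fin m ⊕ Fin m)) k) ^ 2 =
      f - (f - QQ k m) - ∑ i : Fin m, X (some (Sum.inl i)) * X (some (Sum.inr i)) := by
    unfold QQ; ring
  rw [h1]
  apply Ideal.sub_mem
  · apply Ideal.sub_mem
    · exact Ideal.mem_sup_left (f_mem_JJ k m f)
    · exact Ideal.mem_sup_right (mem_pow_of_ord 3 _ hg)
  · apply Ideal.sum_mem
    intro i _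
    obtain ⟨a, ha, b, hb, hab⟩ := Submodule.mem_sup.1 (X_some_mem k m f hf (Sum.inl i))
    rw [← hab, add_mul]
    apply Ideal.add_mem
    · exact Ideal.mem_sup_left (Ideal.mul_mem_right _ _ ha)
    · apply Ideal.mem_sup_right
      rw [pow_succ _ 2]
      exact Ideal.mul_mem_mul hb (X_mem_mm _)

lemma X_none_sq_mem_JJ : (X none : MvPowerSeries (Option (Fin m ⊕ Fin m)) k) ^ 2 ∈ JJ k m f := by
  have : Ideal.span {(X none : MvPowerSeries (Option (Fin m ⊕ Fin m)) k) ^ 2} ≤ JJ k m f := by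
    apply Submodule.le_of_le_smul_of_le_jacobson_bot
      (N' := Ideal.span {(X none : MvPowerSeries (Option (Fin m ⊕ Fin m)) k) ^ 2})
      (I := mm (Option (Fin m ⊕ Fin m)) k) (Submodule.fg_span_singleton _) mm_le_jacobson
    rw [Ideal.span_le, Set.singleton_subset_iff]
    exact (sup_le_sup_left (mm_cube_le k m f hf) _ |>.trans (by rw [← sup_assoc, sup_idem]))
      (X_none_sq_mem k m f hf)
  exact this (Ideal.subset_span rfl)

lemma II_le_JJ : II k m ≤ JJ k m f := by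
  have h0 := X_none_sq_mem_JJ k m f hf
  have h2 : (mm (Option (Fin m ⊕ Fin m)) k) ^ 2 ≤ JJ k m f := by
    refine (mm_sq_le k m f hf).trans (sup_le le_rfl ?_)
    rw [Ideal.span_le, Set.singleton_subset_iff]
    exact h0
  unfold II
  rw [Ideal.span_le]
  rintro _ (h | ⟨j, rfl⟩)
  · rw [Set.mem_singleton_iff] at h
    rw [h]; exact h0
  · exact (sup_le le_rfl h2) (X_some_mem k m f hf j)

end

end Groth.Agent.Lib.helper10.JacQ
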