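import Mathlib

/-!
# Lifting morphisms of the derived category from K-projective complexes
-/

set_option autoImplicit false
universe w v u
open CategoryTheory

namespace Groth.Agent.Lib.helper10.KProjLift

variable {C : Type u} [Category.{v} C] [Abelian C] [HasDerivedCategory.{w} C]

open DerivedCategory

theorem exists_lift {K L : CochainComplex C ℤ} [K.IsKProjective] (α : Q.obj K ⟶ Q.obj L) :
    ∃ φ : K ⟶ L, Q.map φ = α := by
  obtain ⟨β, hβ⟩ := (CochainComplex.IsKProjective.Qh_map_bijective K
    ((HomotopyCategory.quotient _ _).obj L)).surjective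
      ((quotientCompQhIso C).hom.app K ≫ α ≫ (quotientCompQhIso C).inv.app L)
  obtain ⟨φ, hφ⟩ := (HomotopyCategory.quotient C (ComplexShape.up ℤ)).map_surjective β
  refine ⟨φ, ?_⟩
  have h1 := quotientCompQhIso_hom_naturality (C := C) φ
  rw [hφ, hβ] at h1
  simp only [Category.assoc, Iso.inv_hom_id_app, Category.comp_id] at h1
  exact ((cancel_epi ((quotientCompQhIso C).hom.app K)).1 h1).symm

theorem nonempty_homotopy_of_Q_map_eq {K L : CochainComplex C ℤ} [K.IsKProjective] (f g : K ⟶ L)
    (h : Q.map f = Q.map g) : Nonempty (Homotopy f g) := by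
  have h1 := quotientCompQhIso_hom_naturality (C := C) f
  have h2 := quotientCompQhIso_hom_naturality (C := C) g
  rw [h, ← h2] at h1
  have h3 := (cancel_mono ((quotientCompQhIso C).hom.app L)).1 h1
  have h4 := (CochainComplex.IsKProjective.Qh_map_bijective K
    ((HomotopyCategory.quotient _ _).obj L)).injective h3
  exact ⟨HomotopyCategory.homotopyOfEq _ _ h4⟩

end Groth.Agent.Lib.helper10.KProjLift
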