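import Mathlib

set_option autoImplicit false
universe u
open scoped TensorProduct

namespace H10S7237

open TrivSqZeroExt

variable (A : Type u) [CommRing A] (M : Type u) [AddCommGroup M] [Module A M]

theorem main :
    Function.Bijective (LinearMap.liftBaseChange (SymmetricAlgebra A M)
      ((KaehlerDifferential.D A (SymmetricAlgebra A M)).toLinearMap.restrictScalars A ∘ₗ SymmetricAlgebra.ι A M)) := by
  set C := SymmetricAlgebra A M with hC
  set Φ := LinearMap.liftBaseChange C
      ((KaehlerDifferential.D A C).toLinearMap.restrictScalars A ∘ₗ SymmetricAlgebra.ι A M) with hΦ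
  have hΦt : ∀ (c : C) (m : M), Φ (c ⊗ₜ[A] m) = c • KaehlerDifferential.D A C (SymmetricAlgebra.ι A M m) := by
    intro c m
    simp [hΦ, LinearMap.liftBaseChange_tmul]
  -- the linear map into the trivial square zero extension
  let g : M →ₗ[A] TrivSqZeroExt C (C ⊗[A] M) :=
    (inlAlgHom A C (C ⊗[A] M)).toLinearMap ∘ₗ SymmetricAlgebra.ι A M +
      ((inrHom C (C ⊗[A] M)).restrictScalars A) ∘ₗ (TensorProduct.mk A C M 1)
  let ψ : C →ₐ[A] TrivSqZeroExt C (C ⊗[A] M) := SymmetricAlgebra.lift g
  have hψι : ∀ m, ψ (SymmetricAlgebra.ι A M m) = inl (SymmetricAlgebra.ι A M m) + inr (1 ⊗ₜ[A] m) := by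
    intro m
    have : ψ (SymmetricAlgebra.ι A M m) = g m := SymmetricAlgebra.lift_ι_apply g m
    rw [this]
    rfl
  have hfst : ∀ c : C, (ψ c).fst = c := by
    have : (fstHom A C (C ⊗[A] M)).comp ψ = AlgHom.id A C := by
      apply SymmetricAlgebra.algHom_ext
      ext m
      show (ψ (SymmetricAlgebra.ι A M m)).fst = SymmetricAlgebra.ι A M m
      rw [hψι]
      simp
    intro c
    exact AlgHom.congr_fun this c
  -- the derivation
  let lin : C →ₗ[A] C ⊗[A] M := ((sndHom C (C ⊗[A] M)).restrictScalars A) ∘ₗ ψ.toLinearMap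
  have hlin : ∀ c, lin c = (ψ c).snd := fun _ => rfl
  let D' : Derivation A C (C ⊗[A] M) := Derivation.mk' lin (by
    intro x y
    rw [hlin, hlin, hlin, map_mul, snd_mul, hfst, hfst, op_smul_eq_smul, add_comm])
  have hD'ι : ∀ m, D' (SymmetricAlgebra.ι A M m) = (1 : C) ⊗ₜ[A] m := by
    intro m
    show (ψ (SymmetricAlgebra.ι A M m)).snd = _
    rw [hψι]
    simp
  let L := D'.liftKaehlerDifferential
  have hLΦ : ∀ x, L (Φ x) = x := by
    intro x
    induction x using TensorProduct.induction_on with
    | zero => simp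
    | add x y hx hy => rw [map_add, map_add, hx, hy]
    | tmul c m =>
      rw [hΦt, map_smul, Derivation.liftKaehlerDifferential_comp_D, hD'ι, TensorProduct.smul_tmul',
        smul_eq_mul, mul_one]
  refine ⟨Function.LeftInverse.injective hLΦ, ?_⟩
  rw [← LinearMap.range_eq_top, eq_top_iff, ← KaehlerDifferential.span_range_derivation,
    Submodule.span_le]
  rintro _ ⟨c, rfl⟩
  induction c using SymmetricAlgebra.induction with
  | algebraMap a =>
    rw [Derivation.map_algebraMap]
    exact Submodule.zero_mem _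
  | ι m => exact ⟨1 ⊗ₜ[A] m, by rw [hΦt, one_smul]⟩
  | mul x y hx hy =>
    rw [Derivation.leibniz]
    exact Submodule.add_mem _ (Submodule.smul_mem _ _ hy) (Submodule.smul_mem _ _ hx)
  | add x y hx hy =>
    rw [map_add]
    exact Submodule.add_mem _ hx hy

end H10S7237
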