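import Mathlib

set_option maxHeartbeats 400000
set_option autoImplicit false

namespace Groth.Agent.Lib.helper10.Kaplansky

universe u
open Polynomial

theorem pow_eq_one_of_isAlgebraic_finite {R L : Type*} [Field R] [Finite R] [Field L]
    [Algebra R L] {x : L} (hx : IsAlgebraic R x) : x = 0 ∨ ∃ m : ℕ, 0 < m ∧ x ^ m = 1 := by
  have hfg := hx.isIntegral.fg_adjoin_singleton
  have : Module.Finite R (Algebra.adjoin R {x}) := Module.Finite.iff_fg.2 hfg
  have : Finite (Algebra.adjoin R {x}) := Module.finite_of_finite R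
  have hmem : ∀ i : ℕ, x ^ i ∈ Algebra.adjoin R {x} :=
    fun i => pow_mem (Algebra.self_mem_adjoin_singleton R x) i
  obtain ⟨i, j, hij, heq⟩ := Finite.exists_ne_map_eq_of_infinite
    (fun i : ℕ => (⟨x ^ i, hmem i⟩ : Algebra.adjoin R {x}))
  have heq' : x ^ i = x ^ j := congrArg Subtype.val heq
  by_cases hx0 : x = 0
  · exact Or.inl hx0
  right
  have key : ∀ i j : ℕ, i < j → x ^ i = x ^ j → ∃ m : ℕ, 0 < m ∧ x ^ m = 1 := by
    intro i j hlt h
    refine ⟨j - i, Nat.sub_pos_of_lt hlt, ?_⟩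
    have : x ^ i * x ^ (j - i) = x ^ i * 1 := by
      rw [← pow_add, Nat.add_sub_cancel' hlt.le, mul_one, h]
    exact mul_left_cancel₀ (pow_ne_zero i hx0) this
  rcases lt_or_gt_of_ne hij with hlt | hlt
  · exact key i j hlt heq'
  · exact key j i hlt heq'.symm

theorem isAlgebraic_of_pow_eq_one {R L : Type*} [CommRing R] [Nontrivial R] [Ring L]
    [Algebra R L] {x : L} {m : ℕ} (hm : 0 < m) (h : x ^ m = 1) : IsAlgebraic R x :=
  IsAlgebraic.of_pow hm (h ▸ isAlgebraic_one)

theorem core {R E : Type*} [Field R] [Field E] [Algebra R E] {a' b : E} (hne : b ≠ a')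
    (ha0 : a' ≠ 0) (ha1 : a' + 1 ≠ 0) {n m : ℕ} (hn : 0 < n) (hm : 0 < m)
    (h1 : b ^ n = a' ^ n) (h2 : (b + 1) ^ m = (a' + 1) ^ m) :
    IsAlgebraic R a' ∧ IsAlgebraic R b := by
  have hω : IsAlgebraic R (b / a') :=
    isAlgebraic_of_pow_eq_one hn (by rw [div_pow, h1, div_self (pow_ne_zero _ ha0)])
  have hμ : IsAlgebraic R ((b + 1) / (a' + 1)) :=
    isAlgebraic_of_pow_eq_one hm (by rw [div_pow, h2, div_self (pow_ne_zero _ ha1)])
  have hba : b - a' ≠ 0 := sub_ne_zero.2 hne
  have key : b / a' - (b + 1) / (a' + 1) = (b - a') / (a' * (a' + 1)) := by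
    field_simp
    ring
  have hωμ : b / a' - (b + 1) / (a' + 1) ≠ 0 := by
    rw [key]
    exact div_ne_zero hba (mul_ne_zero ha0 ha1)
  have ha : a' = ((b + 1) / (a' + 1) - 1) / (b / a' - (b + 1) / (a' + 1)) := by
    rw [eq_div_iff hωμ, key]
    field_simp
    ring
  have hA : IsAlgebraic R a' := by
    rw [ha, div_eq_mul_inv]
    exact (hμ.sub isAlgebraic_one).mul (hω.sub hμ).inv
  refine ⟨hA, ?_⟩
  have : b = b / a' * a' := by field_simp
  rw [this]
  exact hω.mul hA


theorem all_algebraic {k k' E R : Type*} [Field k] [Field k'] [Field E] [Field R]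
    [Algebra k k'] [Algebra k E] [Algebra R E] (σ ι : k' →ₐ[k] E)
    (hrad : ∀ x : k', ∃ n : ℕ, 0 < n ∧ x ^ n ∈ Set.range (algebraMap k k'))
    {a : k'} (ha : a ∉ Set.range (algebraMap k k')) (hσ : σ a ≠ ι a) :
    (∀ x : k', IsAlgebraic R (ι x)) ∧ IsAlgebraic R (σ a) := by
  have hroot : ∀ x : k', ∃ n : ℕ, 0 < n ∧ σ x ^ n = ι x ^ n := by
    intro x
    obtain ⟨n, hn, c, hc⟩ := hrad x
    refine ⟨n, hn, ?_⟩
    rw [← map_pow, ← map_pow, ← hc, σ.commutes, ι.commutes]
  have hgen : ∀ y : k', y ∉ Set.range (algebraMap k k') → σ y ≠ ι y →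
      IsAlgebraic R (ι y) ∧ IsAlgebraic R (σ y) := by
    intro y hy hne
    have hy0 : y ≠ 0 := fun h => hy ⟨0, by rw [map_zero, h]⟩
    have hy1 : y + 1 ≠ 0 := fun h => hy ⟨-1, by rw [map_neg, map_one]; linear_combination -h⟩
    obtain ⟨n, hn, h1⟩ := hroot y
    obtain ⟨m, hm, h2⟩ := hroot (y + 1)
    rw [map_add, map_add, map_one, map_one] at h2
    refine core hne ((map_ne_zero ι).2 hy0) ?_ hn hm h1 h2
    have := (map_ne_zero ι).2 hy1
    rwa [map_add, map_one] at this
  have hk : ∀ c : k, IsAlgebraic R (algebraMap k E c) := by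
    intro c
    have hy : a + algebraMap k k' c ∉ Set.range (algebraMap k k') := by
      rintro ⟨d, hd⟩
      exact ha ⟨d - c, by rw [map_sub, hd]; ring⟩
    have hne : σ (a + algebraMap k k' c) ≠ ι (a + algebraMap k k' c) := by
      rw [map_add, map_add, σ.commutes, ι.commutes]
      exact fun h => hσ (add_right_cancel h)
    have h1 := (hgen _ hy hne).1
    have h2 := (hgen a ha hσ).1
    have : algebraMap k E c = ι (a + algebraMap k k' c) - ι a := by
      rw [map_add, ι.commutes]; ring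
    rw [this]
    exact h1.sub h2
  refine ⟨fun x => ?_, (hgen a ha hσ).2⟩
  obtain ⟨n, hn, c, hc⟩ := hrad x
  apply IsAlgebraic.of_pow hn
  rw [← map_pow, ← hc, ι.commutes]
  exact hk c


theorem exists_sigma {k k' : Type u} [Field k] [Field k'] [Algebra k k']
    [Algebra.IsAlgebraic k k'] {a : k'} (hsep : IsSeparable k a)
    (ha : a ∉ Set.range (algebraMap k k')) :
    ∃ σ : k' →ₐ[k] AlgebraicClosure k', σ a ≠ algebraMap k' (AlgebraicClosure k') a := by
  have hint : IsIntegral k a := Algebra.IsIntegral.isIntegral a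
  have hdeg : 1 < (minpoly k a).natDegree := by
    have h1 := minpoly.natDegree_pos hint
    have h2 : (minpoly k a).natDegree ≠ 1 := by
      rw [Ne, minpoly.natDegree_eq_one_iff]
      exact ha
    omega
  have hcard := Polynomial.card_rootSet_eq_natDegree (K := AlgebraicClosure k') hsep
    (IsAlgClosed.splits _)
  have hmem : algebraMap k' (AlgebraicClosure k') a ∈ (minpoly k a).rootSet (AlgebraicClosure k') := by
    rw [mem_rootSet]
    exact ⟨minpoly.ne_zero hint, by rw [aeval_algebraMap_apply, minpoly.aeval, map_zero]⟩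
  obtain ⟨⟨b, hb⟩, hne⟩ := Fintype.exists_ne_of_one_lt_card (by rw [hcard]; exact hdeg)
    (⟨_, hmem⟩ : (minpoly k a).rootSet (AlgebraicClosure k'))
  obtain ⟨σ, hσ⟩ := IntermediateField.exists_algHom_of_splits_of_aeval (F := k) (E := k')
    (K := AlgebraicClosure k')
    (fun s => ⟨Algebra.IsIntegral.isIntegral s, IsAlgClosed.splits _⟩) (x := a) (y := b)
    ((mem_rootSet.1 hb).2)
  exact ⟨σ, by rw [hσ]; exact fun h => hne (Subtype.ext h)⟩


theorem char_zero_contra {k k' E : Type*} [Field k] [Field k'] [Field E] [Algebra k k']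
    [Algebra k E] [CharZero E] (σ ι : k' →ₐ[k] E)
    (hrad : ∀ x : k', ∃ n : ℕ, 0 < n ∧ x ^ n ∈ Set.range (algebraMap k k'))
    {a : k'} (ha : a ∉ Set.range (algebraMap k k')) (hσ : σ a ≠ ι a) : False := by
  obtain ⟨hall, hb⟩ := all_algebraic (R := ℚ) σ ι hrad ha hσ
  have ha' := hall a
  let M : IntermediateField ℚ E := IntermediateField.adjoin ℚ {ι a, σ a}
  have hfd : FiniteDimensional ℚ M := IntermediateField.finiteDimensional_adjoin (by
    intro x hx
    rcases hx with rfl | rfl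
    · exact ha'.isIntegral
    · exact hb.isIntegral)
  have : NumberField M := { to_charZero := inferInstance, to_finiteDimensional := hfd }
  have haM : ι a ∈ M := IntermediateField.subset_adjoin _ _ (by simp)
  have hbM : σ a ∈ M := IntermediateField.subset_adjoin _ _ (by simp)
  let u : ℕ → M := fun t => (⟨σ a, hbM⟩ + (t : M)) / (⟨ι a, haM⟩ + (t : M))
  have hucoe : ∀ t : ℕ, ((u t : M) : E) = (σ a + (t : E)) / (ι a + (t : E)) := by
    intro t
    simp [u]
  have hden : ∀ t : ℕ, ι a + (t : E) ≠ 0 := by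
    intro t h
    have h1 : ι (a + (t : k')) = 0 := by rw [map_add, map_natCast]; exact h
    have h2 := (map_eq_zero ι).1 h1
    exact ha ⟨-(t : k), by rw [map_neg, map_natCast]; linear_combination -h2⟩
  have hu : ∀ t : ℕ, ∃ n : ℕ, 0 < n ∧ (u t) ^ n = 1 := by
    intro t
    obtain ⟨n, hn, c, hc⟩ := hrad (a + (t : k'))
    refine ⟨n, hn, ?_⟩
    apply Subtype.ext
    have h1 : (σ a + (t : E)) ^ n = (ι a + (t : E)) ^ n := by
      have : σ (a + t) ^ n = ι (a + t) ^ n := by
        rw [← map_pow, ← map_pow, ← hc, σ.commutes, ι.commutes]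
      simpa [map_add, map_natCast] using this
    change ((u t ^ n : M) : E) = 1
    push_cast
    rw [hucoe, div_pow, h1, div_self (pow_ne_zero _ (hden t))]
  have hS := NumberField.Embeddings.finite_of_norm_le M ℂ 1
  have huS : ∀ t, u t ∈ {x : M | IsIntegral ℤ x ∧ ∀ φ : M →+* ℂ, ‖φ x‖ ≤ 1} := by
    intro t
    obtain ⟨n, hn, h⟩ := hu t
    refine ⟨IsIntegral.of_pow hn (h ▸ isIntegral_one), fun φ => le_of_eq ?_⟩
    exact Complex.norm_eq_one_of_pow_eq_one (by rw [← map_pow, h, map_one]) hn.ne'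
  have : Finite {x : M | IsIntegral ℤ x ∧ ∀ φ : M →+* ℂ, ‖φ x‖ ≤ 1} := hS.to_subtype
  obtain ⟨t, t', htt, heq⟩ := Finite.exists_ne_map_eq_of_infinite
    (fun t : ℕ => (⟨u t, huS t⟩ : {x : M | IsIntegral ℤ x ∧ ∀ φ : M →+* ℂ, ‖φ x‖ ≤ 1}))
  have heq' : u t = u t' := congrArg Subtype.val heq
  have hE : (σ a + (t : E)) / (ι a + t) = (σ a + (t' : E)) / (ι a + t') := by
    rw [← hucoe, ← hucoe, heq']
  rw [div_eq_div_iff (hden t) (hden t')] at hE
  have h0 : (σ a - ι a) * ((t' : E) - t) = 0 := by linear_combination hE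
  rcases mul_eq_zero.1 h0 with h | h
  · exact hσ (sub_eq_zero.1 h)
  · exact htt (Nat.cast_injective (sub_eq_zero.1 h)).symm


theorem forward {k k' : Type u} [Field k] [Field k'] [Algebra k k']
    (hrad : ∀ x : k', ∃ n : ℕ, 0 < n ∧ x ^ n ∈ Set.range (algebraMap k k'))
    (hns : ¬ Function.Surjective (algebraMap k k')) :
    ∃ p : ℕ, p.Prime ∧ CharP k' p ∧
      (IsPurelyInseparable k k' ∨ Algebra.IsAlgebraic (⊥ : Subfield k') k') := by
  have halg : Algebra.IsAlgebraic k k' := ⟨fun x => by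
    obtain ⟨n, hn, c, hc⟩ := hrad x
    exact IsAlgebraic.of_pow hn (hc ▸ isAlgebraic_algebraMap c)⟩
  obtain ⟨p, hp⟩ := CharP.exists k'
  by_cases hpi : IsPurelyInseparable k k'
  · rcases CharP.char_is_prime_or_zero k' p with hpp | hp0
    · exact ⟨p, hpp, hp, Or.inl hpi⟩
    · exfalso
      subst hp0
      have : CharZero k' := CharP.charP_to_charZero k'
      have : CharP k 0 := ((algebraMap k k').charP_iff (algebraMap k k').injective 0).2 hp
      have : CharZero k := CharP.charP_to_charZero k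
      have : Algebra.IsSeparable k k' := Algebra.IsAlgebraic.isSeparable_of_perfectField
      exact hns (IsPurelyInseparable.surjective_algebraMap_of_isSeparable k k')
  · rw [isPurelyInseparable_iff] at hpi
    push Not at hpi
    obtain ⟨a, ha⟩ := hpi
    obtain ⟨hsep, hnr⟩ := ha (Algebra.IsIntegral.isIntegral a)
    have hnr' : a ∉ Set.range (algebraMap k k') := hnr
    obtain ⟨σ, hσ⟩ := exists_sigma hsep hnr'
    let ι : k' →ₐ[k] AlgebraicClosure k' := IsScalarTower.toAlgHom k k' (AlgebraicClosure k')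
    have hσ' : σ a ≠ ι a := hσ
    rcases CharP.char_is_prime_or_zero k' p with hpp | hp0
    · refine ⟨p, hpp, hp, Or.inr ⟨fun x => ?_⟩⟩
      have : Fact p.Prime := ⟨hpp⟩
      have : CharP (AlgebraicClosure k') p :=
        charP_of_injective_algebraMap (algebraMap k' (AlgebraicClosure k')).injective p
      let _ : Algebra (ZMod p) (AlgebraicClosure k') := ZMod.algebra _ p
      have hx := (all_algebraic (R := ZMod p) σ ι hrad hnr' hσ').1 x
      rcases pow_eq_one_of_isAlgebraic_finite hx with h0 | ⟨m, hm, h1⟩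
      · rw [(map_eq_zero ι).1 h0]
        exact isAlgebraic_zero
      · apply isAlgebraic_of_pow_eq_one hm
        apply ι.toRingHom.injective
        change ι (x ^ m) = ι 1
        rw [map_pow, h1, map_one]
    · exfalso
      subst hp0
      have : CharZero k' := CharP.charP_to_charZero k'
      have : CharZero (AlgebraicClosure k') :=
        charZero_of_injective_algebraMap (algebraMap k' (AlgebraicClosure k')).injective
      exact char_zero_contra σ ι hrad hnr' hσ'

theorem backward {k k' : Type u} [Field k] [Field k'] [Algebra k k']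
    (h : Function.Surjective (algebraMap k k') ∨
        ∃ p : ℕ, p.Prime ∧ CharP k' p ∧
          (IsPurelyInseparable k k' ∨ Algebra.IsAlgebraic (⊥ : Subfield k') k')) :
    ∀ x : k', ∃ n : ℕ, 0 < n ∧ x ^ n ∈ Set.range (algebraMap k k') := by
  intro x
  rcases h with h | ⟨p, hpp, hp, h | h⟩
  · exact ⟨1, one_pos, by rw [pow_one]; exact h x⟩
  · have : CharP k p := ((algebraMap k k').charP_iff (algebraMap k k').injective p).2 hp
    have : ExpChar k p := ExpChar.prime hpp
    obtain ⟨n, hn⟩ := IsPurelyInseparable.pow_mem k p x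
    exact ⟨p ^ n, pow_pos hpp.pos n, hn⟩
  · have : Fact p.Prime := ⟨hpp⟩
    let _ := Subfield.fintypeBot k' p
    have hx := h.isAlgebraic x
    rcases pow_eq_one_of_isAlgebraic_finite hx with h0 | ⟨m, hm, h1⟩
    · exact ⟨1, one_pos, ⟨0, by rw [h0, map_zero, pow_one]⟩⟩
    · exact ⟨m, hm, ⟨1, by rw [h1, map_one]⟩⟩

theorem main {k k' : Type u} [Field k] [Field k'] [Algebra k k'] :
    (∀ x : k', ∃ n : ℕ, 0 < n ∧ x ^ n ∈ Set.range (algebraMap k k')) ↔
      Function.Surjective (algebraMap k k') ∨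
        ∃ p : ℕ, p.Prime ∧ CharP k' p ∧
          (IsPurelyInseparable k k' ∨ Algebra.IsAlgebraic (⊥ : Subfield k') k') := by
  constructor
  · intro hrad
    by_cases hs : Function.Surjective (algebraMap k k')
    · exact Or.inl hs
    · exact Or.inr (forward hrad hs)
  · exact backward

end Groth.Agent.Lib.helper10.Kaplansky
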