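import Mathlib
import Groth.Agent.Lib.Helper5.KosLow

/-!
# Operators on the Koszul complex (mapping-cone model)

For a list `l` of ring elements and a coefficient vector `v : ℕ → R` we define the degree `-1`
operator `m l v = ∑ v_j σ_j` on `Koszul.koszul R l` ("interior multiplication"), and prove
`d m + m d = dot l v`, `m ∘ m = 0`, linearity in `v`.  We also fix generators in degree `0`
and in the lowest degree.
-/

set_option autoImplicit false
universe u
open CategoryTheory CategoryTheory.Limits CochainComplex HomComplex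

namespace Groth.Agent.Lib.helper10.KosOps

open Groth.Agent.Lib.Helper5.KosLow

variable {R : Type u} [CommRing R]

/-- the Koszul complex -/
noncomputable abbrev K (l : List R) : CochainComplex (ModuleCat.{u} R) ℤ := Koszul.koszul R l

section Cone

variable {A B : CochainComplex (ModuleCat.{u} R) ℤ} (φ : A ⟶ B)

theorem cone_ext (p q : ℤ) (h : p + 1 = q) {x y : (mappingCone φ).X p}
    (h1 : cfst φ p q h x = cfst φ p q h y) (h2 : csnd φ p x = csnd φ p y) : x = y := by
  rw [decomp φ p q h x, decomp φ p q h y, h1, h2]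

end Cone

/-- the pairing of a coefficient vector with a list -/
def dot : List R → (ℕ → R) → R
  | [], _ => 0
  | g :: l, v => v 0 * g + dot l (fun i => v (i + 1))

theorem dot_add (l : List R) (v w : ℕ → R) : dot l (v + w) = dot l v + dot l w := by
  induction l generalizing v w with
  | nil => simp [dot]
  | cons g l ih =>
    have h1 : (fun i => (v + w) (i + 1)) = (fun i => v (i + 1)) + (fun i => w (i + 1)) := rfl
    have h2 : dot (g :: l) (v + w) = (v + w) 0 * g + dot l (fun i => (v + w) (i + 1)) := rfl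
    have h3 : dot (g :: l) v = v 0 * g + dot l (fun i => v (i + 1)) := rfl
    have h4 : dot (g :: l) w = w 0 * g + dot l (fun i => w (i + 1)) := rfl
    rw [h2, h3, h4, h1, ih, Pi.add_apply]
    ring

theorem dot_smul (l : List R) (c : R) (v : ℕ → R) : dot l (c • v) = c * dot l v := by
  induction l generalizing v with
  | nil => simp [dot]
  | cons g l ih =>
    have h1 : (fun i => (c • v) (i + 1)) = c • (fun i => v (i + 1)) := rfl
    have h2 : dot (g :: l) (c • v) = (c • v) 0 * g + dot l (fun i => (c • v) (i + 1)) := rfl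
    have h3 : dot (g :: l) v = v 0 * g + dot l (fun i => v (i + 1)) := rfl
    rw [h2, h3, h1, ih, Pi.smul_apply, smul_eq_mul]
    ring

section ConeOp

variable {A : CochainComplex (ModuleCat.{u} R) ℤ} (g : R)
  (m' : ∀ p q : ℤ, q + 1 = p → (A.X p →ₗ[R] A.X q)) (c₀ : R)

/-- the operator on the cone of `g` induced by an operator on the base and a scalar. -/
noncomputable def coneOp (p q : ℤ) (h : q + 1 = p) :
    (mappingCone (g • 𝟙 A)).X p →ₗ[R] (mappingCone (g • 𝟙 A)).X q :=
  (cinl (g • 𝟙 A) q p h).comp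
      (c₀ • (csnd (g • 𝟙 A) p) - (m' (p + 1) p rfl).comp (cfst (g • 𝟙 A) p (p + 1) rfl)) +
    (cinr (g • 𝟙 A) q).comp ((m' p q h).comp (csnd (g • 𝟙 A) p))

theorem coneOp_apply (p q : ℤ) (h : q + 1 = p) (x : (mappingCone (g • 𝟙 A)).X p) :
    coneOp g m' c₀ p q h x =
      cinl (g • 𝟙 A) q p h
          (c₀ • csnd (g • 𝟙 A) p x - m' (p + 1) p rfl (cfst (g • 𝟙 A) p (p + 1) rfl x)) +
        cinr (g • 𝟙 A) q (m' p q h (csnd (g • 𝟙 A) p x)) := rfl

theorem cfst_coneOp (p q : ℤ) (h : q + 1 = p) (x : (mappingCone (g • 𝟙 A)).X p) :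
    cfst (g • 𝟙 A) q p h (coneOp g m' c₀ p q h x) =
      c₀ • csnd (g • 𝟙 A) p x - m' (p + 1) p rfl (cfst (g • 𝟙 A) p (p + 1) rfl x) := by
  rw [coneOp_apply, map_add, cfst_cinl, cfst_cinr, add_zero]

theorem csnd_coneOp (p q : ℤ) (h : q + 1 = p) (x : (mappingCone (g • 𝟙 A)).X p) :
    csnd (g • 𝟙 A) q (coneOp g m' c₀ p q h x) = m' p q h (csnd (g • 𝟙 A) p x) := by
  rw [coneOp_apply, map_add, csnd_cinl, csnd_cinr, zero_add]

theorem smul_id_f_hom (j : ℤ) (a : A.X j) :
    ((g • 𝟙 A : A ⟶ A).f j).hom a = g • a := by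
  simp

theorem coneOp_homotopy (d' : R)
    (hm' : ∀ (p q r : ℤ) (hqp : q + 1 = p) (hpr : p + 1 = r) (x : A.X p),
      (A.d q p).hom (m' p q hqp x) + m' r p hpr ((A.d p r).hom x) = d' • x)
    (p q r : ℤ) (hqp : q + 1 = p) (hpr : p + 1 = r) (x : (mappingCone (g • 𝟙 A)).X p) :
    ((mappingCone (g • 𝟙 A)).d q p).hom (coneOp g m' c₀ p q hqp x) +
      coneOp g m' c₀ r p hpr (((mappingCone (g • 𝟙 A)).d p r).hom x) = (c₀ * g + d') • x := by
  subst hqp
  subst hpr
  have ih1 := hm' (q + 1 + 1) (q + 1) (q + 1 + 1 + 1) rfl rfl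
    (cfst (g • 𝟙 A) (q + 1) (q + 1 + 1) rfl x)
  have ih2 := hm' (q + 1) q (q + 1 + 1) rfl rfl (csnd (g • 𝟙 A) (q + 1) x)
  have hφa : ∀ (j : ℤ) (a : A.X j), ((g • 𝟙 A : A ⟶ A).f j).hom a = g • a :=
    fun j a => smul_id_f_hom g j a
  refine cone_ext (g • 𝟙 A) (q + 1) (q + 1 + 1) rfl ?_ ?_
  · rw [map_add, map_smul]
    rw [cfst_d (g • 𝟙 A) q (q + 1) (q + 1 + 1) rfl rfl, cfst_coneOp, cfst_coneOp]
    rw [csnd_d (g • 𝟙 A) (q + 1) (q + 1 + 1) rfl,
      cfst_d (g • 𝟙 A) (q + 1) (q + 1 + 1) (q + 1 + 1 + 1) rfl rfl]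
    rw [hφa]
    simp only [map_sub, map_smul, map_neg, smul_add]
    rw [add_smul, mul_smul, ← ih1]
    abel
  · rw [map_add, map_smul]
    rw [csnd_d (g • 𝟙 A) q (q + 1) rfl, cfst_coneOp, csnd_coneOp, csnd_coneOp]
    rw [csnd_d (g • 𝟙 A) (q + 1) (q + 1 + 1) rfl]
    rw [hφa, hφa]
    simp only [map_smul, map_add, smul_sub]
    rw [add_smul, mul_smul, ← ih2]
    rw [smul_comm g c₀]
    abel

theorem coneOp_sq
    (hm' : ∀ (p q r : ℤ) (hqp : q + 1 = p) (hrq : r + 1 = q) (x : A.X p),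
      m' q r hrq (m' p q hqp x) = 0)
    (p q r : ℤ) (hqp : q + 1 = p) (hrq : r + 1 = q) (x : (mappingCone (g • 𝟙 A)).X p) :
    coneOp g m' c₀ q r hrq (coneOp g m' c₀ p q hqp x) = 0 := by
  subst hqp
  subst hrq
  rw [coneOp_apply g m' c₀ (r + 1) r rfl, cfst_coneOp, csnd_coneOp]
  have h1 := hm' (r + 1 + 1 + 1) (r + 1 + 1) (r + 1) rfl rfl
    (cfst (g • 𝟙 A) (r + 1 + 1) (r + 1 + 1 + 1) rfl x)
  have h2 := hm' (r + 1 + 1) (r + 1) r rfl rfl (csnd (g • 𝟙 A) (r + 1 + 1) x)
  rw [h2, map_zero, add_zero]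
  simp only [map_sub, map_smul, h1, sub_zero, sub_self, map_zero]

end ConeOp

/-- the operator `∑ v_j σ_j` of degree `-1` on the Koszul complex -/
noncomputable def m : (l : List R) → (v : ℕ → R) → (p q : ℤ) → (q + 1 = p) →
    ((K l).X p →ₗ[R] (K l).X q)
  | [], _, _, _, _ => 0
  | g :: l, v, p, q, h => coneOp g (m l (fun i => v (i + 1))) (v 0) p q h

theorem m_cons (g : R) (l : List R) (v : ℕ → R) (p q : ℤ) (h : q + 1 = p) :
    m (g :: l) v p q h = coneOp g (m l (fun i => v (i + 1))) (v 0) p q h := rfl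

/-- `d m + m d = dot l v`. -/
theorem m_homotopy : ∀ (l : List R) (v : ℕ → R) (p q r : ℤ) (hqp : q + 1 = p) (hpr : p + 1 = r)
    (x : (K l).X p),
    ((K l).d q p).hom (m l v p q hqp x) + m l v r p hpr (((K l).d p r).hom x) = dot l v • x
  | [], v, p, q, r, hqp, hpr, x => by
    simp only [m, dot, LinearMap.zero_apply, map_zero, zero_smul, add_zero]
  | g :: l, v, p, q, r, hqp, hpr, x =>
    coneOp_homotopy g (m l (fun i => v (i + 1))) (v 0) (dot l (fun i => v (i + 1)))
      (m_homotopy l (fun i => v (i + 1))) p q r hqp hpr x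

/-- `m ∘ m = 0`. -/
theorem m_sq : ∀ (l : List R) (v : ℕ → R) (p q r : ℤ) (hqp : q + 1 = p) (hrq : r + 1 = q)
    (x : (K l).X p), m l v q r hrq (m l v p q hqp x) = 0
  | [], v, p, q, r, hqp, hrq, x => by simp [m]
  | g :: l, v, p, q, r, hqp, hrq, x =>
    coneOp_sq g (m l (fun i => v (i + 1))) (v 0) (m_sq l (fun i => v (i + 1))) p q r hqp hrq x

theorem m_add : ∀ (l : List R) (v w : ℕ → R) (p q : ℤ) (h : q + 1 = p) (x : (K l).X p),
    m l (v + w) p q h x = m l v p q h x + m l w p q h x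
  | [], v, w, p, q, h, x => by simp [m]
  | g :: l, v, w, p, q, h, x => by
    have hvw : (fun i => (v + w) (i + 1)) = (fun i => v (i + 1)) + (fun i => w (i + 1)) := rfl
    have e1 : ∀ (p q : ℤ) (h : q + 1 = p), m l ((fun i => v (i + 1)) + fun i => w (i + 1)) p q h =
        m l (fun i => v (i + 1)) p q h + m l (fun i => w (i + 1)) p q h := fun p q h =>
      LinearMap.ext (fun y => m_add l _ _ p q h y)
    change coneOp g (m l (fun i => (v + w) (i + 1))) ((v + w) 0) p q h x =
      coneOp g (m l (fun i => v (i + 1))) (v 0) p q h x +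
        coneOp g (m l (fun i => w (i + 1))) (w 0) p q h x
    rw [coneOp_apply, coneOp_apply, coneOp_apply, hvw, e1, e1]
    simp only [Pi.add_apply, add_smul, map_add, map_sub, LinearMap.add_apply]
    abel

theorem m_smul : ∀ (l : List R) (c : R) (v : ℕ → R) (p q : ℤ) (h : q + 1 = p) (x : (K l).X p),
    m l (c • v) p q h x = c • m l v p q h x
  | [], c, v, p, q, h, x => by simp [m]
  | g :: l, c, v, p, q, h, x => by
    have hcv : (fun i => (c • v) (i + 1)) = c • (fun i => v (i + 1)) := rfl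
    have e1 : ∀ (p q : ℤ) (h : q + 1 = p), m l (c • fun i => v (i + 1)) p q h =
        c • m l (fun i => v (i + 1)) p q h := fun p q h =>
      LinearMap.ext (fun y => m_smul l c _ p q h y)
    change coneOp g (m l (fun i => (c • v) (i + 1))) ((c • v) 0) p q h x =
      c • coneOp g (m l (fun i => v (i + 1))) (v 0) p q h x
    rw [coneOp_apply, coneOp_apply, hcv, e1, e1]
    simp only [Pi.smul_apply, smul_eq_mul, mul_smul, map_smul, map_sub, smul_add, smul_sub,
      LinearMap.smul_apply]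

theorem m_zero (l : List R) (p q : ℤ) (h : q + 1 = p) (x : (K l).X p) :
    m l (0 : ℕ → R) p q h x = 0 := by
  have := m_smul l (0 : R) (0 : ℕ → R) p q h x
  rwa [zero_smul, zero_smul] at this

/-- anticommutation, by polarisation. -/
theorem m_anticomm (l : List R) (v w : ℕ → R) (p q r : ℤ) (hqp : q + 1 = p) (hrq : r + 1 = q)
    (x : (K l).X p) :
    m l v q r hrq (m l w p q hqp x) + m l w q r hrq (m l v p q hqp x) = 0 := by
  have h := m_sq l (v + w) p q r hqp hrq x
  rw [m_add l v w p q hqp x, m_add l v w q r hrq, map_add, map_add, m_sq, m_sq, zero_add,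
    add_zero] at h
  exact h

/-! ### vanishing outside the range -/

theorem subsingleton_X_pos (l : List R) (k : ℤ) (hk : 0 < k) : Subsingleton ((K l).X k) :=
  ModuleCat.isZero_iff_subsingleton.1 (Groth.Agent.Lib.Helper2.KosTor2.isZero_koszul_X l k hk)

theorem subsingleton_X_below : ∀ (l : List R) (k : ℤ), k + (l.length : ℤ) < 0 →
    Subsingleton ((K l).X k)
  | [], k, hk => by
    have : IsZero ((K ([] : List R)).X k) :=
      HomologicalComplex.isZero_single_obj_X (ComplexShape.up ℤ) 0 (ModuleCat.of R R) k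
        (by simp at hk; omega)
    exact ModuleCat.isZero_iff_subsingleton.1 this
  | g :: l, k, hk => by
    have hk' : k + 1 + (l.length : ℤ) < 0 := by
      simp only [List.length_cons, Nat.cast_add, Nat.cast_one] at hk
      omega
    have h1 := subsingleton_X_below l (k + 1) hk'
    have h2 := subsingleton_X_below l k (by omega)
    refine ⟨fun x y => ?_⟩
    exact cone_ext (g • 𝟙 (K l)) k (k + 1) rfl (Subsingleton.elim _ _) (Subsingleton.elim _ _)

/-! ### degree zero -/

/-- the generator in degree `0` -/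
noncomputable def u : (l : List R) → (K l).X 0
  | [] => (HomologicalComplex.singleObjXSelf (ComplexShape.up ℤ) 0 (ModuleCat.of R R)).inv.hom
      (1 : R)
  | g :: l => cinr (g • 𝟙 (K l)) 0 (u l)

/-- the coordinate in degree `0` -/
noncomputable def ε0 : (l : List R) → ((K l).X 0 →ₗ[R] R)
  | [] => (HomologicalComplex.singleObjXSelf (ComplexShape.up ℤ) 0 (ModuleCat.of R R)).hom.hom
  | g :: l => (ε0 l).comp (csnd (g • 𝟙 (K l)) 0)

theorem ε0_u : ∀ l : List R, ε0 l (u l) = 1
  | [] => by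
    change ((HomologicalComplex.singleObjXSelf (ComplexShape.up ℤ) 0 (ModuleCat.of R R)).inv ≫
      (HomologicalComplex.singleObjXSelf (ComplexShape.up ℤ) 0 (ModuleCat.of R R)).hom).hom
        (1 : R) = 1
    rw [Iso.inv_hom_id]
    rfl
  | g :: l => by
    change ε0 l (csnd (g • 𝟙 (K l)) 0 (cinr (g • 𝟙 (K l)) 0 (u l))) = 1
    rw [csnd_cinr, ε0_u l]

theorem eq_ε0_smul_u : ∀ (l : List R) (x : (K l).X 0), x = ε0 l x • u l
  | [], x => by
    change x = ((HomologicalComplex.singleObjXSelf (ComplexShape.up ℤ) 0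
      (ModuleCat.of R R)).hom.hom x) •
        (HomologicalComplex.singleObjXSelf (ComplexShape.up ℤ) 0 (ModuleCat.of R R)).inv.hom (1 : R)
    rw [← map_smul, smul_eq_mul, mul_one]
    change x = ((HomologicalComplex.singleObjXSelf (ComplexShape.up ℤ) 0 (ModuleCat.of R R)).hom ≫
      (HomologicalComplex.singleObjXSelf (ComplexShape.up ℤ) 0 (ModuleCat.of R R)).inv).hom x
    rw [Iso.hom_inv_id]
    rfl
  | g :: l, x => by
    have h1 := subsingleton_X_pos l 1 (by norm_num)
    refine cone_ext (g • 𝟙 (K l)) 0 1 rfl (Subsingleton.elim _ _) ?_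
    change _ = csnd (g • 𝟙 (K l)) 0 (ε0 l (csnd (g • 𝟙 (K l)) 0 x) • cinr (g • 𝟙 (K l)) 0 (u l))
    rw [map_smul, csnd_cinr]
    exact eq_ε0_smul_u l _

/-! ### lowest degree -/

/-- the generator in the lowest degree -/
noncomputable def t : (l : List R) → (k : ℤ) → (k + (l.length : ℤ) = 0) → (K l).X k
  | [], k, hk => by
    have hk0 : k = 0 := by simpa using hk
    subst hk0
    exact (HomologicalComplex.singleObjXSelf (ComplexShape.up ℤ) 0 (ModuleCat.of R R)).inv.hom (1 : R)
  | g :: l, k, hk =>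
    cinl (g • 𝟙 (K l)) k (k + 1) rfl
      (t l (k + 1) (by simp only [List.length_cons, Nat.cast_add, Nat.cast_one] at hk; omega))

/-- the coordinate in the lowest degree -/
noncomputable def τ : (l : List R) → (k : ℤ) → (k + (l.length : ℤ) = 0) → ((K l).X k →ₗ[R] R)
  | [], k, hk => by
    have hk0 : k = 0 := by simpa using hk
    subst hk0
    exact (HomologicalComplex.singleObjXSelf (ComplexShape.up ℤ) 0 (ModuleCat.of R R)).hom.hom
  | g :: l, k, hk =>
    (τ l (k + 1) (by simp only [List.length_cons, Nat.cast_add, Nat.cast_one] at hk; omega)).comp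
      (cfst (g • 𝟙 (K l)) k (k + 1) rfl)

theorem t_nil : t ([] : List R) 0 (by simp) = u ([] : List R) := rfl

theorem τ_nil : τ ([] : List R) 0 (by simp) = ε0 ([] : List R) := rfl

theorem τ_t : ∀ (l : List R) (k : ℤ) (hk : k + (l.length : ℤ) = 0), τ l k hk (t l k hk) = 1
  | [], k, hk => by
    have hk0 : k = 0 := by simpa using hk
    subst hk0
    exact ε0_u []
  | g :: l, k, hk => by
    change τ l (k + 1) _ (cfst (g • 𝟙 (K l)) k (k + 1) rfl
      (cinl (g • 𝟙 (K l)) k (k + 1) rfl (t l (k + 1) _))) = 1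
    rw [cfst_cinl]
    exact τ_t l (k + 1) _

theorem eq_τ_smul_t : ∀ (l : List R) (k : ℤ) (hk : k + (l.length : ℤ) = 0) (x : (K l).X k),
    x = τ l k hk x • t l k hk
  | [], k, hk, x => by
    have hk0 : k = 0 := by simpa using hk
    subst hk0
    exact eq_ε0_smul_u [] x
  | g :: l, k, hk, x => by
    have hk' : k + 1 + (l.length : ℤ) = 0 := by
      simp only [List.length_cons, Nat.cast_add, Nat.cast_one] at hk; omega
    have h1 := subsingleton_X_below l k (by omega)
    refine cone_ext (g • 𝟙 (K l)) k (k + 1) rfl ?_ (Subsingleton.elim _ _)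
    change _ = cfst (g • 𝟙 (K l)) k (k + 1) rfl
      (τ l (k + 1) hk' (cfst (g • 𝟙 (K l)) k (k + 1) rfl x) •
        cinl (g • 𝟙 (K l)) k (k + 1) rfl (t l (k + 1) hk'))
    rw [map_smul, cfst_cinl]
    exact eq_τ_smul_t l (k + 1) hk' _

end Groth.Agent.Lib.helper10.KosOps
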