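import Mathlib
import Groth.Agent.Lib.helper10.KosOps

/-!
# The augmentation `K(l) ⟶ (R ⧸ (l))[0]` of the Koszul complex is a quasi-isomorphism for
Koszul-regular `l`
-/

set_option autoImplicit false
universe u
open CategoryTheory CategoryTheory.Limits CochainComplex HomComplex

namespace Groth.Agent.Lib.helper10.KosAug

open Groth.Agent.Lib.Helper5.KosLow Groth.Agent.Lib.helper10.KosOps

variable {R : Type u} [CommRing R]

theorem exists_dot_eq : ∀ (l : List R) (r : R), r ∈ Ideal.ofList l → ∃ v : ℕ → R, dot l v = r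
  | [], r, hr => by
    rw [Ideal.ofList_nil, Ideal.mem_bot] at hr
    exact ⟨0, by rw [hr]; rfl⟩
  | g :: l, r, hr => by
    rw [Ideal.ofList_cons, Submodule.mem_sup] at hr
    obtain ⟨a, ha, b, hb, rfl⟩ := hr
    obtain ⟨c, rfl⟩ := Ideal.mem_span_singleton'.1 ha
    obtain ⟨v, hv⟩ := exists_dot_eq l b hb
    refine ⟨fun i => Nat.casesOn i c (fun j => v j), ?_⟩
    change c * g + dot l v = c * g + b
    rw [hv]

theorem ε0_mem (l : List R) (I : Ideal R) (x : (K l).X 0)
    (hx : x ∈ I • (⊤ : Submodule R ((K l).X 0))) : ε0 l x ∈ I := by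
  have h := map_mem_smul_top (ε0 l) (le_refl I) hx
  rwa [smul_eq_mul, Ideal.mul_top] at h

theorem ε0_d_mem (l : List R) (x : (K l).X (-1)) :
    ε0 l (((K l).d (-1) 0).hom x) ∈ Ideal.ofList l :=
  ε0_mem l _ _ (d_mem l (-1) 0 x)

theorem d_u (l : List R) : ((K l).d 0 1).hom (u l) = 0 :=
  (subsingleton_X_pos l 1 (by norm_num)).elim _ _

theorem smul_u_mem_range (l : List R) (r : R) (hr : r ∈ Ideal.ofList l) :
    ∃ z : (K l).X (-1), ((K l).d (-1) 0).hom z = r • u l := by
  obtain ⟨v, rfl⟩ := exists_dot_eq l r hr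
  refine ⟨m l v 0 (-1) (by norm_num) (u l), ?_⟩
  have h := m_homotopy l v 0 (-1) 1 (by norm_num) (by norm_num) (u l)
  rw [d_u, map_zero, add_zero] at h
  exact h

variable (l : List R) (I : Ideal R)

/-- the target of the augmentation -/
noncomputable abbrev S : CochainComplex (ModuleCat.{u} R) ℤ :=
  (HomologicalComplex.single (ModuleCat.{u} R) (ComplexShape.up ℤ) 0).obj (ModuleCat.of R (R ⧸ I))

/-- a chain map `K(l) ⟶ (R ⧸ I)[0]` from an element `y` with `y • (l) ⊆ I`. -/
noncomputable def toS (y : R) (hy : ∀ r ∈ Ideal.ofList l, y * r ∈ I) : K l ⟶ S I :=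
  HomologicalComplex.mkHomToSingle
    (ModuleCat.ofHom ((Submodule.mkQ I).comp ((LinearMap.lsmul R R y).comp (ε0 l))))
    (fun i hi => by
      have hi' : i = -1 := by
        have : i + 1 = 0 := hi
        omega
      subst hi'
      ext x
      change Submodule.mkQ I (y • ε0 l (((K l).d (-1) 0).hom x)) = 0
      rw [Submodule.mkQ_apply, Submodule.Quotient.mk_eq_zero]
      exact hy _ (ε0_d_mem l x))

theorem toS_f_zero (y : R) (hy : ∀ r ∈ Ideal.ofList l, y * r ∈ I) (x : (K l).X 0) :
    (HomologicalComplex.singleObjXSelf (ComplexShape.up ℤ) 0 (ModuleCat.of R (R ⧸ I))).hom.hom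
      (((toS l I y hy).f 0).hom x) = Submodule.mkQ I (y * ε0 l x) := by
  change ((toS l I y hy).f 0 ≫
    (HomologicalComplex.singleObjXSelf (ComplexShape.up ℤ) 0 (ModuleCat.of R (R ⧸ I))).hom).hom x = _
  rw [toS, HomologicalComplex.mkHomToSingle_f, Category.assoc, Iso.inv_hom_id, Category.comp_id]
  rfl

/-- the augmentation -/
noncomputable def aug : K l ⟶ S (Ideal.ofList l) :=
  toS l (Ideal.ofList l) 1 (fun r hr => by rwa [one_mul])

theorem aug_f_zero (x : (K l).X 0) :
    (HomologicalComplex.singleObjXSelf (ComplexShape.up ℤ) 0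
      (ModuleCat.of R (R ⧸ Ideal.ofList l))).hom.hom (((aug l).f 0).hom x) =
      Submodule.mkQ (Ideal.ofList l) (ε0 l x) := by
  rw [aug, toS_f_zero, one_mul]

theorem aug_f_zero_eq_zero_iff (x : (K l).X 0) :
    ((aug l).f 0).hom x = 0 ↔ ε0 l x ∈ Ideal.ofList l := by
  rw [← Submodule.Quotient.mk_eq_zero, ← Submodule.mkQ_apply, ← aug_f_zero]
  constructor
  · intro h
    rw [h, map_zero]
  · intro h
    have := congrArg (HomologicalComplex.singleObjXSelf (ComplexShape.up ℤ) 0
      (ModuleCat.of R (R ⧸ Ideal.ofList l))).inv.hom h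
    rw [map_zero] at this
    rw [← this]
    change _ = ((HomologicalComplex.singleObjXSelf (ComplexShape.up ℤ) 0
      (ModuleCat.of R (R ⧸ Ideal.ofList l))).hom ≫ (HomologicalComplex.singleObjXSelf
        (ComplexShape.up ℤ) 0 (ModuleCat.of R (R ⧸ Ideal.ofList l))).inv).hom _
    rw [Iso.hom_inv_id]
    rfl

theorem aug_f_zero_surjective : Function.Surjective ((aug l).f 0).hom := by
  intro z
  obtain ⟨r, hr⟩ := Submodule.mkQ_surjective (Ideal.ofList l)
    ((HomologicalComplex.singleObjXSelf (ComplexShape.up ℤ) 0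
      (ModuleCat.of R (R ⧸ Ideal.ofList l))).hom.hom z)
  refine ⟨r • u l, ?_⟩
  have h1 := aug_f_zero l (r • u l)
  rw [map_smul (ε0 l), ε0_u, smul_eq_mul, mul_one, hr] at h1
  have := congrArg (HomologicalComplex.singleObjXSelf (ComplexShape.up ℤ) 0
      (ModuleCat.of R (R ⧸ Ideal.ofList l))).inv.hom h1
  have e : ∀ w, (HomologicalComplex.singleObjXSelf (ComplexShape.up ℤ) 0
      (ModuleCat.of R (R ⧸ Ideal.ofList l))).inv.hom
      ((HomologicalComplex.singleObjXSelf (ComplexShape.up ℤ) 0
      (ModuleCat.of R (R ⧸ Ideal.ofList l))).hom.hom w) = w := by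
    intro w
    change ((HomologicalComplex.singleObjXSelf (ComplexShape.up ℤ) 0
      (ModuleCat.of R (R ⧸ Ideal.ofList l))).hom ≫ (HomologicalComplex.singleObjXSelf
        (ComplexShape.up ℤ) 0 (ModuleCat.of R (R ⧸ Ideal.ofList l))).inv).hom w = w
    rw [Iso.hom_inv_id]
    rfl
  rw [e, e] at this
  exact this

/-- **The augmentation is a quasi-isomorphism when the sequence is Koszul-regular.** -/
theorem quasiIso_aug (hl : LCI.IsKoszulRegularSeq R l) : QuasiIso (aug l) := by
  rw [quasiIso_iff]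
  intro i
  by_cases hi : i = 0
  · subst hi
    rw [quasiIsoAt_iff' (aug l) (-1) 0 1 (by simp) (by simp)]
    rw [ShortComplex.quasiIso_iff_of_zeros']
    · constructor
      · rw [ShortComplex.moduleCat_exact_iff]
        intro x hx
        change ((aug l).f 0).hom x = 0 at hx
        rw [aug_f_zero_eq_zero_iff] at hx
        obtain ⟨z, hz⟩ := smul_u_mem_range l _ hx
        refine ⟨z, ?_⟩
        change ((K l).d (-1) 0).hom z = x
        rw [hz]
        exact (eq_ε0_smul_u l x).symm
      · change Epi ((aug l).f 0)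
        rw [ModuleCat.epi_iff_surjective]
        exact aug_f_zero_surjective l
    · change (K l).d 0 1 = 0
      exact (Groth.Agent.Lib.Helper2.KosTor2.isZero_koszul_X l 1 (by norm_num)).eq_of_tgt _ _
    · change (S (Ideal.ofList l)).d (-1) 0 = 0
      exact HomologicalComplex.single_obj_d _ _ _ _ _
    · change (S (Ideal.ofList l)).d 0 1 = 0
      exact HomologicalComplex.single_obj_d _ _ _ _ _
  · rw [quasiIsoAt_iff_exactAt (aug l) i]
    · exact HomologicalComplex.exactAt_single_obj _ _ _ _ hi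
    · rw [HomologicalComplex.exactAt_iff_isZero_homology]
      exact hl i hi

/-! ### K-projectivity -/

instance : (K l).IsStrictlyLE 0 := by
  rw [CochainComplex.isStrictlyLE_iff]
  intro i hi
  exact Groth.Agent.Lib.Helper2.KosTor2.isZero_koszul_X l i hi

instance (n : ℤ) : Projective ((K l).X n) :=
  Groth.Agent.Lib.Helper2.KosTor2.projective_koszul' l n

instance : (K l).IsKProjective := CochainComplex.isKProjective_of_projective (K l) 0

end Groth.Agent.Lib.helper10.KosAug
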