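import Mathlib
import Groth.Agent.Lib.helper10.KosOps

/-!
# The comparison map of Koszul complexes `K(C g) ⟶ K(g)` (mapping-cone model)
-/

set_option autoImplicit false
universe u
open CategoryTheory CategoryTheory.Limits CochainComplex HomComplex

namespace Groth.Agent.Lib.helper10.KosLambda

open Groth.Agent.Lib.Helper5.KosLow Groth.Agent.Lib.helper10.KosOps

variable {R : Type u} [CommRing R]

section ConeDesc

variable {A B : CochainComplex (ModuleCat.{u} R) ℤ} (g : R) (β : A ⟶ B)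
  (μ : ∀ p q : ℤ, q + 1 = p → (B.X p →ₗ[R] B.X q))
  (hμ : ∀ (p q r : ℤ) (hqp : q + 1 = p) (hpr : p + 1 = r) (x : B.X p),
      (B.d q p).hom (μ p q hqp x) + μ r p hpr ((B.d p r).hom x) = g • x)

/-- the components of the map out of the cone of `g` defined by a chain map and a homotopy for `g`. -/
noncomputable def coneDescF (p : ℤ) : (mappingCone (g • 𝟙 A)).X p →ₗ[R] B.X p :=
  (μ (p + 1) p rfl).comp ((β.f (p + 1)).hom.comp (cfst (g • 𝟙 A) p (p + 1) rfl)) +
    (β.f p).hom.comp (csnd (g • 𝟙 A) p)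

theorem coneDescF_apply (p : ℤ) (x : (mappingCone (g • 𝟙 A)).X p) :
    coneDescF g β μ p x =
      μ (p + 1) p rfl ((β.f (p + 1)).hom (cfst (g • 𝟙 A) p (p + 1) rfl x)) +
        (β.f p).hom (csnd (g • 𝟙 A) p x) := rfl

include hμ in
theorem coneDescF_comm (i j : ℤ) (hij : i + 1 = j) (x : (mappingCone (g • 𝟙 A)).X i) :
    (B.d i j).hom (coneDescF g β μ i x) =
      coneDescF g β μ j (((mappingCone (g • 𝟙 A)).d i j).hom x) := by
  subst hij
  rw [coneDescF_apply, coneDescF_apply, map_add]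
  rw [cfst_d (g • 𝟙 A) i (i + 1) (i + 1 + 1) rfl rfl, csnd_d (g • 𝟙 A) i (i + 1) rfl]
  rw [smul_id_f_hom, map_add, map_neg, map_neg, map_smul]
  have h1 := hμ (i + 1) i (i + 1 + 1) rfl rfl ((β.f (i + 1)).hom (cfst (g • 𝟙 A) i (i + 1) rfl x))
  have h2 : ∀ (y : A.X i), (B.d i (i + 1)).hom ((β.f i).hom y) = (β.f (i + 1)).hom ((A.d i (i + 1)).hom y) :=
    fun y => congrArg (fun k => k.hom y) (β.comm i (i + 1))
  have h3 : ∀ (y : A.X (i + 1)), (B.d (i + 1) (i + 1 + 1)).hom ((β.f (i + 1)).hom y) =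
      (β.f (i + 1 + 1)).hom ((A.d (i + 1) (i + 1 + 1)).hom y) :=
    fun y => congrArg (fun k => k.hom y) (β.comm (i + 1) (i + 1 + 1))
  rw [h2, ← h3]
  rw [← h1]
  abel

include hμ in
/-- the map out of the cone of `g` defined by a chain map and a homotopy for `g`. -/
noncomputable def coneDesc : mappingCone (g • 𝟙 A) ⟶ B where
  f p := ModuleCat.ofHom (coneDescF g β μ p)
  comm' i j hij := by
    ext x
    exact coneDescF_comm g β μ hμ i j hij x

theorem coneDesc_f_hom (p : ℤ) (x : (mappingCone (g • 𝟙 A)).X p) :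
    ((coneDesc g β μ hμ).f p).hom x = coneDescF g β μ p x := rfl

end ConeDesc

variable (gl : List R)

/-- the unit map `R[0] ⟶ K(gl)`. -/
noncomputable def unitMap : K ([] : List R) ⟶ K gl :=
  HomologicalComplex.mkHomFromSingle
    (ModuleCat.ofHom (LinearMap.toSpanSingleton R ((K gl).X 0) (u gl)))
    (fun j _ => (Groth.Agent.Lib.Helper2.KosTor2.isZero_koszul_X gl j (by
      have : (0 : ℤ) + 1 = j := ‹_›
      omega)).eq_of_tgt _ _)

theorem unitMap_f_zero (x : (K ([] : List R)).X 0) :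
    ((unitMap gl).f 0).hom x = ε0 ([] : List R) x • u gl := by
  change ((HomologicalComplex.mkHomFromSingle
    (ModuleCat.ofHom (LinearMap.toSpanSingleton R ((K gl).X 0) (u gl))) _).f 0).hom x = _
  rw [HomologicalComplex.mkHomFromSingle_f]
  rfl

/-- the comparison map `K(rows · gl) ⟶ K(gl)`. -/
noncomputable def Λ : (rows : List (ℕ → R)) → (K (rows.map (dot gl)) ⟶ K gl)
  | [] => unitMap gl
  | v :: rows => coneDesc (dot gl v) (Λ rows) (m gl v) (m_homotopy gl v)

theorem Λ_cons_f_hom (v : ℕ → R) (rows : List (ℕ → R)) (p : ℤ)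
    (x : (K ((v :: rows).map (dot gl))).X p) :
    ((Λ gl (v :: rows)).f p).hom x =
      m gl v (p + 1) p rfl (((Λ gl rows).f (p + 1)).hom
          (cfst (dot gl v • 𝟙 (K (rows.map (dot gl)))) p (p + 1) rfl x)) +
        ((Λ gl rows).f p).hom (csnd (dot gl v • 𝟙 (K (rows.map (dot gl)))) p x) := rfl

/-- in degree `0` the comparison map is the identity in coordinates. -/
theorem ε0_Λ : ∀ (rows : List (ℕ → R)) (x : (K (rows.map (dot gl))).X 0),
    ε0 gl (((Λ gl rows).f 0).hom x) = ε0 (rows.map (dot gl)) x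
  | [], x => by
    change ε0 gl (((unitMap gl).f 0).hom x) = ε0 ([] : List R) x
    rw [unitMap_f_zero, map_smul, ε0_u, smul_eq_mul, mul_one]
  | v :: rows, x => by
    rw [Λ_cons_f_hom]
    have h1 := subsingleton_X_pos (rows.map (dot gl)) (0 + 1) (by norm_num)
    have h2 : cfst (dot gl v • 𝟙 (K (rows.map (dot gl)))) 0 (0 + 1) rfl x = 0 :=
      Subsingleton.elim _ _
    rw [h2, map_zero, map_zero, zero_add, ε0_Λ rows]
    rfl

/-- the value of the comparison map on the lowest generator. -/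
theorem Λ_cons_t (v : ℕ → R) (rows : List (ℕ → R)) (k : ℤ)
    (hk : k + (((v :: rows).map (dot gl)).length : ℤ) = 0)
    (hk' : k + 1 + ((rows.map (dot gl)).length : ℤ) = 0) :
    ((Λ gl (v :: rows)).f k).hom (t ((v :: rows).map (dot gl)) k hk) =
      m gl v (k + 1) k rfl (((Λ gl rows).f (k + 1)).hom (t (rows.map (dot gl)) (k + 1) hk')) := by
  rw [Λ_cons_f_hom]
  change m gl v (k + 1) k rfl (((Λ gl rows).f (k + 1)).hom
      (cfst (dot gl v • 𝟙 (K (rows.map (dot gl)))) k (k + 1) rfl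
        (cinl (dot gl v • 𝟙 (K (rows.map (dot gl)))) k (k + 1) rfl (t (rows.map (dot gl)) (k + 1) _)))) +
    ((Λ gl rows).f k).hom (csnd (dot gl v • 𝟙 (K (rows.map (dot gl)))) k
        (cinl (dot gl v • 𝟙 (K (rows.map (dot gl)))) k (k + 1) rfl (t (rows.map (dot gl)) (k + 1) _))) = _
  rw [cfst_cinl, csnd_cinl, map_zero, add_zero]

theorem Λ_nil_t : ((Λ gl []).f 0).hom (t ([] : List R) 0 (by simp)) = u gl := by
  change ((unitMap gl).f 0).hom (u ([] : List R)) = u gl
  rw [unitMap_f_zero, ε0_u, one_smul]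

end Groth.Agent.Lib.helper10.KosLambda
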