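import Mathlib
import Groth.Agent.Lib.helper10.KosLambda

/-!
# The top coefficient of the comparison map of Koszul complexes is the determinant
-/

set_option autoImplicit false
universe u
open CategoryTheory CategoryTheory.Limits CochainComplex HomComplex

namespace Groth.Agent.Lib.helper10.KosDet

open Groth.Agent.Lib.Helper5.KosLow Groth.Agent.Lib.helper10.KosOps
  Groth.Agent.Lib.helper10.KosLambda

variable {R : Type u} [CommRing R]

/-- all degrees of the Koszul complex at once -/
abbrev PiX (gl : List R) : Type u := ∀ p : ℤ, (K gl).X p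

variable (gl : List R)

/-- the operator `m gl v` on all degrees -/
noncomputable def M (v : ℕ → R) : PiX gl →ₗ[R] PiX gl where
  toFun x := fun q => m gl v (q + 1) q rfl (x (q + 1))
  map_add' x y := by
    funext q
    simp
  map_smul' c x := by
    funext q
    simp

theorem M_apply (v : ℕ → R) (x : PiX gl) (q : ℤ) : M gl v x q = m gl v (q + 1) q rfl (x (q + 1)) :=
  rfl

/-- `M` as a linear map in `v` -/
noncomputable def Mlin : (ℕ → R) →ₗ[R] Module.End R (PiX gl) where
  toFun v := M gl v
  map_add' v w := by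
    refine LinearMap.ext fun x => ?_
    funext q
    simp only [M_apply, LinearMap.add_apply, Pi.add_apply]
    exact m_add gl v w _ _ _ _
  map_smul' c v := by
    refine LinearMap.ext fun x => ?_
    funext q
    simp only [M_apply, LinearMap.smul_apply, Pi.smul_apply, RingHom.id_apply]
    exact m_smul gl c v _ _ _ _

theorem Mlin_sq (v : ℕ → R) : Mlin gl v * Mlin gl v = 0 := by
  refine LinearMap.ext fun x => ?_
  funext q
  change m gl v (q + 1) q rfl (m gl v (q + 1 + 1) (q + 1) rfl (x (q + 1 + 1))) = 0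
  exact m_sq gl v _ _ _ _ _ _

/-- the action of the exterior algebra -/
noncomputable def Φ : ExteriorAlgebra R (ℕ → R) →ₐ[R] Module.End R (PiX gl) :=
  ExteriorAlgebra.lift R ⟨Mlin gl, Mlin_sq gl⟩

theorem Φ_ι (v : ℕ → R) : Φ gl (ExteriorAlgebra.ι R v) = M gl v :=
  ExteriorAlgebra.lift_ι_apply R _ _ v

/-- iterated operators -/
noncomputable def iter (vs : List (ℕ → R)) (x : PiX gl) : PiX gl :=
  vs.foldr (fun v acc => M gl v acc) x

theorem iter_nil (x : PiX gl) : iter gl [] x = x := rfl

theorem iter_cons (v : ℕ → R) (vs : List (ℕ → R)) (x : PiX gl) :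
    iter gl (v :: vs) x = M gl v (iter gl vs x) := rfl

theorem Φ_prod (vs : List (ℕ → R)) (x : PiX gl) :
    Φ gl ((vs.map (ExteriorAlgebra.ι R)).prod) x = iter gl vs x := by
  induction vs with
  | nil => simp [iter_nil]
  | cons v vs ih =>
    rw [List.map_cons, List.prod_cons, map_mul, Module.End.mul_apply, ih, Φ_ι, iter_cons]

/-- the generator in degree zero, in all degrees -/
noncomputable def ut : PiX gl := Pi.single (M := fun p : ℤ => ((K gl).X p : Type u)) (0 : ℤ) (u gl)

theorem ut_zero : ut gl 0 = u gl := Pi.single_eq_same _ _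

theorem ut_ne (q : ℤ) (hq : q ≠ 0) : ut gl q = 0 := Pi.single_eq_of_ne hq _

/-- the comparison map on the lowest generator is an iterated operator applied to `ut`. -/
theorem Λ_t : ∀ (rows : List (ℕ → R)) (k : ℤ) (hk : k + ((rows.map (dot gl)).length : ℤ) = 0),
    ((Λ gl rows).f k).hom (t (rows.map (dot gl)) k hk) = iter gl rows (ut gl) k
  | [], k, hk => by
    have hk0 : k = 0 := by simpa using hk
    subst hk0
    rw [iter_nil, ut_zero]
    exact Λ_nil_t gl
  | v :: rows, k, hk => by
    have hk' : k + 1 + ((rows.map (dot gl)).length : ℤ) = 0 := by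
      simp only [List.map_cons, List.length_cons, Nat.cast_add, Nat.cast_one] at hk
      omega
    rw [Λ_cons_t gl v rows k hk hk', Λ_t rows (k + 1) hk', iter_cons, M_apply]

/-! ### the standard rows -/

/-- the indicator vectors -/
def δ (j : ℕ) : ℕ → R := Pi.single j 1

theorem δ_succ_zero (j : ℕ) : (δ (j + 1) : ℕ → R) 0 = 0 := by
  simp [δ]

theorem δ_succ_shift (j : ℕ) : (fun i => (δ (j + 1) : ℕ → R) (i + 1)) = δ j := by
  funext i
  simp only [δ, Pi.single_apply]
  by_cases h : i = j
  · simp [h]
  · simp [h]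

theorem δ_zero_zero : (δ 0 : ℕ → R) 0 = 1 := by simp [δ]

theorem δ_zero_shift : (fun i => (δ 0 : ℕ → R) (i + 1)) = 0 := by
  funext i
  simp [δ]

section Cons

variable (g : R) (l : List R)

/-- `cinr` in all degrees -/
noncomputable def Rt (x : PiX l) : PiX (g :: l) := fun q => cinr (g • 𝟙 (K l)) q (x q)

/-- `cinl` in all degrees -/
noncomputable def Lt (x : PiX l) : PiX (g :: l) :=
  fun q => cinl (g • 𝟙 (K l)) q (q + 1) rfl (x (q + 1))

theorem M_Rt (v : ℕ → R) (x : PiX l) :
    M (g :: l) v (Rt g l x) = v 0 • Lt g l x + Rt g l (M l (fun i => v (i + 1)) x) := by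
  funext q
  change coneOp g (m l (fun i => v (i + 1))) (v 0) (q + 1) q rfl
      (cinr (g • 𝟙 (K l)) (q + 1) (x (q + 1))) =
    v 0 • cinl (g • 𝟙 (K l)) q (q + 1) rfl (x (q + 1)) +
      cinr (g • 𝟙 (K l)) q (m l (fun i => v (i + 1)) (q + 1) q rfl (x (q + 1)))
  rw [coneOp_apply, csnd_cinr, cfst_cinr, map_zero, sub_zero, map_smul]

theorem ut_cons : ut (g :: l) = Rt g l (ut l) := by
  funext q
  change ut (g :: l) q = cinr (g • 𝟙 (K l)) q (ut l q)
  by_cases hq : q = 0
  · subst hq
    rw [ut_zero, ut_zero]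
    rfl
  · rw [ut_ne _ q hq, ut_ne _ q hq]
    exact (map_zero _).symm

theorem iter_shift (ws : List ℕ) (x : PiX l) :
    iter (g :: l) (ws.map (fun j => δ (j + 1))) (Rt g l x) = Rt g l (iter l (ws.map δ) x) := by
  induction ws with
  | nil => rfl
  | cons j ws ih =>
    rw [List.map_cons, List.map_cons, iter_cons, iter_cons, ih, M_Rt, δ_succ_zero, zero_smul,
      zero_add, δ_succ_shift]

end Cons

theorem M_zero (x : PiX gl) : M gl (0 : ℕ → R) x = 0 := by
  funext q
  exact m_zero gl _ _ _ _

/-- the iterated standard operators produce the lowest generator. -/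
theorem iter_std : ∀ (gl : List R) (k : ℤ) (hk : k + (gl.length : ℤ) = 0),
    iter gl ((List.range gl.length).map δ) (ut gl) k = t gl k hk
  | [], k, hk => by
    have hk0 : k = 0 := by simpa using hk
    subst hk0
    change ut ([] : List R) 0 = _
    rw [ut_zero]
    rfl
  | g :: l, k, hk => by
    have hk' : k + 1 + (l.length : ℤ) = 0 := by
      simp only [List.length_cons, Nat.cast_add, Nat.cast_one] at hk
      omega
    have hr : (List.range (g :: l).length).map (δ : ℕ → ℕ → R) =
        δ 0 :: (List.range l.length).map (fun j => δ (j + 1)) := by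
      rw [List.length_cons, List.range_succ_eq_map, List.map_cons, List.map_map]
      rfl
    rw [hr, iter_cons, ut_cons, iter_shift, M_Rt, δ_zero_zero, one_smul, δ_zero_shift, M_zero]
    change cinl (g • 𝟙 (K l)) k (k + 1) rfl (iter l ((List.range l.length).map δ) (ut l) (k + 1)) +
      cinr (g • 𝟙 (K l)) k 0 = _
    rw [map_zero, add_zero, iter_std l (k + 1) hk']
    rfl

/-! ### the determinant -/

/-- extension of a finite vector by zero -/
def ext (N : ℕ) : (Fin N → R) →ₗ[R] (ℕ → R) where
  toFun w := fun i => if h : i < N then w ⟨i, h⟩ else 0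
  map_add' w w' := by
    funext i
    by_cases h : i < N <;> simp [h]
  map_smul' c w := by
    funext i
    by_cases h : i < N <;> simp [h]

theorem ext_apply (N : ℕ) (w : Fin N → R) (i : ℕ) :
    ext N w i = if h : i < N then w ⟨i, h⟩ else 0 := rfl

theorem ext_single (N : ℕ) (j : Fin N) : ext N (Pi.single j (1 : R)) = δ (j : ℕ) := by
  funext i
  rw [ext_apply]
  simp only [δ, Pi.single_apply]
  by_cases h : i < N
  · rw [dif_pos h]
    by_cases h2 : i = (j : ℕ)
    · have : (⟨i, h⟩ : Fin N) = j := Fin.ext h2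
      simp [h2]
    · have : (⟨i, h⟩ : Fin N) ≠ j := fun e => h2 (congrArg Fin.val e)
      simp [h2, this]
  · rw [dif_neg h]
    have : i ≠ (j : ℕ) := fun e => h (e ▸ j.2)
    simp [this]

/-- the lowest coordinate -/
noncomputable def topc (N : ℕ) (hN : gl.length = N) : PiX gl →ₗ[R] R :=
  (τ gl (-(N : ℤ)) (by rw [hN]; omega)).comp (LinearMap.proj (-(N : ℤ)))

/-- the functional on the exterior algebra -/
noncomputable def ell (N : ℕ) (hN : gl.length = N) : ExteriorAlgebra R (ℕ → R) →ₗ[R] R :=
  (topc gl N hN).comp ((LinearMap.applyₗ (ut gl)).comp (Φ gl).toLinearMap)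

theorem ell_apply (N : ℕ) (hN : gl.length = N) (a : ExteriorAlgebra R (ℕ → R)) :
    ell gl N hN a = topc gl N hN (Φ gl a (ut gl)) := rfl

/-- the alternating map whose value on the rows of a matrix is the top coefficient -/
noncomputable def F (N : ℕ) (hN : gl.length = N) : (Fin N → R) [⋀^Fin N]→ₗ[R] R :=
  ((ell gl N hN).compAlternatingMap (ExteriorAlgebra.ιMulti R N)).compLinearMap (ext N)

theorem F_apply (N : ℕ) (hN : gl.length = N) (rows : Fin N → (Fin N → R)) :
    F gl N hN rows = topc gl N hN (iter gl (List.ofFn fun i => ext N (rows i)) (ut gl)) := by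
  change ell gl N hN (ExteriorAlgebra.ιMulti R N (fun i => ext N (rows i))) = _
  rw [ell_apply, ExteriorAlgebra.ιMulti_apply, ← Φ_prod, List.map_ofFn]
  rfl

theorem F_std (N : ℕ) (hN : gl.length = N) : F gl N hN (Pi.basisFun R (Fin N)) = 1 := by
  subst hN
  rw [F_apply]
  have h1 : (List.ofFn fun i : Fin gl.length => ext gl.length (Pi.basisFun R (Fin gl.length) i)) =
      (List.range gl.length).map (δ : ℕ → ℕ → R) := by
    refine List.ext_getElem (by simp) (fun i h1 h2 => ?_)
    rw [List.getElem_ofFn, List.getElem_map, List.getElem_range, Pi.basisFun_apply, ext_single]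
  rw [h1]
  change τ gl (-(gl.length : ℤ)) _ (iter gl ((List.range gl.length).map δ) (ut gl) (-(gl.length : ℤ))) = 1
  rw [iter_std gl (-(gl.length : ℤ)) (by omega), τ_t]

theorem F_eq_det (N : ℕ) (hN : gl.length = N) (C : Matrix (Fin N) (Fin N) R) :
    F gl N hN (fun i => C i) = C.det := by
  have h := (F gl N hN).eq_smul_basis_det (Pi.basisFun R (Fin N))
  rw [h, AlternatingMap.smul_apply, F_std, one_smul, Pi.basisFun_det_apply]
  rfl

/-- **The top coefficient of the comparison map is the determinant.** -/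
theorem τ_Λ_eq_det (N : ℕ) (hN : gl.length = N) (C : Matrix (Fin N) (Fin N) R) (k : ℤ)
    (hk : k + (((List.ofFn fun i => ext N (C i)).map (dot gl)).length : ℤ) = 0)
    (hk' : k + (gl.length : ℤ) = 0) :
    τ gl k hk' (((Λ gl (List.ofFn fun i => ext N (C i))).f k).hom
      (t ((List.ofFn fun i => ext N (C i)).map (dot gl)) k hk)) = C.det := by
  rw [Λ_t, ← F_eq_det gl N hN C, F_apply]
  have hkN : k = -(N : ℤ) := by rw [← hN]; omega
  subst hkN
  rfl

end Groth.Agent.Lib.helper10.KosDet
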