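import Mathlib.RingTheory.Derivation.Basic
import Mathlib.Data.Nat.Choose.Sum
import Mathlib.Algebra.Polynomial.Derivative
import Mathlib.Algebra.Polynomial.Inductions
import Mathlib.Algebra.Polynomial.Eval.Degree
import Mathlib.Algebra.Polynomial.AlgebraMap
import Mathlib.RingTheory.Ideal.Quotient.Operations
import Mathlib.Algebra.Algebra.Rat
import Mathlib.Algebra.Module.Rat
import Mathlib.Tactic.FieldSimp
import Mathlib.Tactic.Linarith
import Mathlib.Tactic.LinearCombination

set_option maxHeartbeats 400000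
set_option autoImplicit false
universe u

namespace Groth.Agent.Lib.helper10.LNDSlice

open Polynomial Finset

variable {A : Type u} [CommRing A] [Algebra ℚ A] (D : Derivation ℚ A A)

/-- general Leibniz rule -/
theorem iterate_mul (n : ℕ) (x y : A) :
    D^[n] (x * y) = ∑ ij ∈ antidiagonal n, n.choose ij.1 • (D^[ij.1] x * D^[ij.2] y) := by
  induction n with
  | zero => simp
  | succ n ih =>
    rw [sum_antidiagonal_choose_succ_nsmul (M := A) (fun i j => D^[i] x * D^[j] y) n]
    simp only [Function.iterate_succ_apply', ih, map_sum, map_nsmul, Derivation.leibniz, smul_add,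
      sum_add_distrib, smul_eq_mul]
    congr 1
    refine sum_congr rfl fun ⟨i, j⟩ hij => ?_
    rw [n.choose_symm_of_eq_add (mem_antidiagonal.1 hij).symm, mul_comm]

/-- divided iterate -/
noncomputable def e (n : ℕ) (x : A) : A := ((n.factorial : ℚ)⁻¹) • D^[n] x

lemma iterate_eq_zero_of_le {x : A} {N n : ℕ} (h : D^[N] x = 0) (hn : N ≤ n) : D^[n] x = 0 := by
  obtain ⟨k, rfl⟩ := Nat.exists_eq_add_of_le hn
  rw [add_comm, Function.iterate_add_apply, h]
  exact iterate_map_zero D k

lemma e_mul (n : ℕ) (x y : A) :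
    e D n (x * y) = ∑ ij ∈ antidiagonal n, e D ij.1 x * e D ij.2 y := by
  rw [e, iterate_mul, smul_sum]
  refine sum_congr rfl fun ⟨i, j⟩ hij => ?_
  rw [mem_antidiagonal] at hij
  simp only at hij ⊢
  subst hij
  rw [e, e, smul_mul_smul_comm, ← Nat.cast_smul_eq_nsmul ℚ, smul_smul]
  congr 1
  have h := Nat.add_choose_mul_factorial_mul_factorial i j
  rw [← Nat.choose_symm_add] at h
  have h' : (((i + j).choose i : ℚ)) * (i.factorial : ℚ) * (j.factorial : ℚ) =
      ((i + j).factorial : ℚ) := by exact_mod_cast h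
  have hi : (i.factorial : ℚ) ≠ 0 := by exact_mod_cast i.factorial_ne_zero
  have hj : (j.factorial : ℚ) ≠ 0 := by exact_mod_cast j.factorial_ne_zero
  have hij : ((i + j).factorial : ℚ) ≠ 0 := by exact_mod_cast (i + j).factorial_ne_zero
  field_simp
  linarith [h']


lemma e_zero_apply (x : A) : e D 0 x = x := by simp [e]

lemma e_of_D_eq_zero {x : A} (hx : D x = 0) {n : ℕ} (hn : n ≠ 0) : e D n x = 0 := by
  obtain ⟨k, rfl⟩ := Nat.exists_eq_succ_of_ne_zero hn
  rw [e, Function.iterate_succ_apply, hx, iterate_map_zero, smul_zero]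

lemma e_D (n : ℕ) (x : A) : e D n (D x) = ((n + 1 : ℕ) : ℚ) • e D (n + 1) x := by
  rw [e, e, smul_smul, ← Function.iterate_succ_apply]
  congr 1
  rw [Nat.factorial_succ]
  have hn : ((n + 1 : ℕ) : ℚ) ≠ 0 := by exact_mod_cast Nat.succ_ne_zero n
  have hf : (n.factorial : ℚ) ≠ 0 := by exact_mod_cast n.factorial_ne_zero
  push_cast
  field_simp

lemma D_e (n : ℕ) (x : A) : D (e D n x) = e D n (D x) := by
  rw [e, e, D.map_smul, ← Function.iterate_succ_apply, Function.iterate_succ_apply']

variable (hnil : ∀ x : A, ∃ n : ℕ, D^[n] x = 0)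

noncomputable def Epoly (x : A) : A[X] :=
  ∑ n ∈ range (Classical.choose (hnil x)), monomial n (e D n x)

lemma coeff_Epoly (x : A) (n : ℕ) : (Epoly D hnil x).coeff n = e D n x := by
  rw [Epoly, finsetSum_coeff]
  simp only [coeff_monomial]
  rw [Finset.sum_ite_eq' (range _) n]
  split_ifs with h
  · rfl
  · rw [e, iterate_eq_zero_of_le D (Classical.choose_spec (hnil x)) (by simpa using h), smul_zero]

noncomputable def E : A →+* A[X] where
  toFun := Epoly D hnil
  map_one' := by
    ext n
    rw [coeff_Epoly, coeff_one]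
    split_ifs with h
    · subst h; exact e_zero_apply D 1
    · exact e_of_D_eq_zero D (Derivation.map_one_eq_zero D) h
  map_mul' x y := by
    ext n
    rw [coeff_Epoly, coeff_mul, e_mul]
    simp only [coeff_Epoly]
  map_zero' := by
    ext n
    rw [coeff_Epoly, coeff_zero, e, iterate_map_zero, smul_zero]
  map_add' x y := by
    ext n
    rw [coeff_add, coeff_Epoly, coeff_Epoly, coeff_Epoly, e, e, e, iterate_map_add, smul_add]

@[simp] lemma coeff_E (x : A) (n : ℕ) : (E D hnil x).coeff n = e D n x := coeff_Epoly D hnil x n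

lemma E_eq_sum (x : A) (N : ℕ) (h : D^[N] x = 0) :
    E D hnil x = ∑ n ∈ range N, monomial n (e D n x) := by
  ext n
  rw [coeff_E, finsetSum_coeff]
  simp only [coeff_monomial]
  rw [Finset.sum_ite_eq' (range _) n]
  split_ifs with hn
  · rfl
  · rw [e, iterate_eq_zero_of_le D h (by simpa using hn), smul_zero]

lemma E_of_D_eq_zero {x : A} (hx : D x = 0) : E D hnil x = C x := by
  ext n
  rw [coeff_E, coeff_C]
  split_ifs with h
  · subst h; exact e_zero_apply D x
  · exact e_of_D_eq_zero D hx h

lemma derivative_E (x : A) : derivative (E D hnil x) = E D hnil (D x) := by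
  ext n
  rw [coeff_derivative, coeff_E, coeff_E, e_D, Nat.cast_smul_eq_nsmul, nsmul_eq_mul, mul_comm]
  push_cast
  rfl


omit [Algebra ℚ A] in
lemma D_eval {R : Type*} [CommSemiring R] [Algebra R A] (D : Derivation R A A)
    (p q : A[X]) (b : A) (h : ∀ n, q.coeff n = D (p.coeff n)) :
    D (p.eval b) = q.eval b + (derivative p).eval b * D b := by
  have hpM : p.natDegree < max p.natDegree q.natDegree + 1 := by omega
  have hqM : q.natDegree < max p.natDegree q.natDegree + 1 := by omega
  rw [eval_eq_sum_range' hpM, eval_eq_sum_range' hqM, derivative_eval,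
    sum_over_range' _ (by simp) _ hpM, map_sum, sum_mul, ← sum_add_distrib]
  refine sum_congr rfl fun n _ => ?_
  rw [D.leibniz, D.leibniz_pow, h n]
  simp only [smul_eq_mul, nsmul_eq_mul]
  ring


section slice
variable (a : A) (ha : D a = 1)

noncomputable def pi : A →+* A := (evalRingHom (-a)).comp (E D hnil)

lemma pi_apply (x : A) : pi D hnil a x = (E D hnil x).eval (-a) := rfl

include ha in
lemma D_pi (x : A) : D (pi D hnil a x) = 0 := by
  rw [pi_apply, D_eval D (E D hnil x) (E D hnil (D x)) (-a)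
    (fun n => by rw [coeff_E, coeff_E, D_e]), derivative_E, map_neg, ha]
  ring

lemma pi_of_D_eq_zero {x : A} (hx : D x = 0) : pi D hnil a x = x := by
  rw [pi_apply, E_of_D_eq_zero D hnil hx, eval_C]

include ha in
lemma E_a : E D hnil a = C a + X := by
  ext n
  rw [coeff_E, coeff_add, coeff_C, coeff_X]
  rcases n with _ | _ | n
  · simp [e]
  · simp [e, ha]
  · have : D^[n + 1 + 1] a = 0 := by
      rw [Function.iterate_succ_apply, ha, Function.iterate_succ_apply,
        Derivation.map_one_eq_zero, iterate_map_zero]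
    rw [e, this, smul_zero]
    simp

include ha in
lemma pi_a : pi D hnil a a = 0 := by
  rw [pi_apply, E_a D hnil a ha, eval_add, eval_C, eval_X]
  ring

lemma pi_sub_mem (x : A) : pi D hnil a x - x ∈ Ideal.span ({a} : Set A) := by
  rw [pi_apply]
  have h := divX_mul_X_add (E D hnil x)
  have h2 : (E D hnil x).eval (-a) = (divX (E D hnil x)).eval (-a) * (-a) + x := by
    conv_lhs => rw [← h]
    rw [eval_add, eval_mul, eval_X, eval_C, coeff_E, e_zero_apply]
  rw [h2, add_sub_cancel_right]
  exact Ideal.mul_mem_left _ _ (by rw [Ideal.mem_span_singleton]; exact (dvd_neg.mpr dvd_rfl))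

noncomputable def piBar : A ⧸ Ideal.span ({a} : Set A) →+* A :=
  Ideal.Quotient.lift _ (pi D hnil a) (fun x hx => by
    obtain ⟨c, rfl⟩ := Ideal.mem_span_singleton.mp hx
    rw [map_mul, pi_a D hnil a ha, zero_mul])

@[simp] lemma piBar_mk (x : A) :
    piBar D hnil a ha (Ideal.Quotient.mk _ x) = pi D hnil a x := rfl

noncomputable def chi0 : A →+* (A ⧸ Ideal.span ({a} : Set A))[X] :=
  (mapRingHom (Ideal.Quotient.mk _)).comp (E D hnil)

noncomputable def psi0 : (A ⧸ Ideal.span ({a} : Set A))[X] →+* A :=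
  eval₂RingHom (piBar D hnil a ha) a

lemma psi0_chi0_apply (x : A) :
    psi0 D hnil a ha (chi0 D hnil a x) = eval₂ (pi D hnil a) a (E D hnil x) := by
  simp only [psi0, chi0, RingHom.comp_apply, coe_mapRingHom, coe_eval₂RingHom, eval₂_map]
  congr 1

include ha in
lemma D_eval₂_pi (p : A[X]) :
    D (eval₂ (pi D hnil a) a p) = eval₂ (pi D hnil a) a (derivative p) := by
  rw [← eval_map, D_eval D (p.map (pi D hnil a)) 0 a
    (fun n => by rw [coeff_zero, coeff_map, D_pi D hnil a ha]), eval_zero, zero_add, ha, mul_one,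
    derivative_map, eval_map]

include ha in
theorem taylor (N : ℕ) : ∀ x : A, D^[N] x = 0 →
    eval₂ (pi D hnil a) a (E D hnil x) = x := by
  induction N with
  | zero =>
    intro x hx
    rw [Function.iterate_zero, id] at hx
    rw [hx, map_zero, eval₂_zero]
  | succ N ih =>
    intro x hx
    have h1 : eval₂ (pi D hnil a) a (E D hnil (D x)) = D x :=
      ih (D x) (by rw [← Function.iterate_succ_apply]; exact hx)
    set y := eval₂ (pi D hnil a) a (E D hnil x) - x with hy
    have hDy : D y = 0 := by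
      rw [hy, map_sub, D_eval₂_pi D hnil a ha, derivative_E, h1, sub_self]
    have hpy : pi D hnil a y = y := pi_of_D_eq_zero D hnil a hDy
    have hpy0 : pi D hnil a y = 0 := by
      rw [hy, map_sub, Polynomial.hom_eval₂, pi_a D hnil a ha, eval₂_at_zero, coeff_E,
        e_zero_apply, RingHom.comp_apply,
        pi_of_D_eq_zero D hnil a (D_pi D hnil a ha x), sub_self]
    have : y = 0 := hpy ▸ hpy0
    rw [hy, sub_eq_zero] at this
    exact this

include ha in
lemma chi0_psi0 : (chi0 D hnil a).comp (psi0 D hnil a ha) = RingHom.id _ := by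
  apply Polynomial.ringHom_ext
  · intro c
    obtain ⟨x, rfl⟩ := Ideal.Quotient.mk_surjective c
    simp only [RingHom.comp_apply, psi0, coe_eval₂RingHom, eval₂_C, piBar_mk, RingHom.id_apply,
      chi0, coe_mapRingHom]
    rw [E_of_D_eq_zero D hnil (D_pi D hnil a ha x), map_C]
    congr 1
    rw [Ideal.Quotient.eq]
    exact pi_sub_mem D hnil a x
  · simp only [RingHom.comp_apply, psi0, coe_eval₂RingHom, eval₂_X, RingHom.id_apply, chi0,
      coe_mapRingHom]
    rw [E_a D hnil a ha, Polynomial.map_add, map_C, map_X,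
      Ideal.Quotient.eq_zero_iff_mem.mpr (Ideal.mem_span_singleton_self a), C_0, zero_add]

include ha in
lemma psi0_chi0 : (psi0 D hnil a ha).comp (chi0 D hnil a) = RingHom.id _ := by
  ext x
  rw [RingHom.comp_apply, psi0_chi0_apply, RingHom.id_apply]
  obtain ⟨N, hN⟩ := hnil x
  exact taylor D hnil a ha N x hN

noncomputable def chi : A ≃+* (A ⧸ Ideal.span ({a} : Set A))[X] :=
  RingEquiv.ofRingHom (chi0 D hnil a) (psi0 D hnil a ha) (chi0_psi0 D hnil a ha)
    (psi0_chi0 D hnil a ha)

lemma chi_apply (x : A) : chi D hnil a ha x = (E D hnil x).map (Ideal.Quotient.mk _) := rfl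

lemma chi_symm_apply (p : (A ⧸ Ideal.span ({a} : Set A))[X]) :
    (chi D hnil a ha).symm p = eval₂ (piBar D hnil a ha) a p := rfl

theorem chi_formula (x : A) (N : ℕ) (h : D^[N] x = 0) :
    chi D hnil a ha x = ∑ n ∈ Finset.range N,
      ((n.factorial : ℚ)⁻¹ • C (Ideal.Quotient.mk (Ideal.span ({a} : Set A)) (D^[n] x))) * X ^ n := by
  rw [chi_apply, E_eq_sum D hnil x N h, Polynomial.map_sum]
  refine sum_congr rfl fun n _ => ?_
  rw [map_monomial, ← C_mul_X_pow_eq_monomial, e, map_rat_smul, ← smul_C]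

theorem chi_symm_X : (chi D hnil a ha).symm X = a := by
  rw [chi_symm_apply, eval₂_X]

theorem chi_symm_C (x : A) (N : ℕ) (h : D^[N] x = 0) :
    (chi D hnil a ha).symm (C (Ideal.Quotient.mk (Ideal.span ({a} : Set A)) x)) =
      ∑ n ∈ Finset.range N,
        (((-1 : ℚ) ^ n * (n.factorial : ℚ)⁻¹) • (D^[n] x * a ^ n)) := by
  rw [chi_symm_apply, eval₂_C, piBar_mk, pi_apply, E_eq_sum D hnil x N h, eval_finsetSum]
  refine sum_congr rfl fun n _ => ?_
  rw [eval_monomial, e, neg_pow, mul_smul, Algebra.smul_def ((-1 : ℚ) ^ n), map_pow, map_neg,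
    map_one, smul_mul_assoc, mul_smul_comm]
  congr 1
  ring

theorem chi_D (p : (A ⧸ Ideal.span ({a} : Set A))[X]) :
    chi D hnil a ha (D ((chi D hnil a ha).symm p)) = derivative p := by
  obtain ⟨y, rfl⟩ := (chi D hnil a ha).surjective p
  rw [RingEquiv.symm_apply_apply, chi_apply, chi_apply, derivative_map, derivative_E]

end slice

end Groth.Agent.Lib.helper10.LNDSlice
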