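import Mathlib

set_option autoImplicit false

/-!
# S17517, part A: existence of the maximum, uniqueness of the maximizing ray,
orthogonality of the minimal-norm point to the active face.
-/

namespace Groth.Agent.Lib.helper10.LatMax

open Finset Filter Topology
open scoped InnerProductSpace

variable {E : Type*} [NormedAddCommGroup E] [InnerProductSpace ℝ E]

/-- minimum of a finite nonempty set of functionals -/
noncomputable abbrev mn (G : Finset (Module.Dual ℝ E)) (hG : G.Nonempty) (v : E) : ℝ :=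
  G.inf' hG (fun g => g v)

section basic

variable (G : Finset (Module.Dual ℝ E)) (hG : G.Nonempty)

lemma mn_le {g : Module.Dual ℝ E} (hg : g ∈ G) (v : E) : mn G hG v ≤ g v :=
  Finset.inf'_le (fun g => g v) hg

lemma le_mn_iff (a : ℝ) (v : E) : a ≤ mn G hG v ↔ ∀ g ∈ G, a ≤ g v :=
  Finset.le_inf'_iff hG _

lemma exists_mn_eq (v : E) : ∃ g ∈ G, mn G hG v = g v :=
  Finset.exists_mem_eq_inf' hG _

lemma mn_smul {t : ℝ} (ht : 0 ≤ t) (v : E) : mn G hG (t • v) = t * mn G hG v := by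
  apply le_antisymm
  · obtain ⟨g, hg, hgv⟩ := exists_mn_eq G hG v
    calc mn G hG (t • v) ≤ g (t • v) := mn_le G hG hg _
      _ = t * mn G hG v := by rw [map_smul, smul_eq_mul, hgv]
  · rw [le_mn_iff]
    intro g hg
    rw [map_smul, smul_eq_mul]
    exact mul_le_mul_of_nonneg_left (mn_le G hG hg v) ht

lemma mn_add (u w : E) : mn G hG u + mn G hG w ≤ mn G hG (u + w) := by
  rw [le_mn_iff]
  intro g hg
  rw [map_add]
  exact add_le_add (mn_le G hG hg u) (mn_le G hG hg w)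

lemma mn_zero : mn G hG (0 : E) = 0 := by
  have := mn_smul G hG (le_refl (0 : ℝ)) (0 : E)
  simpa using this

variable [FiniteDimensional ℝ E]

lemma continuous_mn : Continuous (mn G hG) := by
  refine continuous_iff_continuousAt.2 fun x => ?_
  exact ContinuousAt.finset_inf'_apply hG
    (fun g _ => (LinearMap.continuous_of_finiteDimensional (g : E →ₗ[ℝ] ℝ)).continuousAt)

end basic

variable [FiniteDimensional ℝ E]
variable (F G : Finset (Module.Dual ℝ E)) (hG : G.Nonempty)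

/-- existence of a maximizing unit vector -/
theorem exists_max (hpos : ∃ v : E, (∀ f ∈ F, 0 ≤ f v) ∧ 0 < mn G hG v) :
    ∃ u : E, ‖u‖ = 1 ∧ (∀ f ∈ F, 0 ≤ f u) ∧ 0 < mn G hG u ∧
      ∀ v : E, v ≠ 0 → (∀ f ∈ F, 0 ≤ f v) → mn G hG v / ‖v‖ ≤ mn G hG u := by
  obtain ⟨v₁, hv₁F, hv₁G⟩ := hpos
  have hv₁0 : v₁ ≠ 0 := by
    rintro rfl
    rw [mn_zero] at hv₁G
    exact lt_irrefl _ hv₁G
  -- the compact set
  set S : Set E := Metric.sphere (0 : E) 1 ∩ ⋂ f ∈ F, {v | 0 ≤ (f : Module.Dual ℝ E) v} with hS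
  have hSc : IsCompact S := by
    refine (isCompact_sphere (0 : E) 1).inter_right ?_
    refine isClosed_biInter fun f _ => ?_
    exact isClosed_le continuous_const
      (LinearMap.continuous_of_finiteDimensional (f : E →ₗ[ℝ] ℝ))
  have hmemS : ∀ v : E, v ∈ S ↔ ‖v‖ = 1 ∧ ∀ f ∈ F, 0 ≤ f v := by
    intro v
    simp [hS]
  have hscale : ∀ v : E, v ≠ 0 → (∀ f ∈ F, 0 ≤ f v) → (‖v‖⁻¹ • v) ∈ S := by
    intro v hv hvF
    rw [hmemS]
    refine ⟨?_, fun f hf => ?_⟩
    · rw [norm_smul, norm_inv, norm_norm, inv_mul_cancel₀ (norm_ne_zero_iff.2 hv)]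
    · rw [map_smul, smul_eq_mul]
      exact mul_nonneg (inv_nonneg.2 (norm_nonneg _)) (hvF f hf)
  have hSne : S.Nonempty := ⟨_, hscale v₁ hv₁0 hv₁F⟩
  obtain ⟨u, huS, humax⟩ := hSc.exists_isMaxOn hSne (continuous_mn G hG).continuousOn
  rw [hmemS] at huS
  have hkey : ∀ v : E, v ≠ 0 → (∀ f ∈ F, 0 ≤ f v) → mn G hG v / ‖v‖ ≤ mn G hG u := by
    intro v hv hvF
    have h1 : mn G hG (‖v‖⁻¹ • v) ≤ mn G hG u := humax (hscale v hv hvF)
    rw [mn_smul G hG (inv_nonneg.2 (norm_nonneg v)) v] at h1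
    rw [div_eq_inv_mul]
    exact h1
  refine ⟨u, huS.1, huS.2, ?_, hkey⟩
  have h3 := hkey v₁ hv₁0 hv₁F
  have : 0 < mn G hG v₁ / ‖v₁‖ := div_pos hv₁G (norm_pos_iff.2 hv₁0)
  linarith

/-- uniqueness of the maximizing ray -/
theorem unique_dir (u : E) (hu1 : ‖u‖ = 1) (huF : ∀ f ∈ F, 0 ≤ f u) (huG : 0 < mn G hG u)
    (hmax : ∀ v : E, v ≠ 0 → (∀ f ∈ F, 0 ≤ f v) → mn G hG v / ‖v‖ ≤ mn G hG u)
    (v : E) (hv0 : v ≠ 0) (hvF : ∀ f ∈ F, 0 ≤ f v) (hvM : mn G hG v / ‖v‖ = mn G hG u) :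
    v = ‖v‖ • u := by
  set M := mn G hG u with hM
  have hnv : 0 < ‖v‖ := norm_pos_iff.2 hv0
  set v' : E := ‖v‖⁻¹ • v with hv'
  have hv'1 : ‖v'‖ = 1 := by
    rw [hv', norm_smul, norm_inv, norm_norm, inv_mul_cancel₀ hnv.ne']
  have hv'F : ∀ f ∈ F, 0 ≤ f v' := by
    intro f hf
    rw [hv', map_smul, smul_eq_mul]
    exact mul_nonneg (inv_nonneg.2 hnv.le) (hvF f hf)
  have hv'G : mn G hG v' = M := by
    rw [hv', mn_smul G hG (inv_nonneg.2 hnv.le), ← div_eq_inv_mul, hvM]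
  suffices h : v' = u by
    rw [← h, hv', smul_smul, mul_inv_cancel₀ hnv.ne', one_smul]
  by_contra hne
  have hray : ¬ SameRay ℝ v' u := by
    intro h
    exact hne ((sameRay_iff_of_norm_eq (hv'1.trans hu1.symm)).1 h)
  have hlt : ‖v' + u‖ < 2 := by
    have := norm_add_lt_of_not_sameRay hray
    rw [hv'1, hu1] at this
    linarith
  have hge : 2 * M ≤ mn G hG (v' + u) := by
    have := mn_add G hG v' u
    rw [hv'G] at this
    linarith
  have hz0 : v' + u ≠ 0 := by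
    intro h0
    rw [h0, mn_zero] at hge
    linarith
  have hzF : ∀ f ∈ F, 0 ≤ f (v' + u) := by
    intro f hf
    rw [map_add]
    exact add_nonneg (hv'F f hf) (huF f hf)
  have h4 := hmax _ hz0 hzF
  rw [div_le_iff₀ (norm_pos_iff.2 hz0)] at h4
  nlinarith

open scoped Classical in
theorem exists_active_aux (w : E) (hwG : mn G hG w = 1) (hwF : ∀ f ∈ F, 0 ≤ f w)
    (hmin : ∀ v : E, (∀ g ∈ G, 1 ≤ g v) → (∀ f ∈ F, 0 ≤ f v) → ‖w‖ ≤ ‖v‖) :
    ∃ (I : Finset (Module.Dual ℝ E)) (lam : Module.Dual ℝ E → ℝ),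
      I ⊆ G ∪ F ∧ (∀ a ∈ I, a w = 0 ∨ a w = 1) ∧
      ∀ d : E, ⟪w, d⟫_ℝ = ∑ a ∈ I, lam a * a d := by
  classical
  set IG := G.filter (fun g => g w = 1) with hIG
  set IF := F.filter (fun f => f w = 0) with hIF
  refine ⟨IG ∪ IF, ?_⟩
  -- orthogonality
  have horth : ∀ d : E, (∀ a ∈ IG ∪ IF, a d = 0) → ⟪w, d⟫_ℝ = 0 := by
    intro d hd
    -- for t near 0, w + t d is feasible
    have hev : ∀ᶠ t : ℝ in 𝓝 0, (∀ g ∈ G, 1 ≤ g (w + t • d)) ∧ (∀ f ∈ F, 0 ≤ f (w + t • d)) := by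
      have h1 : ∀ g ∈ G, ∀ᶠ t : ℝ in 𝓝 0, 1 ≤ g (w + t • d) := by
        intro g hg
        by_cases hact : g w = 1
        · have : g d = 0 := hd g (Finset.mem_union_left _ (Finset.mem_filter.2 ⟨hg, hact⟩))
          refine Filter.Eventually.of_forall fun t => ?_
          rw [map_add, map_smul, this, smul_zero, add_zero, hact]
        · have hgt : 1 < g w := lt_of_le_of_ne (by rw [← hwG]; exact mn_le G hG hg w)
            (Ne.symm hact)
          have hc : Continuous fun t : ℝ => g (w + t • d) := by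
            simp only [map_add, map_smul, smul_eq_mul]
            fun_prop
          have h0 : (1 : ℝ) < (fun t : ℝ => g (w + t • d)) 0 := by simpa using hgt
          exact (hc.continuousAt.eventually (lt_mem_nhds h0)).mono fun t ht => ht.le
      have h2 : ∀ f ∈ F, ∀ᶠ t : ℝ in 𝓝 0, 0 ≤ f (w + t • d) := by
        intro f hf
        by_cases hact : f w = 0
        · have : f d = 0 := hd f (Finset.mem_union_right _ (Finset.mem_filter.2 ⟨hf, hact⟩))
          refine Filter.Eventually.of_forall fun t => ?_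
          rw [map_add, map_smul, this, smul_zero, add_zero, hact]
        · have hgt : 0 < f w := lt_of_le_of_ne (hwF f hf) (Ne.symm hact)
          have hc : Continuous fun t : ℝ => f (w + t • d) := by
            simp only [map_add, map_smul, smul_eq_mul]
            fun_prop
          have h0 : (0 : ℝ) < (fun t : ℝ => f (w + t • d)) 0 := by simpa using hgt
          exact (hc.continuousAt.eventually (lt_mem_nhds h0)).mono fun t ht => ht.le
      exact ((Filter.eventually_all_finset G).2 h1).and ((Filter.eventually_all_finset F).2 h2)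
    -- local minimum of t ↦ ‖w + t d‖²
    have hloc : IsLocalMin (fun t : ℝ => ‖w‖ ^ 2 + 2 * t * ⟪w, d⟫_ℝ + t ^ 2 * ‖d‖ ^ 2) 0 := by
      refine hev.mono fun t ht => ?_
      have h1 := hmin _ ht.1 ht.2
      have h2 : ‖w + t • d‖ ^ 2 = ‖w‖ ^ 2 + 2 * t * ⟪w, d⟫_ℝ + t ^ 2 * ‖d‖ ^ 2 := by
        rw [norm_add_sq_real, inner_smul_right, norm_smul, mul_pow, Real.norm_eq_abs, sq_abs]
        ring
      have h3 : ‖w‖ ^ 2 ≤ ‖w + t • d‖ ^ 2 := by
        have := norm_nonneg w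
        nlinarith
      simp only [zero_mul, mul_zero, add_zero, ne_eq, OfNat.ofNat_ne_zero, not_false_eq_true,
        zero_pow]
      linarith
    -- elementary extraction of the first-order condition
    obtain ⟨δ, hδ, hball⟩ := Metric.eventually_nhds_iff.1 hloc
    by_contra hc
    set c := ⟪w, d⟫_ℝ with hcdef
    set D := ‖d‖ ^ 2 with hDdef
    have hD0 : 0 ≤ D := by positivity
    have hcpos : 0 < |c| := abs_pos.2 hc
    set ε := min (δ / 2) (|c| / (D + 1)) with hε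
    have hεpos : 0 < ε := lt_min (by linarith) (div_pos hcpos (by linarith))
    have hεδ : ε < δ := lt_of_le_of_lt (min_le_left _ _) (by linarith)
    have hεD : ε * (D + 1) ≤ |c| := by
      have : ε ≤ |c| / (D + 1) := min_le_right _ _
      rwa [le_div_iff₀ (by linarith)] at this
    have h1 := hball (y := ε) (by rw [Real.dist_eq, sub_zero, abs_of_pos hεpos]; exact hεδ)
    have h2 := hball (y := -ε) (by
      rw [Real.dist_eq, sub_zero, abs_neg, abs_of_pos hεpos]; exact hεδ)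
    simp only [zero_mul, mul_zero, add_zero, ne_eq, OfNat.ofNat_ne_zero, not_false_eq_true,
      zero_pow] at h1 h2
    have h3 : 2 * ε * c + ε ^ 2 * D ≥ 0 := by linarith
    have h4 : -(2 * ε * c) + ε ^ 2 * D ≥ 0 := by
      have : 2 * -ε * c + (-ε) ^ 2 * D = -(2 * ε * c) + ε ^ 2 * D := by ring
      linarith
    have h5 : 2 * ε * |c| ≤ ε ^ 2 * D := by
      rcases abs_cases c with ⟨h, _⟩ | ⟨h, _⟩ <;> rw [h] <;> linarith
    have h6 : 2 * |c| ≤ ε * D := by
      have : ε * (2 * |c|) ≤ ε * (ε * D) := by nlinarith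
      exact le_of_mul_le_mul_left this hεpos
    nlinarith
  -- representation
  have hker : ⨅ a : (↑(IG ∪ IF) : Set (Module.Dual ℝ E)), LinearMap.ker (a : Module.Dual ℝ E)
      ≤ LinearMap.ker (innerₛₗ ℝ w) := by
    intro d hd
    rw [Submodule.mem_iInf] at hd
    rw [LinearMap.mem_ker, innerₛₗ_apply_apply]
    exact horth d fun a ha => LinearMap.mem_ker.1 (hd ⟨a, ha⟩)
  have hspan := mem_span_of_iInf_ker_le_ker hker
  obtain ⟨c, hc⟩ := (Submodule.mem_span_range_iff_exists_fun ℝ).1 hspan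
  refine ⟨fun a => if h : a ∈ IG ∪ IF then c ⟨a, h⟩ else 0, ?_, ?_, ?_⟩
  · intro a ha
    rcases Finset.mem_union.1 ha with h | h
    · exact Finset.mem_union_left _ (Finset.mem_filter.1 h).1
    · exact Finset.mem_union_right _ (Finset.mem_filter.1 h).1
  · intro a ha
    rcases Finset.mem_union.1 ha with h | h
    · exact Or.inr (Finset.mem_filter.1 h).2
    · exact Or.inl (Finset.mem_filter.1 h).2
  · intro d
    have h1 := LinearMap.congr_fun hc d
    rw [innerₛₗ_apply_apply] at h1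
    rw [← h1, LinearMap.sum_apply]
    rw [← Finset.sum_coe_sort (IG ∪ IF)]
    refine Finset.sum_congr rfl fun a _ => ?_
    simp


open scoped Classical in
/-- the minimal-norm point `w = M⁻¹ u` of the polyhedron `{g ≥ 1, f ≥ 0}` is orthogonal to the
directions of its active face, hence `⟪w, ·⟫` is a combination of the active functionals. -/
theorem exists_active (u : E) (hu1 : ‖u‖ = 1) (huF : ∀ f ∈ F, 0 ≤ f u) (huG : 0 < mn G hG u)
    (hmax : ∀ v : E, v ≠ 0 → (∀ f ∈ F, 0 ≤ f v) → mn G hG v / ‖v‖ ≤ mn G hG u) :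
    ∃ (I : Finset (Module.Dual ℝ E)) (lam : Module.Dual ℝ E → ℝ),
      I ⊆ G ∪ F ∧
      (∀ a ∈ I, a ((mn G hG u)⁻¹ • u) = 0 ∨ a ((mn G hG u)⁻¹ • u) = 1) ∧
      ∀ d : E, ⟪(mn G hG u)⁻¹ • u, d⟫_ℝ = ∑ a ∈ I, lam a * a d := by
  classical
  set M := mn G hG u with hM
  have hwG : mn G hG (M⁻¹ • u) = 1 := by
    rw [mn_smul G hG (inv_nonneg.2 huG.le), inv_mul_cancel₀ huG.ne']
  have hwF : ∀ f ∈ F, 0 ≤ f (M⁻¹ • u) := by
    intro f hf
    rw [map_smul, smul_eq_mul]
    exact mul_nonneg (inv_nonneg.2 huG.le) (huF f hf)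
  have hwnorm : ‖M⁻¹ • u‖ = M⁻¹ := by
    rw [norm_smul, hu1, mul_one, Real.norm_eq_abs, abs_of_pos (inv_pos.2 huG)]
  have hmin : ∀ v : E, (∀ g ∈ G, 1 ≤ g v) → (∀ f ∈ F, 0 ≤ f v) → ‖M⁻¹ • u‖ ≤ ‖v‖ := by
    intro v hvG hvF
    have h1 : 1 ≤ mn G hG v := (le_mn_iff G hG 1 v).2 hvG
    have hv0 : v ≠ 0 := by
      rintro rfl
      rw [mn_zero] at h1
      linarith
    have h2 := hmax v hv0 hvF
    rw [div_le_iff₀ (norm_pos_iff.2 hv0)] at h2
    rw [hwnorm, inv_le_iff_one_le_mul₀ huG]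
    linarith
  exact exists_active_aux F G hG _ hwG hwF hmin

end Groth.Agent.Lib.helper10.LatMax
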