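import Groth.Agent.Lib.helper10.LatMaxA

set_option autoImplicit false

/-!
# S17517, part B: rationality of the minimal-norm point via a ℚ-linear retraction `ℝ → ℚ`.
-/

namespace Groth.Agent.Lib.helper10.LatMax

open Finset Module
open scoped InnerProductSpace

variable {E : Type*} [NormedAddCommGroup E] [InnerProductSpace ℝ E]

/-- a ℚ-linear retraction ℝ → ℚ -/
lemma exists_retraction : ∃ π : ℝ →ₗ[ℚ] ℚ, ∀ q : ℚ, π (q : ℝ) = q := by
  obtain ⟨g, hg⟩ := (Algebra.linearMap ℚ ℝ).exists_leftInverse_of_injective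
    (LinearMap.ker_eq_bot.2 (algebraMap ℚ ℝ).injective)
  refine ⟨g, fun q => ?_⟩
  have := LinearMap.congr_fun hg q
  simpa using this

lemma retraction_mul_int (π : ℝ →ₗ[ℚ] ℚ) (x : ℝ) (n : ℤ) : π (x * n) = π x * n := by
  have : x * (n : ℝ) = (n : ℚ) • x := by
    rw [Rat.smul_def]; push_cast; ring
  rw [this, map_smul, smul_eq_mul, mul_comm]

theorem rational_of_active {ι : Type*} [Fintype ι] (bE : Basis ι ℝ E)
    (hB : ∀ i j, ∃ n : ℤ, ⟪bE i, bE j⟫_ℝ = n)
    (w : E) (I : Finset (Module.Dual ℝ E)) (lam : Module.Dual ℝ E → ℝ)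
    (hI : ∀ a ∈ I, ∀ i, ∃ n : ℤ, a (bE i) = n)
    (hw : ∀ a ∈ I, ∃ n : ℤ, a w = n)
    (hrep : ∀ d, ⟪w, d⟫_ℝ = ∑ a ∈ I, lam a * a d) :
    ∃ q : ι → ℚ, w = ∑ i, (q i : ℝ) • bE i := by
  classical
  obtain ⟨π, hπ⟩ := exists_retraction
  have hπint : ∀ n : ℤ, π (n : ℝ) = n := fun n => by
    have := hπ (n : ℚ)
    simpa using this
  set x : ι → ℝ := fun i => bE.repr w i with hx
  have hwx : w = ∑ i, x i • bE i := (bE.sum_repr w).symm
  set q : ι → ℚ := fun i => π (x i) with hq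
  set w' : E := ∑ i, (q i : ℝ) • bE i with hw'
  refine ⟨q, ?_⟩
  -- L1
  have L1 : ∀ a : Module.Dual ℝ E, (∀ i, ∃ n : ℤ, a (bE i) = n) →
      a w' = ((π (a w) : ℚ) : ℝ) := by
    intro a ha
    choose n hn using ha
    have h1 : a w = ∑ i, x i * (n i : ℝ) := by
      conv_lhs => rw [hwx]
      rw [map_sum]
      refine Finset.sum_congr rfl fun i _ => ?_
      rw [map_smul, smul_eq_mul, hn]
    have h2 : a w' = ∑ i, (q i : ℝ) * (n i : ℝ) := by
      rw [hw', map_sum]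
      refine Finset.sum_congr rfl fun i _ => ?_
      rw [map_smul, smul_eq_mul, hn]
    rw [h1, h2, map_sum]
    push_cast
    refine Finset.sum_congr rfl fun i _ => ?_
    rw [retraction_mul_int]
    push_cast
    rfl
  -- values on I
  have hval : ∀ a ∈ I, a w' = a w := by
    intro a ha
    rw [L1 a (hI a ha)]
    obtain ⟨n, hn⟩ := hw a ha
    rw [hn, hπint]
    push_cast
    rfl
  -- the functional ⟪w', ·⟫
  have hrep' : ∀ d, ⟪w', d⟫_ℝ = ∑ a ∈ I, ((π (lam a) : ℚ) : ℝ) * a d := by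
    have hfun : innerₛₗ ℝ w' = ∑ a ∈ I, ((π (lam a) : ℚ) : ℝ) • a := by
      apply bE.ext
      intro j
      rw [innerₛₗ_apply_apply, LinearMap.sum_apply]
      simp only [LinearMap.smul_apply, smul_eq_mul]
      have h1 : ⟪w', bE j⟫_ℝ = (innerₛₗ ℝ (bE j)) w' := by
        rw [innerₛₗ_apply_apply, real_inner_comm]
      rw [h1, L1 (innerₛₗ ℝ (bE j)) (fun i => by
        obtain ⟨n, hn⟩ := hB j i
        exact ⟨n, by rw [innerₛₗ_apply_apply, hn]⟩)]
      rw [innerₛₗ_apply_apply, real_inner_comm, hrep, map_sum]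
      push_cast
      refine Finset.sum_congr rfl fun a ha => ?_
      obtain ⟨n, hn⟩ := hI a ha j
      rw [hn, retraction_mul_int]
      push_cast
      rfl
    intro d
    have := LinearMap.congr_fun hfun d
    rw [innerₛₗ_apply_apply] at this
    rw [this, LinearMap.sum_apply]
    simp only [LinearMap.smul_apply, smul_eq_mul]
  -- z = w' - w = 0
  have hz : ∀ a ∈ I, a (w' - w) = 0 := fun a ha => by rw [map_sub, hval a ha, sub_self]
  have h1 : ⟪w, w' - w⟫_ℝ = 0 := by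
    rw [hrep]
    exact Finset.sum_eq_zero fun a ha => by rw [hz a ha, mul_zero]
  have h2 : ⟪w', w' - w⟫_ℝ = 0 := by
    rw [hrep']
    exact Finset.sum_eq_zero fun a ha => by rw [hz a ha, mul_zero]
  have h3 : ⟪w' - w, w' - w⟫_ℝ = 0 := by
    rw [inner_sub_left, h1, h2, sub_zero]
  have h4 : w' - w = 0 := inner_self_eq_zero.1 h3
  exact (sub_eq_zero.1 h4).symm

end Groth.Agent.Lib.helper10.LatMax
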