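import Groth.Agent.Lib.helper10.LatMaxB

set_option autoImplicit false

/-!
# S17517, part C: the lattice points on the maximizing ray, and the assembly.
-/

namespace Groth.Agent.Lib.helper10.LatMax

open Finset Module
open scoped InnerProductSpace

universe u

theorem main
    (E : Type u) [NormedAddCommGroup E] [InnerProductSpace ℝ E] [FiniteDimensional ℝ E]
    (L : Submodule ℤ E) [DiscreteTopology L] [IsZLattice ℝ L]
    (hint : ∀ x ∈ L, ∀ y ∈ L, ∃ n : ℤ, inner ℝ x y = (n : ℝ))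
    (F G : Finset (Module.Dual ℝ E)) (hF : F.Nonempty) (hG : G.Nonempty)
    (hFi : ∀ f ∈ F, ∀ x ∈ L, ∃ n : ℤ, f x = (n : ℝ))
    (hGi : ∀ g ∈ G, ∀ x ∈ L, ∃ n : ℤ, g x = (n : ℝ))
    (hpos : ∃ v : E, 0 ≤ F.inf' hF (fun f => f v) ∧ 0 < G.inf' hG (fun g => g v)) :
    ∃ M : ℝ, IsGreatest ((fun v => G.inf' hG (fun g => g v) / ‖v‖) ''
        {v : E | v ≠ 0 ∧ 0 ≤ F.inf' hF (fun f => f v)}) M ∧
      ∃! v₀ : E, v₀ ∈ L ∧ v₀ ≠ 0 ∧ 0 ≤ F.inf' hF (fun f => f v₀) ∧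
        G.inf' hG (fun g => g v₀) / ‖v₀‖ = M ∧
        ∀ v ∈ L, v ≠ 0 → 0 ≤ F.inf' hF (fun f => f v) → G.inf' hG (fun g => g v) / ‖v‖ = M →
          ∃ n : ℤ, v = n • v₀ := by
  classical
  have hcone : ∀ v : E, 0 ≤ F.inf' hF (fun f => f v) ↔ ∀ f ∈ F, 0 ≤ f v :=
    fun v => Finset.le_inf'_iff hF _
  obtain ⟨u, hu1, huF, huG, hmax⟩ := exists_max F G hG (by
    obtain ⟨v, h1, h2⟩ := hpos
    exact ⟨v, (hcone v).1 h1, h2⟩)
  set M := mn G hG u with hM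
  have hu0 : u ≠ 0 := by
    intro h; rw [h, norm_zero] at hu1; exact zero_ne_one hu1
  -- positive multiples of u
  have hray : ∀ s : ℝ, 0 < s → (s • u ≠ 0) ∧ (∀ f ∈ F, 0 ≤ f (s • u)) ∧ ‖s • u‖ = s ∧
      mn G hG (s • u) / ‖s • u‖ = M := by
    intro s hs
    have hn : ‖s • u‖ = s := by rw [norm_smul, hu1, mul_one, Real.norm_eq_abs, abs_of_pos hs]
    refine ⟨smul_ne_zero hs.ne' hu0, fun f hf => ?_, hn, ?_⟩
    · rw [map_smul, smul_eq_mul]; exact mul_nonneg hs.le (huF f hf)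
    · rw [hn, mn_smul G hG hs.le, mul_div_assoc, mul_comm, div_mul_cancel₀ _ hs.ne']
  refine ⟨M, ⟨⟨u, ⟨hu0, (hcone u).2 huF⟩, by simp [hu1, hM]⟩, ?_⟩, ?_⟩
  · rintro y ⟨v, ⟨hv0, hvF⟩, rfl⟩
    exact hmax v hv0 ((hcone v).1 hvF)
  -- the set S of lattice maximizers
  have hdir : ∀ v : E, v ≠ 0 → (∀ f ∈ F, 0 ≤ f v) → mn G hG v / ‖v‖ = M → v = ‖v‖ • u :=
    fun v h1 h2 h3 => unique_dir F G hG u hu1 huF huG hmax v h1 h2 h3
  -- a rational point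
  obtain ⟨I, lam, hIsub, hIval, hrep⟩ := exists_active F G hG u hu1 huF huG hmax
  haveI : Module.Finite ℤ L := ZLattice.module_finite ℝ L
  haveI : Module.Free ℤ L := ZLattice.module_free ℝ L
  let b := Module.Free.chooseBasis ℤ L
  let bE := b.ofZLatticeBasis ℝ L
  have hbE : ∀ i, bE i = (b i : E) := fun i => b.ofZLatticeBasis_apply ℝ L i
  have hbL : ∀ i, bE i ∈ L := fun i => by rw [hbE]; exact (b i).2
  set w : E := M⁻¹ • u with hw
  obtain ⟨q, hq⟩ := rational_of_active bE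
    (fun i j => hint _ (hbL i) _ (hbL j)) w I lam
    (fun a ha i => by
      rcases Finset.mem_union.1 (hIsub ha) with h | h
      · exact hGi a h _ (hbL i)
      · exact hFi a h _ (hbL i))
    (fun a ha => by
      rcases hIval a ha with h | h
      · exact ⟨0, by rw [h]; simp⟩
      · exact ⟨1, by rw [h]; simp⟩)
    hrep
  -- clear denominators
  set N : ℕ := ∏ i, (q i).den with hN
  have hNpos : 0 < N := Finset.prod_pos fun i _ => (q i).den_pos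
  have hv₁L : ((N : ℝ) • w) ∈ L := by
    rw [hq, Finset.smul_sum]
    refine L.sum_mem fun i _ => ?_
    rw [smul_smul]
    have hdvd : (q i).den ∣ N := Finset.dvd_prod_of_mem _ (Finset.mem_univ i)
    obtain ⟨c, hc⟩ := hdvd
    have hcast : (N : ℝ) * (q i : ℝ) = (((q i).num * (c : ℤ) : ℤ) : ℝ) := by
      rw [hc, Rat.cast_def]
      have hden : ((q i).den : ℝ) ≠ 0 := by exact_mod_cast (q i).den_ne_zero
      push_cast
      field_simp
    rw [hcast, Int.cast_smul_eq_zsmul]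
    exact L.smul_mem _ (hbL i)
  have hNM : 0 < (N : ℝ) * M⁻¹ := mul_pos (by exact_mod_cast hNpos) (inv_pos.2 huG)
  have hv₁ : (N : ℝ) • w = ((N : ℝ) * M⁻¹) • u := by rw [hw, smul_smul]
  -- integrality of squared norms
  have hnormsq : ∀ v ∈ L, ∃ k : ℕ, ‖v‖ ^ 2 = k := by
    intro v hv
    obtain ⟨n, hn⟩ := hint v hv v hv
    rw [real_inner_self_eq_norm_sq] at hn
    have h0 : (0 : ℝ) ≤ n := by rw [← hn]; positivity
    have h0' : 0 ≤ n := by exact_mod_cast h0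
    refine ⟨n.toNat, ?_⟩
    rw [hn]
    have : ((n.toNat : ℤ) : ℝ) = (n : ℝ) := by rw [Int.toNat_of_nonneg h0']
    exact_mod_cast this.symm
  -- minimal element
  let P : ℕ → Prop := fun k => ∃ v ∈ L, v ≠ 0 ∧ (∀ f ∈ F, 0 ≤ f v) ∧ mn G hG v / ‖v‖ = M ∧
    ‖v‖ ^ 2 = k
  have hP : ∃ k, P k := by
    obtain ⟨h1, h2, _, h4⟩ := hray _ hNM
    rw [← hv₁] at h1 h2 h4
    obtain ⟨k, hk⟩ := hnormsq _ hv₁L
    exact ⟨k, _, hv₁L, h1, h2, h4, hk⟩
  obtain ⟨v₀, hv₀L, hv₀0, hv₀F, hv₀M, hv₀k⟩ := Nat.find_spec hP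
  have hminP : ∀ v ∈ L, v ≠ 0 → (∀ f ∈ F, 0 ≤ f v) → mn G hG v / ‖v‖ = M → ‖v₀‖ ≤ ‖v‖ := by
    intro v hvL hv0 hvF hvM
    obtain ⟨k, hk⟩ := hnormsq v hvL
    have h1 : Nat.find hP ≤ k := Nat.find_min' hP ⟨v, hvL, hv0, hvF, hvM, hk⟩
    have h2 : ‖v₀‖ ^ 2 ≤ ‖v‖ ^ 2 := by
      rw [hv₀k, hk]; exact_mod_cast h1
    exact (sq_le_sq₀ (norm_nonneg _) (norm_nonneg _)).1 h2
  have hv₀u := hdir v₀ hv₀0 hv₀F hv₀M
  have hn₀ : 0 < ‖v₀‖ := norm_pos_iff.2 hv₀0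
  -- every lattice maximizer is a natural multiple of v₀
  have hmult : ∀ v ∈ L, v ≠ 0 → (∀ f ∈ F, 0 ≤ f v) → mn G hG v / ‖v‖ = M →
      ∃ n : ℕ, 0 < n ∧ v = (n : ℤ) • v₀ := by
    intro v hvL hv0 hvF hvM
    have hvu := hdir v hv0 hvF hvM
    have hle := hminP v hvL hv0 hvF hvM
    set t := ‖v‖ / ‖v₀‖ with ht
    have ht1 : 1 ≤ t := by rw [ht, le_div_iff₀ hn₀]; linarith
    set n := ⌊t⌋₊ with hn
    have hn1 : 1 ≤ n := by
      rw [hn]; exact Nat.le_floor (by exact_mod_cast ht1)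
    have hfl : (n : ℝ) ≤ t := Nat.floor_le (by linarith)
    have hfl' : t < n + 1 := Nat.lt_floor_add_one t
    have htn : ‖v‖ = t * ‖v₀‖ := by rw [ht, div_mul_cancel₀ _ hn₀.ne']
    refine ⟨n, hn1, ?_⟩
    by_contra hne
    -- r = v - n v₀
    set r : E := v - (n : ℤ) • v₀ with hr
    have hrL : r ∈ L := L.sub_mem hvL (L.smul_mem _ hv₀L)
    have hru : r = ((t - n) * ‖v₀‖) • u := by
      rw [hr]
      conv_lhs => rw [hvu, hv₀u]
      rw [← Int.cast_smul_eq_zsmul ℝ, smul_smul, ← sub_smul, htn]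
      congr 1
      push_cast
      ring
    have hs : 0 < (t - n) * ‖v₀‖ := by
      refine mul_pos ?_ hn₀
      rcases eq_or_lt_of_le hfl with h | h
      · exfalso
        apply hne
        have : r = 0 := by rw [hru, ← h, sub_self, zero_mul, zero_smul]
        rw [hr] at this
        exact sub_eq_zero.1 this
      · linarith
    obtain ⟨h1, h2, h3, h4⟩ := hray _ hs
    rw [← hru] at h1 h2 h3 h4
    have := hminP r hrL h1 h2 h4
    rw [h3] at this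
    nlinarith
  refine ⟨v₀, ⟨hv₀L, hv₀0, (hcone v₀).2 hv₀F, hv₀M, ?_⟩, ?_⟩
  · intro v hvL hv0 hvF hvM
    obtain ⟨n, _, hn⟩ := hmult v hvL hv0 ((hcone v).1 hvF) hvM
    exact ⟨n, hn⟩
  · rintro y ⟨hyL, hy0, hyF, hyM, hyall⟩
    obtain ⟨n, hn0, hn⟩ := hmult y hyL hy0 ((hcone y).1 hyF) hyM
    obtain ⟨n', hn'⟩ := hyall v₀ hv₀L hv₀0 ((hcone v₀).2 hv₀F) hv₀M
    -- v₀ = n' • y = n' • n • v₀
    have h1 : v₀ = (n' * (n : ℤ)) • v₀ := by
      conv_lhs => rw [hn', hn]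
      rw [smul_smul]
    have h2 : ((n' * (n : ℤ) : ℤ) : ℝ) = 1 := by
      have h3 : (1 : ℝ) • v₀ = ((n' * (n : ℤ) : ℤ) : ℝ) • v₀ := by
        rw [one_smul, Int.cast_smul_eq_zsmul]; exact h1
      have := smul_left_injective ℝ hv₀0 h3
      exact this.symm
    have h3 : n' * (n : ℤ) = 1 := by exact_mod_cast h2
    have h4 : (n : ℤ) = 1 := by
      have hn0' : (0 : ℤ) < n := by exact_mod_cast hn0
      exact Int.eq_one_of_mul_eq_one_left hn0'.le h3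
    rw [hn, h4, one_smul]

end Groth.Agent.Lib.helper10.LatMax
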