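import Groth.Agent.Lib.Helper5.GorLCIB
import Groth.Agent.Lib.Helper5.GorFibreE
import Groth.Agent.Lib.Helper5.CotLoc
import Groth.Agent.S0341
import Groth.Agent.Lib.Helper24.Depth.CMEquidim
import Mathlib

set_option autoImplicit false
set_option linter.style.haveILetI false
set_option linter.unusedVariables false
set_option linter.unusedSectionVars false

universe u

namespace Groth.Agent.Lib.helper10.LciH1

open IsLocalRing TensorProduct

/-- in a Noetherian ring all of whose localizations are Cohen–Macaulay, associated primes are
minimal (no embedded primes) -/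
theorem mem_minimalPrimes_of_isAssociatedPrime {A : Type u} [CommRing A] [IsNoetherianRing A]
    (hCM : ∀ (p : Ideal A) [p.IsPrime], LocCoh.IsCohenMacaulayLocalRing (Localization.AtPrime p))
    (p : Ideal A) (hp : IsAssociatedPrime p A) : p ∈ minimalPrimes A := by
  haveI hpp : p.IsPrime := hp.isPrime
  obtain ⟨-, x, hx⟩ := isAssociatedPrime_iff.1 hp
  haveI := hCM p
  have hxmem : ∀ a : A, a ∈ p ↔ a * x = 0 := by
    intro a
    rw [hx, Submodule.mem_colon_singleton, smul_eq_mul, Submodule.mem_bot]
  have hx1 : algebraMap A (Localization.AtPrime p) x ≠ 0 := by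
    intro h0
    obtain ⟨s, hs⟩ := (IsLocalization.map_eq_zero_iff p.primeCompl (Localization.AtPrime p) x).1 h0
    exact s.2 ((hxmem _).2 hs)
  have hass : IsAssociatedPrime (maximalIdeal (Localization.AtPrime p)) (Localization.AtPrime p) := by
    rw [isAssociatedPrime_iff]
    refine ⟨inferInstance, algebraMap A (Localization.AtPrime p) x, ?_⟩
    apply le_antisymm
    · rw [← Localization.AtPrime.map_eq_maximalIdeal, Ideal.map_le_iff_le_comap]
      intro a ha
      rw [Ideal.mem_comap, Submodule.mem_colon_singleton, smul_eq_mul, ← map_mul]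
      rw [(hxmem a).1 ha, map_zero]
      exact Submodule.zero_mem _
    · apply IsLocalRing.le_maximalIdeal
      intro htop
      have h1 : (1 : Localization.AtPrime p) ∈
          (⊥ : Submodule (Localization.AtPrime p) (Localization.AtPrime p)).colon
            {algebraMap A (Localization.AtPrime p) x} := by rw [htop]; trivial
      rw [Submodule.mem_colon_singleton, one_smul] at h1
      exact hx1 ((Submodule.mem_bot _).1 h1)
  have hdim := Groth.Agent.Lib.Helper24.CMEquidim.dim_le_dim_quot_of_mem_associatedPrimes
    (Localization.AtPrime p) (maximalIdeal (Localization.AtPrime p)) hass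
  have h0 : ringKrullDim (Localization.AtPrime p ⧸ maximalIdeal (Localization.AtPrime p)) = 0 :=
    ringKrullDim_eq_zero_of_isField
      ((Ideal.Quotient.maximal_ideal_iff_isField_quotient _).1 (maximalIdeal.isMaximal _))
  rw [h0, IsLocalization.AtPrime.ringKrullDim_eq_height p (Localization.AtPrime p)] at hdim
  have h1 : p.height = 0 := by
    have : p.height ≤ 0 := by exact_mod_cast hdim
    exact le_antisymm this bot_le
  exact Ideal.height_eq_zero_iff.1 h1

/-- a torsionless module over a Noetherian ring without embedded primes which vanishes at the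
minimal primes is zero -/
theorem eq_zero_of_forall_minimalPrimes {A : Type u} [CommRing A] [IsNoetherianRing A]
    (hass : ∀ p : Ideal A, IsAssociatedPrime p A → p ∈ minimalPrimes A)
    {C : Type u} [AddCommGroup C] [Module A C] [Module.Projective A C] (h : C)
    (hloc : ∀ p : Ideal A, p ∈ minimalPrimes A → ∃ s : A, s ∉ p ∧ s • h = 0) : h = 0 := by
  by_contra hne
  obtain ⟨sec, hsec⟩ := Module.projective_def'.1 (inferInstance : Module.Projective A C)
  have hinj : Function.Injective sec := fun a b hab => by
    have := congrArg (Finsupp.linearCombination A id) hab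
    rwa [← LinearMap.comp_apply, ← LinearMap.comp_apply, hsec] at this
  have hs : sec h ≠ 0 := fun h0 => hne (hinj (by rw [h0, map_zero]))
  obtain ⟨c, hc⟩ := Finsupp.ne_iff.1 hs
  rw [Finsupp.zero_apply] at hc
  obtain ⟨P, hP, hle⟩ := exists_le_isAssociatedPrime_of_isNoetherianRing A (sec h c) hc
  obtain ⟨s, hsP, hsh⟩ := hloc P (hass P hP)
  apply hsP
  apply hle
  rw [Submodule.mem_colon_singleton, smul_eq_mul, ← smul_eq_mul, ← Finsupp.smul_apply,
    ← map_smul, hsh, map_zero, Finsupp.zero_apply]
  exact Submodule.zero_mem _

end Groth.Agent.Lib.helper10.LciH1
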