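import Groth.Agent.S2069
import Mathlib

/-!
Associated primes of a flat algebra over a Noetherian ring whose fibre rings have no embedded
primes are generic points of their fibres; an element of a projective module killed locally at all
associated primes is zero.
-/

set_option autoImplicit false
set_option linter.unusedVariables false
set_option linter.unusedSectionVars false

universe u

namespace Groth.Agent.Lib.helper10.LciH1Rel

open TensorProduct

/-- an element of a projective module over a Noetherian ring which vanishes locally at all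
associated primes of the ring is zero -/
theorem eq_zero_of_forall_ass {A : Type u} [CommRing A] [IsNoetherianRing A]
    {C : Type u} [AddCommGroup C] [Module A C] [Module.Projective A C] (h : C)
    (hloc : ∀ p : Ideal A, IsAssociatedPrime p A → ∃ s : A, s ∉ p ∧ s • h = 0) : h = 0 := by
  by_contra hne
  obtain ⟨sec, hsec⟩ := Module.projective_def'.1 (inferInstance : Module.Projective A C)
  have hinj : Function.Injective sec := fun a b hab => by
    have := congrArg (Finsupp.linearCombination A id) hab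
    rwa [← LinearMap.comp_apply, ← LinearMap.comp_apply, hsec] at this
  have hs : sec h ≠ 0 := fun h0 => hne (hinj (by rw [h0, map_zero]))
  obtain ⟨c, hc⟩ := Finsupp.ne_iff.1 hs
  rw [Finsupp.zero_apply] at hc
  obtain ⟨P, hP, hle⟩ := exists_le_isAssociatedPrime_of_isNoetherianRing A (sec h c) hc
  obtain ⟨s, hsP, hsh⟩ := hloc P hP
  apply hsP
  apply hle
  rw [Submodule.mem_colon_singleton, smul_eq_mul, ← smul_eq_mul, ← Finsupp.smul_apply,
    ← map_smul, hsh, map_zero, Finsupp.zero_apply]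
  exact Submodule.zero_mem _

section

variable {A P : Type u} [CommRing A] [CommRing P] [Algebra A P]

/-- the kernel of `P → κ(𝔭) ⊗ P` is `𝔭 P` when `P` is flat -/
theorem one_tmul_eq_zero_iff [Module.Flat A P] (𝔭 : Ideal A) [𝔭.IsPrime] (s : P) :
    (1 : 𝔭.ResidueField) ⊗ₜ[A] s = 0 ↔ s ∈ 𝔭.map (algebraMap A P) := by
  constructor
  · intro h
    let j : (A ⧸ 𝔭) →ₗ[A] 𝔭.ResidueField :=
      (IsScalarTower.toAlgHom A (A ⧸ 𝔭) 𝔭.ResidueField).toLinearMap
    have hj : Function.Injective j := Ideal.injective_algebraMap_quotient_residueField 𝔭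
    have hj' := Module.Flat.rTensor_preserves_injective_linearMap (M := P) j hj
    have h1 : ((1 : A ⧸ 𝔭) ⊗ₜ[A] s : (A ⧸ 𝔭) ⊗[A] P) = 0 := by
      apply hj'
      rw [LinearMap.rTensor_tmul, map_zero]
      have : j 1 = 1 := map_one (IsScalarTower.toAlgHom A (A ⧸ 𝔭) 𝔭.ResidueField)
      rw [this, h]
    have h2 := congrArg (TensorProduct.quotTensorEquivQuotSMul P 𝔭) h1
    rw [map_zero] at h2
    have h3 : (1 : A ⧸ 𝔭) = Ideal.Quotient.mk 𝔭 1 := rfl
    rw [h3, TensorProduct.quotTensorEquivQuotSMul_mk_tmul, one_smul,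
      Submodule.Quotient.mk_eq_zero, Ideal.smul_top_eq_map] at h2
    exact h2
  · intro h
    refine Submodule.span_induction (p := fun x _ => (1 : 𝔭.ResidueField) ⊗ₜ[A] x = 0)
      ?_ ?_ ?_ ?_ h
    · rintro _ ⟨a, ha, rfl⟩
      rw [Algebra.algebraMap_eq_smul_one, ← TensorProduct.smul_tmul, Algebra.smul_def, mul_one]
      have : algebraMap A 𝔭.ResidueField a = 0 := by
        rw [Ideal.algebraMap_residueField_eq_zero]
        exact ha
      rw [this, TensorProduct.zero_tmul]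
    · rw [TensorProduct.tmul_zero]
    · intro x y _ _ hx hy
      rw [TensorProduct.tmul_add, hx, hy, add_zero]
    · intro c x _ hx
      have : (1 : 𝔭.ResidueField) ⊗ₜ[A] (c • x) =
          ((1 : 𝔭.ResidueField) ⊗ₜ[A] c) * ((1 : 𝔭.ResidueField) ⊗ₜ[A] x) := by
        rw [Algebra.TensorProduct.tmul_mul_tmul, one_mul, smul_eq_mul]
      rw [this, hx, mul_zero]

/-- an associated prime of a flat algebra over a Noetherian ring whose fibre rings have no
embedded primes is a generic point of its fibre -/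
theorem eq_of_le_of_isAssociatedPrime [IsNoetherianRing A] [IsNoetherianRing P] [Module.Flat A P]
    (hfib : ∀ (𝔭 : Ideal A) [𝔭.IsPrime] (q : Ideal (𝔭.Fiber P)),
      IsAssociatedPrime q (𝔭.Fiber P) → q ∈ minimalPrimes (𝔭.Fiber P))
    (𝔓 : PrimeSpectrum P) (hass : IsAssociatedPrime 𝔓.asIdeal P)
    (𝔔 : PrimeSpectrum P) (hle : 𝔔 ≤ 𝔓)
    (hco : 𝔔.asIdeal.comap (algebraMap A P) = 𝔓.asIdeal.comap (algebraMap A P)) : 𝔔 = 𝔓 := by
  classical
  have h1 := Groth.Agent.S2069.result (R := A) (S := P) (M := A) (N := P)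
  have h2 : 𝔓.asIdeal ∈ associatedPrimes P (P ⊗[A] A) := by
    rw [LinearEquiv.AssociatedPrimes.eq (TensorProduct.AlgebraTensorModule.rid A P P)]
    exact hass
  rw [h1] at h2
  simp only [Set.mem_iUnion] at h2
  obtain ⟨𝔭, h𝔭, h3⟩ := h2
  have : 𝔭.IsPrime := h𝔭.isPrime
  obtain ⟨-, ybar, hy⟩ := (isAssociatedPrime_iff (R := P)).1 h3
  obtain ⟨y, rfl⟩ := Submodule.Quotient.mk_surjective _ ybar
  have hmem : ∀ x : P, x ∈ 𝔓.asIdeal ↔ x * y ∈ 𝔭.map (algebraMap A P) := by
    intro x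
    rw [hy, Submodule.mem_colon_singleton, Submodule.mem_bot, ← Submodule.Quotient.mk_smul,
      Submodule.Quotient.mk_eq_zero, smul_eq_mul, smul_eq_mul, Ideal.mul_top]
  have hy0 : y ∉ 𝔭.map (algebraMap A P) := by
    intro h0
    apply 𝔓.isPrime.ne_top
    rw [Ideal.eq_top_iff_one, hmem, one_mul]
    exact h0
  have hy1 : (1 : 𝔭.ResidueField) ⊗ₜ[A] y ≠ 0 := fun h0 => hy0 ((one_tmul_eq_zero_iff 𝔭 y).1 h0)
  -- the contraction of 𝔓 is 𝔭
  have hcontr : 𝔓.asIdeal.comap (algebraMap A P) = 𝔭 := by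
    apply le_antisymm
    · intro a ha
      by_contra hap
      rw [Ideal.mem_comap, hmem] at ha
      rw [← one_tmul_eq_zero_iff 𝔭, Algebra.algebraMap_eq_smul_one, smul_mul_assoc, one_mul,
        ← TensorProduct.smul_tmul, Algebra.smul_def, mul_one] at ha
      have hne : algebraMap A 𝔭.ResidueField a ≠ 0 := by
        rw [Ne, Ideal.algebraMap_residueField_eq_zero]
        exact hap
      have : (algebraMap A 𝔭.ResidueField a) • ((1 : 𝔭.ResidueField) ⊗ₜ[A] y) = 0 := by
        rw [TensorProduct.smul_tmul', smul_eq_mul, mul_one]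
        exact ha
      rcases smul_eq_zero.1 this with h | h
      · exact hne h
      · exact hy1 h
    · intro a ha
      rw [Ideal.mem_comap, hmem]
      exact Ideal.mul_mem_right _ _ (Ideal.mem_map_of_mem _ ha)
  let p' : PrimeSpectrum A := ⟨𝔭, inferInstance⟩
  have h𝔓 : 𝔓 ∈ PrimeSpectrum.comap (algebraMap A P) ⁻¹' {p'} := by
    rw [Set.mem_preimage, Set.mem_singleton_iff]
    exact PrimeSpectrum.ext hcontr
  have h𝔔 : 𝔔 ∈ PrimeSpectrum.comap (algebraMap A P) ⁻¹' {p'} := by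
    rw [Set.mem_preimage, Set.mem_singleton_iff]
    exact PrimeSpectrum.ext (hco.trans hcontr)
  let e := PrimeSpectrum.preimageOrderIsoFiber A P p'
  set 𝔓' := e ⟨𝔓, h𝔓⟩ with h𝔓'
  set 𝔔' := e ⟨𝔔, h𝔔⟩ with h𝔔'
  have hle' : 𝔔' ≤ 𝔓' := e.monotone hle
  have hsymm : (e.symm 𝔓').1 = 𝔓 := by rw [h𝔓', OrderIso.symm_apply_apply]
  have hmem' : ∀ s : P, (1 : 𝔭.ResidueField) ⊗ₜ[A] s ∈ 𝔓'.asIdeal ↔ s ∈ 𝔓.asIdeal := by
    intro s
    conv_rhs => rw [← hsymm]
    rfl
  have hass' : IsAssociatedPrime 𝔓'.asIdeal (𝔭.Fiber P) := by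
    have hcol : 𝔓'.asIdeal = (⊥ : Submodule (𝔭.Fiber P) (𝔭.Fiber P)).colon
        {(1 : 𝔭.ResidueField) ⊗ₜ[A] y} := ?_
    · exact ⟨𝔓'.isPrime, (1 : 𝔭.ResidueField) ⊗ₜ[A] y, by
        rw [← hcol]; exact (𝔓'.isPrime.radical).symm⟩
    ext f
    rw [Submodule.mem_colon_singleton, Submodule.mem_bot, smul_eq_mul]
    obtain ⟨r, hr, s, hs⟩ := Ideal.Fiber.exists_smul_eq_one_tmul 𝔭 f
    have hne : algebraMap A 𝔭.ResidueField r ≠ 0 := by
      rw [Ne, Ideal.algebraMap_residueField_eq_zero]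
      exact hr
    have hrf : r • f = (algebraMap A 𝔭.ResidueField r) • f := by
      rw [algebraMap_smul]
    have hunit : IsUnit (algebraMap 𝔭.ResidueField (𝔭.Fiber P) (algebraMap A 𝔭.ResidueField r)) :=
      (IsUnit.mk0 _ hne).map _
    have hnotin : algebraMap 𝔭.ResidueField (𝔭.Fiber P) (algebraMap A 𝔭.ResidueField r) ∉
        𝔓'.asIdeal := fun hin => 𝔓'.isPrime.ne_top (Ideal.eq_top_of_isUnit_mem _ hin hunit)
    have e1 : f ∈ 𝔓'.asIdeal ↔ (1 : 𝔭.ResidueField) ⊗ₜ[A] s ∈ 𝔓'.asIdeal := by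
      rw [← hs, hrf, Algebra.smul_def, 𝔓'.isPrime.mul_mem_left_iff hnotin]
    have e2 : f * ((1 : 𝔭.ResidueField) ⊗ₜ[A] y) = 0 ↔
        ((1 : 𝔭.ResidueField) ⊗ₜ[A] s) * ((1 : 𝔭.ResidueField) ⊗ₜ[A] y) = 0 := by
      rw [← hs, hrf, smul_mul_assoc]
      constructor
      · intro h; rw [h, smul_zero]
      · intro h
        rcases smul_eq_zero.1 h with h | h
        · exact absurd h hne
        · exact h
    rw [e1, e2, hmem', hmem, Algebra.TensorProduct.tmul_mul_tmul, one_mul, one_tmul_eq_zero_iff]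
  have hmin := hfib 𝔭 𝔓'.asIdeal hass'
  have heq : 𝔔' = 𝔓' := by
    apply le_antisymm hle'
    exact hmin.2 ⟨𝔔'.isPrime, bot_le⟩ hle'
  have := e.injective heq
  exact congrArg Subtype.val this

end

end Groth.Agent.Lib.helper10.LciH1Rel
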