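import Mathlib

set_option autoImplicit false
universe u

namespace Groth.Agent.Lib.helper10.LineIrr

open LaurentPolynomial

variable (k : Type u) [Field k] (r : ℕ)

/-- `X_j ↦ X_j T^ε` from `k[X]` to `k[X][T;T⁻¹]`. -/
noncomputable def gE (ε : ℤ) :
    MvPolynomial (Fin r) k →+* LaurentPolynomial (MvPolynomial (Fin r) k) :=
  MvPolynomial.eval₂Hom ((C : MvPolynomial (Fin r) k →+* _).comp MvPolynomial.C)
    (fun j => C (MvPolynomial.X j) * T ε)

lemma gE_C (ε : ℤ) (c : k) : gE k r ε (MvPolynomial.C c) = C (MvPolynomial.C c) := by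
  unfold gE
  rw [MvPolynomial.eval₂Hom_C]; rfl

lemma gE_X (ε : ℤ) (j : Fin r) : gE k r ε (MvPolynomial.X j) = C (MvPolynomial.X j) * T ε := by
  unfold gE
  rw [MvPolynomial.eval₂Hom_X']

/-- the unit `T`. -/
noncomputable def Tu : (LaurentPolynomial (MvPolynomial (Fin r) k))ˣ := (isUnit_T 1).unit

lemma Tu_val : ((Tu k r : (LaurentPolynomial (MvPolynomial (Fin r) k))ˣ) :
    LaurentPolynomial (MvPolynomial (Fin r) k)) = T 1 := rfl

/-- the ring endomorphism `X_j ↦ X_j T^ε`, `T ↦ T` of `k[X][T;T⁻¹]`. -/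
noncomputable def Th (ε : ℤ) : LaurentPolynomial (MvPolynomial (Fin r) k) →+*
    LaurentPolynomial (MvPolynomial (Fin r) k) :=
  LaurentPolynomial.eval₂ (gE k r ε) (Tu k r)

lemma Th_C (ε : ℤ) (a : MvPolynomial (Fin r) k) : Th k r ε (C a) = gE k r ε a := by
  unfold Th; rw [eval₂_C]

lemma Th_T_nat (ε : ℤ) (n : ℕ) : Th k r ε (T n) = T n := by
  unfold Th
  rw [eval₂_T_n, Tu_val, T_pow, mul_one]

lemma Th_T (ε : ℤ) (n : ℤ) : Th k r ε (T n) = T n := by
  rcases Int.le_total 0 n with hn | hn
  · lift n to ℕ using hn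
    exact Th_T_nat k r ε n
  · obtain ⟨m, rfl⟩ := Int.exists_eq_neg_ofNat hn
    have h1 : Th k r ε (T (-(m : ℤ))) * Th k r ε (T (m : ℤ)) = 1 := by
      rw [← map_mul, ← T_add, neg_add_cancel, T_zero, map_one]
    rw [Th_T_nat] at h1
    calc Th k r ε (T (-(m : ℤ))) = Th k r ε (T (-(m : ℤ))) * (T (m : ℤ) * T (-(m : ℤ))) := by
          rw [← T_add, add_neg_cancel, T_zero, mul_one]
      _ = (Th k r ε (T (-(m : ℤ))) * T (m : ℤ)) * T (-(m : ℤ)) := by rw [mul_assoc]
      _ = T (-(m : ℤ)) := by rw [h1, one_mul]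

lemma Th_gE (ε : ℤ) (a : MvPolynomial (Fin r) k) : Th k r ε (gE k r (-ε) a) = C a := by
  have : (Th k r ε).comp (gE k r (-ε)) = (C : MvPolynomial (Fin r) k →+* _) := by
    apply MvPolynomial.ringHom_ext
    · intro c
      rw [RingHom.comp_apply, gE_C, Th_C, gE_C]
    · intro j
      rw [RingHom.comp_apply, gE_X, map_mul, Th_C, gE_X, Th_T, mul_assoc, ← T_add,
        add_neg_cancel, T_zero, mul_one]
  exact RingHom.congr_fun this a

/-- `Θ_ε ∘ Θ_{-ε}` is the identity on polynomials. -/
lemma Th_Th_toLaurent (ε : ℤ) (p : Polynomial (MvPolynomial (Fin r) k)) :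
    Th k r ε (Th k r (-ε) (Polynomial.toLaurent p)) = Polynomial.toLaurent p := by
  have : ((Th k r ε).comp (Th k r (-ε))).comp Polynomial.toLaurent =
      (Polynomial.toLaurent : Polynomial (MvPolynomial (Fin r) k) →+* _) := by
    apply Polynomial.ringHom_ext
    · intro a
      rw [RingHom.comp_apply, RingHom.comp_apply, Polynomial.toLaurent_C, Th_C, Th_gE]
    · rw [RingHom.comp_apply, RingHom.comp_apply, Polynomial.toLaurent_X, Th_T, Th_T]
  exact RingHom.congr_fun this p

/-- the polynomial `F(X₁T, …, X_rT)`. -/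
noncomputable def G0 (F : MvPolynomial (Fin r) k) : Polynomial (MvPolynomial (Fin r) k) :=
  MvPolynomial.eval₂ (Polynomial.C.comp MvPolynomial.C)
    (fun j => Polynomial.C (MvPolynomial.X j) * Polynomial.X) F

lemma toLaurent_G0 (F : MvPolynomial (Fin r) k) :
    Polynomial.toLaurent (G0 k r F) = gE k r 1 F := by
  have : (Polynomial.toLaurent : Polynomial (MvPolynomial (Fin r) k) →+* _).comp
      (MvPolynomial.eval₂Hom (Polynomial.C.comp MvPolynomial.C)
        (fun j => Polynomial.C (MvPolynomial.X j) * Polynomial.X)) = gE k r 1 := by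
    apply MvPolynomial.ringHom_ext
    · intro c
      rw [RingHom.comp_apply, MvPolynomial.eval₂Hom_C, gE_C, RingHom.comp_apply,
        Polynomial.toLaurent_C]
    · intro j
      rw [RingHom.comp_apply, MvPolynomial.eval₂Hom_X', gE_X, map_mul, Polynomial.toLaurent_C,
        Polynomial.toLaurent_X]
  exact RingHom.congr_fun this F

lemma Th_toLaurent_G0 (F : MvPolynomial (Fin r) k) :
    Th k r (-1) (Polynomial.toLaurent (G0 k r F)) = C F := by
  rw [toLaurent_G0]
  have := Th_gE k r (-1) F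
  rwa [neg_neg] at this

/-- evaluation at `T = 1` recovers `F`. -/
lemma eval_one_G0 (F : MvPolynomial (Fin r) k) : (G0 k r F).eval 1 = F := by
  have : (Polynomial.evalRingHom (1 : MvPolynomial (Fin r) k)).comp
      (MvPolynomial.eval₂Hom (Polynomial.C.comp MvPolynomial.C)
        (fun j => Polynomial.C (MvPolynomial.X j) * Polynomial.X)) = RingHom.id _ := by
    apply MvPolynomial.ringHom_ext
    · intro c
      simp
    · intro j
      simp
  exact RingHom.congr_fun this F

/-- the constant coefficient. -/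
lemma coeff_zero_G0 (F : MvPolynomial (Fin r) k) :
    (G0 k r F).coeff 0 = MvPolynomial.C (MvPolynomial.eval (fun _ => (0 : k)) F) := by
  rw [Polynomial.coeff_zero_eq_eval_zero]
  have : (Polynomial.evalRingHom (0 : MvPolynomial (Fin r) k)).comp
      (MvPolynomial.eval₂Hom (Polynomial.C.comp MvPolynomial.C)
        (fun j => Polynomial.C (MvPolynomial.X j) * Polynomial.X)) =
      (MvPolynomial.C).comp (MvPolynomial.eval (fun _ => (0 : k))) := by
    apply MvPolynomial.ringHom_ext
    · intro c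
      simp
    · intro j
      simp
  exact RingHom.congr_fun this F

end Groth.Agent.Lib.helper10.LineIrr
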