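import Groth.Agent.Lib.helper10.LineIrrA

set_option autoImplicit false
universe u

namespace Groth.Agent.Lib.helper10.LineIrr

open LaurentPolynomial

/-- a polynomial whose trailing degree equals its degree is a monomial. -/
lemma eq_monomial_of_trailing {R : Type*} [Semiring R] (p : Polynomial R)
    (h : p.natTrailingDegree = p.natDegree) :
    p = Polynomial.C (p.coeff p.natDegree) * Polynomial.X ^ p.natDegree := by
  ext n
  rw [Polynomial.coeff_C_mul_X_pow]
  split_ifs with hn
  · rw [hn]
  · rcases lt_or_gt_of_ne hn with h1 | h1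
    · exact Polynomial.coeff_eq_zero_of_lt_natTrailingDegree (h ▸ h1)
    · exact Polynomial.coeff_eq_zero_of_natDegree_lt h1

variable (k : Type u) [Field k] (r : ℕ)

/-- a polynomial with nonzero constant term which is a unit monomial in the Laurent ring is a
unit. -/
lemma unit_of_factor (P : Polynomial (MvPolynomial (Fin r) k)) (hP : P.coeff 0 ≠ 0)
    (p : MvPolynomial (Fin r) k) (hp : IsUnit p) (n : ℤ)
    (h : Polynomial.toLaurent P = C p * T n) : IsUnit P := by
  rcases le_or_gt 0 n with hn | hn
  · lift n to ℕ using hn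
    have h1 : P = Polynomial.monomial n p := by
      apply Polynomial.toLaurent_injective
      rw [h, Polynomial.toLaurent_C_mul_T]
    have hn0 : n = 0 := by
      by_contra hne
      apply hP
      rw [h1, Polynomial.coeff_monomial, if_neg hne]
    subst hn0
    rw [h1, Polynomial.monomial_zero_left]
    exact hp.map Polynomial.C
  · exfalso
    obtain ⟨m, rfl⟩ := Int.exists_eq_neg_ofNat hn.le
    have hm : m ≠ 0 := by
      rintro rfl
      simp at hn
    have h1 : P * Polynomial.X ^ m = Polynomial.C p := by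
      apply Polynomial.toLaurent_injective
      rw [map_mul, h, Polynomial.toLaurent_X_pow, Polynomial.toLaurent_C, mul_assoc, ← T_add,
        neg_add_cancel, T_zero, mul_one]
    have h2 := congrArg (fun q => Polynomial.coeff q 0) h1
    simp only [Polynomial.coeff_mul_X_pow', Polynomial.coeff_C_zero] at h2
    rw [if_neg (by omega)] at h2
    rw [← h2] at hp
    exact not_isUnit_zero hp

/-- a factorisation of `G0 F` becomes, after the substitution `X_j ↦ X_j T⁻¹`, a factorisation
of `F` into two monomials in `T`. -/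
lemma factor_aux (F : MvPolynomial (Fin r) k) (hF0 : F ≠ 0)
    (P Q : Polynomial (MvPolynomial (Fin r) k)) (h : G0 k r F = P * Q) :
    ∃ (p q : MvPolynomial (Fin r) k) (m m' : ℤ), p * q = F ∧
      Th k r (-1) (Polynomial.toLaurent P) = C p * T m ∧
      Th k r (-1) (Polynomial.toLaurent Q) = C q * T m' := by
  have h1 : C F = Th k r (-1) (Polynomial.toLaurent P) * Th k r (-1) (Polynomial.toLaurent Q) := by
    rw [← map_mul, ← map_mul, ← h, Th_toLaurent_G0]
  obtain ⟨a, P', hP'⟩ := exists_T_pow (Th k r (-1) (Polynomial.toLaurent P))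
  obtain ⟨b, Q', hQ'⟩ := exists_T_pow (Th k r (-1) (Polynomial.toLaurent Q))
  have h2 : P' * Q' = Polynomial.C F * Polynomial.X ^ (a + b) := by
    apply Polynomial.toLaurent_injective
    rw [map_mul, hP', hQ', map_mul, Polynomial.toLaurent_C, Polynomial.toLaurent_X_pow, h1,
      Nat.cast_add, T_add]
    ring
  have hne : Polynomial.C F * Polynomial.X ^ (a + b) ≠ 0 :=
    mul_ne_zero (Polynomial.C_ne_zero.2 hF0) (pow_ne_zero _ Polynomial.X_ne_zero)
  have hP0 : P' ≠ 0 := left_ne_zero_of_mul (h2 ▸ hne)
  have hQ0 : Q' ≠ 0 := right_ne_zero_of_mul (h2 ▸ hne)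
  have hd : P'.natDegree + Q'.natDegree = a + b := by
    rw [← Polynomial.natDegree_mul hP0 hQ0, h2, Polynomial.natDegree_C_mul_X_pow _ _ hF0]
  have ht : P'.natTrailingDegree + Q'.natTrailingDegree = a + b := by
    rw [← Polynomial.natTrailingDegree_mul hP0 hQ0, h2,
      Polynomial.natTrailingDegree_mul_X_pow (Polynomial.C_ne_zero.2 hF0),
      Polynomial.natTrailingDegree_C, zero_add]
  have hP1 : P'.natTrailingDegree = P'.natDegree := by
    have := Polynomial.natTrailingDegree_le_natDegree P'
    have := Polynomial.natTrailingDegree_le_natDegree Q'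
    omega
  have hQ1 : Q'.natTrailingDegree = Q'.natDegree := by
    have := Polynomial.natTrailingDegree_le_natDegree P'
    have := Polynomial.natTrailingDegree_le_natDegree Q'
    omega
  have eP := eq_monomial_of_trailing P' hP1
  have eQ := eq_monomial_of_trailing Q' hQ1
  have hpq : P'.coeff P'.natDegree * Q'.coeff Q'.natDegree = F := by
    have := congrArg Polynomial.leadingCoeff h2
    rw [Polynomial.leadingCoeff_mul, Polynomial.leadingCoeff_mul_X_pow,
      Polynomial.leadingCoeff_C] at this
    exact this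
  have key : ∀ (S : LaurentPolynomial (MvPolynomial (Fin r) k))
      (S' : Polynomial (MvPolynomial (Fin r) k)) (c : ℕ)
      (_ : Polynomial.toLaurent S' = S * T c)
      (_ : S' = Polynomial.C (S'.coeff S'.natDegree) * Polynomial.X ^ S'.natDegree),
      S = C (S'.coeff S'.natDegree) * T ((S'.natDegree : ℤ) - c) := by
    intro S S' c h3 h4
    have h5 : Polynomial.toLaurent S' = C (S'.coeff S'.natDegree) * T (S'.natDegree : ℤ) := by
      conv_lhs => rw [h4]
      rw [map_mul, Polynomial.toLaurent_C, Polynomial.toLaurent_X_pow]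
    calc S = (S * T c) * T (-(c : ℤ)) := by
          rw [mul_assoc, ← T_add, add_neg_cancel, T_zero, mul_one]
      _ = C (S'.coeff S'.natDegree) * T ((S'.natDegree : ℤ) - c) := by
          rw [← h3, h5, mul_assoc, ← T_add, sub_eq_add_neg]
  exact ⟨_, _, _, _, hpq, key _ P' a hP' eP, key _ Q' b hQ' eQ⟩

/-- `F(X₁T, …, X_rT)` is irreducible in `k[X][T]` when `F` is irreducible with `F(0) ≠ 0`. -/
lemma irreducible_G0 (F : MvPolynomial (Fin r) k) (hF : Irreducible F)
    (hF0 : MvPolynomial.eval (fun _ => (0 : k)) F ≠ 0) : Irreducible (G0 k r F) := by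
  rw [irreducible_iff]
  refine ⟨?_, ?_⟩
  · intro hu
    have := hu.map (Polynomial.evalRingHom (1 : MvPolynomial (Fin r) k))
    rw [Polynomial.coe_evalRingHom, eval_one_G0] at this
    exact hF.not_isUnit this
  · intro P Q h
    obtain ⟨p, q, m, m', hpq, hP, hQ⟩ := factor_aux k r F hF.ne_zero P Q h
    have hc : P.coeff 0 * Q.coeff 0 = MvPolynomial.C (MvPolynomial.eval (fun _ => (0 : k)) F) := by
      rw [← Polynomial.mul_coeff_zero, ← h, coeff_zero_G0]
    have hc0 : P.coeff 0 * Q.coeff 0 ≠ 0 := by
      rw [hc]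
      exact (MvPolynomial.C_ne_zero).2 hF0
    have fin : ∀ (S : Polynomial (MvPolynomial (Fin r) k)) (s : MvPolynomial (Fin r) k) (n : ℤ),
        S.coeff 0 ≠ 0 → IsUnit s → Th k r (-1) (Polynomial.toLaurent S) = C s * T n →
        IsUnit S := by
      intro S s n hS hs hS'
      apply unit_of_factor k r S hS s hs n
      have h3 := congrArg (Th k r 1) hS'
      have h4 := Th_Th_toLaurent k r 1 S
      rw [h4] at h3
      rw [h3, map_mul, Th_C, Th_T]
      obtain ⟨c, -, rfl⟩ := MvPolynomial.isUnit_iff_eq_C_of_isReduced.1 hs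
      rw [gE_C]
    rcases hF.isUnit_or_isUnit hpq.symm with hu | hu
    · left
      exact fin P p m (left_ne_zero_of_mul hc0) hu hP
    · right
      exact fin Q q m' (right_ne_zero_of_mul hc0) hu hQ

/-- `G0 F` is primitive when `F(0) ≠ 0`. -/
lemma isPrimitive_G0 (F : MvPolynomial (Fin r) k)
    (hF0 : MvPolynomial.eval (fun _ => (0 : k)) F ≠ 0) : (G0 k r F).IsPrimitive := by
  rw [Polynomial.isPrimitive_iff_isUnit_of_C_dvd]
  intro a ha
  have h1 := (Polynomial.C_dvd_iff_dvd_coeff a _).1 ha 0
  rw [coeff_zero_G0] at h1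
  exact isUnit_of_dvd_unit h1 ((isUnit_iff_ne_zero.2 hF0).map MvPolynomial.C)

/-- the statement over the fraction field. -/
theorem main (F : MvPolynomial (Fin r) k) (hF : Irreducible F)
    (hF0 : MvPolynomial.eval (fun _ => (0 : k)) F ≠ 0) :
    Irreducible ((G0 k r F).map (algebraMap (MvPolynomial (Fin r) k)
      (FractionRing (MvPolynomial (Fin r) k)))) :=
  ((isPrimitive_G0 k r F hF0).irreducible_iff_irreducible_map_fraction_map).1
    (irreducible_G0 k r F hF hF0)

end Groth.Agent.Lib.helper10.LineIrr
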