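import Mathlib

set_option autoImplicit false
universe u
open Polynomial

namespace Groth.Agent.Lib.helper10.LurothRed

/-- A ring hom out of a subalgebra `A'` algebraic over a smaller subalgebra `B` on which the hom is
injective, is injective. -/
theorem injective_of_algebraic {k K L : Type*} [Field k] [Field K] [Algebra k K] [CommRing L]
    [IsDomain L] (A' B : Subalgebra k K) (hBA : B ≤ A') (ψ0 : A' →+* L)
    (halg : ∀ a : A', IsAlgebraic B (a : K))
    (hB : ∀ (b : K) (hb : b ∈ B), ψ0 ⟨b, hBA hb⟩ = 0 → b = 0) : Function.Injective ψ0 := by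
  rw [injective_iff_map_eq_zero]
  intro a ha
  by_contra ha0
  have ha0' : (a : K) ≠ 0 := fun h => ha0 (Subtype.ext h)
  obtain ⟨q, hq0, hq⟩ := (halg a).exists_nonzero_coeff_and_aeval_eq_zero
    (mem_nonZeroDivisors_of_ne_zero ha0')
  let incl : B →+* A' := (Subalgebra.inclusion hBA).toRingHom
  have h1 : Polynomial.eval₂ incl a q = 0 := by
    apply Subtype.ext
    have := Polynomial.hom_eval₂ q incl A'.val.toRingHom a
    rw [show A'.val.toRingHom (Polynomial.eval₂ incl a q) = ((Polynomial.eval₂ incl a q : A') : K)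
      from rfl] at this
    rw [this]
    exact hq
  have h2 := Polynomial.hom_eval₂ q incl ψ0 a
  rw [h1, map_zero, ha, Polynomial.eval₂_at_zero] at h2
  have h3 := hB (q.coeff 0 : K) (q.coeff 0).2 h2.symm
  exact hq0 (Subtype.ext h3)

theorem exists_eval_ne_zero {k : Type*} [Field k] [Infinite k] {n : ℕ}
    (p : MvPolynomial (Fin n) k) (hp : p ≠ 0) : ∃ u : Fin n → k, MvPolynomial.eval u p ≠ 0 := by
  by_contra h
  push Not at h
  exact hp (MvPolynomial.funext fun u => by rw [h u, map_zero])

section line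
variable {k : Type*} [Field k] {n : ℕ} (u u' : Fin n → k)

/-- restriction to the line through `u` (at `X = 0`) and `u'` (at `X = 1`). -/
noncomputable def σ : MvPolynomial (Fin n) k →ₐ[k] k[X] :=
  MvPolynomial.aeval (fun i => Polynomial.C (u i) + Polynomial.C (u' i - u i) * Polynomial.X)

theorem eval_zero_σ (p : MvPolynomial (Fin n) k) :
    (σ u u' p).eval 0 = MvPolynomial.eval u p := by
  have : (Polynomial.aeval (0:k)).comp (σ u u') = MvPolynomial.aeval u := by
    apply MvPolynomial.algHom_ext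
    intro i
    simp [σ]
  have h := congrArg (fun f => f p) this
  simpa using h

theorem eval_one_σ (p : MvPolynomial (Fin n) k) :
    (σ u u' p).eval 1 = MvPolynomial.eval u' p := by
  have : (Polynomial.aeval (1:k)).comp (σ u u') = MvPolynomial.aeval u' := by
    apply MvPolynomial.algHom_ext
    intro i
    simp [σ]
  have h := congrArg (fun f => f p) this
  simpa using h

end line

section main
variable {k : Type u} [Field k] {n : ℕ} (u u' : Fin n → k)

noncomputable def σ' : MvPolynomial (Fin n) k →ₐ[k] RatFunc k :=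
  (IsScalarTower.toAlgHom k k[X] (RatFunc k)).comp (σ u u')

theorem σ'_apply (p : MvPolynomial (Fin n) k) :
    σ' u u' p = algebraMap k[X] (RatFunc k) (σ u u' p) := rfl

theorem σ'_ne_zero_of_eval {p : MvPolynomial (Fin n) k} (h : MvPolynomial.eval u p ≠ 0) :
    σ' u u' p ≠ 0 := by
  intro h0
  rw [σ'_apply, map_eq_zero_iff _ (RatFunc.algebraMap_injective k)] at h0
  rw [← eval_zero_σ u u', h0] at h
  simp at h

/-- kernel of the specialization -/
noncomputable def 𝔭 : Ideal (MvPolynomial (Fin n) k) := RingHom.ker (σ' u u').toRingHom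

instance : (𝔭 u u').IsPrime := RingHom.ker_isPrime _

theorem primeCompl_le : (𝔭 u u').primeCompl ≤ nonZeroDivisors (MvPolynomial (Fin n) k) := by
  intro s hs
  apply mem_nonZeroDivisors_of_ne_zero
  rintro rfl
  exact hs (Ideal.zero_mem _)

theorem mem_primeCompl_of_eval {p : MvPolynomial (Fin n) k} (h : MvPolynomial.eval u p ≠ 0) :
    p ∈ (𝔭 u u').primeCompl := fun hp => σ'_ne_zero_of_eval u u' h hp

/-- the local ring of the line in the function field -/
noncomputable def O : Subalgebra (MvPolynomial (Fin n) k) (FractionRing (MvPolynomial (Fin n) k)) :=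
  Localization.subalgebra.ofField (FractionRing (MvPolynomial (Fin n) k)) (𝔭 u u').primeCompl
    (primeCompl_le u u')

theorem mem_O_iff (z : FractionRing (MvPolynomial (Fin n) k)) :
    z ∈ O u u' ↔ ∃ (a s : MvPolynomial (Fin n) k) (_ : s ∈ (𝔭 u u').primeCompl),
      z = algebraMap _ (FractionRing (MvPolynomial (Fin n) k)) a *
        (algebraMap _ (FractionRing (MvPolynomial (Fin n) k)) s)⁻¹ := Iff.rfl

noncomputable instance : IsLocalization (𝔭 u u').primeCompl (O u u') :=
  Localization.subalgebra.isLocalization_ofField _ _ _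

noncomputable def τ : O u u' →+* RatFunc k :=
  IsLocalization.lift (M := (𝔭 u u').primeCompl) (S := O u u') (g := (σ' u u').toRingHom)
    (fun y => IsUnit.mk0 _ (fun h => y.2 h))

theorem τ_algebraMap (p : MvPolynomial (Fin n) k) :
    τ u u' (algebraMap _ (O u u') p) = σ' u u' p := IsLocalization.lift_eq _ _

section field
variable {K : Type u} [Field K] [Algebra k K]
  (φ : K →ₐ[k] FractionRing (MvPolynomial (Fin n) k))

/-- elements of `K` regular along the line -/
noncomputable def A' : Subalgebra k K where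
  carrier := {a | φ a ∈ O u u'}
  mul_mem' := fun {a b} ha hb => by
    show φ (a * b) ∈ O u u'
    rw [map_mul]; exact (O u u').mul_mem ha hb
  add_mem' := fun {a b} ha hb => by
    show φ (a + b) ∈ O u u'
    rw [map_add]; exact (O u u').add_mem ha hb
  algebraMap_mem' := fun c => by
    show φ (algebraMap k K c) ∈ O u u'
    rw [AlgHom.commutes, IsScalarTower.algebraMap_apply k (MvPolynomial (Fin n) k)
      (FractionRing (MvPolynomial (Fin n) k))]
    exact (O u u').algebraMap_mem _

theorem mem_A'_iff (a : K) : a ∈ A' u u' φ ↔ φ a ∈ O u u' := Iff.rfl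

theorem mem_A'_of_eq_div {a : K} {p q : MvPolynomial (Fin n) k}
    (hq : MvPolynomial.eval u q ≠ 0)
    (h : φ a = algebraMap _ (FractionRing (MvPolynomial (Fin n) k)) p /
      algebraMap _ (FractionRing (MvPolynomial (Fin n) k)) q) : a ∈ A' u u' φ := by
  rw [mem_A'_iff, mem_O_iff]
  exact ⟨p, q, mem_primeCompl_of_eval u u' hq, by rw [h, div_eq_mul_inv]⟩

noncomputable def ψ0 : A' u u' φ →+* RatFunc k :=
  (τ u u').comp (RingHom.codRestrict (φ.toRingHom.comp (A' u u' φ).val.toRingHom) (O u u')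
    (fun a => a.2))

theorem ψ0_eq_div (a : A' u u' φ) {p q : MvPolynomial (Fin n) k}
    (hq : MvPolynomial.eval u q ≠ 0)
    (h : φ a = algebraMap _ (FractionRing (MvPolynomial (Fin n) k)) p /
      algebraMap _ (FractionRing (MvPolynomial (Fin n) k)) q) :
    ψ0 u u' φ a = σ' u u' p / σ' u u' q := by
  have hσq := σ'_ne_zero_of_eval u u' hq
  rw [eq_div_iff hσq, ← τ_algebraMap, ← τ_algebraMap]
  unfold ψ0
  rw [RingHom.comp_apply, ← map_mul]
  congr 1
  apply Subtype.ext
  show φ a * algebraMap _ (FractionRing (MvPolynomial (Fin n) k)) q =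
    algebraMap _ (FractionRing (MvPolynomial (Fin n) k)) p
  have hq0 : algebraMap _ (FractionRing (MvPolynomial (Fin n) k)) q ≠ 0 := by
    intro h0
    have : q = 0 := (IsFractionRing.injective (MvPolynomial (Fin n) k)
      (FractionRing (MvPolynomial (Fin n) k))) (by rw [h0, map_zero])
    rw [this, map_zero] at hq
    exact hq rfl
  rw [h, div_mul_cancel₀ _ hq0]

theorem ψ0_algebraMap (c : k) : ψ0 u u' φ (algebraMap k (A' u u' φ) c) = algebraMap k (RatFunc k) c := by
  have h1 : ψ0 u u' φ (algebraMap k (A' u u' φ) c) =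
      τ u u' (algebraMap (MvPolynomial (Fin n) k) (O u u') (MvPolynomial.C c)) := by
    unfold ψ0
    rw [RingHom.comp_apply]
    congr 1
    apply Subtype.ext
    show φ (algebraMap k K c) = algebraMap (MvPolynomial (Fin n) k)
      (FractionRing (MvPolynomial (Fin n) k)) (MvPolynomial.C c)
    rw [AlgHom.commutes, IsScalarTower.algebraMap_apply k (MvPolynomial (Fin n) k)
      (FractionRing (MvPolynomial (Fin n) k))]
    rfl
  rw [h1, τ_algebraMap]
  exact (σ' u u').commutes c

noncomputable def ψ0A : A' u u' φ →ₐ[k] RatFunc k :=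
  { ψ0 u u' φ with commutes' := ψ0_algebraMap u u' φ }

theorem ψ0A_apply (a : A' u u' φ) : ψ0A u u' φ a = ψ0 u u' φ a := rfl

theorem ψ0A_eq_div (a : A' u u' φ) {p q : MvPolynomial (Fin n) k}
    (hq : MvPolynomial.eval u q ≠ 0)
    (h : φ a = algebraMap _ (FractionRing (MvPolynomial (Fin n) k)) p /
      algebraMap _ (FractionRing (MvPolynomial (Fin n) k)) q) :
    ψ0A u u' φ a = σ' u u' p / σ' u u' q :=
  (ψ0A_apply u u' φ a).trans (ψ0_eq_div u u' φ a hq h)

theorem ψ0A_aeval (a : A' u u' φ) (r : k[X]) :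
    ψ0A u u' φ (Polynomial.aeval a r) = Polynomial.aeval (ψ0A u u' φ a) r :=
  (Polynomial.aeval_algHom_apply (ψ0A u u' φ) a r).symm

theorem coe_aeval (a : A' u u' φ) (r : k[X]) :
    ((Polynomial.aeval a r : A' u u' φ) : K) = Polynomial.aeval (a : K) r :=
  (Subalgebra.aeval_coe (A' u u' φ) a r).symm

end field

end main

open scoped IntermediateField.algebraAdjoinAdjoin in
theorem main (k : Type u) [Field k] [IsAlgClosed k]
    (K : Type u) [Field K] [Algebra k K] (hfg : (⊤ : IntermediateField k K).FG)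
    (x : K) (hx : Transcendental k x) (halg : Algebra.IsAlgebraic ↥(IntermediateField.adjoin k {x}) K)
    (n : ℕ) (φ : K →ₐ[k] FractionRing (MvPolynomial (Fin n) k)) :
    ∃ t : K, Transcendental k t ∧ IntermediateField.adjoin k {t} = ⊤ := by
  classical
  obtain ⟨S, hS⟩ := hfg
  have hdiv : ∀ y : K, ∃ p q : MvPolynomial (Fin n) k, q ≠ 0 ∧
      φ y = algebraMap _ (FractionRing (MvPolynomial (Fin n) k)) p /
        algebraMap _ (FractionRing (MvPolynomial (Fin n) k)) q := by
    intro y
    obtain ⟨p, q, hq, h⟩ := IsFractionRing.div_surjective (A := MvPolynomial (Fin n) k) (φ y)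
    exact ⟨p, q, nonZeroDivisors.ne_zero hq, h.symm⟩
  choose num den hden hφ using hdiv
  have hdenF : ∀ y, algebraMap _ (FractionRing (MvPolynomial (Fin n) k)) (den y) ≠ 0 := by
    intro y h0
    exact hden y ((IsFractionRing.injective (MvPolynomial (Fin n) k)
      (FractionRing (MvPolynomial (Fin n) k))) (by rw [h0, map_zero]))
  obtain ⟨S', hS'def⟩ : ∃ S' : Finset K, S' = insert x S := ⟨_, rfl⟩
  have hxS' : x ∈ S' := by rw [hS'def]; exact Finset.mem_insert_self _ _
  have hSS' : ∀ y ∈ S, y ∈ S' := fun y hy => by rw [hS'def]; exact Finset.mem_insert_of_mem hy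
  obtain ⟨G, hGdef⟩ : ∃ G : MvPolynomial (Fin n) k, G = ∏ y ∈ S', den y := ⟨_, rfl⟩
  have hG : G ≠ 0 := by rw [hGdef]; exact Finset.prod_ne_zero_iff.mpr (fun y _ => hden y)
  have hGeval : ∀ v : Fin n → k, MvPolynomial.eval v G ≠ 0 →
      ∀ y ∈ S', MvPolynomial.eval v (den y) ≠ 0 := by
    intro v hv y hy
    rw [hGdef, map_prod] at hv
    exact Finset.prod_ne_zero_iff.mp hv y hy
  obtain ⟨u', hu'⟩ := exists_eval_ne_zero G hG
  have hden_u' := hGeval u' hu'
  obtain ⟨c, hcdef⟩ : ∃ c : k, c = MvPolynomial.eval u' (num x) / MvPolynomial.eval u' (den x) :=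
    ⟨_, rfl⟩
  have hH0 : num x - MvPolynomial.C c * den x ≠ 0 := by
    intro h0
    have h1 : num x = MvPolynomial.C c * den x := sub_eq_zero.mp h0
    have h2 : φ x = algebraMap k _ c := by
      rw [hφ x, h1, map_mul, mul_div_assoc, div_self (hdenF x), mul_one,
        IsScalarTower.algebraMap_apply k (MvPolynomial (Fin n) k)
          (FractionRing (MvPolynomial (Fin n) k))]
      rfl
    have h3 : x = algebraMap k K c := φ.toRingHom.injective (by
      show φ x = φ (algebraMap k K c)
      rw [h2, AlgHom.commutes])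
    exact hx (h3 ▸ isAlgebraic_algebraMap c)
  obtain ⟨u, hu⟩ := exists_eval_ne_zero ((num x - MvPolynomial.C c * den x) * G)
    (mul_ne_zero hH0 hG)
  rw [map_mul] at hu
  have hu1 : MvPolynomial.eval u (num x - MvPolynomial.C c * den x) ≠ 0 := left_ne_zero_of_mul hu
  have hden_u := hGeval u (right_ne_zero_of_mul hu)
  have hmem : ∀ y ∈ S', y ∈ A' u u' φ :=
    fun y hy => mem_A'_of_eq_div u u' φ (hden_u y hy) (hφ y)
  have hxA : x ∈ A' u u' φ := hmem x hxS'
  have hψx : ψ0A u u' φ ⟨x, hxA⟩ = σ' u u' (num x) / σ' u u' (den x) :=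
    ψ0A_eq_div u u' φ ⟨x, hxA⟩ (hden_u x hxS') (hφ x)
  have hnc : ¬ ∃ c', ψ0A u u' φ ⟨x, hxA⟩ = RatFunc.C c' := by
    rintro ⟨c', hc'⟩
    rw [hψx, div_eq_iff (σ'_ne_zero_of_eval u u' (hden_u x hxS'))] at hc'
    have h4 : σ u u' (num x) = Polynomial.C c' * σ u u' (den x) := by
      apply RatFunc.algebraMap_injective k
      rw [map_mul, RatFunc.algebraMap_C]
      exact hc'
    have e1 := congrArg (Polynomial.eval 1) h4
    have e0 := congrArg (Polynomial.eval 0) h4
    rw [Polynomial.eval_mul, Polynomial.eval_C, eval_one_σ, eval_one_σ] at e1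
    rw [Polynomial.eval_mul, Polynomial.eval_C, eval_zero_σ, eval_zero_σ] at e0
    have hcc : c' = c := by
      rw [hcdef, eq_div_iff (hden_u' x hxS')]
      exact e1.symm
    apply hu1
    rw [map_sub, map_mul, MvPolynomial.eval_C, e0, hcc, sub_self]
  have htr : Transcendental k (ψ0A u u' φ ⟨x, hxA⟩) := RatFunc.transcendental_of_ne_C _ hnc
  have hinj : Function.Injective (ψ0A u u' φ) := by
    have hBA : Algebra.adjoin k {x} ≤ A' u u' φ :=
      Algebra.adjoin_le (by
        intro y hy
        rw [Set.mem_singleton_iff] at hy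
        rw [hy]; exact hxA)
    apply injective_of_algebraic (A' u u' φ) (Algebra.adjoin k {x}) hBA (ψ0A u u' φ).toRingHom
    · intro a
      have := halg.isAlgebraic (a : K)
      exact (IsFractionRing.isAlgebraic_iff (Algebra.adjoin k {x})
        (IntermediateField.adjoin k {x}) K).mpr this
    · intro b hb h0
      have hb' := hb
      rw [Algebra.adjoin_singleton_eq_range_aeval] at hb'
      obtain ⟨r, rfl⟩ := hb'
      have h5 : (⟨Polynomial.aeval x r, hBA hb⟩ : A' u u' φ) =
          Polynomial.aeval (⟨x, hxA⟩ : A' u u' φ) r :=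
        Subtype.ext (coe_aeval u u' φ ⟨x, hxA⟩ r).symm
      have h6 := ψ0A_aeval u u' φ ⟨x, hxA⟩ r
      have h0' : ψ0A u u' φ (Polynomial.aeval (⟨x, hxA⟩ : A' u u' φ) r) = 0 := by
        rw [← h5]; exact h0
      rw [h6] at h0'
      have : r = 0 := transcendental_iff.mp htr r h0'
      show Polynomial.aeval x r = 0
      rw [this, map_zero]
  have hSA : Algebra.adjoin k (S : Set K) ≤ A' u u' φ :=
    Algebra.adjoin_le (fun y hy => hmem y (hSS' y hy))
  have : IsFractionRing (A' u u' φ) K := IsFractionRing.of_field _ _ (fun z => by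
    have hz : z ∈ IntermediateField.adjoin k (S : Set K) := by rw [hS]; trivial
    obtain ⟨r, hr, s, hs, rfl⟩ := IntermediateField.mem_adjoin_iff_div.mp hz
    exact ⟨⟨r, hSA hr⟩, ⟨s, hSA hs⟩, rfl⟩)
  obtain ⟨ψ, hψ⟩ : ∃ ψ : K →ₐ[k] RatFunc k, ∀ a : A' u u' φ, ψ (a : K) = ψ0A u u' φ a :=
    ⟨IsFractionRing.liftAlgHom (g := ψ0A u u' φ) hinj,
      fun a => IsFractionRing.lift_algebraMap hinj a⟩
  have hψx' : ψ x = ψ0A u u' φ ⟨x, hxA⟩ := hψ ⟨x, hxA⟩
  have hE : ψ.fieldRange ≠ ⊥ := by
    intro hE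
    have hmemE : ψ x ∈ ψ.fieldRange := ⟨x, rfl⟩
    rw [hE, IntermediateField.mem_bot] at hmemE
    obtain ⟨c', hc'⟩ := hmemE
    exact hnc ⟨c', by rw [← hψx', ← hc', RatFunc.algebraMap_eq_C]⟩
  have hgen := RatFunc.Luroth.eq_adjoin_generator (E := ψ.fieldRange)
  obtain ⟨t, ht⟩ := RatFunc.Luroth.generator_mem (E := ψ.fieldRange)
  refine ⟨t, ?_, ?_⟩
  · intro halgt
    apply RatFunc.Luroth.transcendental_generator hE
    have h7 : ψ t = RatFunc.Luroth.generator ψ.fieldRange := ht
    rw [← h7]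
    exact halgt.algHom ψ
  · rw [eq_top_iff]
    rintro z -
    have hz : ψ z ∈ ψ.fieldRange := ⟨z, rfl⟩
    rw [hgen] at hz
    have h7 : ψ t = RatFunc.Luroth.generator ψ.fieldRange := ht
    rw [← h7, ← Set.image_singleton, ← IntermediateField.adjoin_map] at hz
    obtain ⟨w, hw, hwz⟩ := hz
    have : w = z := ψ.toRingHom.injective hwz
    rw [← this]; exact hw

end Groth.Agent.Lib.helper10.LurothRed
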