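import Mathlib

set_option maxHeartbeats 400000
set_option autoImplicit false

namespace Groth.Agent.Lib.helper10.MinAlg

universe u
open Polynomial

section general
variable {κ A : Type u} [Field κ] [CommRing A] [Algebra κ A]

theorem adjoin_eq_top (h : IsSimpleOrder (Subalgebra κ A)) {a : A}
    (ha : a ∉ (⊥ : Subalgebra κ A)) : Algebra.adjoin κ {a} = ⊤ := by
  rcases eq_bot_or_eq_top (Algebra.adjoin κ {a}) with h1 | h1
  · exact absurd (h1 ▸ Algebra.self_mem_adjoin_singleton κ a) ha
  · exact h1

theorem exists_notMem_bot (h : IsSimpleOrder (Subalgebra κ A)) :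
    ∃ a : A, a ∉ (⊥ : Subalgebra κ A) := by
  by_contra hcon
  push Not at hcon
  have : (⊥ : Subalgebra κ A) = ⊤ := by
    apply le_antisymm bot_le
    intro x _
    exact hcon x
  exact bot_ne_top this

theorem isAlgebraic_of_notMem (h : IsSimpleOrder (Subalgebra κ A)) (a : A) :
    IsAlgebraic κ a := by
  by_cases h2 : a ^ 2 ∈ (⊥ : Subalgebra κ A)
  · obtain ⟨c, hc⟩ := Algebra.mem_bot.1 h2
    refine ⟨X ^ 2 - C c, X_pow_sub_C_ne_zero (by norm_num) c, ?_⟩
    simp [hc]
  · have htop := adjoin_eq_top h h2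
    have hmem : a ∈ Algebra.adjoin κ {a ^ 2} := htop ▸ Algebra.mem_top
    rw [Algebra.adjoin_singleton_eq_range_aeval] at hmem
    obtain ⟨q, hq⟩ := hmem
    refine ⟨expand κ 2 q - X, ?_, ?_⟩
    · intro h0
      have := congrArg (fun f => f.coeff 1) h0
      simp [coeff_expand] at this
    · rw [map_sub, expand_aeval, aeval_X]
      have : (aeval (a ^ 2)) q = a := hq
      rw [this, sub_self]

theorem finite_of_simple (h : IsSimpleOrder (Subalgebra κ A)) : FiniteDimensional κ A := by
  obtain ⟨a, ha⟩ := exists_notMem_bot h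
  have halg := isAlgebraic_of_notMem h a
  have hfg := halg.isIntegral.fg_adjoin_singleton
  rw [adjoin_eq_top h ha, Algebra.top_toSubmodule] at hfg
  exact Module.finite_def.2 hfg

theorem dualNumber_of_nilpotent (h : IsSimpleOrder (Subalgebra κ A)) {n : A} (hn : n ≠ 0)
    (hn2 : n * n = 0) : Nonempty (A ≃ₐ[κ] DualNumber κ) := by
  have : Nontrivial A := ⟨⟨n, 0, hn⟩⟩
  have hnb : n ∉ (⊥ : Subalgebra κ A) := by
    intro hmem
    obtain ⟨c, hc⟩ := Algebra.mem_bot.1 hmem
    by_cases hc0 : c = 0
    · subst hc0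
      rw [map_zero] at hc
      exact hn hc.symm
    · have hu : IsUnit n := hc ▸ (IsUnit.map (algebraMap κ A) (Ne.isUnit hc0))
      exact hn (hu.mul_left_cancel (by rw [hn2, mul_zero]))
  have htop := adjoin_eq_top h hnb
  let φ : DualNumber κ →ₐ[κ] A :=
    DualNumber.lift ⟨(Algebra.ofId κ A, n), hn2, fun a => Commute.all _ _⟩
  have hφ : ∀ x : DualNumber κ, φ x = algebraMap κ A x.fst + algebraMap κ A x.snd * n :=
    fun x => rfl
  have hsurj : Function.Surjective φ := by
    rw [← AlgHom.range_eq_top, eq_top_iff, ← htop, Algebra.adjoin_le_iff]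
    rintro _ rfl
    refine ⟨DualNumber.eps, ?_⟩
    change φ DualNumber.eps = _
    rw [hφ]
    simp
  have hinj : Function.Injective φ := by
    rw [injective_iff_map_eq_zero]
    intro x hx
    rw [hφ] at hx
    have hs : x.snd = 0 := by
      by_contra hs
      apply hnb
      refine Algebra.mem_bot.2 ⟨-(x.fst / x.snd), ?_⟩
      have hu : IsUnit (algebraMap κ A x.snd) := IsUnit.map (algebraMap κ A) (Ne.isUnit hs)
      apply hu.mul_left_cancel
      rw [← map_mul, mul_neg, mul_div_cancel₀ _ hs, map_neg]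
      linear_combination -hx
    have hf : x.fst = 0 := by
      rw [hs, map_zero, zero_mul, add_zero] at hx
      exact (map_eq_zero_iff _ (algebraMap κ A).injective).1 hx
    exact TrivSqZeroExt.ext hf hs
  exact ⟨(AlgEquiv.ofBijective φ ⟨hinj, hsurj⟩).symm⟩

theorem prod_of_idempotent (h : IsSimpleOrder (Subalgebra κ A)) {e : A} (he : e * e = e)
    (he0 : e ≠ 0) (he1 : e ≠ 1) : Nonempty (A ≃ₐ[κ] (κ × κ)) := by
  have : Nontrivial A := ⟨⟨e, 0, he0⟩⟩
  have heb : e ∉ (⊥ : Subalgebra κ A) := by
    intro hmem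
    obtain ⟨c, hc⟩ := Algebra.mem_bot.1 hmem
    have hcc : c * c = c := by
      apply (algebraMap κ A).injective
      rw [map_mul, hc, he]
    have hcc' : c * (c - 1) = 0 := by linear_combination hcc
    rcases mul_eq_zero.1 hcc' with h0 | h1
    swap
    · replace h1 : c = 1 := sub_eq_zero.1 h1
      exact he1 (by rw [← hc, h1, map_one])
    · exact he0 (by rw [← hc, h0, map_zero])
  have htop := adjoin_eq_top h heb
  let φl : κ × κ →ₗ[κ] A :=
    (LinearMap.fst κ κ κ).smulRight e + (LinearMap.snd κ κ κ).smulRight (1 - e)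
  have hφl : ∀ x : κ × κ, φl x = x.1 • e + x.2 • (1 - e) := fun x => rfl
  let φ : κ × κ →ₐ[κ] A := AlgHom.ofLinearMap φl
    (by rw [hφl]; simp)
    (by
      intro x y
      rw [hφl, hφl, hφl]
      simp only [Prod.fst_mul, Prod.snd_mul, Algebra.smul_def, map_mul]
      linear_combination -(algebraMap κ A x.1 * algebraMap κ A y.1
        - algebraMap κ A x.1 * algebraMap κ A y.2 - algebraMap κ A x.2 * algebraMap κ A y.1
        + algebraMap κ A x.2 * algebraMap κ A y.2) * he)
  have hφ : ∀ x : κ × κ, φ x = x.1 • e + x.2 • (1 - e) := fun x => rfl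
  have hsurj : Function.Surjective φ := by
    rw [← AlgHom.range_eq_top, eq_top_iff, ← htop, Algebra.adjoin_le_iff]
    rintro _ rfl
    refine ⟨(1, 0), ?_⟩
    change φ (1, 0) = _
    rw [hφ]
    simp
  have hinj : Function.Injective φ := by
    rw [injective_iff_map_eq_zero]
    intro x hx
    rw [hφ, Algebra.smul_def, Algebra.smul_def] at hx
    have h1 : algebraMap κ A x.1 * e = 0 := by
      linear_combination e * hx + (algebraMap κ A x.2 - algebraMap κ A x.1) * he
    have h2 : algebraMap κ A x.2 * (1 - e) = 0 := by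
      linear_combination (1 - e) * hx + (algebraMap κ A x.1 - algebraMap κ A x.2) * he
    have hx1 : x.1 = 0 := by
      by_contra hne
      have hu : IsUnit (algebraMap κ A x.1) := IsUnit.map (algebraMap κ A) (Ne.isUnit hne)
      exact he0 (hu.mul_left_cancel (by rw [h1, mul_zero]))
    have hx2 : x.2 = 0 := by
      by_contra hne
      have hu : IsUnit (algebraMap κ A x.2) := IsUnit.map (algebraMap κ A) (Ne.isUnit hne)
      have : 1 - e = 0 := hu.mul_left_cancel (by rw [h2, mul_zero])
      exact he1 (sub_eq_zero.1 this).symm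
    exact Prod.ext hx1 hx2
  exact ⟨(AlgEquiv.ofBijective φ ⟨hinj, hsurj⟩).symm⟩

theorem isField_of_connected [FiniteDimensional κ A] [IsReduced A] [Nontrivial A]
    (hid : ∀ e : A, e * e = e → e = 0 ∨ e = 1) : IsField A := by
  refine ⟨exists_pair_ne A, mul_comm, ?_⟩
  intro x hx
  have : IsArtinianRing A := IsArtinianRing.of_finite κ A
  obtain ⟨n, y, hy⟩ := IsArtinian.exists_pow_succ_smul_dvd x (1 : A)
  simp only [smul_eq_mul, mul_one] at hy
  have hk : ∀ k : ℕ, x ^ (n + k) * y ^ k = x ^ n := by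
    intro k
    induction k with
    | zero => simp
    | succ k ih =>
      calc x ^ (n + (k + 1)) * y ^ (k + 1) = (x ^ (n + 1) * y) * (x ^ k * y ^ k) := by ring
        _ = x ^ n * (x ^ k * y ^ k) := by rw [hy]
        _ = x ^ (n + k) * y ^ k := by ring
        _ = x ^ n := ih
  have he : (x * y) ^ n * (x * y) ^ n = (x * y) ^ n := by
    calc (x * y) ^ n * (x * y) ^ n = (x ^ (n + n) * y ^ n) * y ^ n := by ring
      _ = x ^ n * y ^ n := by rw [hk n]
      _ = (x * y) ^ n := by ring
  rcases hid _ he with h0 | h1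
  · exfalso
    have : x ^ n = 0 := by
      calc x ^ n = x ^ (n + n) * y ^ n := (hk n).symm
        _ = x ^ n * (x * y) ^ n := by ring
        _ = 0 := by rw [h0, mul_zero]
    exact hx (IsReduced.eq_zero x ⟨n, this⟩)
  · rcases Nat.eq_zero_or_pos n with hn | hn
    · subst hn
      exact ⟨y, by simpa using hy⟩
    · refine ⟨y * (x * y) ^ (n - 1), ?_⟩
      calc x * (y * (x * y) ^ (n - 1)) = (x * y) ^ (n - 1 + 1) := by ring
        _ = (x * y) ^ n := by rw [Nat.sub_add_cancel hn]
        _ = 1 := h1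

end general


section field
variable {κ A : Type u} [Field κ] [Field A] [Algebra κ A]

theorem field_case [FiniteDimensional κ A] (h : IsSimpleOrder (Subalgebra κ A)) :
    Algebra.IsSeparable κ A ∨
      ∃ (p : ℕ) (a : κ), p.Prime ∧ CharP κ p ∧ (∀ b : κ, b ^ p ≠ a) ∧
        Nonempty (A ≃ₐ[κ] AdjoinRoot (X ^ p - C a)) := by
  by_cases hsep : Algebra.IsSeparable κ A
  · exact Or.inl hsep
  right
  have halg : Algebra.IsAlgebraic κ A := Algebra.IsAlgebraic.of_finite κ A
  have hpi : IsPurelyInseparable κ A := by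
    rcases eq_bot_or_eq_top (separableClosure κ A).toSubalgebra with h1 | h1
    · have : separableClosure κ A = ⊥ := by
        apply IntermediateField.toSubalgebra_injective
        rw [h1, IntermediateField.bot_toSubalgebra]
      exact (separableClosure.eq_bot_iff).1 this
    · have : separableClosure κ A = ⊤ := by
        apply IntermediateField.toSubalgebra_injective
        rw [h1, IntermediateField.top_toSubalgebra]
      exact absurd ((separableClosure.eq_top_iff κ A).1 this) hsep
  obtain ⟨q, hq⟩ := ExpChar.exists κ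
  rcases hq with _ | ⟨hp⟩
  · exfalso
    exact hsep (Algebra.IsAlgebraic.isSeparable_of_perfectField)
  rename_i hchar
  have : ExpChar κ q := ExpChar.prime hp
  have hcharA : CharP A q := charP_of_injective_algebraMap (algebraMap κ A).injective q
  have : Fact q.Prime := ⟨hp⟩
  obtain ⟨a, ha⟩ := exists_notMem_bot h
  have hex := IsPurelyInseparable.pow_mem κ q a
  classical
  have hn0 : Nat.find hex ≠ 0 := by
    intro h0
    have := Nat.find_spec hex
    rw [h0, pow_zero, pow_one] at this
    exact ha (Algebra.mem_bot.2 this)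
  obtain ⟨n, hn⟩ := Nat.exists_eq_succ_of_ne_zero hn0
  have hb : a ^ q ^ n ∉ (algebraMap κ A).range := by
    apply Nat.find_min hex
    rw [hn]
    exact Nat.lt_succ_self n
  have hbp : (a ^ q ^ n) ^ q ∈ (algebraMap κ A).range := by
    have := Nat.find_spec hex
    rw [hn, pow_succ, pow_mul] at this
    exact this
  obtain ⟨c, hc⟩ := hbp
  set b := a ^ q ^ n with hbdef
  have hcp : ∀ d : κ, d ^ q ≠ c := by
    intro d hd
    apply hb
    refine ⟨d, ?_⟩
    apply frobenius_inj A q
    change (algebraMap κ A d) ^ q = b ^ q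
    rw [← map_pow, hd, hc]
  have hirr : Irreducible (X ^ q - C c : κ[X]) := X_pow_sub_C_irreducible_of_prime hp hcp
  have : Fact (Irreducible (X ^ q - C c : κ[X])) := ⟨hirr⟩
  have hbb : b ∉ (⊥ : Subalgebra κ A) := fun hmem => hb (Algebra.mem_bot.1 hmem)
  have htop := adjoin_eq_top h hbb
  have hroot : (X ^ q - C c : κ[X]).eval₂ (Algebra.ofId κ A) b = 0 := by
    simp [← hc]
  let φ : AdjoinRoot (X ^ q - C c : κ[X]) →ₐ[κ] A :=
    AdjoinRoot.liftAlgHom _ (Algebra.ofId κ A) b hroot
  have hinj : Function.Injective φ := φ.toRingHom.injective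
  have hsurj : Function.Surjective φ := by
    rw [← AlgHom.range_eq_top, eq_top_iff, ← htop, Algebra.adjoin_le_iff]
    intro x hx
    rw [Set.mem_singleton_iff] at hx
    subst hx
    exact ⟨AdjoinRoot.root _, AdjoinRoot.liftAlgHom_root _ _ _ _⟩
  exact ⟨q, c, hp, hchar, hcp, ⟨(AlgEquiv.ofBijective φ ⟨hinj, hsurj⟩).symm⟩⟩

end field


section main
variable (κ A : Type u) [Field κ] [CommRing A] [Algebra κ A]

theorem main (h : IsSimpleOrder (Subalgebra κ A)) :
    FiniteDimensional κ A ∧
    (Nonempty (A ≃ₐ[κ] DualNumber κ) ∨ Nonempty (A ≃ₐ[κ] (κ × κ)) ∨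
      (IsField A ∧ (Algebra.IsSeparable κ A ∨
        ∃ (p : ℕ) (a : κ), p.Prime ∧ CharP κ p ∧ (∀ b : κ, b ^ p ≠ a) ∧
          Nonempty (A ≃ₐ[κ] AdjoinRoot (X ^ p - C a))))) := by
  have hfd := finite_of_simple h
  refine ⟨hfd, ?_⟩
  have hnt : Nontrivial A := by
    obtain ⟨a, ha⟩ := exists_notMem_bot h
    refine ⟨⟨a, algebraMap κ A 0, fun h0 => ha (Algebra.mem_bot.2 ⟨0, h0.symm⟩)⟩⟩
  by_cases hred : IsReduced A
  swap
  · left
    -- a nonzero nilpotent with square zero
    have : ∃ x : A, IsNilpotent x ∧ x ≠ 0 := by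
      by_contra hcon
      push Not at hcon
      exact hred ⟨fun x hx => hcon x hx⟩
    obtain ⟨x, ⟨k, hk⟩, hx0⟩ := this
    classical
    have hex : ∃ k, x ^ k = 0 := ⟨k, hk⟩
    have hk0 : Nat.find hex ≠ 0 := by
      intro h0
      have := Nat.find_spec hex
      rw [h0, pow_zero] at this
      exact one_ne_zero this
    obtain ⟨m, hm⟩ := Nat.exists_eq_succ_of_ne_zero hk0
    have hm0 : m ≠ 0 := by
      rintro rfl
      have := Nat.find_spec hex
      rw [hm, pow_one] at this
      exact hx0 this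
    have hne : x ^ m ≠ 0 := by
      apply Nat.find_min hex
      rw [hm]; exact Nat.lt_succ_self m
    have hsq : x ^ m * x ^ m = 0 := by
      have h1 := Nat.find_spec hex
      rw [hm] at h1
      have : x ^ m * x ^ m = x ^ (m + 1) * x ^ (m - 1) := by
        rw [← pow_add, ← pow_add]
        congr 1
        omega
      rw [this, h1, zero_mul]
    exact dualNumber_of_nilpotent h hne hsq
  · right
    by_cases hid : ∀ e : A, e * e = e → e = 0 ∨ e = 1
    · right
      have hF : IsField A := isField_of_connected (κ := κ) hid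
      refine ⟨hF, ?_⟩
      let _ := hF.toField
      exact field_case (κ := κ) (A := A) h
    · left
      push Not at hid
      obtain ⟨e, he, he0, he1⟩ := hid
      exact prod_of_idempotent h he he0 he1

end main

end Groth.Agent.Lib.helper10.MinAlg
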