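import Mathlib

set_option maxHeartbeats 400000
set_option autoImplicit false
universe u

namespace H10S2014

variable {R : Type u} [CommRing R] [IsNoetherianRing R] [IsLocalRing R]

theorem key (x : R) (hx : x ∈ IsLocalRing.maximalIdeal R)
    (hmin : ∀ p ∈ minimalPrimes R, x ∉ p) (S : Finset (Ideal R))
    (hS : ∀ p ∈ S, p ∈ minimalPrimes R) :
    (S.card : ℕ∞) ≤ Order.coheight (S.inf id ⊔ Ideal.span {x} : Ideal R) := by
  classical
  induction S using Finset.induction_on with
  | empty => simp
  | insert q S' hq ih =>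
    have hS' : ∀ p ∈ S', p ∈ minimalPrimes R := fun p hp => hS p (Finset.mem_insert_of_mem hp)
    have hqmin : q ∈ minimalPrimes R := hS q (Finset.mem_insert_self q S')
    have hqprime : q.IsPrime := hqmin.1.1
    specialize ih hS'
    rw [Finset.card_insert_of_notMem hq, Finset.inf_insert, id, Nat.cast_add, Nat.cast_one]
    set M' : Ideal R := S'.inf id with hM'
    have hle : q ⊓ M' ⊔ Ideal.span {x} ≤ M' ⊔ Ideal.span {x} := sup_le_sup_right inf_le_right _
    have hne : ¬ (M' ⊔ Ideal.span {x} ≤ q ⊓ M' ⊔ Ideal.span {x}) := by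
      intro hcon
      have h1 : M' ≤ (q ⊓ M') ⊔ Ideal.span {x} • M' := by
        intro a ha
        have ha' : a ∈ q ⊓ M' ⊔ Ideal.span {x} := hcon (Ideal.mem_sup_left ha)
        obtain ⟨b, hb, c', hc', rfl⟩ := Submodule.mem_sup.1 ha'
        obtain ⟨c, rfl⟩ := Ideal.mem_span_singleton'.1 hc'
        have hxc : c * x ∈ M' := by
          have : b + c * x - b ∈ M' := M'.sub_mem ha hb.2
          simpa using this
        have hc : c ∈ M' := by
          rw [hM', Submodule.mem_finsetInf] at hxc ⊢
          intro p hp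
          have hpprime : (p : Ideal R).IsPrime := (hS' p hp).1.1
          rcases hpprime.mem_or_mem (hxc p hp) with h | h
          · exact h
          · exact absurd h (hmin p (hS' p hp))
        refine Submodule.mem_sup.2 ⟨b, hb, c * x, ?_, rfl⟩
        rw [mul_comm]
        exact Submodule.smul_mem_smul (Ideal.subset_span rfl) hc
      have hjac : Ideal.span {x} ≤ (⊥ : Ideal R).jacobson := by
        rw [Ideal.span_le, Set.singleton_subset_iff, IsLocalRing.jacobson_eq_maximalIdeal ⊥ bot_ne_top]
        exact hx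
      have h2 : M' ≤ q ⊓ M' :=
        Submodule.le_of_le_smul_of_le_jacobson_bot (IsNoetherian.noetherian M') hjac h1
      have h3 : S'.inf id ≤ q := h2.trans inf_le_left
      obtain ⟨p, hp, hpq⟩ := (Ideal.IsPrime.inf_le' hqprime).1 h3
      have hpq' : p = q := le_antisymm hpq (hqmin.2 ⟨(hS' p hp).1.1, bot_le⟩ hpq)
      exact hq (hpq' ▸ hp)
    have hlt : q ⊓ M' ⊔ Ideal.span {x} < M' ⊔ Ideal.span {x} := lt_of_le_not_ge hle hne
    exact (add_le_add_left ih 1).trans (Order.coheight_add_one_le hlt)

theorem main (x : R) (hx : x ∈ IsLocalRing.maximalIdeal R)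
    (hmin : ∀ p ∈ minimalPrimes R, x ∉ p) :
    (Set.ncard (minimalPrimes R) : ℕ∞) ≤ Module.length R (R ⧸ Ideal.span {x}) := by
  have hfin : (minimalPrimes R).Finite := minimalPrimes.finite_of_isNoetherianRing R
  have h := key x hx hmin hfin.toFinset (fun p hp => by simpa using hp)
  rw [Set.ncard_eq_toFinset_card _ hfin]
  refine h.trans ?_
  rw [Module.length_quotient]
  exact Order.coheight_anti le_sup_right

end H10S2014
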