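import Groth.Agent.Lib.helper10.MinPrimesColimA

open Ideal

namespace Groth.Agent.Lib.helper10.MinPrimesColim

universe u

section Fin

variable {ι : Type*} [Preorder ι] [IsDirected ι (· ≤ ·)] [Nonempty ι]

/-- uniformization of finitely many existence statements over a directed index set -/
theorem exists_forall_of_finite {σ : Type*} (p : σ → ι → Prop)
    (hmono : ∀ s i j, i ≤ j → p s i → p s j) (S : Set σ) (hS : S.Finite)
    (h : ∀ s ∈ S, ∃ i, p s i) : ∃ i, ∀ s ∈ S, p s i := by
  induction S, hS using Set.Finite.induction_on with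
  | empty => exact ⟨Classical.arbitrary ι, fun s hs => absurd hs (Set.notMem_empty s)⟩
  | @insert a S _ _ ih =>
    obtain ⟨i, hi⟩ := ih (fun s hs => h s (Set.mem_insert_of_mem a hs))
    obtain ⟨i', hi'⟩ := h a (Set.mem_insert a S)
    obtain ⟨k, hik, hi'k⟩ := exists_ge_ge i i'
    refine ⟨k, fun s hs => ?_⟩
    rcases Set.mem_insert_iff.mp hs with rfl | hs
    · exact hmono _ _ _ hi'k hi'
    · exact hmono _ _ _ hik (hi s hs)

end Fin

section DL

variable {ι : Type u} [Preorder ι] [IsDirected ι (· ≤ ·)] [Nonempty ι] (G : ι → Type u)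
  [∀ i, CommRing (G i)] (f : ∀ i j, i ≤ j → G i →+* G j)
  [DirectedSystem G fun i j h => f i j h]

set_option quotPrecheck false in
local notation "R" => Ring.DirectLimit G fun i j h => ⇑(f i j h)
set_option quotPrecheck false in
local notation "of" => Ring.DirectLimit.of G fun i j h => ⇑(f i j h)

variable (hflat : ∀ i j (h : i ≤ j), (f i j h).Flat)
  (hinj : ∀ i j (h : i ≤ j), Function.Injective (f i j h))

include hflat in
theorem comap_mem_minimalPrimes (i : ι) {P : Ideal R} (hP : P ∈ minimalPrimes R) :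
    P.comap (of i) ∈ minimalPrimes (G i) := by
  have hPp : P.IsPrime := hP.1.1
  have : (P.comap (of i)).IsPrime := Ideal.comap_isPrime _ _
  apply mem_minimalPrimes_of_forall
  intro x hx
  obtain ⟨s, hs, n, hsx⟩ := exists_mul_pow_eq_zero_of_mem_minimalPrimes hP (Ideal.mem_comap.mp hx)
  obtain ⟨j, s', rfl⟩ := Ring.DirectLimit.exists_of s
  obtain ⟨k, hik, hjk⟩ := exists_ge_ge i j
  have h1 : of k (f j k hjk s' * (f i k hik x) ^ n) = 0 := by
    rw [map_mul, map_pow]
    have e1 : of k (f j k hjk s') = of j s' := Ring.DirectLimit.of_f hjk s'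
    have e2 : of k (f i k hik x) = of i x := Ring.DirectLimit.of_f hik x
    rw [e1, e2]
    exact hsx
  obtain ⟨l, hkl, h2⟩ := Ring.DirectLimit.of.zero_exact h1
  have hil : i ≤ l := hik.trans hkl
  have hjl : j ≤ l := hjk.trans hkl
  have h3 : f i l hil (x ^ n) * f j l hjl s' = 0 := by
    rw [map_mul, map_pow] at h2
    have e1 : f k l hkl (f j k hjk s') = f j l hjl s' :=
      DirectedSystem.map_map (f := fun i j h => f i j h) hjk hkl s'
    have e2 : f k l hkl (f i k hik x) = f i l hil x :=
      DirectedSystem.map_map (f := fun i j h => f i j h) hik hkl x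
    rw [e1, e2] at h2
    rw [map_pow, mul_comm]
    exact h2
  obtain ⟨m, a, c, hsum, ha⟩ := exists_of_flat_mul_eq_zero (f i l hil) (hflat i l hil) (x ^ n)
    (f j l hjl s') h3
  by_contra hcon
  push Not at hcon
  apply hs
  have e3 : of j s' = of l (f j l hjl s') := (Ring.DirectLimit.of_f hjl s').symm
  rw [e3, hsum, map_sum]
  apply Ideal.sum_mem
  intro t _
  rw [map_mul]
  apply Ideal.mul_mem_right
  have e4 : of l (f i l hil (a t)) = of i (a t) := Ring.DirectLimit.of_f hil (a t)
  rw [e4]
  by_contra hnot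
  have := hcon (a t) (fun hmem => hnot (Ideal.mem_comap.mp hmem)) n
  apply this
  rw [mul_comm]
  exact ha t

include hinj in
theorem exists_minimalPrimes_comap_eq (i : ι) {p : Ideal (G i)} (hp : p ∈ minimalPrimes (G i)) :
    ∃ P ∈ minimalPrimes R, P.comap (of i) = p := by
  have hofinj : Function.Injective (of i) := Ring.DirectLimit.of_injective f hinj i
  have hbot : (⊥ : Ideal R).comap (of i) = ⊥ := by
    rw [← RingHom.ker_eq_comap_bot]
    exact (RingHom.injective_iff_ker_eq_bot _).mp hofinj
  have hp' : p ∈ ((⊥ : Ideal R).comap (of i)).minimalPrimes := by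
    rw [hbot]
    exact hp
  exact Ideal.exists_minimalPrimes_comap_eq (of i) p hp'

theorem exists_injOn_comap (T : Set (Ideal R)) (hT : T.Finite) (hTm : T ⊆ minimalPrimes R) :
    ∃ i, Set.InjOn (fun P : Ideal R => P.comap (of i)) T := by
  classical
  let p : (Ideal R × Ideal R) → ι → Prop := fun PQ i =>
    PQ.1 ≠ PQ.2 → ∃ z : G i, of i z ∈ PQ.1 ∧ of i z ∉ PQ.2
  have hmono : ∀ s i j, i ≤ j → p s i → p s j := by
    intro s i j hij hp hne
    obtain ⟨z, hz1, hz2⟩ := hp hne
    refine ⟨f i j hij z, ?_, ?_⟩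
    · have e : of j (f i j hij z) = of i z := Ring.DirectLimit.of_f hij z
      rw [e]; exact hz1
    · have e : of j (f i j hij z) = of i z := Ring.DirectLimit.of_f hij z
      rw [e]; exact hz2
  have hex : ∀ s ∈ T ×ˢ T, ∃ i, p s i := by
    rintro ⟨P, Q⟩ ⟨hP, hQ⟩
    by_cases hne : P = Q
    · exact ⟨Classical.arbitrary ι, fun h => absurd hne h⟩
    · have hnle : ¬ P ≤ Q := by
        intro hle
        apply hne
        exact le_antisymm hle ((hTm hQ).2 (hTm hP).1 hle)
      obtain ⟨x, hxP, hxQ⟩ := Set.not_subset.mp hnle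
      obtain ⟨j, z, rfl⟩ := Ring.DirectLimit.exists_of x
      exact ⟨j, fun _ => ⟨z, hxP, hxQ⟩⟩
  obtain ⟨i, hi⟩ := exists_forall_of_finite p hmono (T ×ˢ T) (hT.prod hT) hex
  refine ⟨i, ?_⟩
  intro P hP Q hQ hPQ
  by_contra hne
  obtain ⟨z, hz1, hz2⟩ := hi (P, Q) ⟨hP, hQ⟩ hne
  apply hz2
  have : z ∈ P.comap (of i) := Ideal.mem_comap.mpr hz1
  have hPQ' : P.comap (of i) = Q.comap (of i) := hPQ
  rw [hPQ'] at this
  exact Ideal.mem_comap.mp this

include hflat hinj in
theorem encard_minimalPrimes :
    (minimalPrimes R).encard = ⨆ i, (minimalPrimes (G i)).encard := by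
  apply le_antisymm
  · rw [← ENat.forall_natCast_le_iff_le]
    intro n hn
    obtain ⟨T, hTsub, hTn⟩ := Set.exists_subset_encard_eq hn
    have hTfin : T.Finite := Set.finite_of_encard_eq_coe hTn
    obtain ⟨i, hi⟩ := exists_injOn_comap G f T hTfin hTsub
    calc (n : ℕ∞) = T.encard := hTn.symm
      _ = ((fun P : Ideal R => P.comap (of i)) '' T).encard := hi.encard_image.symm
      _ ≤ (minimalPrimes (G i)).encard := by
        apply Set.encard_le_encard
        rintro _ ⟨P, hP, rfl⟩
        exact comap_mem_minimalPrimes G f hflat i (hTsub hP)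
      _ ≤ ⨆ i, (minimalPrimes (G i)).encard := le_iSup (fun i => (minimalPrimes (G i)).encard) i
  · apply iSup_le
    intro i
    calc (minimalPrimes (G i)).encard
        ≤ ((fun P : Ideal R => P.comap (of i)) '' minimalPrimes R).encard := by
          apply Set.encard_le_encard
          intro p hp
          obtain ⟨P, hP, rfl⟩ := exists_minimalPrimes_comap_eq G f hinj i hp
          exact ⟨P, hP, rfl⟩
      _ ≤ (minimalPrimes R).encard := Set.encard_image_le _ _

end DL

end Groth.Agent.Lib.helper10.MinPrimesColim
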