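import Mathlib

open Ideal

namespace Groth.Agent.Lib.helper10.MinPrimesColim

universe u

section Crit

variable {A : Type*} [CommRing A]

theorem exists_mul_pow_eq_zero_of_mem_minimalPrimes {p : Ideal A} (hp : p ∈ minimalPrimes A)
    {x : A} (hx : x ∈ p) : ∃ s ∉ p, ∃ n : ℕ, s * x ^ n = 0 := by
  have hpp : p.IsPrime := hp.1.1
  by_contra hcon
  push Not at hcon
  let S : Submonoid A := p.primeCompl ⊔ Submonoid.powers x
  have hdisj : Disjoint ((⊥ : Ideal A) : Set A) S := by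
    rw [Set.disjoint_left]
    intro a ha haS
    rw [SetLike.mem_coe, Ideal.mem_bot] at ha
    subst ha
    obtain ⟨s, hs, z, ⟨n, rfl⟩, hsz⟩ := Submonoid.mem_sup.mp haS
    exact hcon s hs n hsz
  obtain ⟨q, hq, -, hqS⟩ := Ideal.exists_le_prime_disjoint ⊥ S hdisj
  have hqp : q ≤ p := by
    intro a ha
    by_contra hap
    exact Set.disjoint_left.mp hqS ha
      ((le_sup_left : p.primeCompl ≤ S) hap)
  have hpq : p ≤ q := hp.2 ⟨hq, bot_le⟩ hqp
  exact Set.disjoint_left.mp hqS (hpq hx)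
    ((le_sup_right : Submonoid.powers x ≤ S) (Submonoid.mem_powers x))

theorem mem_minimalPrimes_of_forall {p : Ideal A} [hp : p.IsPrime]
    (h : ∀ x ∈ p, ∃ s ∉ p, ∃ n : ℕ, s * x ^ n = 0) : p ∈ minimalPrimes A := by
  refine ⟨⟨hp, bot_le⟩, ?_⟩
  rintro q ⟨hq, -⟩ hqp x hx
  obtain ⟨s, hs, n, hsx⟩ := h x hx
  have h0 : s * x ^ n ∈ q := hsx ▸ q.zero_mem
  rcases hq.mem_or_mem h0 with h1 | h1
  · exact absurd (hqp h1) hs
  · exact hq.mem_of_pow_mem n h1

end Crit

section Flat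

variable {A B : Type*} [CommRing A] [CommRing B]

theorem exists_of_flat_mul_eq_zero (φ : A →+* B) (hφ : φ.Flat) (y : A) (b : B)
    (h : φ y * b = 0) :
    ∃ (k : ℕ) (a : Fin k → A) (c : Fin k → B), b = ∑ j, φ (a j) * c j ∧ ∀ j, y * a j = 0 := by
  algebraize [φ]
  have hφ' : Module.Flat A B := hφ
  obtain ⟨k, a, c, hx, ha⟩ := Module.Flat.isTrivialRelation_of_sum_smul_eq_zero (R := A) (M := B)
    (f := fun _ : Fin 1 => y) (x := fun _ : Fin 1 => b) (by
      simp only [Finset.univ_unique, Finset.sum_singleton]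
      rw [Algebra.smul_def]
      exact h)
  refine ⟨k, a 0, c, ?_, ?_⟩
  · have h0 : b = ∑ j, a 0 j • c j := hx 0
    rw [h0]
    refine Finset.sum_congr rfl (fun j _ => ?_)
    rw [Algebra.smul_def]
    rfl
  · intro j
    have := ha j
    simpa using this

end Flat

end Groth.Agent.Lib.helper10.MinPrimesColim
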