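import Mathlib

set_option autoImplicit false
universe u

namespace H10S5076

open IsLocalRing

variable (A C : Type u) [CommRing A] [IsLocalRing A]
    [CommRing C] [Algebra A C] [Module.Finite A C] (r : Ideal C) [r.IsMaximal] (u : C)

/-- key lemma: elements outside `r` divide elements of `B \ n`. -/
theorem key (hu₁ : ∀ r' : Ideal C, r'.IsMaximal → r' ≠ r → u ∈ r') (hu₂ : u ∉ r)
    (t : C) (ht : t ∉ r) :
    ∃ (c : C) (s : Algebra.adjoin A ({u} : Set C)),
      s ∉ Ideal.comap (Algebra.adjoin A ({u} : Set C)).val.toRingHom r ∧ t * c = (s : C) := by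
  set B := Algebra.adjoin A ({u} : Set C) with hB
  have hintA : Algebra.IsIntegral A C := Algebra.IsIntegral.of_finite A C
  have hint : Algebra.IsIntegral B C := Algebra.IsIntegral.tower_top (R := A)
  set n : Ideal B := Ideal.comap (algebraMap B C) r with hn
  have hnmax : n.IsMaximal := Ideal.isMaximal_comap_of_isIntegral_of_isMaximal r
  by_contra hcon
  push Not at hcon
  have hle : (Ideal.span {t}).comap (algebraMap B C) ≤ n := by
    intro s hs
    by_contra hsn
    rw [Ideal.mem_comap, Ideal.mem_span_singleton'] at hs
    obtain ⟨c, hc⟩ := hs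
    exact hcon c s hsn (by rw [mul_comm, hc]; rfl)
  obtain ⟨Q, hQt, hQp, hQn⟩ := Ideal.exists_ideal_over_prime_of_isIntegral n (Ideal.span {t}) hle
  have hQmax : Q.IsMaximal :=
    Ideal.isMaximal_of_isIntegral_of_isMaximal_comap (R := B) Q (hQn ▸ hnmax)
  have htQ : t ∈ Q := hQt (Ideal.mem_span_singleton_self t)
  have hQr : Q ≠ r := fun h => ht (h ▸ htQ)
  have huQ : u ∈ Q := hu₁ Q hQmax hQr
  have huB : u ∈ B := Algebra.subset_adjoin (Set.mem_singleton u)
  have : (⟨u, huB⟩ : B) ∈ n := by
    rw [← hQn]
    exact huQ
  exact hu₂ this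

end H10S5076

namespace H10S5076

open IsLocalRing

variable (A C : Type u) [CommRing A] [IsLocalRing A]
    [CommRing C] [Algebra A C] [Module.Finite A C] (r : Ideal C) [r.IsMaximal] (u : C)

theorem main (hu₁ : ∀ r' : Ideal C, r'.IsMaximal → r' ≠ r → u ∈ r') (hu₂ : u ∉ r)
    (hu₃ : Subalgebra.toSubmodule (Algebra.adjoin A {algebraMap C (Localization.AtPrime r) u}) ⊔
        Submodule.restrictScalars A (Ideal.map (algebraMap A (Localization.AtPrime r)) (IsLocalRing.maximalIdeal A)) = ⊤) :
    Function.Bijective (Localization.localRingHom (Ideal.comap (Algebra.adjoin A ({u} : Set C)).val.toRingHom r) r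
      (Algebra.adjoin A ({u} : Set C)).val.toRingHom rfl) := by
  classical
  set B := Algebra.adjoin A ({u} : Set C) with hB
  set ι : B →+* C := B.val.toRingHom with hι
  set n : Ideal B := Ideal.comap ι r with hn
  set φ := Localization.localRingHom n r ι rfl with hφ
  have hιinj : Function.Injective ι := Subtype.val_injective
  have hkey := key A C r u hu₁ hu₂
  have hintA : Algebra.IsIntegral A C := Algebra.IsIntegral.of_finite A C
  have hφalg : ∀ b : B, φ (algebraMap B (Localization.AtPrime n) b) =
      algebraMap C (Localization.AtPrime r) (ι b) := fun b =>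
    Localization.localRingHom_to_map _ _ _ _ b
  refine ⟨?_, ?_⟩
  · -- injective
    rw [injective_iff_map_eq_zero]
    intro x hx
    obtain ⟨b, s, rfl⟩ := IsLocalization.exists_mk'_eq n.primeCompl x
    rw [hφ, Localization.localRingHom_mk', IsLocalization.mk'_eq_zero_iff] at hx
    obtain ⟨⟨t, ht⟩, htb⟩ := hx
    obtain ⟨c, s', hs', hts⟩ := hkey t ht
    rw [IsLocalization.mk'_eq_zero_iff]
    refine ⟨⟨s', hs'⟩, ?_⟩
    apply hιinj
    rw [map_mul, map_zero]
    show (s' : C) * ι b = 0
    rw [← hts, mul_comm t c, mul_assoc]
    have : t * ι b = 0 := htb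
    rw [this, mul_zero]
  · -- surjective
    let _ : Algebra (Localization.AtPrime n) (Localization.AtPrime r) := φ.toAlgebra
    have halg : ∀ x, algebraMap (Localization.AtPrime n) (Localization.AtPrime r) x = φ x :=
      fun _ => rfl
    -- A-compatibility
    have hA : ∀ a : A, algebraMap A (Localization.AtPrime r) a =
        φ (algebraMap A (Localization.AtPrime n) a) := by
      intro a
      rw [IsScalarTower.algebraMap_apply A C (Localization.AtPrime r),
        IsScalarTower.algebraMap_apply A B (Localization.AtPrime n), hφalg]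
      rfl
    -- decomposition of general element
    have hdec : ∀ y : Localization.AtPrime r, ∃ (c : C) (z : Localization.AtPrime n),
        y = φ z * algebraMap C _ c := by
      intro y
      obtain ⟨c, ⟨t, ht⟩, rfl⟩ := IsLocalization.exists_mk'_eq r.primeCompl y
      obtain ⟨c', s', hs', hts⟩ := hkey t ht
      refine ⟨c * c', IsLocalization.mk' _ 1 (⟨s', hs'⟩ : n.primeCompl), ?_⟩
      rw [hφ, Localization.localRingHom_mk', map_one, IsLocalization.mk'_eq_iff_eq_mul, mul_assoc,
        ← map_mul]
      have hs'r : (s' : C) ∈ r.primeCompl := hs'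
      have : IsLocalization.mk' (Localization.AtPrime r) (1 : C) (⟨ι s', hs'⟩ : r.primeCompl) *
          algebraMap C _ (c * c' * t) = algebraMap C _ c := by
        rw [mul_comm, ← IsLocalization.mk'_eq_mul_mk'_one, IsLocalization.mk'_eq_iff_eq_mul,
          ← map_mul]
        congr 1
        show c * c' * t = c * (s' : C)
        rw [← hts]; ring
      exact this.symm
    -- finiteness of C_r over B_n
    obtain ⟨S₀, hS₀⟩ := (Module.finite_def.1 (inferInstance : Module.Finite A C))
    have hspanC : ∀ c : C, algebraMap C (Localization.AtPrime r) c ∈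
        Submodule.span (Localization.AtPrime n)
          ((S₀.image (algebraMap C (Localization.AtPrime r)) : Finset _) : Set (Localization.AtPrime r)) := by
      intro c
      have hc : c ∈ Submodule.span A (S₀ : Set C) := by rw [hS₀]; trivial
      induction hc using Submodule.span_induction with
      | mem x hx => exact Submodule.subset_span (Finset.mem_image_of_mem _ hx)
      | zero => rw [map_zero]; exact Submodule.zero_mem _
      | add x y _ _ hx hy => rw [map_add]; exact Submodule.add_mem _ hx hy
      | smul a x _ hx =>
        have : algebraMap C (Localization.AtPrime r) (a • x) =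
            (algebraMap A (Localization.AtPrime n) a) • algebraMap C (Localization.AtPrime r) x := by
          rw [Algebra.smul_def, map_mul, ← IsScalarTower.algebraMap_apply, hA, Algebra.smul_def, halg]
        rw [this]
        exact Submodule.smul_mem _ _ hx
    have hfg : (⊤ : Submodule (Localization.AtPrime n) (Localization.AtPrime r)).FG := by
      refine ⟨S₀.image (algebraMap C (Localization.AtPrime r)), ?_⟩
      rw [eq_top_iff]
      intro y _
      obtain ⟨c, z, rfl⟩ := hdec y
      have : φ z * algebraMap C (Localization.AtPrime r) c = z • algebraMap C (Localization.AtPrime r) c := by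
        rw [Algebra.smul_def, halg]
      rw [this]
      exact Submodule.smul_mem _ _ (hspanC c)
    have hadj : ∀ y₁ ∈ Algebra.adjoin A {algebraMap C (Localization.AtPrime r) u}, y₁ ∈ φ.range := by
      intro y₁ hy₁'
      induction hy₁' using Algebra.adjoin_induction with
      | mem x hx =>
        rw [Set.mem_singleton_iff] at hx
        subst hx
        have huB : u ∈ B := Algebra.subset_adjoin (Set.mem_singleton u)
        exact ⟨algebraMap B _ ⟨u, huB⟩, hφalg _⟩
      | algebraMap a => exact ⟨_, (hA a).symm⟩
      | add x y _ _ hx hy => exact Subring.add_mem _ hx hy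
      | mul x y _ _ hx hy => exact Subring.mul_mem _ hx hy
    -- Nakayama
    have hcomapr : r.comap (algebraMap A C) = maximalIdeal A :=
      IsLocalRing.eq_maximalIdeal (Ideal.isMaximal_comap_of_isIntegral_of_isMaximal r)
    have hmI : (maximalIdeal A).map (algebraMap A (Localization.AtPrime n)) ≤
        maximalIdeal (Localization.AtPrime n) := by
      rw [Ideal.map_le_iff_le_comap]
      intro a ha
      rw [Ideal.mem_comap, IsScalarTower.algebraMap_apply A B (Localization.AtPrime n),
        IsLocalization.AtPrime.to_map_mem_maximal_iff (Localization.AtPrime n) n]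
      have : algebraMap A C a ∈ r := by
        rw [← hcomapr] at ha
        exact ha
      exact this
    have hAcomp : algebraMap A (Localization.AtPrime r) =
        φ.comp (algebraMap A (Localization.AtPrime n)) := RingHom.ext hA
    have hnak : (⊤ : Submodule (Localization.AtPrime n) (Localization.AtPrime r)) ≤
        LinearMap.range (Algebra.linearMap (Localization.AtPrime n) (Localization.AtPrime r)) := by
      apply Submodule.le_of_le_smul_of_le_jacobson_bot hfg
        (IsLocalRing.maximalIdeal_le_jacobson (⊥ : Ideal (Localization.AtPrime n)))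
      intro y _
      have hy : y ∈ Subalgebra.toSubmodule (Algebra.adjoin A {algebraMap C (Localization.AtPrime r) u}) ⊔
        Submodule.restrictScalars A (Ideal.map (algebraMap A (Localization.AtPrime r)) (IsLocalRing.maximalIdeal A)) := by
        rw [hu₃]; trivial
      obtain ⟨y₁, hy₁, y₂, hy₂, rfl⟩ := Submodule.mem_sup.1 hy
      refine Submodule.add_mem_sup ?_ ?_
      · -- y₁ in the range
        obtain ⟨z, rfl⟩ := hadj y₁ hy₁
        exact ⟨z, rfl⟩
      · rw [Ideal.smul_top_eq_map]
        have hy₂' : y₂ ∈ Ideal.map (algebraMap A (Localization.AtPrime r)) (maximalIdeal A) := hy₂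
        rw [hAcomp, ← Ideal.map_map] at hy₂'
        exact Ideal.map_mono hmI hy₂'
    intro y
    obtain ⟨z, hz⟩ := hnak (Submodule.mem_top (x := y))
    exact ⟨z, hz⟩

end H10S5076
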