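import Mathlib

set_option autoImplicit false
universe u

namespace H10S5077

open Polynomial

section der
variable {A B : Type u} [CommRing A] [CommRing B] [Algebra A B] (u : B)

theorem surj_aeval (hu : Algebra.adjoin A ({u} : Set B) = ⊤) :
    Function.Surjective (Polynomial.aeval u : Polynomial A →ₐ[A] B) := by
  intro b
  have hb : b ∈ Algebra.adjoin A ({u} : Set B) := hu ▸ Algebra.mem_top
  rw [Algebra.adjoin_singleton_eq_range_aeval] at hb
  exact hb

variable (n : Ideal B)

theorem wd (hwd : ∀ p : A[X], aeval u p = 0 → aeval u (derivative p) ∈ n)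
    (p q : Polynomial A) (hpq : aeval u p = aeval u q) :
    Ideal.Quotient.mk n (aeval u (derivative p)) =
    Ideal.Quotient.mk n (aeval u (derivative q)) := by
  rw [Ideal.Quotient.eq, ← map_sub, ← map_sub]
  apply hwd
  rw [map_sub, hpq, sub_self]

noncomputable def δfun (hu : Algebra.adjoin A ({u} : Set B) = ⊤) (b : B) : B ⧸ n :=
  Ideal.Quotient.mk _ (aeval u (derivative (Function.surjInv (surj_aeval u hu) b)))

theorem δfun_spec (hu : Algebra.adjoin A ({u} : Set B) = ⊤)
    (hwd : ∀ p : A[X], aeval u p = 0 → aeval u (derivative p) ∈ n)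
    (p : Polynomial A) :
    δfun u n hu (aeval u p) = Ideal.Quotient.mk _ (aeval u (derivative p)) :=
  wd u n hwd _ _ (Function.surjInv_eq (surj_aeval u hu) _)

noncomputable def δ (hu : Algebra.adjoin A ({u} : Set B) = ⊤)
    (hwd : ∀ p : A[X], aeval u p = 0 → aeval u (derivative p) ∈ n) :
    Derivation A B (B ⧸ n) :=
  Derivation.mk'
    { toFun := δfun u n hu
      map_add' := by
        intro b₁ b₂
        obtain ⟨p₁, rfl⟩ := surj_aeval u hu b₁
        obtain ⟨p₂, rfl⟩ := surj_aeval u hu b₂
        rw [← map_add, δfun_spec u n hu hwd, δfun_spec u n hu hwd, δfun_spec u n hu hwd,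
          derivative_add, map_add, map_add]
      map_smul' := by
        intro a b
        obtain ⟨p, rfl⟩ := surj_aeval u hu b
        rw [← map_smul, δfun_spec u n hu hwd, δfun_spec u n hu hwd, derivative_smul, map_smul,
          RingHom.id_apply]
        rfl }
    (by
      intro b₁ b₂
      obtain ⟨p₁, rfl⟩ := surj_aeval u hu b₁
      obtain ⟨p₂, rfl⟩ := surj_aeval u hu b₂
      change δfun u n hu _ = _ • δfun u n hu _ + _ • δfun u n hu _
      rw [← map_mul, δfun_spec u n hu hwd, δfun_spec u n hu hwd, δfun_spec u n hu hwd,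
        derivative_mul, map_add, map_mul, map_mul, map_add, map_mul, map_mul]
      simp only [Algebra.smul_def, Ideal.Quotient.algebraMap_eq]
      ring)

theorem δ_u (hu : Algebra.adjoin A ({u} : Set B) = ⊤)
    (hwd : ∀ p : A[X], aeval u p = 0 → aeval u (derivative p) ∈ n) :
    δ u n hu hwd u = 1 := by
  change δfun u n hu u = 1
  have := δfun_spec u n hu hwd X
  rw [aeval_X, derivative_X, map_one, map_one] at this
  exact this

theorem not_unramifiedAt [n.IsPrime] (hu : Algebra.adjoin A ({u} : Set B) = ⊤)
    (hwd : ∀ p : A[X], aeval u p = 0 → aeval u (derivative p) ∈ n) :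
    ¬ Algebra.IsUnramifiedAt A n := by
  intro h
  have h1 : (⟨n, inferInstance⟩ : PrimeSpectrum B) ∈ Algebra.unramifiedLocus A B := h
  rw [Algebra.unramifiedLocus_eq_compl_support, Set.mem_compl_iff, Module.notMem_support_iff'] at h1
  obtain ⟨r, hr, hr0⟩ := h1 (KaehlerDifferential.D A B u)
  have h2 := congrArg (δ u n hu hwd).liftKaehlerDifferential hr0
  rw [map_smul, Derivation.liftKaehlerDifferential_comp_D, map_zero, δ_u, Algebra.smul_def, mul_one,
    Ideal.Quotient.algebraMap_eq, Ideal.Quotient.eq_zero_iff_mem] at h2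
  exact hr h2

end der

end H10S5077

namespace H10S5077

open Polynomial IsLocalRing TensorProduct

theorem aeval_mem_of_coeff_mem {R A : Type*} [CommRing R] [CommRing A] [Algebra R A]
    (t : R[X]) (I : Ideal R) (h : ∀ i, t.coeff i ∈ I) (x : A) :
    aeval x t ∈ Ideal.map (algebraMap R A) I := by
  rw [aeval_eq_sum_range]
  refine Ideal.sum_mem _ (fun i _ => ?_)
  rw [Algebra.smul_def]
  exact Ideal.mul_mem_right _ _ (Ideal.mem_map_of_mem _ (h i))

variable (A B : Type u) [CommRing A] [IsLocalRing A] [CommRing B] [Algebra A B] [Module.Finite A B]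

/-- Nakayama: monic `F` of degree `dim B/mB` killing `u`, such that every polynomial killing `u`
has remainder mod `F` with coefficients in the maximal ideal. -/
theorem exists_monic (u : B) (hu : Algebra.adjoin A ({u} : Set B) = ⊤) :
    ∃ F : A[X], F.Monic ∧ aeval u F = 0 ∧
      ∀ p : A[X], aeval u p = 0 → ∀ i, (p %ₘ F).coeff i ∈ maximalIdeal A := by
  classical
  set k := ResidueField A
  set θ : k ⊗[A] B := (1 : k) ⊗ₜ[A] u with hθ
  have hint : IsIntegral k θ := Algebra.IsIntegral.isIntegral θ
  set f := minpoly k θ with hf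
  obtain ⟨n, hn⟩ : ∃ n, n = f.natDegree := ⟨_, rfl⟩
  have hfm : f.Monic := minpoly.monic hint
  -- compatibility of aeval
  have haev : ∀ p : A[X], aeval θ (p.map (algebraMap A k)) =
      (Algebra.TensorProduct.includeRight : B →ₐ[A] k ⊗[A] B) (aeval u p) := by
    intro p
    rw [aeval_map_algebraMap, ← Polynomial.aeval_algHom_apply]
    rfl
  have hfθ : aeval θ f = 0 := minpoly.aeval k θ
  -- θ generates the fibre
  have hspan_k : Submodule.span k (Set.range fun i : Fin n => θ ^ (i : ℕ)) = ⊤ := by
    rw [eq_top_iff]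
    have hq : ∀ q : k[X], aeval θ q ∈ Submodule.span k (Set.range fun i : Fin n => θ ^ (i : ℕ)) := by
      intro q
      rw [← aeval_modByMonic_eq_self_of_root hfθ]
      set r := q %ₘ f with hr
      by_cases hr0 : r = 0
      · rw [hr0, map_zero]; exact Submodule.zero_mem _
      · have hdeg : r.degree < f.degree := degree_modByMonic_lt q hfm
        have hnat : r.natDegree < n := by
          rw [hn]
          exact natDegree_lt_natDegree hr0 hdeg
        rw [aeval_eq_sum_range' hnat]
        refine Submodule.sum_mem _ fun i hi => ?_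
        refine Submodule.smul_mem _ _ (Submodule.subset_span ⟨⟨i, Finset.mem_range.1 hi⟩, rfl⟩)
    intro y hy
    clear hy
    induction y using TensorProduct.induction_on with
    | zero => exact Submodule.zero_mem _
    | add x y hx hy => exact Submodule.add_mem _ hx hy
    | tmul c b =>
      obtain ⟨p, rfl⟩ := surj_aeval u hu b
      have : c ⊗ₜ[A] (aeval u p) = c • aeval θ (p.map (algebraMap A k)) := by
        rw [haev]
        simp [TensorProduct.smul_tmul']
      rw [this]
      exact Submodule.smul_mem _ _ (hq _)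
  have hspan : Submodule.span A (Set.range fun i : Fin n => u ^ (i : ℕ)) = ⊤ := by
    rw [← IsLocalRing.map_tensorProduct_mk_eq_top (R := A), Submodule.map_span,
      ← Submodule.restrictScalars_span A k Ideal.Quotient.mk_surjective,
      Submodule.restrictScalars_eq_top_iff, ← Set.range_comp]
    convert hspan_k using 3
    funext i
    simp [hθ, Algebra.TensorProduct.tmul_pow]
  have hbn : u ^ n ∈ Submodule.span A (Set.range fun i : Fin n => u ^ (i : ℕ)) := by
    rw [hspan]; trivial
  obtain ⟨c, hc⟩ := (Submodule.mem_span_range_iff_exists_fun A).1 hbn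
  set P : A[X] := ∑ i : Fin n, C (c i) * X ^ (i : ℕ) with hP
  have hPdeg : P.degree < n := Polynomial.degree_sum_fin_lt c
  have hFm : (X ^ n - P).Monic :=
    (monic_X_pow n).sub_of_left (by rwa [degree_X_pow])
  have hFdeg : (X ^ n - P).natDegree = n := by
    have : (X ^ n - P).degree = ((n : ℕ) : WithBot ℕ) := by
      rw [degree_sub_eq_left_of_degree_lt (by rwa [degree_X_pow]), degree_X_pow]
    exact natDegree_eq_of_degree_eq_some this
  have hFb : aeval u (X ^ n - P) = 0 := by
    rw [map_sub, map_pow, aeval_X, hP, map_sum, ← hc, sub_eq_zero]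
    refine Finset.sum_congr rfl fun i _ => ?_
    rw [map_mul, aeval_C, map_pow, aeval_X, Algebra.smul_def]
  refine ⟨X ^ n - P, hFm, hFb, ?_⟩
  intro p hp i
  set r := p %ₘ (X ^ n - P) with hr
  have hru : aeval u r = 0 := by
    rw [hr, aeval_modByMonic_eq_self_of_root hFb, hp]
  have hrθ : aeval θ (r.map (algebraMap A k)) = 0 := by
    rw [haev, hru, map_zero]
  have hrmap : r.map (algebraMap A k) = 0 := by
    by_contra hne
    have h1 := minpoly.degree_le_of_ne_zero k θ hne hrθ
    have h2 : (r.map (algebraMap A k)).degree < f.degree := by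
      calc (r.map (algebraMap A k)).degree ≤ r.degree := degree_map_le
        _ < (X ^ n - P).degree := degree_modByMonic_lt p hFm
        _ = f.degree := by
            rw [degree_eq_natDegree hFm.ne_zero, degree_eq_natDegree hfm.ne_zero, hFdeg, hn]
    exact absurd h1 (not_le.2 h2)
  have := congrArg (fun q => q.coeff i) hrmap
  simp only [coeff_map, coeff_zero] at this
  rw [← IsLocalRing.residue_eq_zero_iff]
  exact this

end H10S5077

namespace H10S5077

open Polynomial IsLocalRing

variable (A B : Type u) [CommRing A] [IsLocalRing A] [CommRing B] [Algebra A B] [Module.Finite A B]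

theorem main (u : B) (hu : Algebra.adjoin A ({u} : Set B) = ⊤) :
    ∃ F : Polynomial A, F.Monic ∧ Polynomial.aeval u F = 0 ∧
      ∀ (n : Ideal B) [n.IsMaximal], Algebra.IsUnramifiedAt A n →
        Polynomial.aeval u (Polynomial.derivative F) ∉ n := by
  obtain ⟨F, hFm, hFu, hF⟩ := exists_monic A B u hu
  refine ⟨F, hFm, hFu, ?_⟩
  intro n hn hunr hmem
  have hint : Algebra.IsIntegral A B := Algebra.IsIntegral.of_finite A B
  have hcomap : n.comap (algebraMap A B) = maximalIdeal A :=
    IsLocalRing.eq_maximalIdeal (Ideal.isMaximal_comap_of_isIntegral_of_isMaximal n)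
  have hmn : (maximalIdeal A).map (algebraMap A B) ≤ n := by
    rw [Ideal.map_le_iff_le_comap, hcomap]
  refine not_unramifiedAt u n hu ?_ hunr
  intro p hp
  have hdecomp := modByMonic_add_div p F
  set r := p %ₘ F with hr
  set q := p /ₘ F with hq
  have hr' : aeval u (derivative r) ∈ n := by
    apply hmn
    apply aeval_mem_of_coeff_mem
    intro i
    rw [coeff_derivative]
    exact Ideal.mul_mem_right _ _ (hF p hp (i + 1))
  rw [← hdecomp, derivative_add, derivative_mul, map_add, map_add, map_mul, map_mul, hFu, zero_mul,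
    add_zero]
  exact Ideal.add_mem _ hr' (Ideal.mul_mem_right _ _ hmem)

end H10S5077
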