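import Mathlib
import Groth.Agent.Lib.Helper28.Natural

set_option backward.isDefEq.respectTransparency.types true
set_option maxHeartbeats 400000
set_option autoImplicit false
set_option linter.unusedSectionVars false
universe u
open scoped HomogeneousIdeal

namespace H10S8312

open Groth.Agent.Lib.Helper28.Natural

variable {R A B : Type u} [CommRing R] [CommRing A] [Algebra R A]
    (𝒜 : ℕ → Submodule R A) [GradedAlgebra 𝒜]

/-- Step A: homogeneous representation. -/
theorem hom_repr {ι : Type u} (d : ι → ℕ) (f : ι → A) (hf : ∀ a, f a ∈ 𝒜 (d a))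
    {N : ℕ} {x : A} (hx : x ∈ 𝒜 N) (hxI : x ∈ Ideal.span (Set.range f)) :
    ∃ (S : Finset ι) (c : ι → A), x = ∑ a ∈ S, c a * f a ∧
      ∀ a, (d a ≤ N → c a ∈ 𝒜 (N - d a)) ∧ (¬ d a ≤ N → c a = 0) := by
  classical
  obtain ⟨c₀, hc₀⟩ := (Finsupp.mem_ideal_span_range_iff_exists_finsupp).1 hxI
  refine ⟨c₀.support, fun a => if d a ≤ N then (DirectSum.decompose 𝒜 (c₀ a) (N - d a) : A) else 0,
    ?_, ?_⟩
  · have h1 : (DirectSum.decompose 𝒜 x N : A) = x := DirectSum.decompose_of_mem_same 𝒜 hx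
    have h2 : (DirectSum.decompose 𝒜 x N : A) = ∑ a ∈ c₀.support,
        (if d a ≤ N then (DirectSum.decompose 𝒜 (c₀ a) (N - d a) : A) else 0) * f a := by
      rw [← hc₀, Finsupp.sum, DirectSum.decompose_sum, DFinsupp.finsetSum_apply,
        AddSubmonoidClass.coe_finsetSum]
      refine Finset.sum_congr rfl fun a _ => ?_
      rw [DirectSum.coe_decompose_mul_of_right_mem 𝒜 N (hf a)]
      by_cases h : d a ≤ N <;> simp [h]
    rw [← h1, h2]
  · intro a
    constructor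
    · intro h
      simp only [h, if_true]
      exact SetLike.coe_mem _
    · intro h
      simp only [h, if_false]


section Transport

variable [CommRing B] [Algebra R B] (ℬ : ℕ → Submodule R B) [GradedAlgebra ℬ]
    (φ : B →ₐ[R] Polynomial A) (hφ : Function.Injective φ)
    (hdeg : ∀ n : ℕ, Submodule.map φ.toLinearMap (ℬ n) =
      Submodule.map ((Polynomial.monomial n : A →ₗ[A] Polynomial A).restrictScalars R)
        (⨆ (m : ℕ) (_ : n ≤ m), 𝒜 m))

include hdeg in
omit [GradedAlgebra 𝒜] [GradedAlgebra ℬ] in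
/-- existence of preimages -/
theorem exists_preimage (n : ℕ) {s : A} (hs : s ∈ G 𝒜 n) :
    ∃ b ∈ ℬ n, φ b = Polynomial.monomial n s := by
  have : Polynomial.monomial n s ∈ Submodule.map φ.toLinearMap (ℬ n) := by
    rw [hdeg n]; exact ⟨s, hs, rfl⟩
  obtain ⟨b, hb, hb'⟩ := this
  exact ⟨b, hb, hb'⟩

include hφ hdeg in
omit [GradedAlgebra ℬ] in
theorem stepB {ι : Type u} (d : ι → ℕ) (f : ι → A) (hf : ∀ a, f a ∈ 𝒜 (d a))
    (hrad : ∀ g ∈ (HomogeneousIdeal.irrelevant 𝒜).toIdeal,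
      ∃ n : ℕ, 0 < n ∧ g ^ n ∈ Ideal.span (Set.range f))
    (fn : ι → B) (hfn : ∀ a, φ (fn a) = Polynomial.monomial (d a) (f a))
    {n m : ℕ} (hn : 1 ≤ n) (hnm : n ≤ m) {s : A} (hs : s ∈ 𝒜 m) {h : B}
    (hh : φ h = Polynomial.monomial n s) :
    h ∈ (Ideal.span (Set.range fn)).radical := by
  classical
  have hsirr : s ∈ (HomogeneousIdeal.irrelevant 𝒜).toIdeal := by
    rw [HomogeneousIdeal.mem_iff, HomogeneousIdeal.mem_irrelevant_iff, GradedRing.proj_apply,
      DirectSum.decompose_of_mem_ne 𝒜 hs (by omega)]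
  obtain ⟨k, hk, hsk⟩ := hrad s hsirr
  have hskm : s ^ k ∈ 𝒜 (k • m) := SetLike.pow_mem_graded k hs
  obtain ⟨S, c, hsum, hc⟩ := hom_repr 𝒜 d f hf hskm hsk
  set t' := S.sup d with ht'
  refine ⟨k * (t' + 1), ?_⟩
  have hdle : ∀ a ∈ S, d a ≤ n * (k * (t' + 1)) := by
    intro a ha
    have h1 : d a ≤ t' := Finset.le_sup (f := d) ha
    have h2 : 1 * (t' + 1) ≤ (n * k) * (t' + 1) :=
      Nat.mul_le_mul_right _ (Nat.one_le_iff_ne_zero.2 (Nat.mul_ne_zero (by omega) (by omega)))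
    rw [Nat.mul_assoc] at h2
    omega
  have hb : ∀ a ∈ S, ∃ b : B,
      φ b = Polynomial.monomial (n * (k * (t' + 1)) - d a) (s ^ (k * t') * c a) := by
    intro a ha
    have : s ^ (k * t') * c a ∈ G 𝒜 (n * (k * (t' + 1)) - d a) := by
      by_cases hda : d a ≤ k • m
      · have h1 := (hc a).1 hda
        have h2 : s ^ (k * t') ∈ 𝒜 ((k * t') • m) := SetLike.pow_mem_graded _ hs
        have h3 := SetLike.mul_mem_graded h2 h1
        refine le_G_of_le 𝒜 ?_ h3
        simp only [smul_eq_mul] at hda ⊢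
        have e1 : n * (k * (t' + 1)) ≤ m * (k * (t' + 1)) := Nat.mul_le_mul_right _ hnm
        have e2 : m * (k * (t' + 1)) = k * t' * m + k * m := by ring
        generalize n * (k * (t' + 1)) = X at *
        generalize m * (k * (t' + 1)) = Y at *
        generalize k * t' * m = Z at *
        generalize k * m = W at *
        omega
      · rw [(hc a).2 hda, mul_zero]; exact zero_mem _
    obtain ⟨b, _, hb⟩ := exists_preimage 𝒜 ℬ φ hdeg _ this
    exact ⟨b, hb⟩
  choose! b hb using hb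
  have key : h ^ (k * (t' + 1)) = ∑ a ∈ S, b a * fn a := by
    apply hφ
    rw [map_pow, hh, map_sum, Polynomial.monomial_pow]
    have : ∀ a ∈ S, φ (b a * fn a) =
        Polynomial.monomial (n * (k * (t' + 1))) (s ^ (k * t') * (c a * f a)) := by
      intro a ha
      rw [map_mul, hb a ha, hfn a, Polynomial.monomial_mul_monomial,
        Nat.sub_add_cancel (hdle a ha), mul_assoc]
    rw [Finset.sum_congr rfl this, ← map_sum, ← Finset.mul_sum, ← hsum, ← pow_add]
    congr 2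
  rw [key]
  exact Ideal.sum_mem _ fun a _ => Ideal.mul_mem_left _ _ (Ideal.subset_span ⟨a, rfl⟩)


include hφ hdeg in
omit [GradedAlgebra ℬ] in
theorem stepC {ι : Type u} (d : ι → ℕ) (f : ι → A) (hf : ∀ a, f a ∈ 𝒜 (d a))
    (hrad : ∀ g ∈ (HomogeneousIdeal.irrelevant 𝒜).toIdeal,
      ∃ n : ℕ, 0 < n ∧ g ^ n ∈ Ideal.span (Set.range f))
    (fn : ι → B) (hfn : ∀ a, φ (fn a) = Polynomial.monomial (d a) (f a))
    {n : ℕ} (hn : 1 ≤ n) {h : B} (hh : h ∈ ℬ n) :
    h ∈ (Ideal.span (Set.range fn)).radical := by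
  have h1 : φ h ∈ Submodule.map (mono (R := R) n) (G 𝒜 n) := by
    have := hdeg n
    unfold G mono
    rw [← this]
    exact ⟨h, hh, rfl⟩
  obtain ⟨s, hs, hs'⟩ := h1
  have key : G 𝒜 n ≤ Submodule.comap (mono (R := R) n) (Submodule.map φ.toLinearMap
      ((Ideal.span (Set.range fn)).radical.restrictScalars R)) := by
    refine iSup₂_le fun m hm => ?_
    intro s hs
    obtain ⟨b, _, hb⟩ := exists_preimage 𝒜 ℬ φ hdeg n (le_G_of_le 𝒜 hm hs)
    exact ⟨b, stepB 𝒜 ℬ φ hφ hdeg d f hf hrad fn hfn hn hm hs hb, hb⟩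
  obtain ⟨b, hb, hb'⟩ := key hs
  have : b = h := hφ (hb'.trans hs')
  rw [← this]; exact hb

include hφ hdeg in
theorem main {ι : Type u} (d : ι → ℕ) (f : ι → A) (hf : ∀ a, f a ∈ 𝒜 (d a))
    (hrad : ∀ g ∈ (HomogeneousIdeal.irrelevant 𝒜).toIdeal,
      ∃ n : ℕ, 0 < n ∧ g ^ n ∈ Ideal.span (Set.range f))
    (fn : ι → B) (hfn : ∀ a, φ (fn a) = Polynomial.monomial (d a) (f a)) :
    ∀ g ∈ (HomogeneousIdeal.irrelevant ℬ).toIdeal,
      ∃ n : ℕ, 0 < n ∧ g ^ n ∈ Ideal.span (Set.range fn) := by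
  classical
  intro g hg
  have hg0 : (DirectSum.decompose ℬ g 0 : B) = 0 := by
    rw [HomogeneousIdeal.mem_iff, HomogeneousIdeal.mem_irrelevant_iff,
      GradedRing.proj_apply] at hg
    exact hg
  have hr : g ∈ (Ideal.span (Set.range fn)).radical := by
    rw [← DirectSum.sum_support_decompose ℬ g]
    refine Ideal.sum_mem _ fun i _ => ?_
    rcases Nat.eq_zero_or_pos i with rfl | hi
    · rw [hg0]; exact zero_mem _
    · exact stepC 𝒜 ℬ φ hφ hdeg d f hf hrad fn hfn hi (SetLike.coe_mem _)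
  obtain ⟨n, hn⟩ := hr
  exact ⟨n + 1, Nat.succ_pos _, by rw [pow_succ]; exact Ideal.mul_mem_right _ _ hn⟩

end Transport

end H10S8312
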