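import Groth.Agent.Lib.Helper26.NodeQuot

set_option autoImplicit false
universe u

namespace Groth.Agent.Lib.helper10.NodeIdeal

open MvPowerSeries Groth.Agent.Lib.Helper26.NodeQuot

variable {k : Type u} [Field k]

local notation "P" => MvPowerSeries (Fin 2) k

/-- coefficient of `x^i`. -/
noncomputable abbrev cx (i : ℕ) (f : P) : k := coeff (Finsupp.single 0 i) f
/-- coefficient of `y^j`. -/
noncomputable abbrev cy (j : ℕ) (f : P) : k := coeff (Finsupp.single 1 j) f

lemma single01 (i j : ℕ) (h : (Finsupp.single 0 i : Fin 2 →₀ ℕ) = Finsupp.single 1 j) :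
    i = 0 ∧ j = 0 := by
  have h0 := DFunLike.congr_fun h 0
  have h1 := DFunLike.congr_fun h 1
  simp at h0 h1
  exact ⟨h0, h1.symm⟩

lemma cx_X0_pow (i a : ℕ) : cx i ((X 0 : P) ^ a) = if i = a then 1 else 0 := by
  classical
  show coeff _ _ = _
  rw [coeff_X_pow]
  by_cases h : i = a
  · rw [if_pos h, if_pos (by rw [h])]
  · rw [if_neg h, if_neg]
    intro h'
    exact h (Finsupp.single_injective 0 h')

lemma cy_X1_pow (j b : ℕ) : cy j ((X 1 : P) ^ b) = if j = b then 1 else 0 := by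
  classical
  show coeff _ _ = _
  rw [coeff_X_pow]
  by_cases h : j = b
  · rw [if_pos h, if_pos (by rw [h])]
  · rw [if_neg h, if_neg]
    intro h'
    exact h (Finsupp.single_injective 1 h')

lemma cx_X1_pow (i b : ℕ) (hb : 1 ≤ b) : cx i ((X 1 : P) ^ b) = 0 := by
  classical
  show coeff _ _ = _
  rw [coeff_X_pow, if_neg]
  intro h
  have := (single01 i b h).2
  omega

lemma cy_X0_pow (j a : ℕ) (ha : 1 ≤ a) : cy j ((X 0 : P) ^ a) = 0 := by
  classical
  show coeff _ _ = _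
  rw [coeff_X_pow, if_neg]
  intro h
  have := (single01 a j h.symm).1
  omega

lemma cy_zero_eq (f : P) : cy 0 f = cx 0 f := by
  show coeff _ f = coeff _ f
  rw [Finsupp.single_zero, Finsupp.single_zero]

lemma cx_xy (i : ℕ) (g : P) : cx i (X 0 * X 1 * g) = 0 := by
  have := congrArg (fun z => z.1 ⟨i, Nat.lt_succ_self i⟩) (Φ_xy (k := k) (i + 1) 1 g)
  simp only [Φ_fst, Prod.fst_zero, Pi.zero_apply] at this
  exact this

lemma cy_xy (j : ℕ) (g : P) : cy j (X 0 * X 1 * g) = 0 := by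
  rcases Nat.eq_zero_or_pos j with rfl | hj
  · rw [cy_zero_eq]; exact cx_xy 0 g
  · have := congrArg (fun z => z.2 ⟨j - 1, by omega⟩) (Φ_xy (k := k) 1 (j + 1) g)
    simp only [Φ_snd, Prod.snd_zero, Pi.zero_apply] at this
    rwa [show j - 1 + 1 = j by omega] at this

lemma cx_X0_pow_mul (i u : ℕ) (hiu : i < u) (A : P) : cx i (X 0 ^ u * A) = 0 := by
  have := congrArg (fun z => z.1 ⟨i, hiu⟩) (Φ_xu (k := k) u 1 (by omega) A)
  simp only [Φ_fst, Prod.fst_zero, Pi.zero_apply] at this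
  exact this

lemma cx_X1_pow_mul (i v : ℕ) (hv : 1 ≤ v) (B : P) : cx i (X 1 ^ v * B) = 0 := by
  have := congrArg (fun z => z.1 ⟨i, Nat.lt_succ_self i⟩) (Φ_yv (k := k) (i + 1) v hv B)
  simp only [Φ_fst, Prod.fst_zero, Pi.zero_apply] at this
  exact this

lemma cy_X1_pow_mul (j v : ℕ) (hjv : j < v) (B : P) : cy j (X 1 ^ v * B) = 0 := by
  rcases Nat.eq_zero_or_pos j with rfl | hj
  · rw [cy_zero_eq]; exact cx_X1_pow_mul 0 v (by omega) B
  · have := congrArg (fun z => z.2 ⟨j - 1, by omega⟩) (Φ_yv (k := k) 1 v (by omega) B)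
    simp only [Φ_snd, Prod.snd_zero, Pi.zero_apply] at this
    rwa [show j - 1 + 1 = j by omega] at this

lemma cy_X0_pow_mul (j u : ℕ) (hu : 1 ≤ u) (A : P) : cy j (X 0 ^ u * A) = 0 := by
  rcases Nat.eq_zero_or_pos j with rfl | hj
  · rw [cy_zero_eq]; exact cx_X0_pow_mul 0 u (by omega) A
  · have := congrArg (fun z => z.2 ⟨j - 1, by omega⟩) (Φ_xu (k := k) u (j + 1) hu A)
    simp only [Φ_snd, Prod.snd_zero, Pi.zero_apply] at this
    rwa [show j - 1 + 1 = j by omega] at this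

/-- refined decomposition. -/
lemma decomp' (a b : ℕ) (ha : 1 ≤ a) (hb : 1 ≤ b) (f : P)
    (h0 : ∀ i < a, cx i f = 0) (h1 : ∀ j < b, cy j f = 0) :
    ∃ g A' B' : P, f = C (cx a f) * X 0 ^ a + C (cy b f) * X 1 ^ b + X 0 * X 1 * g +
      X 0 ^ (a + 1) * A' + X 1 ^ (b + 1) * B' := by
  obtain ⟨f', hf'⟩ : ∃ f' : P, f' = f - C (cx a f) * X 0 ^ a - C (cy b f) * X 1 ^ b := ⟨_, rfl⟩
  have hx : ∀ i < a + 1, cx i f' = 0 := by
    intro i hi
    show coeff _ f' = 0
    rw [hf', map_sub, map_sub, coeff_C_mul, coeff_C_mul]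
    have e1 : coeff (Finsupp.single 0 i) ((X 0 : P) ^ a) = if i = a then 1 else 0 := cx_X0_pow i a
    have e2 : coeff (Finsupp.single 0 i) ((X 1 : P) ^ b) = 0 := cx_X1_pow i b hb
    rw [e1, e2, mul_zero, sub_zero]
    by_cases hia : i = a
    · rw [if_pos hia, mul_one, hia, sub_self]
    · rw [if_neg hia, mul_zero, sub_zero]
      exact h0 i (by omega)
  have hy : ∀ j < b + 1, cy j f' = 0 := by
    intro j hj
    show coeff _ f' = 0
    rw [hf', map_sub, map_sub, coeff_C_mul, coeff_C_mul]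
    have e1 : coeff (Finsupp.single 1 j) ((X 1 : P) ^ b) = if j = b then 1 else 0 := cy_X1_pow j b
    have e2 : coeff (Finsupp.single 1 j) ((X 0 : P) ^ a) = 0 := cy_X0_pow j a ha
    rw [e1, e2, mul_zero, sub_zero]
    by_cases hjb : j = b
    · rw [if_pos hjb, mul_one, hjb, sub_self]
    · rw [if_neg hjb, mul_zero, sub_zero]
      exact h1 j (by omega)
  have hd := decomp (a + 1) (b + 1) (by omega) (by omega) f' hx hy
  refine ⟨gS f', aS (a + 1) f', bS (b + 1) f', ?_⟩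
  have : f = f' + C (cx a f) * X 0 ^ a + C (cy b f) * X 1 ^ b := by rw [hf']; ring
  conv_lhs => rw [this, hd]
  ring

end Groth.Agent.Lib.helper10.NodeIdeal
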