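import Groth.Agent.Lib.helper10.NodeIdealA

set_option autoImplicit false
universe u

namespace Groth.Agent.Lib.helper10.NodeIdeal

open MvPowerSeries Groth.Agent.Lib.Helper26.NodeQuot

variable {k : Type u} [Field k]

local notation "P" => MvPowerSeries (Fin 2) k

/-- the augmentation of `k[[x,y]]`. -/
noncomputable def epsP2 : P →ₐ[k] k :=
  { (constantCoeff : P →+* k) with
    commutes' := fun c => by
      show constantCoeff (C c : P) = c
      simp }

lemma epsP2_apply (f : P) : epsP2 f = constantCoeff f := rfl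

lemma cx_zero (f : P) : cx 0 f = constantCoeff f := by
  show coeff _ f = _
  rw [Finsupp.single_zero, coeff_zero_eq_constantCoeff_apply]

lemma isUnit_of_cx_zero {f : P} (h : cx 0 f ≠ 0) : IsUnit f := by
  rw [isUnit_iff_constantCoeff, ← cx_zero]
  exact IsUnit.mk0 _ h

lemma mem_of_mul_unit_mem (J : Ideal P) {f u : P} (hu : IsUnit u) (h : f * u ∈ J) : f ∈ J := by
  obtain ⟨v, hv⟩ := hu.exists_right_inv
  have : f = f * u * v := by rw [mul_assoc, hv, mul_one]
  rw [this]
  exact Ideal.mul_mem_right _ _ h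

lemma exists_pow_mem (J : Ideal P) [Module.Finite k (P ⧸ J)] (s : Fin 2) :
    ∃ N : ℕ, (X s : P) ^ N ∈ J := by
  have hint : IsIntegral k (Ideal.Quotient.mkₐ k J (X s)) := Algebra.IsIntegral.isIntegral _
  obtain ⟨p, hmonic, hp⟩ := hint
  have hp' : Polynomial.aeval (Ideal.Quotient.mkₐ k J (X s)) p = 0 := hp
  have hp0 : p ≠ 0 := hmonic.ne_zero
  obtain ⟨q, hpq, hq⟩ := Polynomial.exists_eq_pow_rootMultiplicity_mul_and_not_dvd p hp0 0
  rw [map_zero, sub_zero] at hpq hq
  have hq0 : q.coeff 0 ≠ 0 := fun h0 => hq (Polynomial.X_dvd_iff.mpr h0)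
  refine ⟨p.rootMultiplicity 0, ?_⟩
  have hmem : Polynomial.aeval (X s : P) p ∈ J := by
    rw [← Ideal.Quotient.eq_zero_iff_mem]
    have := Polynomial.aeval_algHom_apply (Ideal.Quotient.mkₐ k J) (X s : P) p
    rw [hp'] at this
    exact this.symm
  have hunit : IsUnit (Polynomial.aeval (X s : P) q) := by
    apply isUnit_of_cx_zero
    rw [cx_zero, ← epsP2_apply, ← Polynomial.aeval_algHom_apply, epsP2_apply, constantCoeff_X,
      ← Polynomial.coeff_zero_eq_aeval_zero]
    exact hq0
  apply mem_of_mul_unit_mem J hunit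
  have : Polynomial.aeval (X s : P) p =
      (X s : P) ^ (p.rootMultiplicity 0) * Polynomial.aeval (X s : P) q := by
    conv_lhs => rw [hpq]
    rw [map_mul, map_pow, Polynomial.aeval_X]
  rw [← this]
  exact hmem

end Groth.Agent.Lib.helper10.NodeIdeal
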