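import Groth.Agent.Lib.helper10.NodeIdealB

set_option autoImplicit false
universe u

namespace Groth.Agent.Lib.helper10.NodeIdeal

open MvPowerSeries Groth.Agent.Lib.Helper26.NodeQuot

variable {k : Type u} [Field k]

local notation "P" => MvPowerSeries (Fin 2) k

/-- data extracted from an ideal of finite colength containing `xy`. -/
structure Data (J : Ideal P) (a b : ℕ) : Prop where
  ha : 1 ≤ a
  hb : 1 ≤ b
  hxy : (X 0 * X 1 : P) ∈ J
  mina : ∀ f ∈ J, ∀ i < a, cx i f = 0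
  minb : ∀ f ∈ J, ∀ j < b, cy j f = 0
  exa : ∃ f ∈ J, cx a f ≠ 0
  exb : ∃ f ∈ J, cy b f ≠ 0

lemma exists_data (J : Ideal P) (hxy : (X 0 * X 1 : P) ∈ J) [Module.Finite k (P ⧸ J)]
    (hJ : J ≠ ⊤) : ∃ a b, Data J a b := by
  classical
  have hconst : ∀ f ∈ J, cx 0 f = 0 := by
    intro f hf
    by_contra h
    exact hJ (Ideal.eq_top_of_isUnit_mem J hf (isUnit_of_cx_zero h))
  have hexa : ∃ i, ∃ f ∈ J, cx i f ≠ 0 := by
    obtain ⟨N, hN⟩ := exists_pow_mem J 0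
    refine ⟨N, _, hN, ?_⟩
    rw [cx_X0_pow, if_pos rfl]; exact one_ne_zero
  have hexb : ∃ j, ∃ f ∈ J, cy j f ≠ 0 := by
    obtain ⟨N, hN⟩ := exists_pow_mem J 1
    refine ⟨N, _, hN, ?_⟩
    rw [cy_X1_pow, if_pos rfl]; exact one_ne_zero
  refine ⟨Nat.find hexa, Nat.find hexb, ?_⟩
  obtain ⟨f₁, hf₁, hf₁a⟩ := Nat.find_spec hexa
  obtain ⟨f₂, hf₂, hf₂b⟩ := Nat.find_spec hexb
  refine ⟨?_, ?_, hxy, ?_, ?_, ⟨f₁, hf₁, hf₁a⟩, ⟨f₂, hf₂, hf₂b⟩⟩
  · by_contra h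
    have h0 : Nat.find hexa = 0 := by omega
    rw [h0] at hf₁a
    exact hf₁a (hconst f₁ hf₁)
  · by_contra h
    have h0 : Nat.find hexb = 0 := by omega
    rw [h0, cy_zero_eq] at hf₂b
    exact hf₂b (hconst f₂ hf₂)
  · intro f hf i hi
    by_contra h
    exact Nat.find_min hexa hi ⟨f, hf, h⟩
  · intro f hf j hj
    by_contra h
    exact Nat.find_min hexb hj ⟨f, hf, h⟩

lemma Data.X0_pow_succ_mem {J : Ideal P} {a b : ℕ} (D : Data J a b) : (X 0 : P) ^ (a + 1) ∈ J := by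
  obtain ⟨f₁, hf₁, hf₁a⟩ := D.exa
  have hd := decomp a b D.ha D.hb f₁ (D.mina f₁ hf₁) (D.minb f₁ hf₁)
  have hunit : IsUnit (aS a f₁) := by
    apply isUnit_of_cx_zero
    rw [cx_zero, ← coeff_zero_eq_constantCoeff_apply, coeff_aS, if_pos (by simp), zero_add]
    exact hf₁a
  apply mem_of_mul_unit_mem J hunit
  obtain ⟨b', rfl⟩ : ∃ b', b = b' + 1 := ⟨b - 1, by have := D.hb; omega⟩
  have : (X 0 : P) ^ (a + 1) * aS a f₁ =
      X 0 * f₁ - X 0 * X 1 * (X 0 * gS f₁ + X 1 ^ b' * bS (b' + 1) f₁) := by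
    linear_combination (-(X 0 : P)) * hd
  rw [this]
  exact Ideal.sub_mem _ (Ideal.mul_mem_left _ _ hf₁) (Ideal.mul_mem_right _ _ D.hxy)

lemma Data.X1_pow_succ_mem {J : Ideal P} {a b : ℕ} (D : Data J a b) : (X 1 : P) ^ (b + 1) ∈ J := by
  obtain ⟨f₂, hf₂, hf₂b⟩ := D.exb
  have hd := decomp a b D.ha D.hb f₂ (D.mina f₂ hf₂) (D.minb f₂ hf₂)
  have hunit : IsUnit (bS b f₂) := by
    apply isUnit_of_cx_zero
    rw [cx_zero, ← coeff_zero_eq_constantCoeff_apply, coeff_bS, if_pos (by simp), zero_add]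
    exact hf₂b
  apply mem_of_mul_unit_mem J hunit
  obtain ⟨a', rfl⟩ : ∃ a', a = a' + 1 := ⟨a - 1, by have := D.ha; omega⟩
  have : (X 1 : P) ^ (b + 1) * bS b f₂ =
      X 1 * f₂ - X 0 * X 1 * (X 1 * gS f₂ + X 0 ^ a' * aS (a' + 1) f₂) := by
    linear_combination (-(X 1 : P)) * hd
  rw [this]
  exact Ideal.sub_mem _ (Ideal.mul_mem_left _ _ hf₂) (Ideal.mul_mem_right _ _ D.hxy)

/-- membership criterion. -/
lemma Data.mem_iff {J : Ideal P} {a b : ℕ} (D : Data J a b) (f : P) :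
    f ∈ J ↔ (∀ i < a, cx i f = 0) ∧ (∀ j < b, cy j f = 0) ∧
      C (cx a f) * X 0 ^ a + C (cy b f) * X 1 ^ b ∈ J := by
  have hrest : ∀ g A' B' : P, X 0 * X 1 * g + X 0 ^ (a + 1) * A' + X 1 ^ (b + 1) * B' ∈ J :=
    fun g A' B' => Ideal.add_mem _ (Ideal.add_mem _ (Ideal.mul_mem_right _ _ D.hxy)
      (Ideal.mul_mem_right _ _ D.X0_pow_succ_mem)) (Ideal.mul_mem_right _ _ D.X1_pow_succ_mem)
  constructor
  · intro hf
    refine ⟨D.mina f hf, D.minb f hf, ?_⟩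
    obtain ⟨g, A', B', hd⟩ := decomp' a b D.ha D.hb f (D.mina f hf) (D.minb f hf)
    have : C (cx a f) * X 0 ^ a + C (cy b f) * X 1 ^ b =
        f - (X 0 * X 1 * g + X 0 ^ (a + 1) * A' + X 1 ^ (b + 1) * B') := by
      linear_combination (-1 : P) * hd
    rw [this]
    exact Ideal.sub_mem _ hf (hrest g A' B')
  · rintro ⟨h0, h1, hm⟩
    obtain ⟨g, A', B', hd⟩ := decomp' a b D.ha D.hb f h0 h1
    have : f = (C (cx a f) * X 0 ^ a + C (cy b f) * X 1 ^ b) +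
        (X 0 * X 1 * g + X 0 ^ (a + 1) * A' + X 1 ^ (b + 1) * B') := by
      linear_combination hd
    rw [this]
    exact Ideal.add_mem _ hm (hrest g A' B')

/-- the conditions "low coefficients vanish" in terms of `Φ`. -/
lemma Phi_eq_zero_iff (a b : ℕ) (ha : 1 ≤ a) (f : P) :
    Φ (k := k) a b f = 0 ↔ (∀ i < a, cx i f = 0) ∧ (∀ j < b, cy j f = 0) := by
  constructor
  · intro hf
    have h0 : ∀ i < a, cx i f = 0 := by
      intro i hi
      have := congrArg (fun z => z.1 ⟨i, hi⟩) hf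
      simp only [Φ_fst, Prod.fst_zero, Pi.zero_apply] at this
      exact this
    refine ⟨h0, ?_⟩
    intro j hj
    rcases Nat.eq_zero_or_pos j with rfl | hj0
    · rw [cy_zero_eq]; exact h0 0 (by omega)
    · have := congrArg (fun z => z.2 ⟨j - 1, by omega⟩) hf
      simp only [Φ_snd, Prod.snd_zero, Pi.zero_apply] at this
      rwa [show j - 1 + 1 = j by omega] at this
  · rintro ⟨h0, h1⟩
    ext i
    · rw [Φ_fst]; exact h0 i.1 i.2
    · rw [Φ_snd]; exact h1 (i.1 + 1) (by have := i.2; omega)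

end Groth.Agent.Lib.helper10.NodeIdeal
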