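import Groth.Agent.Lib.helper10.NodeIdealC

set_option autoImplicit false
universe u

namespace Groth.Agent.Lib.helper10.NodeIdeal

open MvPowerSeries Groth.Agent.Lib.Helper26.NodeQuot

variable {k : Type u} [Field k]

local notation "P" => MvPowerSeries (Fin 2) k

/-- finrank of the quotient by an ideal which is the kernel of a surjective linear map. -/
lemma finrank_quot_eq {V : Type*} [AddCommGroup V] [Module k V] (J : Ideal P)
    (L : P →ₗ[k] V) (hL : Function.Surjective L) (hker : ∀ f, f ∈ J ↔ L f = 0) :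
    Module.finrank k (P ⧸ J) = Module.finrank k V := by
  let Ψ : P →ₗ[k] (P ⧸ J) := (Ideal.Quotient.mkₐ k J).toLinearMap
  have hΨsurj : Function.Surjective Ψ := Ideal.Quotient.mk_surjective
  have hk : LinearMap.ker Ψ = LinearMap.ker L := by
    ext f
    rw [LinearMap.mem_ker, LinearMap.mem_ker, ← hker]
    exact Ideal.Quotient.eq_zero_iff_mem
  have e1 := Ψ.quotKerEquivOfSurjective hΨsurj
  have e2 := L.quotKerEquivOfSurjective hL
  rw [← e1.finrank_eq, hk, e2.finrank_eq]

lemma C_mul_C_inv {c : k} (hc : c ≠ 0) : (C c⁻¹ : P) * C c = 1 := by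
  rw [← map_mul, inv_mul_cancel₀ hc, map_one]

theorem classify (J : Ideal P) (hxy : (X 0 * X 1 : P) ∈ J) [Module.Finite k (P ⧸ J)]
    (n : ℕ) (hn : Module.finrank k (P ⧸ J) = n) (h2 : 2 ≤ n) :
    ∃ a b : ℕ, 1 ≤ a ∧ 1 ≤ b ∧
      ((a + b = n + 1 ∧ J = Ideal.span {X 0 * X 1, X 0 ^ a, X 1 ^ b}) ∨
       (a + b = n ∧ ∃ α : k, α ≠ 0 ∧
        J = Ideal.span {X 0 * X 1, X 0 ^ a + C α * X 1 ^ b})) := by
  have hJtop : J ≠ ⊤ := by
    intro h
    have : Subsingleton (P ⧸ J) := Ideal.Quotient.subsingleton_iff.mpr h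
    rw [Module.finrank_zero_of_subsingleton] at hn
    omega
  obtain ⟨a, b, D⟩ := exists_data J hxy hJtop
  obtain ⟨f₁, hf₁, hf₁a⟩ := D.exa
  obtain ⟨f₂, hf₂, hf₂b⟩ := D.exb
  have ha := D.ha
  have hb := D.hb
  refine ⟨a, b, ha, hb, ?_⟩
  by_cases hXa : (X 0 : P) ^ a ∈ J
  · -- case A
    left
    have hYb : (X 1 : P) ^ b ∈ J := by
      have h1 := ((D.mem_iff f₂).mp hf₂).2.2
      have h3 : C (cy b f₂) * (X 1 : P) ^ b ∈ J := by
        have := Ideal.sub_mem _ h1 (Ideal.mul_mem_left _ (C (cx a f₂)) hXa)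
        rwa [add_sub_cancel_left] at this
      have h4 := Ideal.mul_mem_left _ (C (cy b f₂)⁻¹) h3
      rwa [← mul_assoc, C_mul_C_inv hf₂b, one_mul] at h4
    constructor
    · have hfr : Module.finrank k (P ⧸ J) = a + (b - 1) := by
        rw [finrank_quot_eq J (Φ (k := k) a b) (Φ_surj a b), Module.finrank_prod,
          Module.finrank_fin_fun, Module.finrank_fin_fun]
        intro f
        rw [Phi_eq_zero_iff a b ha, D.mem_iff]
        constructor
        · rintro ⟨h0, h1, -⟩; exact ⟨h0, h1⟩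
        · rintro ⟨h0, h1⟩
          exact ⟨h0, h1, Ideal.add_mem _ (Ideal.mul_mem_left _ _ hXa) (Ideal.mul_mem_left _ _ hYb)⟩
      omega
    · apply le_antisymm
      · intro f hf
        have hd := decomp a b ha hb f (D.mina f hf) (D.minb f hf)
        rw [hd]
        refine Ideal.add_mem _ (Ideal.add_mem _ ?_ ?_) ?_
        · exact Ideal.mul_mem_right _ _ (Ideal.subset_span (by simp))
        · exact Ideal.mul_mem_right _ _ (Ideal.subset_span (by simp))
        · exact Ideal.mul_mem_right _ _ (Ideal.subset_span (by simp))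
      · rw [Ideal.span_le]
        intro z hz
        simp only [Set.mem_insert_iff, Set.mem_singleton_iff] at hz
        rcases hz with rfl | rfl | rfl
        · exact hxy
        · exact hXa
        · exact hYb
  · -- case B
    right
    obtain ⟨α, hα_def⟩ : ∃ α : k, α = cy b f₁ / cx a f₁ := ⟨_, rfl⟩
    obtain ⟨g₀, hg₀_def⟩ : ∃ g₀ : P, g₀ = X 0 ^ a + C α * X 1 ^ b := ⟨_, rfl⟩
    have hg₀ : g₀ ∈ J := by
      have h1 := ((D.mem_iff f₁).mp hf₁).2.2
      have h4 := Ideal.mul_mem_left _ (C (cx a f₁)⁻¹) h1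
      have : g₀ = C (cx a f₁)⁻¹ * (C (cx a f₁) * X 0 ^ a + C (cy b f₁) * X 1 ^ b) := by
        rw [hg₀_def, hα_def, div_eq_mul_inv, map_mul]
        linear_combination (-(X 0 : P) ^ a) * C_mul_C_inv (k := k) hf₁a
      rw [this]; exact h4
    have hα : α ≠ 0 := by
      intro h0
      apply hXa
      rw [hg₀_def, h0, map_zero, zero_mul, add_zero] at hg₀
      exact hg₀
    have hY : (X 1 : P) ^ b ∉ J := by
      intro hYb
      apply hXa
      have := Ideal.sub_mem _ hg₀ (Ideal.mul_mem_left _ (C α) hYb)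
      rwa [hg₀_def, add_sub_cancel_right] at this
    have hW : ∀ c d : k, C c * (X 0 : P) ^ a + C d * X 1 ^ b ∈ J → d = α * c := by
      intro c d hcd
      by_contra hne
      have hne' : d - α * c ≠ 0 := sub_ne_zero.mpr hne
      apply hY
      have h1 := Ideal.sub_mem _ hcd (Ideal.mul_mem_left _ (C c) hg₀)
      have h3 : C c * (X 0 : P) ^ a + C d * X 1 ^ b - C c * g₀ = C (d - α * c) * X 1 ^ b := by
        rw [hg₀_def, map_sub, map_mul]; ring
      rw [h3] at h1
      have h4 := Ideal.mul_mem_left _ (C (d - α * c)⁻¹) h1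
      rwa [← mul_assoc, C_mul_C_inv hne', one_mul] at h4
    have hJmem : ∀ f, f ∈ J ↔ (∀ i < a, cx i f = 0) ∧ (∀ j < b, cy j f = 0) ∧
        cy b f - α * cx a f = 0 := by
      intro f
      rw [D.mem_iff]
      constructor
      · rintro ⟨h0, h1, hm⟩
        exact ⟨h0, h1, by rw [hW _ _ hm, sub_self]⟩
      · rintro ⟨h0, h1, hm⟩
        refine ⟨h0, h1, ?_⟩
        have : C (cx a f) * (X 0 : P) ^ a + C (cy b f) * X 1 ^ b = C (cx a f) * g₀ := by
          rw [hg₀_def, sub_eq_zero.mp hm, map_mul]; ring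
        rw [this]
        exact Ideal.mul_mem_left _ _ hg₀
    constructor
    · -- finrank
      let lam : P →ₗ[k] k := coeff (Finsupp.single 1 b) - α • coeff (Finsupp.single 0 a)
      have hlam : ∀ f : P, lam f = cy b f - α * cx a f := fun f => rfl
      let L : P →ₗ[k] ((Fin a → k) × (Fin (b - 1) → k)) × k := (Φ (k := k) a b).prod lam
      have hLsurj : Function.Surjective L := by
        rintro ⟨uv, w⟩
        obtain ⟨f₀, hf₀⟩ := Φ_surj (k := k) a b uv
        refine ⟨f₀ + X 1 ^ b * C (w - lam f₀), ?_⟩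
        have h1 : Φ (k := k) a b (X 1 ^ b * C (w - lam f₀)) = 0 := Φ_yv a b hb _
        have h3 : lam (X 1 ^ b * C (w - lam f₀)) = w - lam f₀ := by
          rw [hlam]
          show coeff _ _ - α * coeff _ _ = _
          rw [mul_comm ((X 1 : P) ^ b), coeff_C_mul, coeff_C_mul]
          have e1 : coeff (Finsupp.single 1 b) ((X 1 : P) ^ b) = 1 := by
            have := cy_X1_pow (k := k) b b
            rw [if_pos rfl] at this
            exact this
          have e2 : coeff (Finsupp.single 0 a) ((X 1 : P) ^ b) = 0 := cx_X1_pow a b hb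
          rw [e1, e2]; ring
        show (Φ (k := k) a b (f₀ + X 1 ^ b * C (w - lam f₀)),
          lam (f₀ + X 1 ^ b * C (w - lam f₀))) = (uv, w)
        rw [map_add, map_add, h1, h3, hf₀]
        simp
      have hfr : Module.finrank k (P ⧸ J) = a + (b - 1) + 1 := by
        rw [finrank_quot_eq J L hLsurj, Module.finrank_prod, Module.finrank_prod,
          Module.finrank_fin_fun, Module.finrank_fin_fun, Module.finrank_self]
        intro f
        rw [hJmem]
        show _ ↔ (Φ (k := k) a b f, lam f) = 0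
        rw [Prod.mk_eq_zero, Phi_eq_zero_iff a b ha, hlam]
        tauto
      omega
    · refine ⟨α, hα, ?_⟩
      rw [← hg₀_def]
      apply le_antisymm
      · intro f hf
        obtain ⟨h0, h1, hm⟩ := (hJmem f).mp hf
        obtain ⟨g, A', B', hd⟩ := decomp' a b ha hb f h0 h1
        obtain ⟨a', rfl⟩ : ∃ a', a = a' + 1 := ⟨a - 1, by omega⟩
        obtain ⟨b', rfl⟩ : ∃ b', b = b' + 1 := ⟨b - 1, by omega⟩
        rw [Ideal.mem_span_pair]
        have hcy : (C (cy (b' + 1) f) : P) = C α * C (cx (a' + 1) f) := by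
          rw [← map_mul, sub_eq_zero.mp hm]
        rw [hcy] at hd
        obtain ⟨c, hc⟩ : ∃ c : k, c = cx (a' + 1) f := ⟨_, rfl⟩
        rw [← hc] at hd
        refine ⟨g - C α * X 1 ^ b' * A' - C α⁻¹ * X 0 ^ a' * B',
          C c + X 0 * A' + C α⁻¹ * X 1 * B', ?_⟩
        rw [hd, hg₀_def]
        linear_combination ((X 1 : P) ^ (b' + 1 + 1) * B') * C_mul_C_inv (k := k) hα
      · rw [Ideal.span_le]
        intro z hz
        simp only [Set.mem_insert_iff, Set.mem_singleton_iff] at hz
        rcases hz with rfl | rfl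
        · exact hxy
        · exact hg₀

end Groth.Agent.Lib.helper10.NodeIdeal
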