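import Mathlib

set_option autoImplicit false
universe u

namespace Groth.Agent.Lib.helper10.NodeNF

variable {R : Type u} [CommRing R] (I : Ideal R) [IsAdicComplete I R] (π : R)

lemma smodEq_iff (n : ℕ) (a b : R) :
    a ≡ b [SMOD (I ^ n • ⊤ : Submodule R R)] ↔ a - b ∈ I ^ n := by
  rw [SModEq.sub_mem, smul_eq_mul, Ideal.mul_top]

lemma exists_lim (hπ : π ∈ I) (c : ℕ → R) :
    ∃ L : R, ∀ N, L - ∑ s ∈ Finset.range N, c s * π ^ s ∈ I ^ N := by
  obtain ⟨L, hL⟩ := IsPrecomplete.prec' (I := I) (fun N => ∑ s ∈ Finset.range N, c s * π ^ s) (by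
    intro m n hmn
    rw [smodEq_iff]
    have : ∑ s ∈ Finset.range m, c s * π ^ s - ∑ s ∈ Finset.range n, c s * π ^ s =
        -∑ s ∈ Finset.Ico m n, c s * π ^ s := by
      rw [Finset.sum_Ico_eq_sub _ hmn]; ring
    rw [this]
    apply Ideal.neg_mem_iff _ |>.2
    apply Ideal.sum_mem
    intro s hs
    apply Ideal.mul_mem_left
    exact Ideal.pow_le_pow_right (Finset.mem_Ico.1 hs).1 (Ideal.pow_mem_pow hπ s))
  refine ⟨L, fun N => ?_⟩
  have := (smodEq_iff I N _ _).1 (hL N)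
  rw [← Ideal.neg_mem_iff]
  convert this using 1
  ring

/-- the convergent sum `Σ c_s π^s`. -/
noncomputable def Ssum (hπ : π ∈ I) (c : ℕ → R) : R := Classical.choose (exists_lim I π hπ c)

lemma Ssum_spec (hπ : π ∈ I) (c : ℕ → R) (N : ℕ) :
    Ssum I π hπ c - ∑ s ∈ Finset.range N, c s * π ^ s ∈ I ^ N :=
  Classical.choose_spec (exists_lim I π hπ c) N

lemma eq_zero_of_forall_mem (x : R) (h : ∀ n, x ∈ I ^ n) : x = 0 := by
  apply IsHausdorff.haus' (I := I)
  intro n
  rw [smodEq_iff, sub_zero]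
  exact h n

lemma Ssum_succ (hπ : π ∈ I) (c : ℕ → R) :
    Ssum I π hπ c = c 0 + π * Ssum I π hπ (fun s => c (s + 1)) := by
  rw [← sub_eq_zero]
  apply eq_zero_of_forall_mem I
  intro N
  have h1 := Ssum_spec I π hπ c (N + 1)
  have h2 := Ssum_spec I π hπ (fun s => c (s + 1)) N
  have h3 : π * (Ssum I π hπ (fun s => c (s + 1)) -
      ∑ s ∈ Finset.range N, c (s + 1) * π ^ s) ∈ I ^ (N + 1) := by
    rw [pow_succ']
    exact Ideal.mul_mem_mul hπ h2
  have h4 : Ssum I π hπ c - (c 0 + π * Ssum I π hπ (fun s => c (s + 1))) =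
      (Ssum I π hπ c - ∑ s ∈ Finset.range (N + 1), c s * π ^ s) -
      π * (Ssum I π hπ (fun s => c (s + 1)) - ∑ s ∈ Finset.range N, c (s + 1) * π ^ s) := by
    rw [Finset.sum_range_succ', mul_sub, Finset.mul_sum]
    have : ∑ i ∈ Finset.range N, c (i + 1) * π ^ (i + 1) =
        ∑ i ∈ Finset.range N, π * (c (i + 1) * π ^ i) := by
      apply Finset.sum_congr rfl; intro i _; ring
    rw [this]; ring
  rw [h4]
  exact Ideal.pow_le_pow_right (Nat.le_succ N) (Ideal.sub_mem _ h1 h3)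

/-- if `u_t = π u_{t+1}` for all `t` then `u_0 = 0`. -/
lemma eq_zero_of_chain (hπ : π ∈ I) (u : ℕ → R) (hu : ∀ t, u t = π * u (t + 1)) : ∀ t, u t = 0 := by
  have key : ∀ n t, u t = π ^ n * u (t + n) := by
    intro n
    induction n with
    | zero => intro t; simp
    | succ n ih =>
      intro t
      rw [ih t, hu (t + n), pow_succ, add_assoc, mul_assoc]
  intro t
  apply eq_zero_of_forall_mem I
  intro n
  rw [key n t]
  exact Ideal.mul_mem_right _ _ (Ideal.pow_mem_pow hπ n)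

end Groth.Agent.Lib.helper10.NodeNF
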