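import Groth.Agent.Lib.helper10.NodeNFA

set_option autoImplicit false
universe u

namespace Groth.Agent.Lib.helper10.NodeNF

open MvPowerSeries

variable {R : Type u} [CommRing R]

/-- the exponent `(i, j)`. -/
noncomputable def e2 (i j : ℕ) : Fin 2 →₀ ℕ := Finsupp.single 0 i + Finsupp.single 1 j

@[simp] lemma e2_zero (i j : ℕ) : e2 i j 0 = i := by simp [e2]
@[simp] lemma e2_one (i j : ℕ) : e2 i j 1 = j := by simp [e2]

lemma eq_e2 (d : Fin 2 →₀ ℕ) : d = e2 (d 0) (d 1) := by
  ext k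
  fin_cases k <;> simp

lemma e2_inj {i j i' j' : ℕ} : e2 i j = e2 i' j' ↔ i = i' ∧ j = j' := by
  constructor
  · intro h
    have h0 := DFunLike.congr_fun h 0
    have h1 := DFunLike.congr_fun h 1
    simp at h0 h1
    exact ⟨h0, h1⟩
  · rintro ⟨rfl, rfl⟩; rfl

lemma e2_le {i j i' j' : ℕ} : e2 i j ≤ e2 i' j' ↔ i ≤ i' ∧ j ≤ j' := by
  constructor
  · intro h
    have h0 := h 0
    have h1 := h 1
    simp at h0 h1
    exact ⟨h0, h1⟩
  · rintro ⟨h0, h1⟩ k
    fin_cases k <;> simp [h0, h1]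

lemma e2_sub (i j i' j' : ℕ) : e2 i j - e2 i' j' = e2 (i - i') (j - j') := by
  ext k
  fin_cases k <;> simp

/-- the `(i,j)` coefficient. -/
noncomputable def cf (F : MvPowerSeries (Fin 2) R) (i j : ℕ) : R := coeff (e2 i j) F

lemma ext_cf {F G : MvPowerSeries (Fin 2) R} (h : ∀ i j, cf F i j = cf G i j) : F = G := by
  ext d
  rw [eq_e2 d]
  exact h _ _

lemma cf_add (F G : MvPowerSeries (Fin 2) R) (i j : ℕ) : cf (F + G) i j = cf F i j + cf G i j :=
  map_add _ _ _

lemma cf_sub (F G : MvPowerSeries (Fin 2) R) (i j : ℕ) : cf (F - G) i j = cf F i j - cf G i j :=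
  map_sub _ _ _

lemma cf_zero (i j : ℕ) : cf (0 : MvPowerSeries (Fin 2) R) i j = 0 := map_zero _

/-- the series with prescribed coefficients. -/
def mk2 (c : ℕ → ℕ → R) : MvPowerSeries (Fin 2) R := fun d => c (d 0) (d 1)

lemma cf_mk2 (c : ℕ → ℕ → R) (i j : ℕ) : cf (mk2 c) i j = c i j := by
  show c (e2 i j 0) (e2 i j 1) = c i j
  rw [e2_zero, e2_one]

lemma cf_C_mul (a : R) (H : MvPowerSeries (Fin 2) R) (i j : ℕ) :
    cf (C a * H) i j = a * cf H i j := coeff_C_mul _ _ _

lemma X0X1 : (X 0 * X 1 : MvPowerSeries (Fin 2) R) = monomial (e2 1 1) 1 := by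
  rw [X_def, X_def, monomial_mul_monomial, one_mul]; rfl

lemma X1_eq : (X 1 : MvPowerSeries (Fin 2) R) = monomial (e2 0 1) 1 := by
  rw [X_def]; congr 1; simp [e2]

lemma X0_eq : (X 0 : MvPowerSeries (Fin 2) R) = monomial (e2 1 0) 1 := by
  rw [X_def]; congr 1; simp [e2]

lemma cf_XY_mul_succ (H : MvPowerSeries (Fin 2) R) (i j : ℕ) :
    cf (X 0 * X 1 * H) (i + 1) (j + 1) = cf H i j := by
  unfold cf
  rw [X0X1, coeff_monomial_mul, if_pos (e2_le.2 ⟨by omega, by omega⟩), one_mul, e2_sub]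
  simp

lemma cf_XY_mul_left (H : MvPowerSeries (Fin 2) R) (i : ℕ) :
    cf (X 0 * X 1 * H) i 0 = 0 := by
  unfold cf
  rw [X0X1, coeff_monomial_mul, if_neg]
  rw [e2_le]; omega

lemma cf_XY_mul_right (H : MvPowerSeries (Fin 2) R) (j : ℕ) :
    cf (X 0 * X 1 * H) 0 j = 0 := by
  unfold cf
  rw [X0X1, coeff_monomial_mul, if_neg]
  rw [e2_le]; omega

lemma cf_Y_mul_succ (H : MvPowerSeries (Fin 2) R) (i j : ℕ) :
    cf (X 1 * H) i (j + 1) = cf H i j := by
  unfold cf
  rw [X1_eq, coeff_monomial_mul, if_pos (e2_le.2 ⟨by omega, by omega⟩), one_mul, e2_sub]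
  simp

lemma cf_Y_mul_zero (H : MvPowerSeries (Fin 2) R) (i : ℕ) :
    cf (X 1 * H) i 0 = 0 := by
  unfold cf
  rw [X1_eq, coeff_monomial_mul, if_neg]
  rw [e2_le]; omega

lemma cf_toMv0 (f : PowerSeries R) (i j : ℕ) :
    cf (PowerSeries.toMvPowerSeries (σ := Fin 2) 0 f) i j =
      if j = 0 then PowerSeries.coeff i f else 0 := by
  unfold cf
  split_ifs with h
  · subst h
    have h1 : e2 i 0 = Finsupp.embDomain (Function.Embedding.punit (0 : Fin 2))
        (Finsupp.single () i) := by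
      rw [Finsupp.embDomain_single]
      show Finsupp.single 0 i + Finsupp.single 1 0 = Finsupp.single 0 i
      rw [Finsupp.single_zero, add_zero]
    rw [h1]
    exact coeff_embDomain_rename (Function.Embedding.punit (0 : Fin 2)) f _
  · apply coeff_rename_eq_zero
    rintro ⟨x, hx⟩
    apply h
    have := DFunLike.congr_fun hx 1
    rw [e2_one] at this
    rw [← this]
    apply Finsupp.mapDomain_notin_range
    rintro ⟨_, h01⟩
    exact absurd (show (0 : Fin 2) = 1 from h01) (by decide)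

lemma cf_toMv1 (g : PowerSeries R) (i j : ℕ) :
    cf (PowerSeries.toMvPowerSeries (σ := Fin 2) 1 g) i j =
      if i = 0 then PowerSeries.coeff j g else 0 := by
  unfold cf
  split_ifs with h
  · subst h
    have h1 : e2 0 j = Finsupp.embDomain (Function.Embedding.punit (1 : Fin 2))
        (Finsupp.single () j) := by
      rw [Finsupp.embDomain_single]
      show Finsupp.single 0 0 + Finsupp.single 1 j = Finsupp.single 1 j
      rw [Finsupp.single_zero, zero_add]
    rw [h1]
    exact coeff_embDomain_rename (Function.Embedding.punit (1 : Fin 2)) g _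
  · apply coeff_rename_eq_zero
    rintro ⟨x, hx⟩
    apply h
    have := DFunLike.congr_fun hx 0
    rw [e2_zero] at this
    rw [← this]
    apply Finsupp.mapDomain_notin_range
    rintro ⟨_, h01⟩
    exact absurd (show (1 : Fin 2) = 0 from h01) (by decide)

end Groth.Agent.Lib.helper10.NodeNF
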