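import Groth.Agent.Lib.helper10.NodeNFB

set_option autoImplicit false
universe u

namespace Groth.Agent.Lib.helper10.NodeNF

open MvPowerSeries

variable {R : Type u} [CommRing R] (I : Ideal R) [IsAdicComplete I R] (π : R) (hπ : π ∈ I)

/-- the convergent diagonal sum `Σ_s F_{i+s,j+s} π^s`. -/
noncomputable def Dg (F : MvPowerSeries (Fin 2) R) (i j : ℕ) : R :=
  Ssum I π hπ (fun s => cf F (i + s) (j + s))

lemma Dg_succ (F : MvPowerSeries (Fin 2) R) (i j : ℕ) :
    Dg I π hπ F i j = cf F i j + π * Dg I π hπ F (i + 1) (j + 1) := by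
  unfold Dg
  rw [Ssum_succ]
  have : (fun s => cf F (i + (s + 1)) (j + (s + 1))) = fun s => cf F (i + 1 + s) (j + 1 + s) := by
    funext s
    rw [Nat.add_right_comm i 1 s, Nat.add_right_comm j 1 s, Nat.add_assoc i s 1,
      Nat.add_assoc j s 1]
  rw [this]
  rfl

/-- the quotient by `xy - π`. -/
noncomputable def Hq (F : MvPowerSeries (Fin 2) R) : MvPowerSeries (Fin 2) R :=
  mk2 (fun i j => Dg I π hπ F (i + 1) (j + 1))

/-- the `x`-part of the normal form. -/
noncomputable def fX (F : MvPowerSeries (Fin 2) R) : PowerSeries R :=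
  PowerSeries.mk (fun n => Dg I π hπ F n 0)

/-- the `y`-part of the normal form. -/
noncomputable def gY (F : MvPowerSeries (Fin 2) R) : PowerSeries R :=
  PowerSeries.mk (fun n => Dg I π hπ F 0 (n + 1))

theorem decomp (F : MvPowerSeries (Fin 2) R) :
    F = PowerSeries.toMvPowerSeries (σ := Fin 2) 0 (fX I π hπ F) +
      X 1 * PowerSeries.toMvPowerSeries (σ := Fin 2) 1 (gY I π hπ F) +
      (X 0 * X 1 - C π) * Hq I π hπ F := by
  apply ext_cf
  intro i j
  rw [cf_add, cf_add, sub_mul, cf_sub, cf_C_mul]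
  rcases j with _ | j
  · rw [cf_toMv0, if_pos rfl, cf_Y_mul_zero, cf_XY_mul_left, Hq, cf_mk2, fX, PowerSeries.coeff_mk,
      Dg_succ]
    ring
  · rcases i with _ | i
    · rw [cf_toMv0, if_neg (Nat.succ_ne_zero j), cf_Y_mul_succ, cf_toMv1, if_pos rfl,
        cf_XY_mul_right, Hq, cf_mk2, gY, PowerSeries.coeff_mk, Dg_succ I π hπ F 0 (j + 1)]
      ring
    · rw [cf_toMv0, if_neg (Nat.succ_ne_zero j), cf_Y_mul_succ, cf_toMv1,
        if_neg (Nat.succ_ne_zero i), cf_XY_mul_succ, Hq, cf_mk2, cf_mk2,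
        Dg_succ I π hπ F (i + 1) (j + 1)]
      ring

include hπ in
theorem nf_unique (f g : PowerSeries R) (H : MvPowerSeries (Fin 2) R)
    (h : PowerSeries.toMvPowerSeries (σ := Fin 2) 0 f +
      X 1 * PowerSeries.toMvPowerSeries (σ := Fin 2) 1 g = (X 0 * X 1 - C π) * H) :
    f = 0 ∧ g = 0 := by
  have hc : ∀ i j, cf (PowerSeries.toMvPowerSeries (σ := Fin 2) 0 f +
      X 1 * PowerSeries.toMvPowerSeries (σ := Fin 2) 1 g) i j =
      cf (X 0 * X 1 * H) i j - π * cf H i j := by
    intro i j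
    rw [h, sub_mul, cf_sub, cf_C_mul]
  constructor
  · ext n
    have hu : ∀ t, cf H (n + t) t = 0 := by
      apply eq_zero_of_chain I π hπ (fun t => cf H (n + t) t)
      intro t
      have := hc (n + t + 1) (t + 1)
      rw [cf_add, cf_toMv0, if_neg (Nat.succ_ne_zero t), cf_Y_mul_succ, cf_toMv1,
        if_neg (Nat.succ_ne_zero _), cf_XY_mul_succ, zero_add] at this
      show cf H (n + t) t = π * cf H (n + (t + 1)) (t + 1)
      rw [← Nat.add_assoc]
      exact (sub_eq_zero.1 this.symm)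
    have := hc n 0
    rw [cf_add, cf_toMv0, if_pos rfl, cf_Y_mul_zero, cf_XY_mul_left, add_zero, zero_sub] at this
    have h0 := hu 0
    rw [Nat.add_zero] at h0
    rw [this, h0, mul_zero, neg_zero, map_zero]
  · ext n
    have hu : ∀ t, cf H t (n + 1 + t) = 0 := by
      apply eq_zero_of_chain I π hπ (fun t => cf H t (n + 1 + t))
      intro t
      have := hc (t + 1) (n + 1 + t + 1)
      rw [cf_add, cf_toMv0, if_neg (Nat.succ_ne_zero _), cf_Y_mul_succ, cf_toMv1,
        if_neg (Nat.succ_ne_zero _), cf_XY_mul_succ, zero_add] at this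
      show cf H t (n + 1 + t) = π * cf H (t + 1) (n + 1 + (t + 1))
      rw [← Nat.add_assoc]
      exact (sub_eq_zero.1 this.symm)
    have := hc 0 (n + 1)
    rw [cf_add, cf_toMv0, if_neg (Nat.succ_ne_zero _), cf_Y_mul_succ, cf_toMv1, if_pos rfl,
      cf_XY_mul_right, zero_add, zero_sub] at this
    have h0 := hu 0
    rw [Nat.add_zero] at h0
    rw [this, h0, mul_zero, neg_zero, map_zero]

end Groth.Agent.Lib.helper10.NodeNF
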