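import Groth.Agent.Lib.helper10.NodeNFC
import Groth.Prelude.Def_W4c5spincurvestfNode

set_option autoImplicit false
universe u

namespace Groth.Agent.Lib.helper10.NodeNF

open MvPowerSeries SpinCurv

variable {R : Type u} [CommRing R] (π : R)

/-- `ofX` as a ring hom. -/
noncomputable def oX : PowerSeries R →+* NodeRing R π :=
  (Ideal.Quotient.mk _).comp (PowerSeries.toMvPowerSeries (σ := Fin 2) (R := R) 0).toRingHom

/-- `ofY` as a ring hom. -/
noncomputable def oY : PowerSeries R →+* NodeRing R π :=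
  (Ideal.Quotient.mk _).comp (PowerSeries.toMvPowerSeries (σ := Fin 2) (R := R) 1).toRingHom

lemma oX_apply (f : PowerSeries R) : oX π f = NodeRing.ofX R π f := rfl
lemma oY_apply (f : PowerSeries R) : oY π f = NodeRing.ofY R π f := rfl

lemma algebraMap_eq (r : R) :
    algebraMap R (NodeRing R π) r = Ideal.Quotient.mk _ (C r : MvPowerSeries (Fin 2) R) := rfl

lemma oX_X : oX π PowerSeries.X = NodeRing.x R π := by
  show Ideal.Quotient.mk _ (PowerSeries.toMvPowerSeries (σ := Fin 2) 0 PowerSeries.X) = _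
  rw [PowerSeries.toMvPowerSeries_X]

lemma oY_X : oY π PowerSeries.X = NodeRing.y R π := by
  show Ideal.Quotient.mk _ (PowerSeries.toMvPowerSeries (σ := Fin 2) 1 PowerSeries.X) = _
  rw [PowerSeries.toMvPowerSeries_X]

lemma oX_C (r : R) : oX π (PowerSeries.C r) = algebraMap R (NodeRing R π) r := by
  show Ideal.Quotient.mk _ (PowerSeries.toMvPowerSeries (σ := Fin 2) 0 (PowerSeries.C r)) = _
  rw [PowerSeries.toMvPowerSeries_C]; rfl

lemma oY_C (r : R) : oY π (PowerSeries.C r) = algebraMap R (NodeRing R π) r := by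
  show Ideal.Quotient.mk _ (PowerSeries.toMvPowerSeries (σ := Fin 2) 1 (PowerSeries.C r)) = _
  rw [PowerSeries.toMvPowerSeries_C]; rfl

lemma x_mul_y : NodeRing.x R π * NodeRing.y R π = algebraMap R (NodeRing R π) π := by
  rw [algebraMap_eq, ← map_mul, ← sub_eq_zero, ← map_sub, Ideal.Quotient.eq_zero_iff_mem]
  exact Ideal.subset_span rfl

variable (I : Ideal R) [IsAdicComplete I R] (hπ : π ∈ I)

include hπ in
lemma exists_nf (a : NodeRing R π) :
    ∃ f g : PowerSeries R, a = oX π f + NodeRing.y R π * oY π g := by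
  obtain ⟨F, rfl⟩ := Ideal.Quotient.mk_surjective a
  refine ⟨fX I π hπ F, gY I π hπ F, ?_⟩
  conv_lhs => rw [decomp I π hπ F]
  rw [map_add, map_add, map_mul, map_mul]
  have : Ideal.Quotient.mk (Ideal.span {(X 0 * X 1 - C π : MvPowerSeries (Fin 2) R)})
      (X 0 * X 1 - C π) = 0 :=
    Ideal.Quotient.eq_zero_iff_mem.2 (Ideal.subset_span rfl)
  rw [this, zero_mul, add_zero]
  rfl

include hπ in
lemma nf_zero (f g : PowerSeries R) (h : oX π f + NodeRing.y R π * oY π g = 0) :
    f = 0 ∧ g = 0 := by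
  have h1 : Ideal.Quotient.mk (Ideal.span {(X 0 * X 1 - C π : MvPowerSeries (Fin 2) R)})
      (PowerSeries.toMvPowerSeries (σ := Fin 2) 0 f +
        X 1 * PowerSeries.toMvPowerSeries (σ := Fin 2) 1 g) = 0 := by
    rw [map_add, map_mul]; exact h
  rw [Ideal.Quotient.eq_zero_iff_mem, Ideal.mem_span_singleton'] at h1
  obtain ⟨H, hH⟩ := h1
  exact nf_unique I π hπ f g H (by rw [← hH, mul_comm])

include hπ in
lemma nf_eq (f g f' g' : PowerSeries R)
    (h : oX π f + NodeRing.y R π * oY π g = oX π f' + NodeRing.y R π * oY π g') :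
    f = f' ∧ g = g' := by
  have := nf_zero π I hπ (f - f') (g - g') (by
    rw [map_sub, map_sub]; linear_combination h)
  exact ⟨sub_eq_zero.1 this.1, sub_eq_zero.1 this.2⟩

/-- cancel `X` in a power series identity `X * u + C c = 0`. -/
lemma X_mul_add_C_eq_zero (u : PowerSeries R) (c : R) (h : PowerSeries.X * u + PowerSeries.C c = 0) :
    u = 0 ∧ c = 0 := by
  constructor
  · ext n
    have := congrArg (PowerSeries.coeff (n + 1)) h
    rw [map_add, PowerSeries.coeff_succ_X_mul, PowerSeries.coeff_C, if_neg (Nat.succ_ne_zero n),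
      add_zero, map_zero] at this
    rw [this, map_zero]
  · have := congrArg (PowerSeries.coeff 0) h
    rw [map_add, PowerSeries.coeff_zero_X_mul, PowerSeries.coeff_C, if_pos rfl, zero_add,
      map_zero] at this
    exact this

end Groth.Agent.Lib.helper10.NodeNF
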