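import Groth.Agent.Lib.helper10.NodeNFD

set_option autoImplicit false
universe u

namespace Groth.Agent.Lib.helper10.NodeNF

open MvPowerSeries SpinCurv

variable {R : Type u} [CommRing R] (I : Ideal R) [IsAdicComplete I R] (p q : R)

lemma mulVec_nodeAlpha (v : Fin 2 → NodeRing R (p * q)) :
    Matrix.mulVec (nodeAlpha R p q) v =
      ![NodeRing.x R (p * q) * v 0 + algebraMap R _ p * v 1,
        algebraMap R _ q * v 0 + NodeRing.y R (p * q) * v 1] := by
  funext i
  fin_cases i <;> simp [nodeAlpha, Matrix.mulVec, dotProduct, Fin.sum_univ_two]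

lemma vec2_eq_zero {A : Type*} [Zero A] (a b : A) : (![a, b] : Fin 2 → A) = 0 ↔ a = 0 ∧ b = 0 := by
  constructor
  · intro h
    exact ⟨congrFun h 0, congrFun h 1⟩
  · rintro ⟨rfl, rfl⟩
    funext i; fin_cases i <;> rfl


/-- a constant-plus-`X`-multiple decomposition, pushed through `oX`. -/
lemma oX_split (π : R) (f : PowerSeries R) :
    oX π f = NodeRing.x R π * oX π (PowerSeries.mk fun n => PowerSeries.coeff (n + 1) f) +
      algebraMap R _ (PowerSeries.constantCoeff f) := by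
  conv_lhs => rw [PowerSeries.eq_X_mul_shift_add_const f]
  rw [map_add, map_mul, oX_X, oX_C]

lemma oY_split (π : R) (f : PowerSeries R) :
    oY π f = NodeRing.y R π * oY π (PowerSeries.mk fun n => PowerSeries.coeff (n + 1) f) +
      algebraMap R _ (PowerSeries.constantCoeff f) := by
  conv_lhs => rw [PowerSeries.eq_X_mul_shift_add_const f]
  rw [map_add, map_mul, oY_X, oY_C]

variable (hp : p ∈ I)

include hp in
theorem ker_le (v : Fin 2 → NodeRing R (p * q))
    (h0 : NodeRing.x R (p * q) * v 0 + algebraMap R _ p * v 1 = 0)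
    (h1 : algebraMap R _ q * v 0 + NodeRing.y R (p * q) * v 1 = 0) :
    ∃ u w : NodeRing R (p * q),
      v 0 = u * algebraMap R _ p + w * NodeRing.y R (p * q) ∧
      v 1 = -(u * NodeRing.x R (p * q)) - w * algebraMap R _ q := by
  have hπ : p * q ∈ I := Ideal.mul_mem_right _ _ hp
  obtain ⟨a₁, a₂, ha⟩ := exists_nf (p * q) I hπ (v 0)
  obtain ⟨b₁, b₂, hb⟩ := exists_nf (p * q) I hπ (v 1)
  have hxy := x_mul_y (R := R) (p * q)
  have hPQ : algebraMap R (NodeRing R (p * q)) (p * q) =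
      algebraMap R _ p * algebraMap R _ q := map_mul _ _ _
  rw [hPQ] at hxy
  -- split off constants
  obtain ⟨a₂t, ha₂t⟩ : ∃ t, t = PowerSeries.mk fun n => PowerSeries.coeff (n + 1) a₂ := ⟨_, rfl⟩
  obtain ⟨b₁t, hb₁t⟩ : ∃ t, t = PowerSeries.mk fun n => PowerSeries.coeff (n + 1) b₁ := ⟨_, rfl⟩
  obtain ⟨α, hα⟩ : ∃ t, t = PowerSeries.constantCoeff a₂ := ⟨_, rfl⟩
  obtain ⟨β, hβ⟩ : ∃ t, t = PowerSeries.constantCoeff b₁ := ⟨_, rfl⟩
  have hA2 := oY_split (p * q) a₂
  have hB1 := oX_split (p * q) b₁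
  rw [← ha₂t, ← hα] at hA2
  rw [← hb₁t, ← hβ] at hB1
  -- first equation in normal form
  have E1 : oX (p * q) (PowerSeries.X * (a₁ + PowerSeries.C p * b₁t) +
        PowerSeries.C (p * q * α + p * β)) +
      NodeRing.y R (p * q) * oY (p * q) (PowerSeries.C (p * q) * a₂t + PowerSeries.C p * b₂) = 0 := by
    simp only [map_add, map_mul, oX_X, oX_C, oY_C]
    rw [ha, hb, hA2, hB1] at h0
    linear_combination h0 - (NodeRing.y R (p * q) * oY (p * q) a₂t + algebraMap R _ α) * hxy
  have E4 : oX (p * q) (PowerSeries.C q * a₁ + PowerSeries.C (p * q) * b₁t) +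
      NodeRing.y R (p * q) * oY (p * q) (PowerSeries.X * (PowerSeries.C q * a₂t + b₂) +
        PowerSeries.C (q * α + β)) = 0 := by
    simp only [map_add, map_mul, oX_C, oY_X, oY_C]
    rw [ha, hb, hA2, hB1] at h1
    linear_combination h1 - (oX (p * q) b₁t) * hxy
  obtain ⟨e1, -⟩ := nf_zero (p * q) I hπ _ _ E1
  obtain ⟨-, e4⟩ := nf_zero (p * q) I hπ _ _ E4
  obtain ⟨e1a, -⟩ := X_mul_add_C_eq_zero _ _ e1
  obtain ⟨e4a, e4b⟩ := X_mul_add_C_eq_zero _ _ e4
  have hA1 : oX (p * q) a₁ = -(algebraMap R _ p * oX (p * q) b₁t) := by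
    have := congrArg (oX (p * q)) e1a
    rw [(oX (p * q)).map_add, (oX (p * q)).map_mul, oX_C, (oX (p * q)).map_zero] at this
    linear_combination this
  have hB2 : oY (p * q) b₂ = -(algebraMap R _ q * oY (p * q) a₂t) := by
    have := congrArg (oY (p * q)) e4a
    rw [(oY (p * q)).map_add, (oY (p * q)).map_mul, oY_C, (oY (p * q)).map_zero] at this
    linear_combination this
  have hbe : algebraMap R (NodeRing R (p * q)) β = -(algebraMap R _ q * algebraMap R _ α) := by
    have := congrArg (algebraMap R (NodeRing R (p * q))) e4b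
    rw [(algebraMap R (NodeRing R (p * q))).map_add, (algebraMap R (NodeRing R (p * q))).map_mul,
      (algebraMap R (NodeRing R (p * q))).map_zero] at this
    linear_combination this
  refine ⟨-oX (p * q) b₁t, oY (p * q) a₂, ?_, ?_⟩
  · rw [ha, hA1, hA2]; ring
  · rw [hb, hB1, hB2, hbe, hA2]; ring


include hp in
theorem inj_aux (f g f' g' : PowerSeries R)
    (h0 : NodeRing.x R (p * q) * oX (p * q) f + algebraMap R _ p * oY (p * q) g =
      NodeRing.x R (p * q) * oX (p * q) f' + algebraMap R _ p * oY (p * q) g')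
    (h1 : algebraMap R _ q * oX (p * q) f + NodeRing.y R (p * q) * oY (p * q) g =
      algebraMap R _ q * oX (p * q) f' + NodeRing.y R (p * q) * oY (p * q) g') :
    f = f' ∧ g = g' := by
  have hπ : p * q ∈ I := Ideal.mul_mem_right _ _ hp
  have hg : g = g' := by
    have E : oX (p * q) (PowerSeries.C q * f) + NodeRing.y R (p * q) * oY (p * q) g =
        oX (p * q) (PowerSeries.C q * f') + NodeRing.y R (p * q) * oY (p * q) g' := by
      rw [(oX (p * q)).map_mul, (oX (p * q)).map_mul, oX_C]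
      exact h1
    exact (nf_eq (p * q) I hπ _ _ _ _ E).2
  subst hg
  refine ⟨?_, rfl⟩
  have E : oX (p * q) (PowerSeries.X * f) + NodeRing.y R (p * q) * oY (p * q) 0 =
      oX (p * q) (PowerSeries.X * f') + NodeRing.y R (p * q) * oY (p * q) 0 := by
    rw [(oX (p * q)).map_mul, (oX (p * q)).map_mul, oX_X]
    linear_combination h0
  have hX := (nf_eq (p * q) I hπ _ _ _ _ E).1
  ext n
  have := congrArg (PowerSeries.coeff (n + 1)) hX
  rwa [PowerSeries.coeff_succ_X_mul, PowerSeries.coeff_succ_X_mul] at this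

include hp in
theorem range_aux (v : Fin 2 → NodeRing R (p * q)) :
    ∃ f g : PowerSeries R,
      NodeRing.x R (p * q) * oX (p * q) f + algebraMap R _ p * oY (p * q) g =
        NodeRing.x R (p * q) * v 0 + algebraMap R _ p * v 1 ∧
      algebraMap R _ q * oX (p * q) f + NodeRing.y R (p * q) * oY (p * q) g =
        algebraMap R _ q * v 0 + NodeRing.y R (p * q) * v 1 := by
  have hπ : p * q ∈ I := Ideal.mul_mem_right _ _ hp
  obtain ⟨a₁, a₂, ha⟩ := exists_nf (p * q) I hπ (v 0)
  obtain ⟨b₁, b₂, hb⟩ := exists_nf (p * q) I hπ (v 1)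
  have hxy := x_mul_y (R := R) (p * q)
  have hPQ : algebraMap R (NodeRing R (p * q)) (p * q) =
      algebraMap R _ p * algebraMap R _ q := map_mul _ _ _
  rw [hPQ] at hxy
  obtain ⟨b₁t, hb₁t⟩ : ∃ t, t = PowerSeries.mk fun n => PowerSeries.coeff (n + 1) b₁ := ⟨_, rfl⟩
  obtain ⟨β, hβ⟩ : ∃ t, t = PowerSeries.constantCoeff b₁ := ⟨_, rfl⟩
  have hB1 := oX_split (p * q) b₁
  rw [← hb₁t, ← hβ] at hB1
  refine ⟨a₁ + PowerSeries.C p * b₁t,
    PowerSeries.C β + PowerSeries.X * b₂ + PowerSeries.C q * a₂, ?_, ?_⟩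
  · rw [(oX (p * q)).map_add, (oX (p * q)).map_mul, oX_C, (oY (p * q)).map_add,
      (oY (p * q)).map_add, (oY (p * q)).map_mul, (oY (p * q)).map_mul, oY_C, oY_C, oY_X,
      ha, hb, hB1]
    linear_combination (-(oY (p * q) a₂)) * hxy
  · rw [(oX (p * q)).map_add, (oX (p * q)).map_mul, oX_C, (oY (p * q)).map_add,
      (oY (p * q)).map_add, (oY (p * q)).map_mul, (oY (p * q)).map_mul, oY_C, oY_C, oY_X,
      ha, hb, hB1]
    linear_combination (-(oX (p * q) b₁t)) * hxy

end Groth.Agent.Lib.helper10.NodeNF
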