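import Mathlib

set_option maxHeartbeats 400000
set_option autoImplicit false

namespace H10S9260

open Polynomial

variable {A R G : Type*} [CommRing A] [CommRing R] [Algebra A R] [Group G] [Fintype G]
  [MulSemiringAction G R] [SMulCommClass G A R] [Algebra.IsInvariant A R G]

/-- The generic norm polynomial. -/
noncomputable def gen {ι : Type*} [Fintype ι] (r : ι → R) : Polynomial (MvPolynomial ι R) :=
  ∏ σ : G, (X - C (∑ k, MvPolynomial.X k * MvPolynomial.C (σ • r k)))

omit [Algebra A R] [SMulCommClass G A R] [Algebra.IsInvariant A R G] in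
lemma gen_invariant {ι : Type*} [Fintype ι] (r : ι → R) (τ : G) :
    Polynomial.map (MvPolynomial.map (MulSemiringAction.toRingHom G R τ)) (gen (G := G) r)
      = gen (G := G) r := by
  unfold gen
  rw [Polynomial.map_prod]
  simp only [Polynomial.map_sub, Polynomial.map_X, Polynomial.map_C]
  simp only [map_sum, map_mul,
    MvPolynomial.map_X, MvPolynomial.map_C, MulSemiringAction.toRingHom_apply]
  refine Fintype.prod_equiv (Equiv.mulLeft τ) _ _ (fun σ => ?_)
  simp [mul_smul]

omit [Algebra A R] [SMulCommClass G A R] [Algebra.IsInvariant A R G] in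
lemma gen_constantCoeff {ι : Type*} [Fintype ι] (r : ι → R) :
    Polynomial.map (MvPolynomial.constantCoeff) (gen (G := G) r) = X ^ Fintype.card G := by
  unfold gen
  rw [Polynomial.map_prod]
  simp only [Polynomial.map_sub, Polynomial.map_X, Polynomial.map_C]
  simp only [map_sum, map_mul,
    MvPolynomial.constantCoeff_X, MvPolynomial.constantCoeff_C, zero_mul, Finset.sum_const_zero,
    map_zero, sub_zero, Finset.prod_const, Finset.card_univ]

omit [Algebra.IsInvariant A R G] in
lemma gen_eval {ι : Type*} [Fintype ι] (r : ι → R) (j : ι → A) :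
    Polynomial.map (MvPolynomial.eval (fun k => algebraMap A R (j k))) (gen (G := G) r)
      = ∏ σ : G, (X - C (σ • ∑ k, algebraMap A R (j k) * r k)) := by
  unfold gen
  rw [Polynomial.map_prod]
  simp only [Polynomial.map_sub, Polynomial.map_X, Polynomial.map_C]
  simp only [map_sum, map_mul,
    MvPolynomial.eval_X, MvPolynomial.eval_C, Finset.smul_sum, smul_mul', smul_algebraMap]

omit [SMulCommClass G A R] in
lemma gen_coeff_lift {ι : Type*} [Fintype ι] (r : ι → R) (i : ℕ) (α : ι →₀ ℕ) :
    ∃ a : A, algebraMap A R a = ((gen (G := G) r).coeff i).coeff α := by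
  apply Algebra.IsInvariant.isInvariant (G := G)
  intro τ
  have h := gen_invariant (G := G) r τ
  have h2 := congrArg (fun p => (Polynomial.coeff p i).coeff α) h
  simp only [Polynomial.coeff_map, MvPolynomial.coeff_map,
    MulSemiringAction.toRingHom_apply] at h2
  exact h2

omit [Algebra A R] [SMulCommClass G A R] [Algebra.IsInvariant A R G] in
lemma gen_coeff_zero {ι : Type*} [Fintype ι] (r : ι → R) (i : ℕ) (hi : i < Fintype.card G) :
    ((gen (G := G) r).coeff i).coeff 0 = 0 := by
  have h := gen_constantCoeff (G := G) r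
  have h2 := congrArg (fun p => Polynomial.coeff p i) h
  simp only [Polynomial.coeff_map, Polynomial.coeff_X_pow] at h2
  rw [if_neg (by omega)] at h2
  exact h2

omit [Algebra A R] [SMulCommClass G A R] [Algebra.IsInvariant A R G] in
lemma prod_monic (x : R) : (∏ σ : G, (X - C (σ • x)) : Polynomial R).Monic :=
  Polynomial.monic_prod_of_monic _ _ (fun _ _ => Polynomial.monic_X_sub_C _)

omit [Algebra A R] [SMulCommClass G A R] [Algebra.IsInvariant A R G] in
lemma prod_natDegree [Nontrivial R] (x : R) :
    (∏ σ : G, (X - C (σ • x)) : Polynomial R).natDegree = Fintype.card G := by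
  rw [Polynomial.natDegree_prod_of_monic _ _ (fun _ _ => Polynomial.monic_X_sub_C _)]
  simp [Finset.card_univ]

theorem main_of_repr {ι : Type*} [Fintype ι] (J : Ideal A) (j : ι → A) (r : ι → R)
    (hj : ∀ k, j k ∈ J) :
    ∃ P : Polynomial A, P.Monic ∧ P.natDegree ≤ Fintype.card G ∧
      (∀ i : ℕ, i < Fintype.card G → P.coeff i ∈ J) ∧
      Polynomial.map (algebraMap A R) P
        = ∏ σ : G, (X - C (σ • ∑ k, algebraMap A R (j k) * r k)) := by
  classical
  set n := Fintype.card G with hn
  choose a ha using fun (i : ℕ) (α : ι →₀ ℕ) => gen_coeff_lift (A := A) (G := G) r i α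
  -- the coefficients
  let p : ℕ → A := fun i => ∑ α ∈ ((gen (G := G) r).coeff i).support,
      a i α * ∏ k ∈ α.support, j k ^ α k
  have hpJ : ∀ i, i < n → p i ∈ J := by
    intro i hi
    refine Ideal.sum_mem _ (fun α hα => Ideal.mul_mem_left _ _ ?_)
    have hα0 : α ≠ 0 := by
      rintro rfl
      rw [MvPolynomial.mem_support_iff] at hα
      exact hα (gen_coeff_zero (G := G) r i hi)
    obtain ⟨k, hk⟩ : ∃ k, k ∈ α.support := by
      by_contra hcon
      rw [not_exists] at hcon
      apply hα0
      exact Finsupp.support_eq_empty.mp (Finset.eq_empty_of_forall_notMem hcon)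
    refine Ideal.mem_of_dvd _ (Finset.dvd_prod_of_mem _ hk) ?_
    exact Ideal.pow_mem_of_mem _ (hj k) _ (Nat.pos_of_ne_zero (Finsupp.mem_support_iff.mp hk))
  have hpφ : ∀ i, algebraMap A R (p i)
      = MvPolynomial.eval (fun k => algebraMap A R (j k)) ((gen (G := G) r).coeff i) := by
    intro i
    rw [MvPolynomial.eval_eq]
    simp only [p, map_sum, map_mul, map_prod, map_pow, ha]
  have hdeg : (∑ i ∈ Finset.range n, C (p i) * X ^ i : Polynomial A).degree < n := by
    refine (Polynomial.degree_sum_le _ _).trans_lt ?_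
    rw [Finset.sup_lt_iff (by exact_mod_cast WithBot.bot_lt_coe n)]
    intro i hi
    refine (Polynomial.degree_C_mul_X_pow_le _ _).trans_lt ?_
    exact_mod_cast Finset.mem_range.mp hi
  refine ⟨X ^ n + ∑ i ∈ Finset.range n, C (p i) * X ^ i, Polynomial.monic_X_pow_add hdeg, ?_, ?_, ?_⟩
  · refine Polynomial.natDegree_add_le_of_degree_le (Polynomial.natDegree_X_pow_le _) ?_
    exact Polynomial.natDegree_le_iff_degree_le.mpr hdeg.le
  · intro i hi
    have : (X ^ n + ∑ i ∈ Finset.range n, C (p i) * X ^ i : Polynomial A).coeff i = p i := by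
      simp only [Polynomial.coeff_add, Polynomial.coeff_X_pow, Polynomial.finsetSum_coeff,
        Polynomial.coeff_C_mul_X_pow]
      rw [if_neg (by omega), zero_add, Finset.sum_ite_eq]
      simp [hi]
    rw [this]
    exact hpJ i hi
  · rcases subsingleton_or_nontrivial R with hR | hR
    · exact Subsingleton.elim _ _
    · have h1 := (prod_monic (G := G) (∑ k, algebraMap A R (j k) * r k)).as_sum
      rw [prod_natDegree] at h1
      rw [h1]
      simp only [Polynomial.map_add, Polynomial.map_pow, Polynomial.map_X, Polynomial.map_sum,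
        Polynomial.map_mul, Polynomial.map_C]
      congr 1
      refine Finset.sum_congr rfl (fun i _ => ?_)
      rw [hpφ i, ← gen_eval (G := G) r j, Polynomial.coeff_map]

theorem main (J : Ideal A) (x : R) (hx : x ∈ Ideal.map (algebraMap A R) J) :
    ∃ P : Polynomial A, P.Monic ∧ P.natDegree ≤ Fintype.card G ∧
      (∀ i : ℕ, i < Fintype.card G → P.coeff i ∈ J) ∧
      Polynomial.map (algebraMap A R) P = ∏ σ : G, (X - C (σ • x)) := by
  classical
  rw [Ideal.map, Ideal.span, Finsupp.mem_span_image_iff_linearCombination] at hx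
  obtain ⟨l, hl, rfl⟩ := hx
  have key := main_of_repr (G := G) (ι := l.support) J (fun k => (k : A)) (fun k => l k)
    (fun k => hl k.2)
  have hsum : (Finsupp.linearCombination R (algebraMap A R)) l
      = ∑ k : l.support, algebraMap A R (k : A) * l k := by
    rw [Finsupp.linearCombination_apply, Finsupp.sum, ← Finset.sum_coe_sort]
    refine Finset.sum_congr rfl (fun k _ => ?_)
    rw [smul_eq_mul, mul_comm]
  rw [hsum]
  exact key

end H10S9260
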