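import Mathlib
import Groth.Prelude.Def_Models
import Groth.Agent.S2173
import Groth.Agent.S7316
import Groth.Agent.S7317

set_option autoImplicit false

/-!
# Numerical types: canonical degrees and the genus formula
-/

namespace Groth.Agent.Lib.helper10.NumTypeA

open Finset Models Models.NumericalType

variable {n : ℕ} (T : Models.NumericalType n)

/-- the "canonical degree" `2 w_i (g_i - 1) - a_ii` -/
def kk (i : Fin n) : ℤ := 2 * T.w i * (T.g i - 1) - T.a i i

theorem two_genus_sub_two : 2 * T.genus - 2 = ∑ i, T.m i * kk T i := by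
  obtain ⟨c, hc⟩ := Groth.Agent.S2173.result T
  unfold Models.NumericalType.genus kk
  rw [hc, Int.mul_ediv_cancel_left _ (by norm_num : (2 : ℤ) ≠ 0)]
  have : ∑ i, T.m i * (2 * T.w i * (T.g i - 1) - T.a i i) =
      2 * ∑ i, T.m i * T.w i * (T.g i - 1) - ∑ i, T.m i * T.a i i := by
    rw [Finset.mul_sum, ← Finset.sum_sub_distrib]
    exact Finset.sum_congr rfl fun i _ => by ring
  rw [this, hc]
  ring

theorem kk_nonneg (hmin : T.IsMinimal) (hn : 1 < n) (i : Fin n) : 0 ≤ kk T i := by
  by_contra h
  push Not at h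
  exact hmin i (Groth.Agent.S7316.result T hn i (mul_neg_of_pos_of_neg (T.m_pos i) h))

theorem kk_pos (hmin : T.IsMinimal) (hn : 1 < n) (i : Fin n) (h2 : ¬ T.IsMinusTwo i) :
    1 ≤ kk T i := by
  have h0 := kk_nonneg T hmin hn i
  by_contra h
  push Not at h
  have : kk T i = 0 := by omega
  exact h2 (Groth.Agent.S7317.result T hn i (by
    show T.m i * kk T i = 0
    rw [this, mul_zero]))

theorem row_rel (i : Fin n) :
    -(T.a i i * T.m i) = ∑ j ∈ univ.erase i, T.a i j * T.m j := by
  have hrow : ∑ j, T.a i j * T.m j = 0 := by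
    have := congrFun T.mulVec_m i
    simpa [Matrix.mulVec, dotProduct] using this
  rw [← Finset.add_sum_erase univ _ (mem_univ i)] at hrow
  linarith

theorem mk_le (hmin : T.IsMinimal) (hn : 1 < n) (i : Fin n) :
    T.m i * kk T i ≤ 2 * T.genus - 2 := by
  rw [two_genus_sub_two]
  exact Finset.single_le_sum (f := fun i => T.m i * kk T i)
    (fun j _ => mul_nonneg (T.m_pos j).le (kk_nonneg T hmin hn j)) (mem_univ i)


theorem diag_form (hn : 1 < n) (i : Fin n) : ∃ k : ℤ, 1 ≤ k ∧ T.a i i = -(k * T.w i) :=
  Groth.Agent.S7316.diag_neg T hn i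

theorem bounds [DecidablePred fun j => ¬T.IsMinusTwo j] (hmin : T.IsMinimal) (hn : 1 < n)
    (hg : 2 ≤ T.genus) :
    ((univ.filter fun j => ¬T.IsMinusTwo j).card : ℤ) ≤ 2 * T.genus - 2 ∧
      ∀ j, ¬T.IsMinusTwo j →
        T.g j < T.genus ∧ T.m j * |T.a j j| ≤ 6 * T.genus - 6 ∧
          ∀ i, T.m i * T.a i j ≤ 6 * T.genus - 6 := by
  have hnn : ∀ j, 0 ≤ T.m j * kk T j := fun j =>
    mul_nonneg (T.m_pos j).le (kk_nonneg T hmin hn j)
  refine ⟨?_, ?_⟩
  · rw [two_genus_sub_two]
    calc ((univ.filter fun j => ¬T.IsMinusTwo j).card : ℤ)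
        = ∑ j ∈ univ.filter (fun j => ¬T.IsMinusTwo j), (1 : ℤ) := by simp
      _ ≤ ∑ j ∈ univ.filter (fun j => ¬T.IsMinusTwo j), T.m j * kk T j := by
          refine Finset.sum_le_sum fun j hj => ?_
          have h2 : ¬T.IsMinusTwo j := (Finset.mem_filter.mp hj).2
          have h1 := kk_pos T hmin hn j h2
          have hm := T.m_pos j
          nlinarith
      _ ≤ ∑ j, T.m j * kk T j :=
          Finset.sum_le_sum_of_subset_of_nonneg (Finset.filter_subset _ _) fun j _ _ => hnn j
  · intro j hj
    have hm := T.m_pos j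
    have hw := T.w_pos j
    have hgj := T.g_nonneg j
    have hk1 := kk_pos T hmin hn j hj
    have hmk := mk_le T hmin hn j
    obtain ⟨c, hc1, hc⟩ := diag_form T hn j
    have hkk : kk T j = 2 * T.w j * (T.g j - 1) + c * T.w j := by
      unfold kk; rw [hc]; ring
    have hk_le : kk T j ≤ 2 * T.genus - 2 := by
      have : kk T j ≤ T.m j * kk T j := by nlinarith
      linarith
    have habs : |T.a j j| = c * T.w j := by
      rw [hc, abs_neg, abs_of_nonneg (mul_nonneg (by linarith) hw.le)]
    have hmain : T.m j * |T.a j j| ≤ 6 * T.genus - 6 := by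
      rw [habs]
      rcases eq_or_lt_of_le hgj with h0 | h1
      · -- g_j = 0
        have hc2 : c ≠ 1 := by
          intro h
          apply hmin j
          refine ⟨h0.symm, ?_⟩
          rw [hc, h]; ring
        have hc3 : c ≠ 2 := by
          intro h
          apply hj
          refine ⟨h0.symm, ?_⟩
          rw [hc, h]; ring
        have hc4 : 3 ≤ c := by omega
        have hkk' : kk T j = (c - 2) * T.w j := by rw [hkk, ← h0]; ring
        have h3 : c * T.w j ≤ 3 * kk T j := by rw [hkk']; nlinarith
        have : T.m j * (c * T.w j) ≤ 3 * (T.m j * kk T j) := by nlinarith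
        linarith
      · have h1' : 1 ≤ T.g j := h1
        have : 0 ≤ 2 * T.w j * (T.g j - 1) := by
          apply mul_nonneg (by linarith) (by linarith)
        have h3 : c * T.w j ≤ kk T j := by rw [hkk]; linarith
        have : T.m j * (c * T.w j) ≤ T.m j * kk T j := by nlinarith
        linarith
    refine ⟨?_, hmain, ?_⟩
    · by_contra hcon
      push Not at hcon
      have hgj1 : 1 ≤ T.g j := by linarith
      have h5 : 2 * (T.g j - 1) < kk T j := by
        rw [hkk]
        have : 0 < c * T.w j := mul_pos (by linarith) hw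
        nlinarith
      linarith
    · intro i
      by_cases hij : i = j
      · subst hij
        have : T.a i i < 0 := by rw [hc]; nlinarith
        nlinarith
      · have hrow := row_rel T j
        have hle : T.a j i * T.m i ≤ ∑ l ∈ univ.erase j, T.a j l * T.m l :=
          Finset.single_le_sum (f := fun l => T.a j l * T.m l)
            (fun l hl => mul_nonneg (T.offDiag_nonneg j l (Finset.ne_of_mem_erase hl).symm)
              (T.m_pos l).le) (Finset.mem_erase.mpr ⟨hij, mem_univ i⟩)
        have hsym : T.a i j = T.a j i := (T.symm.apply i j).symm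
        have h6 : -(T.a j j * T.m j) = T.m j * |T.a j j| := by
          rw [habs, hc]; ring
        rw [hsym]
        linarith

end Groth.Agent.Lib.helper10.NumTypeA
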