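import Mathlib
import Groth.Agent.Lib.helper10.NumTypeA

set_option autoImplicit false

/-!
# Numerical types: the topological genus is at most the genus (2-core argument)
-/

namespace Groth.Agent.Lib.helper10.NumTypeB

open Finset Models Models.NumericalType Groth.Agent.Lib.helper10.NumTypeA

section Graph

variable {n : ℕ} (adj : Fin n → Fin n → Prop) [DecidableRel adj]

/-- degree of `i` inside the vertex set `B` -/
def deg (B : Finset (Fin n)) (i : Fin n) : ℕ := (B.filter fun j => adj i j).card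

/-- `Σ_{i ∈ B} (deg_B i - 2)` -/
def Q (B : Finset (Fin n)) : ℤ := ∑ i ∈ B, ((deg adj B i : ℤ) - 2)

variable (hs : ∀ i j, adj i j → adj j i) (hi : ∀ i, ¬ adj i i)

include hs hi in
theorem Q_erase_le (B : Finset (Fin n)) (v : Fin n) (hv : v ∈ B) (hdeg : deg adj B v ≤ 1) :
    Q adj B ≤ Q adj (B.erase v) := by
  have h1 : ∀ i ∈ B.erase v, (deg adj B i : ℤ) =
      deg adj (B.erase v) i + (if adj i v then 1 else 0) := by
    intro i _
    unfold deg
    rw [Finset.filter_erase, Finset.card_erase_eq_ite]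
    by_cases hav : adj i v
    · have hmem : v ∈ B.filter fun j => adj i j := Finset.mem_filter.mpr ⟨hv, hav⟩
      have hpos : 0 < (B.filter fun j => adj i j).card := Finset.card_pos.mpr ⟨v, hmem⟩
      rw [if_pos hmem, if_pos hav]
      omega
    · have hmem : v ∉ B.filter fun j => adj i j := fun h => hav (Finset.mem_filter.mp h).2
      rw [if_neg hmem, if_neg hav]
      simp
  have h2 : ∑ i ∈ B.erase v, (if adj i v then (1 : ℤ) else 0) = deg adj B v := by
    rw [Finset.sum_boole]
    unfold deg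
    congr 2
    ext j
    simp only [Finset.mem_filter, Finset.mem_erase]
    constructor
    · rintro ⟨⟨_, hj⟩, hjv⟩
      exact ⟨hj, hs _ _ hjv⟩
    · rintro ⟨hj, hvj⟩
      refine ⟨⟨?_, hj⟩, hs _ _ hvj⟩
      rintro rfl
      exact hi _ hvj
  unfold Q
  rw [← Finset.add_sum_erase B _ hv]
  have h3 : ∑ i ∈ B.erase v, ((deg adj B i : ℤ) - 2) =
      ∑ i ∈ B.erase v, ((deg adj (B.erase v) i : ℤ) - 2) + deg adj B v := by
    rw [← h2, ← Finset.sum_add_distrib]
    refine Finset.sum_congr rfl fun i hi' => ?_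
    rw [h1 i hi']
    ring
  rw [h3]
  have : (deg adj B v : ℤ) ≤ 1 := by exact_mod_cast hdeg
  linarith

include hs hi in
theorem core (B : Finset (Fin n)) :
    ∃ A ⊆ B, (∀ i ∈ A, 2 ≤ deg adj A i) ∧ Q adj B ≤ Q adj A := by
  induction B using Finset.strongInduction with
  | H B ih =>
    by_cases h : ∀ i ∈ B, 2 ≤ deg adj B i
    · exact ⟨B, subset_rfl, h, le_rfl⟩
    · push Not at h
      obtain ⟨v, hv, hdeg⟩ := h
      obtain ⟨A, hA, h2, hQ⟩ := ih (B.erase v) (Finset.erase_ssubset hv)
      exact ⟨A, hA.trans (Finset.erase_subset _ _), h2,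
        le_trans (Q_erase_le adj hs hi B v hv (by omega)) hQ⟩

include hs hi in
/-- handshake lemma -/
theorem sum_deg_univ :
    ∑ i, (deg adj univ i : ℤ) =
      2 * ((univ.filter fun p : Fin n × Fin n => p.1 < p.2 ∧ adj p.1 p.2).card : ℤ) := by
  have h1 : ∑ i, (deg adj univ i : ℤ) =
      ((univ.filter fun p : Fin n × Fin n => adj p.1 p.2).card : ℤ) := by
    unfold deg
    rw [← Nat.cast_sum]
    congr 1
    rw [Finset.card_filter, Fintype.sum_prod_type]
    exact Finset.sum_congr rfl fun i _ => Finset.card_filter _ _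
  rw [h1]
  have h2 : (univ.filter fun p : Fin n × Fin n => adj p.1 p.2) =
      (univ.filter fun p : Fin n × Fin n => p.1 < p.2 ∧ adj p.1 p.2) ∪
      (univ.filter fun p : Fin n × Fin n => p.2 < p.1 ∧ adj p.1 p.2) := by
    ext p
    simp only [Finset.mem_filter, Finset.mem_univ, true_and, Finset.mem_union]
    constructor
    · intro h
      rcases lt_trichotomy p.1 p.2 with hlt | heq | hgt
      · exact Or.inl ⟨hlt, h⟩
      · exact absurd (heq ▸ h) (hi _)
      · exact Or.inr ⟨hgt, h⟩
    · rintro (h | h) <;> exact h.2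
  have h3 : Disjoint (univ.filter fun p : Fin n × Fin n => p.1 < p.2 ∧ adj p.1 p.2)
      (univ.filter fun p : Fin n × Fin n => p.2 < p.1 ∧ adj p.1 p.2) := by
    rw [Finset.disjoint_filter]
    intro p _ h1 h2
    exact lt_asymm h1.1 h2.1
  have h4 : (univ.filter fun p : Fin n × Fin n => p.2 < p.1 ∧ adj p.1 p.2).card =
      (univ.filter fun p : Fin n × Fin n => p.1 < p.2 ∧ adj p.1 p.2).card := by
    refine Finset.card_bij (fun p _ => (p.2, p.1)) ?_ ?_ ?_
    · intro p hp
      simp only [Finset.mem_filter, Finset.mem_univ, true_and] at hp ⊢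
      exact ⟨hp.1, hs _ _ hp.2⟩
    · intro p _ q _ h
      simp only [Prod.mk.injEq] at h
      exact Prod.ext h.2 h.1
    · intro p hp
      simp only [Finset.mem_filter, Finset.mem_univ, true_and] at hp
      exact ⟨(p.2, p.1), by
        simp only [Finset.mem_filter, Finset.mem_univ, true_and]
        exact ⟨hp.1, hs _ _ hp.2⟩, rfl⟩
  rw [h2, Finset.card_union_of_disjoint h3, h4]
  push_cast
  ring

include hs in
theorem weighted_deg (A : Finset (Fin n)) (m : Fin n → ℤ) (hm : ∀ i, 1 ≤ m i)
    (h2 : ∀ i ∈ A, 2 ≤ deg adj A i) :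
    Q adj A ≤ ∑ i ∈ A, ((∑ j ∈ univ.filter (fun j => adj i j), m j) - 2 * m i) := by
  have hsub : ∀ i ∈ A, ∑ j ∈ A.filter (fun j => adj i j), m j ≤
      ∑ j ∈ univ.filter (fun j => adj i j), m j := by
    intro i _
    refine Finset.sum_le_sum_of_subset_of_nonneg ?_ fun j _ _ => by linarith [hm j]
    intro j hj
    rw [Finset.mem_filter] at hj ⊢
    exact ⟨Finset.mem_univ _, hj.2⟩
  have hswap : ∑ i ∈ A, ∑ j ∈ A.filter (fun j => adj i j), m j =
      ∑ j ∈ A, m j * (deg adj A j : ℤ) := by
    have e1 : ∀ i ∈ A, ∑ j ∈ A.filter (fun j => adj i j), m j =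
        ∑ j ∈ A, if adj i j then m j else 0 := fun i _ => Finset.sum_filter _ _
    rw [Finset.sum_congr rfl e1, Finset.sum_comm]
    refine Finset.sum_congr rfl fun j _ => ?_
    unfold deg
    rw [← Finset.sum_filter, Finset.sum_const, nsmul_eq_mul, mul_comm]
    have : (A.filter fun i => adj i j) = A.filter fun i => adj j i := by
      ext i
      simp only [Finset.mem_filter]
      exact ⟨fun h => ⟨h.1, hs _ _ h.2⟩, fun h => ⟨h.1, hs _ _ h.2⟩⟩
    rw [this]
  calc Q adj A = ∑ j ∈ A, ((deg adj A j : ℤ) - 2) := rfl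
    _ ≤ ∑ j ∈ A, m j * ((deg adj A j : ℤ) - 2) := by
        refine Finset.sum_le_sum fun j hj => ?_
        have h2' : (2 : ℤ) ≤ deg adj A j := by exact_mod_cast h2 j hj
        have := hm j
        nlinarith
    _ = ∑ i ∈ A, ∑ j ∈ A.filter (fun j => adj i j), m j - ∑ i ∈ A, 2 * m i := by
        rw [hswap, ← Finset.sum_sub_distrib]
        exact Finset.sum_congr rfl fun j _ => by ring
    _ ≤ ∑ i ∈ A, ((∑ j ∈ univ.filter (fun j => adj i j), m j) - 2 * m i) := by
        rw [Finset.sum_sub_distrib]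
        exact sub_le_sub_right (Finset.sum_le_sum hsub) _

end Graph


section NumType

variable {n : ℕ} (T : Models.NumericalType n)

/-- adjacency in the dual graph -/
def tadj (i j : Fin n) : Prop := i ≠ j ∧ 0 < T.a i j

instance : DecidableRel (tadj T) := fun i j => by unfold tadj; infer_instance

theorem tadj_symm (i j : Fin n) (h : tadj T i j) : tadj T j i :=
  ⟨h.1.symm, by rw [T.symm.apply i j]; exact h.2⟩

theorem tadj_irrefl (i : Fin n) : ¬ tadj T i i := fun h => h.1 rfl

theorem mk_ge (hmin : T.IsMinimal) (hn : 1 < n) (i : Fin n) :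
    (∑ j ∈ univ.filter (fun j => tadj T i j), T.m j) - 2 * T.m i ≤ T.m i * kk T i := by
  have hw := T.w_pos i
  have hm := T.m_pos i
  have hg := T.g_nonneg i
  choose α hα using fun j => T.w_dvd i j
  have hαnn : ∀ j, j ≠ i → 0 ≤ α j := by
    intro j hj
    have h1 := T.offDiag_nonneg i j hj.symm
    rw [hα j] at h1
    by_contra hcon
    push Not at hcon
    nlinarith
  have hαpos : ∀ j, tadj T i j → 1 ≤ α j := by
    intro j hj
    have h1 := hj.2
    rw [hα j] at h1
    by_contra hcon
    push Not at hcon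
    have : α j ≤ 0 := by omega
    nlinarith
  set Y := 2 * T.m i * (T.g i - 1) + ∑ j ∈ univ.erase i, α j * T.m j with hY
  have hrow := row_rel T i
  have hwY : T.m i * kk T i = T.w i * Y := by
    unfold kk
    have e : ∑ j ∈ univ.erase i, T.a i j * T.m j = T.w i * ∑ j ∈ univ.erase i, α j * T.m j := by
      rw [Finset.mul_sum]
      refine Finset.sum_congr rfl fun j _ => ?_
      rw [hα j]; ring
    rw [hY, mul_add, ← e, ← hrow]
    ring
  have hYnn : 0 ≤ Y := by
    have h0 := mul_nonneg hm.le (kk_nonneg T hmin hn i)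
    rw [hwY] at h0
    by_contra hcon
    push Not at hcon
    nlinarith
  have hYle : Y ≤ T.w i * Y := by nlinarith
  have hsum : ∑ j ∈ univ.filter (fun j => tadj T i j), T.m j ≤
      ∑ j ∈ univ.erase i, α j * T.m j := by
    calc ∑ j ∈ univ.filter (fun j => tadj T i j), T.m j
        ≤ ∑ j ∈ univ.filter (fun j => tadj T i j), α j * T.m j := by
          refine Finset.sum_le_sum fun j hj => ?_
          have h1 := hαpos j (Finset.mem_filter.mp hj).2
          have := T.m_pos j
          nlinarith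
      _ ≤ ∑ j ∈ univ.erase i, α j * T.m j := by
          refine Finset.sum_le_sum_of_subset_of_nonneg ?_ fun j hj _ =>
            mul_nonneg (hαnn j (Finset.ne_of_mem_erase hj)) (T.m_pos j).le
          intro j hj
          exact Finset.mem_erase.mpr ⟨(Finset.mem_filter.mp hj).2.1.symm, Finset.mem_univ _⟩
  rw [hwY]
  have : -2 * T.m i ≤ 2 * T.m i * (T.g i - 1) := by nlinarith
  linarith

theorem edgeCount_eq : T.edgeCount =
    (univ.filter fun p : Fin n × Fin n => p.1 < p.2 ∧ tadj T p.1 p.2).card := by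
  unfold Models.NumericalType.edgeCount
  congr 1
  ext p
  simp only [Finset.mem_filter, Finset.mem_univ, true_and, tadj]
  exact ⟨fun h => ⟨h.1, ne_of_lt h.1, h.2⟩, fun h => ⟨h.1, h.2.2⟩⟩

theorem topGenus_le_genus (hmin : T.IsMinimal) (hn : 1 < n) : T.topGenus ≤ T.genus := by
  obtain ⟨A, -, hA2, hQ⟩ := core (tadj T) (tadj_symm T) (tadj_irrefl T) univ
  have h1 : Q (tadj T) univ = 2 * (T.edgeCount : ℤ) - 2 * n := by
    unfold Q
    rw [Finset.sum_sub_distrib, sum_deg_univ (tadj T) (tadj_symm T) (tadj_irrefl T),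
      ← edgeCount_eq, Finset.sum_const, Finset.card_univ, Fintype.card_fin]
    simp
    ring
  have h2 := weighted_deg (tadj T) (tadj_symm T) A T.m (fun i => T.m_pos i) hA2
  have h3 : ∑ i ∈ A, ((∑ j ∈ univ.filter (fun j => tadj T i j), T.m j) - 2 * T.m i) ≤
      ∑ i ∈ A, T.m i * kk T i := Finset.sum_le_sum fun i _ => mk_ge T hmin hn i
  have h4 : ∑ i ∈ A, T.m i * kk T i ≤ ∑ i, T.m i * kk T i :=
    Finset.sum_le_sum_of_subset_of_nonneg (Finset.subset_univ _) fun j _ _ =>
      mul_nonneg (T.m_pos j).le (kk_nonneg T hmin hn j)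
  have h5 := two_genus_sub_two T
  unfold Models.NumericalType.topGenus
  linarith

end NumType

end Groth.Agent.Lib.helper10.NumTypeB
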