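import Mathlib
import Groth.Agent.Lib.helper10.NumTypeA

set_option autoImplicit false

/-!
# Numerical types: contraction of a `(-1)`-index
-/

namespace Groth.Agent.Lib.helper10.NumTypeC

open Finset Models Models.NumericalType Groth.Agent.Lib.helper10.NumTypeA

variable {n : ℕ} (T : Models.NumericalType (n + 1))

/-- unbundled form of `IsContraction` -/
def IsContr (m' : Fin n → ℤ) (a' : Matrix (Fin n) (Fin n) ℤ) (w' g' : Fin n → ℤ) : Prop :=
  (∀ i, m' i = T.m i.castSucc) ∧
  (∀ i j, a' i j = T.a i.castSucc j.castSucc -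
      T.a i.castSucc (Fin.last n) * T.a j.castSucc (Fin.last n) / T.a (Fin.last n) (Fin.last n)) ∧
  (∀ i, w' i =
      if 2 ∣ T.a i.castSucc (Fin.last n) / T.w (Fin.last n) ∧
          ¬ 2 ∣ T.a i.castSucc (Fin.last n) / T.w i.castSucc
      then T.w i.castSucc / 2 else T.w i.castSucc) ∧
  (∀ i, g' i = T.w i.castSucc / w' i * (T.g i.castSucc - 1) + 1 +
      (T.a i.castSucc (Fin.last n) ^ 2 - T.w (Fin.last n) * T.a i.castSucc (Fin.last n)) /
        (2 * w' i * T.w (Fin.last n)))

theorem isContraction_iff (T' : Models.NumericalType n) :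
    T.IsContraction T' ↔ IsContr T T'.m T'.a T'.w T'.g := Iff.rfl

section

variable (h : T.IsMinusOne (Fin.last n))
  {m' : Fin n → ℤ} {a' : Matrix (Fin n) (Fin n) ℤ} {w' g' : Fin n → ℤ}
  (hc : IsContr T m' a' w' g')

/-- `a_{il} = w_l β_i` -/
theorem exists_beta : ∃ β : Fin n → ℤ, ∀ i, T.a i.castSucc (Fin.last n) = T.w (Fin.last n) * β i := by
  choose β hβ using fun i : Fin n => T.w_dvd (Fin.last n) i.castSucc
  exact ⟨β, fun i => by rw [← hβ i, T.symm.apply]⟩

/-- `a_{il} = w_i γ_i` -/
theorem exists_gamma : ∃ γ : Fin n → ℤ, ∀ i, T.a i.castSucc (Fin.last n) = T.w i.castSucc * γ i := by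
  choose γ hγ using fun i : Fin n => T.w_dvd i.castSucc (Fin.last n)
  exact ⟨γ, hγ⟩

theorem castSucc_ne_last (i : Fin n) : i.castSucc ≠ Fin.last n := (Fin.castSucc_lt_last i).ne

include h hc in
theorem facts (β γ : Fin n → ℤ)
    (hβ : ∀ i, T.a i.castSucc (Fin.last n) = T.w (Fin.last n) * β i)
    (hγ : ∀ i, T.a i.castSucc (Fin.last n) = T.w i.castSucc * γ i) :
    (∀ i, 0 ≤ β i) ∧ (∀ i, 0 ≤ γ i) ∧
    (∀ i j, a' i j = T.a i.castSucc j.castSucc + T.w (Fin.last n) * β i * β j) ∧
    (∀ i, 0 < w' i ∧ w' i ∣ T.w i.castSucc ∧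
      2 * w' i * (g' i - 1) = 2 * T.w i.castSucc * (T.g i.castSucc - 1) +
        T.w (Fin.last n) * (β i ^ 2 - β i) ∧ 0 ≤ g' i) := by
  obtain ⟨hm', ha', hw', hg'⟩ := hc
  have hwl := T.w_pos (Fin.last n)
  have hall : T.a (Fin.last n) (Fin.last n) = -T.w (Fin.last n) := h.2
  have hβnn : ∀ i, 0 ≤ β i := by
    intro i
    have h1 := T.offDiag_nonneg i.castSucc (Fin.last n) (castSucc_ne_last i)
    rw [hβ i] at h1
    by_contra hcon
    push Not at hcon
    nlinarith
  have hγnn : ∀ i, 0 ≤ γ i := by
    intro i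
    have h1 := T.offDiag_nonneg i.castSucc (Fin.last n) (castSucc_ne_last i)
    have hw := T.w_pos i.castSucc
    rw [hγ i] at h1
    by_contra hcon
    push Not at hcon
    nlinarith
  refine ⟨hβnn, hγnn, ?_, ?_⟩
  · intro i j
    rw [ha' i j, hall, hβ i, hβ j]
    have : T.w (Fin.last n) * β i * (T.w (Fin.last n) * β j) / -T.w (Fin.last n) =
        -(T.w (Fin.last n) * β i * β j) := by
      apply Int.ediv_eq_of_eq_mul_right (by omega)
      ring
    rw [this]
    ring
  · intro i
    have hw := T.w_pos i.castSucc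
    have hgi := T.g_nonneg i.castSucc
    have e1 : T.a i.castSucc (Fin.last n) / T.w (Fin.last n) = β i := by
      rw [hβ i]; exact Int.mul_ediv_cancel_left _ hwl.ne'
    have e2 : T.a i.castSucc (Fin.last n) / T.w i.castSucc = γ i := by
      rw [hγ i]; exact Int.mul_ediv_cancel_left _ hw.ne'
    have hwi := hw' i
    rw [e1, e2] at hwi
    have hrel : T.w (Fin.last n) * β i = T.w i.castSucc * γ i := by rw [← hβ i, hγ i]
    have hnum : T.a i.castSucc (Fin.last n) ^ 2 -
        T.w (Fin.last n) * T.a i.castSucc (Fin.last n) =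
        T.w (Fin.last n) * (T.w i.castSucc * γ i * (β i - 1)) := by
      rw [hβ i, ← hrel]; ring
    have hgi' := hg' i
    by_cases hcase : 2 ∣ β i ∧ ¬ 2 ∣ γ i
    · -- halved case
      rw [if_pos hcase] at hwi
      have hwev : 2 ∣ T.w i.castSucc := by
        have : 2 ∣ T.w i.castSucc * γ i := by rw [← hrel]; exact Dvd.dvd.mul_left hcase.1 _
        rcases Int.prime_two.dvd_or_dvd this with h1 | h1
        · exact h1
        · exact absurd h1 hcase.2
      obtain ⟨v, hv⟩ := hwev
      have hw'v : w' i = v := by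
        rw [hwi, hv]; exact Int.mul_ediv_cancel_left _ (by norm_num)
      have hvpos : 0 < v := by omega
      have hdiv1 : T.w i.castSucc / w' i = 2 := by
        rw [hw'v, hv]; exact Int.mul_ediv_cancel _ hvpos.ne'
      have hdiv2 : (T.a i.castSucc (Fin.last n) ^ 2 -
          T.w (Fin.last n) * T.a i.castSucc (Fin.last n)) / (2 * w' i * T.w (Fin.last n)) =
          γ i * (β i - 1) := by
        rw [hnum, hw'v]
        apply Int.ediv_eq_of_eq_mul_right (by positivity)
        rw [hv]; ring
      rw [hdiv1, hdiv2] at hgi'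
      have hγ1 : 1 ≤ γ i := by
        have := hγnn i
        rcases eq_or_lt_of_le this with h0 | h0
        · exact absurd (by rw [← h0]; exact dvd_zero _) hcase.2
        · omega
      have hβ2 : 2 ≤ β i := by
        obtain ⟨c, hc'⟩ := hcase.1
        have hβpos : 0 < β i := by
          have := hβnn i
          rcases eq_or_lt_of_le this with h0 | h0
          · exfalso
            rw [← h0, mul_zero] at hrel
            have : 0 < T.w i.castSucc * γ i := mul_pos hw (by omega)
            omega
          · exact h0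
        omega
      refine ⟨by rw [hw'v]; exact hvpos, ⟨2, by rw [hw'v, hv]; ring⟩, ?_, ?_⟩
      · rw [hgi', hw'v]
        have : T.w (Fin.last n) * (β i ^ 2 - β i) = 2 * v * (γ i * (β i - 1)) := by
          have : T.w (Fin.last n) * (β i ^ 2 - β i) = (T.w (Fin.last n) * β i) * (β i - 1) := by ring
          rw [this, hrel, hv]; ring
        rw [this, hv]; ring
      · rw [hgi']
        have : 1 ≤ γ i * (β i - 1) := by nlinarith
        nlinarith
    · -- unchanged case
      rw [if_neg hcase] at hwi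
      have hev : 2 ∣ γ i * (β i - 1) := by
        by_cases h2 : 2 ∣ γ i
        · exact Dvd.dvd.mul_right h2 _
        · have hβodd : ¬ 2 ∣ β i := fun hb => hcase ⟨hb, h2⟩
          have : 2 ∣ β i - 1 := by omega
          exact Dvd.dvd.mul_left this _
      obtain ⟨c, hc'⟩ := hev
      have hdiv1 : T.w i.castSucc / w' i = 1 := by
        rw [hwi]; exact Int.ediv_self hw.ne'
      have hdiv2 : (T.a i.castSucc (Fin.last n) ^ 2 -
          T.w (Fin.last n) * T.a i.castSucc (Fin.last n)) / (2 * w' i * T.w (Fin.last n)) = c := by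
        rw [hnum, hwi]
        apply Int.ediv_eq_of_eq_mul_right (by positivity)
        rw [mul_assoc (T.w i.castSucc), hc']; ring
      rw [hdiv1, hdiv2] at hgi'
      have hcnn : 0 ≤ c := by
        have hprod : 0 ≤ γ i * (β i - 1) := by
          rcases eq_or_lt_of_le (hβnn i) with h0 | h0
          · have hγ0 : γ i = 0 := by
              rw [← h0, mul_zero] at hrel
              rcases mul_eq_zero.mp hrel.symm with h1 | h1
              · omega
              · exact h1
            rw [hγ0, zero_mul]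
          · exact mul_nonneg (hγnn i) (by omega)
        omega
      refine ⟨by rw [hwi]; exact hw, by rw [hwi], ?_, ?_⟩
      · rw [hgi', hwi]
        have : T.w (Fin.last n) * (β i ^ 2 - β i) = 2 * T.w i.castSucc * c := by
          have : T.w (Fin.last n) * (β i ^ 2 - β i) = (T.w (Fin.last n) * β i) * (β i - 1) := by ring
          rw [this, hrel, mul_assoc, hc']; ring
        rw [this]; ring
      · rw [hgi']; linarith

end


section Rows

theorem row_castSucc (i : Fin n) :
    ∑ j : Fin n, T.a i.castSucc j.castSucc * T.m j.castSucc =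
      -(T.a i.castSucc (Fin.last n) * T.m (Fin.last n)) := by
  have hrow : ∑ j, T.a i.castSucc j * T.m j = 0 := by
    have := congrFun T.mulVec_m i.castSucc
    simpa [Matrix.mulVec, dotProduct] using this
  rw [Fin.sum_univ_castSucc] at hrow
  linarith

theorem row_last :
    ∑ j : Fin n, T.a j.castSucc (Fin.last n) * T.m j.castSucc =
      -(T.a (Fin.last n) (Fin.last n) * T.m (Fin.last n)) := by
  have hrow : ∑ j, T.a (Fin.last n) j * T.m j = 0 := by
    have := congrFun T.mulVec_m (Fin.last n)
    simpa [Matrix.mulVec, dotProduct] using this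
  rw [Fin.sum_univ_castSucc] at hrow
  have : ∑ j : Fin n, T.a j.castSucc (Fin.last n) * T.m j.castSucc =
      ∑ j : Fin n, T.a (Fin.last n) j.castSucc * T.m j.castSucc :=
    Finset.sum_congr rfl fun j _ => by rw [T.symm.apply]
  rw [this]
  linarith

end Rows

section Genus

theorem genus_eq (h : T.IsMinusOne (Fin.last n)) (T' : Models.NumericalType n)
    (hT' : T.IsContraction T') : T'.genus = T.genus := by
  obtain ⟨β, hβ⟩ := exists_beta T
  obtain ⟨γ, hγ⟩ := exists_gamma T
  have hc : IsContr T T'.m T'.a T'.w T'.g := hT'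
  obtain ⟨-, -, ha', hrest⟩ := facts T h hc β γ hβ hγ
  have hm' : ∀ i, T'.m i = T.m i.castSucc := hc.1
  have hkk : ∀ i, kk T' i = kk T i.castSucc - T.a i.castSucc (Fin.last n) := by
    intro i
    obtain ⟨-, -, hg2, -⟩ := hrest i
    unfold kk
    have e : 2 * T'.w i * (T'.g i - 1) = 2 * T.w i.castSucc * (T.g i.castSucc - 1) +
        T.w (Fin.last n) * (β i ^ 2 - β i) := hg2
    rw [e, ha' i i, hβ i]
    ring
  have h1 := two_genus_sub_two T'
  have h2 := two_genus_sub_two T
  rw [Fin.sum_univ_castSucc] at h2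
  have hkl : kk T (Fin.last n) = -T.w (Fin.last n) := by
    unfold kk
    rw [h.1, h.2]; ring
  have h3 : ∑ i, T'.m i * kk T' i =
      ∑ i : Fin n, T.m i.castSucc * kk T i.castSucc -
        ∑ i : Fin n, T.a i.castSucc (Fin.last n) * T.m i.castSucc := by
    rw [← Finset.sum_sub_distrib]
    refine Finset.sum_congr rfl fun i _ => ?_
    rw [hm' i, hkk i]; ring
  have h4 := row_last T
  rw [h.2] at h4
  rw [h3, h4] at h1
  rw [hkl] at h2
  linarith

end Genus

section Existence

theorem n_pos (h : T.IsMinusOne (Fin.last n)) : 0 < n := by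
  by_contra hn
  have hn0 : n = 0 := by omega
  subst hn0
  have hrow : ∑ j, T.a (Fin.last 0) j * T.m j = 0 := by
    have := congrFun T.mulVec_m (Fin.last 0)
    simpa [Matrix.mulVec, dotProduct] using this
  rw [Fin.sum_univ_castSucc] at hrow
  simp only [Finset.univ_eq_empty, Finset.sum_empty, zero_add] at hrow
  have hm := T.m_pos (Fin.last 0)
  have hw := T.w_pos (Fin.last 0)
  rw [h.2] at hrow
  nlinarith

theorem exists_contraction (h : T.IsMinusOne (Fin.last n)) :
    ∃ T' : Models.NumericalType n, T.IsContraction T' := by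
  obtain ⟨β, hβ⟩ := exists_beta T
  obtain ⟨γ, hγ⟩ := exists_gamma T
  set m' : Fin n → ℤ := fun i => T.m i.castSucc with hm'
  set a' : Matrix (Fin n) (Fin n) ℤ := fun i j => T.a i.castSucc j.castSucc -
      T.a i.castSucc (Fin.last n) * T.a j.castSucc (Fin.last n) / T.a (Fin.last n) (Fin.last n)
    with ha'
  set w' : Fin n → ℤ := fun i =>
      if 2 ∣ T.a i.castSucc (Fin.last n) / T.w (Fin.last n) ∧
          ¬ 2 ∣ T.a i.castSucc (Fin.last n) / T.w i.castSucc
      then T.w i.castSucc / 2 else T.w i.castSucc with hw'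
  set g' : Fin n → ℤ := fun i => T.w i.castSucc / w' i * (T.g i.castSucc - 1) + 1 +
      (T.a i.castSucc (Fin.last n) ^ 2 - T.w (Fin.last n) * T.a i.castSucc (Fin.last n)) /
        (2 * w' i * T.w (Fin.last n)) with hg'
  have hc : IsContr T m' a' w' g' := ⟨fun _ => rfl, fun _ _ => rfl, fun _ => rfl, fun _ => rfl⟩
  obtain ⟨hβnn, hγnn, haf, hrest⟩ := facts T h hc β γ hβ hγ
  have hwl := T.w_pos (Fin.last n)
  have hpos_of : ∀ i j : Fin n, T.a i.castSucc j.castSucc ≠ 0 → i ≠ j → 0 < a' i j := by
    intro i j hne hij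
    rw [haf]
    have h1 := T.offDiag_nonneg i.castSucc j.castSucc
      (fun hh => hij (Fin.castSucc_injective n hh))
    have h2 : 0 < T.a i.castSucc j.castSucc := lt_of_le_of_ne h1 (Ne.symm hne)
    have h3 : 0 ≤ T.w (Fin.last n) * β i * β j :=
      mul_nonneg (mul_nonneg hwl.le (hβnn i)) (hβnn j)
    linarith
  refine ⟨{ m := m', a := a', w := w', g := g', pos := n_pos T h,
            m_pos := fun i => T.m_pos _, w_pos := fun i => (hrest i).1,
            g_nonneg := fun i => (hrest i).2.2.2, symm := ?_, offDiag_nonneg := ?_,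
            connected := ?_, mulVec_m := ?_, w_dvd := ?_ }, hc⟩
  · -- symm
    refine Matrix.IsSymm.ext fun i j => ?_
    rw [haf, haf, T.symm.apply]
    ring
  · -- offDiag_nonneg
    intro i j hij
    rw [haf]
    have h1 := T.offDiag_nonneg i.castSucc j.castSucc
      (fun hh => hij (Fin.castSucc_injective n hh))
    have h3 : 0 ≤ T.w (Fin.last n) * β i * β j :=
      mul_nonneg (mul_nonneg hwl.le (hβnn i)) (hβnn j)
    linarith
  · -- connected
    intro I hIne hIuniv
    -- lift I
    set I1 : Finset (Fin (n + 1)) := I.map Fin.castSuccEmb with hI1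
    have hmem1 : ∀ x : Fin (n + 1), x ∈ I1 ↔ ∃ i ∈ I, i.castSucc = x := by
      intro x
      rw [hI1, Finset.mem_map]
      rfl
    have hI1ne : I1.Nonempty := hIne.map
    have hlast1 : Fin.last n ∉ I1 := by
      rw [hmem1]
      rintro ⟨i, -, hi⟩
      exact castSucc_ne_last i hi
    have hI1univ : I1 ≠ univ := fun hh => hlast1 (hh ▸ Finset.mem_univ _)
    obtain ⟨x, hx, y, hy, hxy⟩ := T.connected I1 hI1ne hI1univ
    obtain ⟨i, hiI, rfl⟩ := (hmem1 x).mp hx
    by_cases hyl : y = Fin.last n
    · subst hyl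
      -- a_{i l} ≠ 0; use I ∪ {l}
      set I2 : Finset (Fin (n + 1)) := insert (Fin.last n) I1 with hI2
      have hI2univ : I2 ≠ univ := by
        intro hh
        apply hIuniv
        rw [Finset.eq_univ_iff_forall]
        intro j
        have : j.castSucc ∈ I2 := hh ▸ Finset.mem_univ _
        rw [hI2, Finset.mem_insert] at this
        rcases this with h1 | h1
        · exact absurd h1 (castSucc_ne_last j)
        · obtain ⟨j', hj', hjj⟩ := (hmem1 _).mp h1
          rw [← Fin.castSucc_injective n hjj]; exact hj'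
      obtain ⟨x2, hx2, y2, hy2, hxy2⟩ := T.connected I2 ⟨_, Finset.mem_insert_self _ _⟩ hI2univ
      have hy2' : y2 ≠ Fin.last n ∧ y2 ∉ I1 := by
        rw [hI2, Finset.mem_insert, not_or] at hy2
        exact hy2
      obtain ⟨j, hj⟩ : ∃ j : Fin n, j.castSucc = y2 :=
        ⟨y2.castPred hy2'.1, Fin.castSucc_castPred _ _⟩
      subst hj
      have hjI : j ∉ I := fun hh => hy2'.2 ((hmem1 _).mpr ⟨j, hh, rfl⟩)
      rw [hI2, Finset.mem_insert] at hx2
      rcases hx2 with hx2 | hx2
      · -- x2 = l : a_{l j} ≠ 0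
        subst hx2
        refine ⟨i, hiI, j, hjI, ?_⟩
        have hij : i ≠ j := fun hh => hjI (hh ▸ hiI)
        rw [haf]
        have h1 := T.offDiag_nonneg i.castSucc j.castSucc
          (fun hh => hij (Fin.castSucc_injective n hh))
        have hβi : 0 < β i := by
          rcases eq_or_lt_of_le (hβnn i) with h0 | h0
          · exfalso; apply hxy; rw [hβ i, ← h0, mul_zero]
          · exact h0
        have hβj : 0 < β j := by
          rcases eq_or_lt_of_le (hβnn j) with h0 | h0
          · exfalso; apply hxy2; rw [T.symm.apply, hβ j, ← h0, mul_zero]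
          · exact h0
        have : 0 < T.w (Fin.last n) * β i * β j := mul_pos (mul_pos hwl hβi) hβj
        linarith
      · obtain ⟨i2, hi2I, rfl⟩ := (hmem1 x2).mp hx2
        have hij : i2 ≠ j := fun hh => hjI (hh ▸ hi2I)
        exact ⟨i2, hi2I, j, hjI, (hpos_of i2 j hxy2 hij).ne'⟩
    · obtain ⟨j, hj⟩ : ∃ j : Fin n, j.castSucc = y := ⟨y.castPred hyl, Fin.castSucc_castPred _ _⟩
      subst hj
      have hjI : j ∉ I := fun hh => hy ((hmem1 _).mpr ⟨j, hh, rfl⟩)
      have hij : i ≠ j := fun hh => hjI (hh ▸ hiI)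
      exact ⟨i, hiI, j, hjI, (hpos_of i j hxy hij).ne'⟩
  · -- mulVec_m
    funext i
    simp only [Matrix.mulVec, dotProduct, Pi.zero_apply]
    have e : ∀ j : Fin n, a' i j * m' j = T.a i.castSucc j.castSucc * T.m j.castSucc +
        β i * (T.a j.castSucc (Fin.last n) * T.m j.castSucc) := by
      intro j
      rw [haf, hβ j]
      ring
    rw [Finset.sum_congr rfl fun j _ => e j, Finset.sum_add_distrib, ← Finset.mul_sum,
      row_castSucc, row_last, h.2, hβ i]
    ring
  · -- w_dvd
    intro i j
    obtain ⟨-, hdvd, -, -⟩ := hrest i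
    refine dvd_trans hdvd ?_
    rw [haf]
    refine dvd_add (T.w_dvd _ _) ?_
    have : T.w i.castSucc ∣ T.w (Fin.last n) * β i := by rw [← hβ i]; exact T.w_dvd _ _
    exact Dvd.dvd.mul_right this _

end Existence

end Groth.Agent.Lib.helper10.NumTypeC
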