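import Mathlib
import Groth.Agent.Lib.helper10.NumTypeC

set_option autoImplicit false

/-!
# Numerical types: the Picard group under contraction
-/

namespace Groth.Agent.Lib.helper10.NumTypeD

open Finset Models Models.NumericalType Groth.Agent.Lib.helper10.NumTypeA
  Groth.Agent.Lib.helper10.NumTypeC

variable {n : ℕ} (T : Models.NumericalType (n + 1))

/-- the ratio `w_i / w'_i ∈ {1, 2}` -/
theorem exists_rho (h : T.IsMinusOne (Fin.last n)) (T' : Models.NumericalType n)
    (hT' : T.IsContraction T') :
    ∃ ρ σ : Fin n → ℤ, ∀ i, T.w i.castSucc = ρ i * T'.w i ∧ ρ i * σ i = 2 := by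
  obtain ⟨β, hβ⟩ := exists_beta T
  obtain ⟨γ, hγ⟩ := exists_gamma T
  have hc : IsContr T T'.m T'.a T'.w T'.g := hT'
  have hwl := T.w_pos (Fin.last n)
  have key : ∀ i, ∃ r s : ℤ, T.w i.castSucc = r * T'.w i ∧ r * s = 2 := by
    intro i
    have hw := T.w_pos i.castSucc
    have e1 : T.a i.castSucc (Fin.last n) / T.w (Fin.last n) = β i := by
      rw [hβ i]; exact Int.mul_ediv_cancel_left _ hwl.ne'
    have e2 : T.a i.castSucc (Fin.last n) / T.w i.castSucc = γ i := by
      rw [hγ i]; exact Int.mul_ediv_cancel_left _ hw.ne'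
    have hwi := hc.2.2.1 i
    rw [e1, e2] at hwi
    have hrel : T.w (Fin.last n) * β i = T.w i.castSucc * γ i := by rw [← hβ i, hγ i]
    by_cases hcase : 2 ∣ β i ∧ ¬ 2 ∣ γ i
    · rw [if_pos hcase] at hwi
      have hwev : 2 ∣ T.w i.castSucc := by
        have : 2 ∣ T.w i.castSucc * γ i := by rw [← hrel]; exact Dvd.dvd.mul_left hcase.1 _
        rcases Int.prime_two.dvd_or_dvd this with h1 | h1
        · exact h1
        · exact absurd h1 hcase.2
      obtain ⟨v, hv⟩ := hwev
      have hw'v : T'.w i = v := by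
        rw [hwi, hv]; exact Int.mul_ediv_cancel_left _ (by norm_num)
      exact ⟨2, 1, by rw [hw'v, hv], by norm_num⟩
    · rw [if_neg hcase] at hwi
      exact ⟨1, 2, by rw [hwi, one_mul], by norm_num⟩
  choose ρ σ hρσ using key
  exact ⟨ρ, σ, hρσ⟩

theorem picMatrix_mul (S : Models.NumericalType n) (i j : Fin n) :
    S.w i * S.picMatrix i j = S.a i j := by
  unfold Models.NumericalType.picMatrix
  exact Int.mul_ediv_cancel' (S.w_dvd i j)

theorem pic_contraction (h : T.IsMinusOne (Fin.last n)) (T' : Models.NumericalType n)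
    (hT' : T.IsContraction T') :
    ∃ f : T.Pic →+ T'.Pic, Function.Injective f ∧ ∀ y : T'.Pic, ∃ x : T.Pic, 2 • y = f x := by
  obtain ⟨β, hβ⟩ := exists_beta T
  obtain ⟨γ, hγ⟩ := exists_gamma T
  obtain ⟨ρ, σ, hρσ⟩ := exists_rho T h T' hT'
  have hc : IsContr T T'.m T'.a T'.w T'.g := hT'
  obtain ⟨-, -, ha', -⟩ := facts T h hc β γ hβ hγ
  have hwl := T.w_pos (Fin.last n)
  set P := T.picMatrix with hP
  set P' := T'.picMatrix with hP'
  -- entries of P
  have hPγ : ∀ j : Fin n, P j.castSucc (Fin.last n) = γ j := by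
    intro j
    have h1 := picMatrix_mul T j.castSucc (Fin.last n)
    rw [hγ j] at h1
    exact mul_left_cancel₀ (T.w_pos j.castSucc).ne' h1
  have hPβ : ∀ i : Fin n, P (Fin.last n) i.castSucc = β i := by
    intro i
    have h1 := picMatrix_mul T (Fin.last n) i.castSucc
    rw [T.symm.apply, hβ i] at h1
    exact mul_left_cancel₀ hwl.ne' h1
  have hPll : P (Fin.last n) (Fin.last n) = -1 := by
    have h1 := picMatrix_mul T (Fin.last n) (Fin.last n)
    rw [h.2] at h1
    have : T.w (Fin.last n) * P (Fin.last n) (Fin.last n) = T.w (Fin.last n) * (-1) := by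
      rw [h1]; ring
    exact mul_left_cancel₀ hwl.ne' this
  have hP' : ∀ j i : Fin n, P' j i = ρ j * (P j.castSucc i.castSucc + γ j * β i) := by
    intro j i
    have h1 := picMatrix_mul T' j i
    have h2 := picMatrix_mul T j.castSucc i.castSucc
    have hw' := T'.w_pos j
    rw [ha' j i] at h1
    have : T'.w j * P' j i = T'.w j * (ρ j * (P j.castSucc i.castSucc + γ j * β i)) := by
      rw [h1, ← h2]
      have e : T.w (Fin.last n) * β j = T.w j.castSucc * γ j := by rw [← hβ j, hγ j]
      have e3 : T.w (Fin.last n) * β j * β i = T.w j.castSucc * γ j * β i := by rw [e]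
      rw [e3, (hρσ j).1]
      ring
    exact mul_left_cancel₀ hw'.ne' this
  -- the map F
  set F : (Fin (n + 1) → ℤ) →ₗ[ℤ] (Fin n → ℤ) :=
    { toFun := fun v j => ρ j * (v j.castSucc + γ j * v (Fin.last n))
      map_add' := fun v v' => by
        funext j
        simp only [Pi.add_apply]
        ring
      map_smul' := fun c v => by
        funext j
        simp only [Pi.smul_apply, smul_eq_mul, RingHom.id_apply]
        ring } with hF
  have hFapp : ∀ v j, F v j = ρ j * (v j.castSucc + γ j * v (Fin.last n)) := fun _ _ => rfl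
  have hFP : ∀ v : Fin (n + 1) → ℤ, F (P.mulVec v) = P'.mulVec fun i => v i.castSucc := by
    intro v
    funext j
    rw [hFapp]
    simp only [Matrix.mulVec, dotProduct]
    rw [Fin.sum_univ_castSucc, Fin.sum_univ_castSucc, hPγ, hPll]
    have e1 : ∑ i : Fin n, P (Fin.last n) i.castSucc * v i.castSucc =
        ∑ i : Fin n, β i * v i.castSucc :=
      Finset.sum_congr rfl fun i _ => by rw [hPβ]
    have e2 : ∑ i : Fin n, P' j i * v i.castSucc =
        ρ j * (∑ i : Fin n, P j.castSucc i.castSucc * v i.castSucc +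
          γ j * ∑ i : Fin n, β i * v i.castSucc) := by
      rw [Finset.mul_sum, ← Finset.sum_add_distrib, Finset.mul_sum]
      refine Finset.sum_congr rfl fun i _ => ?_
      rw [hP' j i]; ring
    rw [e1, e2]
    ring
  have hle : LinearMap.range (Matrix.mulVecLin P) ≤
      (LinearMap.range (Matrix.mulVecLin P')).comap F := by
    rintro _ ⟨v, rfl⟩
    rw [Submodule.mem_comap, Matrix.mulVecLin_apply, hFP]
    exact ⟨_, rfl⟩
  refine ⟨(Submodule.mapQ _ _ F hle).toAddMonoidHom, ?_, ?_⟩
  · -- injective
    rw [injective_iff_map_eq_zero]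
    intro x hx
    obtain ⟨v, rfl⟩ := Submodule.Quotient.mk_surjective _ x
    have hx' : Submodule.Quotient.mk (F v) =
        (0 : (Fin n → ℤ) ⧸ LinearMap.range (Matrix.mulVecLin P')) := hx
    rw [Submodule.Quotient.mk_eq_zero] at hx' ⊢
    obtain ⟨u, hu⟩ := hx'
    rw [Matrix.mulVecLin_apply] at hu
    -- extend u by zero
    set û : Fin (n + 1) → ℤ := Fin.lastCases 0 u with hû
    have hû1 : (fun i : Fin n => û i.castSucc) = u := by
      funext i; simp [hû]
    have hFz : F (v - P.mulVec û) = 0 := by
      rw [map_sub, hFP, hû1, hu, sub_self]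
    set z := v - P.mulVec û with hz
    set t := z (Fin.last n) with ht
    have hzj : ∀ j : Fin n, z j.castSucc = -(γ j * t) := by
      intro j
      have := congrFun hFz j
      rw [hFapp] at this
      have hρ : ρ j ≠ 0 := by
        intro h0
        have := (hρσ j).2
        rw [h0, zero_mul] at this
        norm_num at this
      have h2 := (mul_eq_zero.mp this).resolve_left hρ
      linarith
    refine ⟨û - t • Pi.single (Fin.last n) 1, ?_⟩
    rw [Matrix.mulVecLin_apply, Matrix.mulVec_sub, Matrix.mulVec_smul,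
      Matrix.mulVec_single_one]
    have hz' : z = -(t • P.col (Fin.last n)) := by
      funext j
      refine Fin.lastCases ?_ (fun j => ?_) j
      · simp only [Pi.neg_apply, Pi.smul_apply, Matrix.col_apply, smul_eq_mul, hPll]
        rw [← ht]; ring
      · simp only [Pi.neg_apply, Pi.smul_apply, Matrix.col_apply, smul_eq_mul, hPγ]
        rw [hzj j]; ring
    have : v = P.mulVec û + z := by rw [hz]; ring
    rw [this, hz']
    ring
  · -- cokernel killed by 2
    intro y
    obtain ⟨u, rfl⟩ := Submodule.Quotient.mk_surjective _ y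
    set x : Fin (n + 1) → ℤ := Fin.lastCases 0 (fun j => σ j * u j) with hx
    refine ⟨Submodule.Quotient.mk x, ?_⟩
    show 2 • Submodule.Quotient.mk u = Submodule.Quotient.mk (F x)
    rw [← Submodule.Quotient.mk_smul]
    congr 1
    funext j
    rw [hFapp]
    simp only [hx, Fin.lastCases_castSucc, Fin.lastCases_last, Pi.smul_apply,
      mul_zero, add_zero, nsmul_eq_mul, Nat.cast_ofNat]
    rw [← mul_assoc, (hρσ j).2]

end Groth.Agent.Lib.helper10.NumTypeD
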