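import Mathlib
import Groth.Agent.Lib.helper10.NumTypeD
import Groth.Agent.S2176

set_option autoImplicit false

/-!
# Numerical types: permutations of the indices, and `Pic ≃ ℤ` in genus `≤ 0`
-/

namespace Groth.Agent.Lib.helper10.NumTypeE

open Finset Models Models.NumericalType Groth.Agent.Lib.helper10.NumTypeA
  Groth.Agent.Lib.helper10.NumTypeC Groth.Agent.Lib.helper10.NumTypeD

section Perm

variable {n : ℕ} (T : Models.NumericalType n) (σ : Equiv.Perm (Fin n))

/-- the numerical type with permuted indices -/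
def perm : Models.NumericalType n where
  m := fun i => T.m (σ i)
  a := fun i j => T.a (σ i) (σ j)
  w := fun i => T.w (σ i)
  g := fun i => T.g (σ i)
  pos := T.pos
  m_pos := fun i => T.m_pos _
  w_pos := fun i => T.w_pos _
  g_nonneg := fun i => T.g_nonneg _
  symm := Matrix.IsSymm.ext fun i j => T.symm.apply _ _
  offDiag_nonneg := fun i j hij => T.offDiag_nonneg _ _ (fun h => hij (σ.injective h))
  connected := by
    intro I hI hIu
    have hne : (I.map σ.toEmbedding) ≠ univ := by
      intro h
      apply hIu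
      rw [Finset.eq_univ_iff_forall]
      intro i
      have : σ i ∈ I.map σ.toEmbedding := h ▸ Finset.mem_univ _
      rw [Finset.mem_map] at this
      obtain ⟨j, hj, hji⟩ := this
      have : j = i := σ.injective hji
      exact this ▸ hj
    obtain ⟨x, hx, y, hy, hxy⟩ := T.connected (I.map σ.toEmbedding) hI.map hne
    rw [Finset.mem_map] at hx
    obtain ⟨i, hi, rfl⟩ := hx
    refine ⟨i, hi, σ.symm y, ?_, ?_⟩
    · intro h
      apply hy
      rw [Finset.mem_map]
      exact ⟨σ.symm y, h, σ.apply_symm_apply y⟩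
    · show T.a (σ i) (σ (σ.symm y)) ≠ 0
      rw [σ.apply_symm_apply]
      exact hxy
  mulVec_m := by
    funext i
    simp only [Matrix.mulVec, dotProduct, Pi.zero_apply]
    have hrow : ∑ j, T.a (σ i) j * T.m j = 0 := by
      have := congrFun T.mulVec_m (σ i)
      simpa [Matrix.mulVec, dotProduct] using this
    rw [← hrow]
    exact Equiv.sum_comp σ (fun j => T.a (σ i) j * T.m j)
  w_dvd := fun i j => T.w_dvd _ _

theorem genus_perm : (perm T σ).genus = T.genus := by
  unfold Models.NumericalType.genus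
  have h1 : ∑ i, (perm T σ).m i * (perm T σ).w i * ((perm T σ).g i - 1) =
      ∑ i, T.m i * T.w i * (T.g i - 1) :=
    Equiv.sum_comp σ (fun i => T.m i * T.w i * (T.g i - 1))
  have h2 : ∑ i, (perm T σ).m i * (perm T σ).a i i = ∑ i, T.m i * T.a i i :=
    Equiv.sum_comp σ (fun i => T.m i * T.a i i)
  rw [h1, h2]

theorem isMinusOne_perm (i : Fin n) : (perm T σ).IsMinusOne i ↔ T.IsMinusOne (σ i) := Iff.rfl

theorem pic_perm : Nonempty (T.Pic ≃+ (perm T σ).Pic) := by
  set e : (Fin n → ℤ) ≃ₗ[ℤ] (Fin n → ℤ) := LinearEquiv.funCongrLeft ℤ ℤ σ with he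
  have happ : ∀ v i, e v i = v (σ i) := fun v i => rfl
  have hP : ∀ v, e (T.picMatrix.mulVec v) = (perm T σ).picMatrix.mulVec (e v) := by
    intro v
    funext i
    rw [happ]
    simp only [Matrix.mulVec, dotProduct]
    have : ∀ j, (perm T σ).picMatrix i j * e v j = T.picMatrix (σ i) (σ j) * v (σ j) := by
      intro j; rfl
    rw [Finset.sum_congr rfl fun j _ => this j]
    exact (Equiv.sum_comp σ (fun j => T.picMatrix (σ i) j * v j)).symm
  refine ⟨(Submodule.Quotient.equiv _ _ e ?_).toAddEquiv⟩
  apply le_antisymm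
  · rintro _ ⟨_, ⟨v, rfl⟩, rfl⟩
    rw [Matrix.mulVecLin_apply]
    exact ⟨e v, (hP v).symm⟩
  · rintro _ ⟨u, rfl⟩
    refine ⟨T.picMatrix.mulVec (e.symm u), ⟨e.symm u, rfl⟩, ?_⟩
    rw [Matrix.mulVecLin_apply]
    exact (hP _).trans (by rw [e.apply_symm_apply])

end Perm

section Cyclic

theorem addEquiv_int_of_injective {A : Type*} [AddCommGroup A] (g : A →+ ℤ)
    (hg : Function.Injective g) (h2 : ∃ x, g x = 2) : Nonempty (A ≃+ ℤ) := by
  obtain ⟨a, ha⟩ := Int.subgroup_cyclic g.range
  have hmem : ∀ x, ∃ k : ℤ, g x = k * a := by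
    intro x
    have : g x ∈ g.range := ⟨x, rfl⟩
    rw [ha, AddSubgroup.mem_closure_singleton] at this
    obtain ⟨k, hk⟩ := this
    exact ⟨k, by rw [← hk, smul_eq_mul]⟩
  have ha0 : a ≠ 0 := by
    rintro rfl
    obtain ⟨x, hx⟩ := h2
    obtain ⟨k, hk⟩ := hmem x
    rw [hx, mul_zero] at hk
    norm_num at hk
  choose φ hφ using hmem
  have hadd : ∀ x y, φ (x + y) = φ x + φ y := by
    intro x y
    have := hφ (x + y)
    rw [map_add, hφ x, hφ y, ← add_mul] at this
    exact (mul_right_cancel₀ ha0 this).symm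
  refine ⟨AddEquiv.ofBijective (AddMonoidHom.mk' φ hadd) ⟨?_, ?_⟩⟩
  · intro x y hxy
    apply hg
    rw [hφ x, hφ y]
    show _ = _
    have : φ x = φ y := hxy
    rw [this]
  · intro k
    have : k * a ∈ g.range := by
      rw [ha, AddSubgroup.mem_closure_singleton]
      exact ⟨k, by rw [smul_eq_mul]⟩
    obtain ⟨x, hx⟩ := this
    refine ⟨x, ?_⟩
    show φ x = k
    rw [hφ x] at hx
    exact mul_right_cancel₀ ha0 hx

end Cyclic

section Main

theorem pic_single (T : Models.NumericalType 1) : Nonempty (T.Pic ≃+ ℤ) := by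
  have hrow : ∑ j, T.a 0 j * T.m j = 0 := by
    have := congrFun T.mulVec_m 0
    simpa [Matrix.mulVec, dotProduct] using this
  rw [Fin.sum_univ_one] at hrow
  have ha : T.a 0 0 = 0 := by
    rcases mul_eq_zero.mp hrow with h | h
    · exact h
    · exact absurd h (T.m_pos 0).ne'
  have hP : T.picMatrix = 0 := by
    funext i j
    have hi : i = 0 := Subsingleton.elim _ _
    have hj : j = 0 := Subsingleton.elim _ _
    subst hi hj
    unfold Models.NumericalType.picMatrix
    rw [ha]; simp
  have hbot : LinearMap.range (Matrix.mulVecLin T.picMatrix) = ⊥ := by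
    rw [hP]
    simp
  exact ⟨((Submodule.quotEquivOfEqBot _ hbot).trans
    (LinearEquiv.funUnique (Fin 1) ℤ ℤ)).toAddEquiv⟩

theorem pic_int : ∀ (n : ℕ) (T : Models.NumericalType n), T.genus ≤ 0 → Nonempty (T.Pic ≃+ ℤ) := by
  intro n
  induction n with
  | zero => intro T _; exact absurd T.pos (lt_irrefl 0)
  | succ n ih =>
    intro T hg
    by_cases hn : n = 0
    · subst hn
      exact pic_single T
    · have hn1 : 1 < n + 1 := by omega
      have hnotmin : ¬ T.IsMinimal := by
        intro hmin
        have := Groth.Agent.S2176.result T hmin hn1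
        omega
      unfold Models.NumericalType.IsMinimal at hnotmin
      push Not at hnotmin
      obtain ⟨i, hi⟩ := hnotmin
      set σ : Equiv.Perm (Fin (n + 1)) := Equiv.swap i (Fin.last n) with hσ
      have hlast : (perm T σ).IsMinusOne (Fin.last n) := by
        rw [isMinusOne_perm, hσ, Equiv.swap_apply_right]
        exact hi
      obtain ⟨T', hT'⟩ := exists_contraction (perm T σ) hlast
      have hg' : T'.genus ≤ 0 := by
        rw [genus_eq (perm T σ) hlast T' hT', genus_perm]
        exact hg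
      obtain ⟨e⟩ := ih T' hg'
      obtain ⟨f, hf, h2⟩ := pic_contraction (perm T σ) hlast T' hT'
      obtain ⟨x, hx⟩ := h2 (e.symm 1)
      have h3 : Nonempty ((perm T σ).Pic ≃+ ℤ) := by
        refine addEquiv_int_of_injective (e.toAddMonoidHom.comp f)
          (e.injective.comp hf) ⟨x, ?_⟩
        show e (f x) = 2
        rw [← hx, map_nsmul, e.apply_symm_apply]
        rfl
      obtain ⟨e3⟩ := h3
      obtain ⟨e4⟩ := pic_perm T σ
      exact ⟨e4.trans e3⟩

end Main

end Groth.Agent.Lib.helper10.NumTypeE
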