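import Mathlib

set_option autoImplicit false
set_option maxHeartbeats 800000

/-!
# Ore calculus: powers of `f N` where `N b = b N + θ b`
-/

namespace Groth.Agent.Lib.helper10.OreA

open Finset

section

variable {B E : Type*} [CommRing B] [Ring E]

/-- `N` acts on the image of `B` through the map `θ`: `N b = b N + θ b`. -/
def IsOre (ι : B →+* E) (θ : B → B) (N : E) : Prop :=
  ∀ b, N * ι b = ι b * N + ι (θ b)

variable {ι : B →+* E} {θ : B → B} {N : E}

theorem IsOre.smul (h : IsOre ι θ N) (f : B) : IsOre ι (fun b => f * θ b) (ι f * N) := by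
  intro b
  have hc : ι f * ι b = ι b * ι f := by rw [← map_mul, ← map_mul, mul_comm]
  rw [mul_assoc, h b, mul_add, ← mul_assoc, hc, mul_assoc, map_mul]

/-- general Leibniz rule -/
theorem IsOre.pow_mul (h : IsOre ι θ N) (k : ℕ) (b : B) :
    N ^ k * ι b = ∑ ij ∈ Finset.HasAntidiagonal.antidiagonal k,
      k.choose ij.1 • (ι (θ^[ij.1] b) * N ^ ij.2) := by
  induction k generalizing b with
  | zero => simp
  | succ k ih =>
    rw [Finset.sum_antidiagonal_choose_succ_nsmul (fun i j => ι (θ^[i] b) * N ^ j) k]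
    rw [pow_succ, mul_assoc, h b, mul_add, ← mul_assoc, ih b, ih (θ b), Finset.sum_mul]
    congr 1
    · refine Finset.sum_congr rfl fun ij _ => ?_
      rw [smul_mul_assoc, mul_assoc, ← pow_succ]
    · refine Finset.sum_congr rfl fun ij hij => ?_
      rw [Finset.HasAntidiagonal.mem_antidiagonal] at hij
      rw [Nat.choose_symm_of_eq_add hij.symm, Function.iterate_succ_apply]

/-- splitting off the two ends of an antidiagonal sum -/
theorem sum_antidiagonal_ends {M : Type*} [AddCommMonoid M] (p : ℕ) (hp : p ≠ 0)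
    (F : ℕ × ℕ → M) :
    ∑ k ∈ Finset.HasAntidiagonal.antidiagonal p, F k =
      F (p, 0) + F (0, p) + ∑ k ∈ (Finset.HasAntidiagonal.antidiagonal p).filter
        (fun k => 0 < k.1 ∧ 0 < k.2), F k := by
  classical
  rw [← Finset.sum_filter_add_sum_filter_not (Finset.HasAntidiagonal.antidiagonal p)
    (fun k => 0 < k.1 ∧ 0 < k.2), add_comm]
  congr 1
  have : (Finset.HasAntidiagonal.antidiagonal p).filter (fun k => ¬ (0 < k.1 ∧ 0 < k.2)) =
      {(p, 0), (0, p)} := by
    ext ⟨i, j⟩
    simp only [mem_filter, Finset.HasAntidiagonal.mem_antidiagonal, mem_insert, mem_singleton,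
      Prod.mk.injEq]
    omega
  rw [this, Finset.sum_pair]
  intro h
  exact hp (Prod.mk.inj h).1

/-- Leibniz rule for the `p`-th power in characteristic `p`. -/
theorem IsOre.pow_char_mul (p : ℕ) [Fact p.Prime] [CharP B p] (h : IsOre ι θ N) (b : B) :
    N ^ p * ι b = ι b * N ^ p + ι (θ^[p] b) := by
  have hp : p.Prime := Fact.out
  rw [h.pow_mul p b, sum_antidiagonal_ends p hp.ne_zero]
  simp only [Nat.choose_self, Nat.choose_zero_right, one_smul, pow_zero, mul_one,
    Function.iterate_zero, id_eq]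
  rw [add_comm (ι (θ^[p] b)), add_eq_left]
  refine Finset.sum_eq_zero fun ij hij => ?_
  rw [Finset.mem_filter, Finset.HasAntidiagonal.mem_antidiagonal] at hij
  obtain ⟨hij, h1, h2⟩ := hij
  have hdvd : p ∣ p.choose ij.1 := hp.dvd_choose_self (by omega) (by omega)
  rw [← smul_mul_assoc, ← map_nsmul, nsmul_eq_mul, (CharP.cast_eq_zero_iff B p _).mpr hdvd,
    zero_mul, map_zero, zero_mul]

end

section Coef

variable {B : Type*} [CommRing B]

/-- the universal coefficients of `(f N)^k = ∑ c_{k,i} N^i` -/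
def coef (θ : B → B) (f : B) : ℕ → ℕ → B
  | 0, 0 => 1
  | 0, _ + 1 => 0
  | k + 1, 0 => f * θ (coef θ f k 0)
  | k + 1, i + 1 => f * (coef θ f k i + θ (coef θ f k (i + 1)))

variable {θ : B → B} (f : B)

theorem coef_eq_zero (h0 : θ 0 = 0) {k i : ℕ} (hki : k < i) : coef θ f k i = 0 := by
  induction k generalizing i with
  | zero =>
    obtain ⟨j, rfl⟩ := Nat.exists_eq_succ_of_ne_zero (by omega : i ≠ 0)
    rfl
  | succ k ih =>
    obtain ⟨j, rfl⟩ := Nat.exists_eq_succ_of_ne_zero (by omega : i ≠ 0)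
    rw [coef, ih (by omega : k < j), ih (by omega : k < j + 1), h0, add_zero, mul_zero]

theorem coef_self (h0 : θ 0 = 0) (k : ℕ) : coef θ f k k = f ^ k := by
  induction k with
  | zero => rw [coef, pow_zero]
  | succ k ih =>
    rw [coef, ih, coef_eq_zero f h0 (Nat.lt_succ_self k), h0, add_zero, pow_succ, mul_comm]

theorem coef_succ_zero (h0 : θ 0 = 0) (h1 : θ 1 = 0) (k : ℕ) : coef θ f (k + 1) 0 = 0 := by
  induction k with
  | zero => rw [coef, coef, h1, mul_zero]
  | succ k ih => rw [coef, ih, h0, mul_zero]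

theorem coef_map {B' : Type*} [CommRing B'] (φ : B →+* B') {θ' : B' → B'}
    (hφ : ∀ b, θ' (φ b) = φ (θ b)) (k i : ℕ) :
    coef θ' (φ f) k i = φ (coef θ f k i) := by
  induction k generalizing i with
  | zero =>
    cases i with
    | zero => simp [coef]
    | succ j => simp [coef]
  | succ k ih =>
    cases i with
    | zero => rw [coef, coef, ih, hφ, map_mul]
    | succ j => rw [coef, coef, ih, ih, hφ, map_mul, map_add]

variable {E : Type*} [Ring E] {ι : B →+* E} {N : E}

theorem IsOre.mul_pow (h : IsOre ι θ N) (h0 : θ 0 = 0) (k : ℕ) :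
    (ι f * N) ^ k = ∑ i ∈ range (k + 1), ι (coef θ f k i) * N ^ i := by
  induction k with
  | zero => simp [coef]
  | succ k ih =>
    have e1 : (ι f * N) ^ (k + 1) = ∑ i ∈ range (k + 1), ι (f * coef θ f k i) * N ^ (i + 1) +
        ∑ i ∈ range (k + 1), ι (f * θ (coef θ f k i)) * N ^ i := by
      rw [pow_succ', ih, Finset.mul_sum, ← Finset.sum_add_distrib]
      refine Finset.sum_congr rfl fun i _ => ?_
      rw [mul_assoc, ← mul_assoc N, h, add_mul, mul_add, map_mul, map_mul, pow_succ']
      simp only [mul_assoc]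
    have e2 : ∑ i ∈ range (k + 1), ι (f * θ (coef θ f k i)) * N ^ i =
        ∑ i ∈ range (k + 1), ι (f * θ (coef θ f k (i + 1))) * N ^ (i + 1) +
          ι (f * θ (coef θ f k 0)) := by
      have := Finset.sum_range_succ' (fun i => ι (f * θ (coef θ f k i)) * N ^ i) (k + 1)
      rw [Finset.sum_range_succ, coef_eq_zero f h0 (Nat.lt_succ_self k), h0, mul_zero, map_zero,
        zero_mul, add_zero] at this
      rw [this, pow_zero, mul_one]
    rw [e1, e2, Finset.sum_range_succ' _ (k + 1), ← add_assoc, ← Finset.sum_add_distrib]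
    congr 1
    · refine Finset.sum_congr rfl fun i _ => ?_
      rw [coef, ← add_mul, ← map_add, mul_add]
    · rw [coef, pow_zero, mul_one]

end Coef

end Groth.Agent.Lib.helper10.OreA
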