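import Groth.Agent.Lib.helper10.OreA

set_option autoImplicit false
set_option maxHeartbeats 800000

/-!
# Hochschild's formula `(f N)^p = f^p N^p + (f θ)^{p-1}(f) N` in characteristic `p`
-/

namespace Groth.Agent.Lib.helper10.OreB

open Polynomial Groth.Agent.Lib.helper10.OreA

section EndTriple

variable {R : Type*} [CommRing R]

/-- the triple `(End_ℤ R, multiplication, d)` for a derivation `d` of `R` -/
theorem isOre_end (d : Derivation ℤ R R) :
    IsOre (Module.toModuleEnd ℤ (S := R) R) (⇑d) (d : R →ₗ[ℤ] R) := by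
  intro b
  apply LinearMap.ext
  intro v
  simp only [Module.End.mul_apply, Module.toModuleEnd_apply, DistribSMul.toLinearMap_apply,
    Derivation.coeFn_coe, Derivation.leibniz, smul_eq_mul, LinearMap.add_apply]
  ring

theorem iterate_d_pow (d : Derivation ℤ R R) (x : R) (hx : d x = 1) (m i : ℕ) :
    (⇑d)^[i] (x ^ m) = ((m.descFactorial i : ℕ) : R) * x ^ (m - i) := by
  induction i with
  | zero => simp
  | succ i ih =>
    rw [Function.iterate_succ_apply', ih, Derivation.leibniz, Derivation.leibniz_pow, hx,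
      Derivation.map_natCast, smul_zero, add_zero, Nat.descFactorial_succ]
    simp only [smul_eq_mul, nsmul_eq_mul, mul_one]
    push_cast
    rw [show m - (i + 1) = m - i - 1 by omega]
    ring

/-- the middle coefficients of `(f N)^p` vanish: generic model -/
theorem coef_prime_eq_zero_aux {B : Type*} [CommRing B] (p : ℕ) [Fact p.Prime] [CharP B p]
    [CharP R p] (θ : B → B) (d : Derivation ℤ R R) (φ : B →+* R) (hφ : ∀ b, d (φ b) = φ (θ b))
    (x : R) (hx : d x = 1) (ε : R →+ B) (hε : ∀ b, ε (φ b) = b) (hεx : ∀ r, ε (x * r) = 0)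
    (f : B) (m : ℕ) (h2 : 2 ≤ m) (hm : m < p) : coef θ f p m = 0 := by
  have hp : p.Prime := Fact.out
  have hOre := isOre_end d
  have hOre2 := hOre.smul (φ f)
  have h1 := hOre.mul_pow (φ f) (map_zero d) p
  have hcoef : ∀ i, coef (⇑d) (φ f) p i = φ (coef θ f p i) :=
    fun i => coef_map f φ hφ p i
  have h4 := hOre2.pow_char_mul p x
  generalize hD : (Module.toModuleEnd ℤ (S := R) R) (φ f) * (d : R →ₗ[ℤ] R) = D at h1 h4
  have h5 := congrArg (fun T : Module.End ℤ R => ε (T (x ^ (m - 1)))) h4
  simp only [Module.End.mul_apply, Module.toModuleEnd_apply, DistribSMul.toLinearMap_apply,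
    smul_eq_mul, LinearMap.add_apply, map_add, hεx, zero_add] at h5
  rw [← pow_succ', show m - 1 + 1 = m by omega] at h5
  have h6 : ∀ w : R, ε (w * x ^ (m - 1)) = 0 := by
    intro w
    rw [show m - 1 = (m - 2) + 1 by omega, pow_succ', ← mul_assoc, mul_comm w x, mul_assoc, hεx]
  rw [h6, h1] at h5
  simp only [LinearMap.sum_apply, Module.End.mul_apply, Module.toModuleEnd_apply,
    DistribSMul.toLinearMap_apply, smul_eq_mul, Module.End.pow_apply, Derivation.coeFn_coe,
    iterate_d_pow d x hx, hcoef, map_sum] at h5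
  rw [Finset.sum_eq_single m] at h5
  · rw [Nat.sub_self, pow_zero, mul_one, Nat.descFactorial_self, ← map_natCast φ, ← map_mul,
      hε] at h5
    have hu : IsUnit ((m.factorial : ℕ) : B) :=
      (CharP.isUnit_natCast_iff hp).mpr (fun h => by
        have := (hp.dvd_factorial).mp h
        omega)
    exact (hu.mul_left_eq_zero).mp h5
  · intro i _ hi
    rcases lt_or_gt_of_ne hi with h | h
    · rw [show m - i = (m - i - 1) + 1 by omega, pow_succ', ← mul_assoc, ← mul_assoc,
        mul_comm _ x, mul_assoc, hεx]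
    · rw [Nat.descFactorial_eq_zero_iff_lt.mpr h, Nat.cast_zero, zero_mul, mul_zero, map_zero]
  · intro h
    exact absurd (Finset.mem_range.mpr (by omega)) h

end EndTriple

section Model

variable {B : Type*} [CommRing B] (θ : Derivation ℤ B B)

/-- the derivation of `B[X]` extending `θ` with `X ↦ 1` -/
noncomputable def dX : Derivation ℤ B[X] B[X] :=
  letI : Differential B := ⟨θ⟩
  Differential.implicitDeriv (1 : B[X])

theorem dX_C (b : B) : dX θ (C b) = C (θ b) := by
  letI : Differential B := ⟨θ⟩
  exact Differential.implicitDeriv_C 1 b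

theorem dX_X : dX θ (X : B[X]) = 1 := by
  letI : Differential B := ⟨θ⟩
  exact Differential.implicitDeriv_X 1

/-- the middle coefficients of `(f N)^p` vanish -/
theorem coef_prime_eq_zero (p : ℕ) [Fact p.Prime] [CharP B p] (f : B) (m : ℕ) (h2 : 2 ≤ m)
    (hm : m < p) : coef (⇑θ) f p m = 0 :=
  coef_prime_eq_zero_aux p (⇑θ) (dX θ) (C : B →+* B[X]) (dX_C θ) X (dX_X θ)
    ((lcoeff B 0).toAddMonoidHom) (fun b => coeff_C_zero) (fun r => coeff_X_mul_zero r) f m h2 hm

end Model

section Hochschild

variable {B : Type*} [CommRing B] (θ : Derivation ℤ B B) {E : Type*} [Ring E] {ι : B →+* E}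
  {N : E}

/-- Hochschild's formula -/
theorem hochschild (p : ℕ) [Fact p.Prime] [CharP B p] (h : IsOre ι (⇑θ) N) (f : B) :
    (ι f * N) ^ p = ι (f ^ p) * N ^ p + ι (coef (⇑θ) f p 1) * N := by
  have hp : p.Prime := Fact.out
  rw [h.mul_pow f (map_zero θ) p,
    Finset.sum_eq_add (p : ℕ) 1 (hp.one_lt.ne')]
  · rw [coef_self f (map_zero θ), pow_one]
  · intro i hi hne
    rcases Nat.eq_zero_or_pos i with h0 | h0
    · subst h0
      obtain ⟨q, hq⟩ := Nat.exists_eq_succ_of_ne_zero hp.ne_zero
      rw [hq, coef_succ_zero f (map_zero θ) (Derivation.map_one_eq_zero θ), map_zero, zero_mul]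
    · have hi' := Finset.mem_range.mp hi
      rw [coef_prime_eq_zero θ p f i (by omega) (by omega), map_zero, zero_mul]
  · intro h'
    exact absurd (Finset.mem_range.mpr (Nat.lt_succ_self p)) h'
  · intro h'
    exact absurd (Finset.mem_range.mpr (by have := hp.one_lt; omega)) h'

end Hochschild

end Groth.Agent.Lib.helper10.OreB
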