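import Mathlib
import Groth.Agent.Lib.Helper16.TorAmp2

set_option maxHeartbeats 400000
set_option autoImplicit false
universe u
open TensorProduct

namespace H10S7766

section Univariate

open Polynomial

variable {R : Type*} [CommRing R]

/-- Family version of McCoy's theorem. -/
theorem eq_zero_of_forall_mul_eq_zero_of_smul {ι : Type*} (P : ι → R[X])
    (h : ∀ r : R, (∀ k, r • P k = 0) → r = 0) (Q : R[X])
    (hQ : ∀ k, P k * Q = 0) : Q = 0 := by
  suffices ∀ k i, (P k).coeff i • Q = 0 by
    rw [← leadingCoeff_eq_zero]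
    apply h
    intro k
    simpa [Polynomial.ext_iff, mul_comm Q.leadingCoeff] using
      fun i ↦ congr_arg (·.coeff Q.natDegree) (this k i)
  intro k
  apply Nat.strong_decreasing_induction
  · use (P k).natDegree
    intro i hi
    rw [coeff_eq_zero_of_natDegree_lt hi, zero_smul]
  intro l IH
  obtain _ | hl := (natDegree_smul_le ((P k).coeff l) Q).lt_or_eq
  · apply eq_zero_of_forall_mul_eq_zero_of_smul P h ((P k).coeff l • Q)
    intro k'
    rw [smul_eq_C_mul, mul_left_comm, hQ, mul_zero]
  suffices (P k).coeff l * Q.leadingCoeff = 0 by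
    rwa [← leadingCoeff_eq_zero, ← coeff_natDegree, coeff_smul, hl, coeff_natDegree, smul_eq_mul]
  let m := Q.natDegree
  suffices (P k * Q).coeff (l + m) = (P k).coeff l * Q.leadingCoeff by
    rw [← this, hQ, coeff_zero]
  rw [coeff_mul]
  apply Finset.sum_eq_single (l, m) _ (by simp)
  simp only [ne_eq, Prod.forall, Prod.mk.injEq, not_and]
  intro i j hij H
  rw [Finset.HasAntidiagonal.mem_antidiagonal] at hij
  obtain hi | rfl | hi := lt_trichotomy i l
  · have hj : m < j := by lia
    rw [coeff_eq_zero_of_natDegree_lt hj, mul_zero]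
  · lia
  · rw [← coeff_C_mul, ← smul_eq_C_mul, IH _ hi, coeff_zero]
termination_by Q.natDegree

end Univariate

open MvPolynomial

variable {A : Type u} [CommRing A]

/-- Family version of McCoy's theorem for multivariate polynomials. -/
theorem mv_fam (n : ℕ) : ∀ (ι : Type) (f : ι → MvPolynomial (Fin n) A),
    (∀ a : A, (∀ k, a • f k = 0) → a = 0) →
    ∀ g : MvPolynomial (Fin n) A, (∀ k, f k * g = 0) → g = 0 := by
  induction n with
  | zero =>
    intro ι f hf g hg
    rw [MvPolynomial.eq_C_of_isEmpty g] at hg ⊢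
    have : g.coeff 0 = 0 := by
      apply hf
      intro k
      rw [MvPolynomial.smul_eq_C_mul, mul_comm]
      exact hg k
    rw [this, map_zero]
  | succ n ih =>
    intro ι f hf g hg
    let e := MvPolynomial.finSuccEquiv A n
    have hG : e g = 0 := by
      apply eq_zero_of_forall_mul_eq_zero_of_smul (fun k => e (f k))
      · intro b hb
        apply ih (ι × ℕ) (fun kj => (e (f kj.1)).coeff kj.2)
        · intro a ha
          apply hf
          intro k
          apply e.injective
          rw [map_smul, map_zero]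
          ext1 j
          rw [Polynomial.coeff_smul, Polynomial.coeff_zero]
          exact ha (k, j)
        · rintro ⟨k, j⟩
          have := congrArg (fun p => Polynomial.coeff p j) (hb k)
          simp only [Polynomial.coeff_smul, Polynomial.coeff_zero, smul_eq_mul] at this
          rw [mul_comm]
          exact this
      · intro k
        show e (f k) * e g = 0
        rw [← map_mul, hg k, map_zero]
    exact e.injective (by rw [hG, map_zero])

theorem nzd_of_primitive (n : ℕ) (f : MvPolynomial (Fin n) A)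
    (hf : Ideal.span (Set.range f.coeff) = ⊤) (g : MvPolynomial (Fin n) A)
    (hg : f * g = 0) : g = 0 := by
  apply mv_fam n Unit (fun _ => f) _ g (fun _ => hg)
  intro a ha
  have h1 : ∀ x ∈ Ideal.span (Set.range f.coeff), a * x = 0 := by
    intro x hx
    induction hx using Submodule.span_induction with
    | mem y hy =>
      obtain ⟨m, rfl⟩ := hy
      have := congrArg (MvPolynomial.coeff m) (ha ())
      simpa using this
    | zero => simp
    | add y z _ _ hy hz => rw [mul_add, hy, hz, add_zero]
    | smul r y _ hy => rw [smul_eq_mul, mul_left_comm, hy, mul_zero]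
  have := h1 1 (hf ▸ Submodule.mem_top)
  simpa using this


section Flat

variable (n : ℕ) (f : MvPolynomial (Fin n) A) (hf : Ideal.span (Set.range f.coeff) = ⊤)

/-- coefficients of elements of `I • ⊤` lie in `I` -/
theorem coeff_mem_of_mem_smul_top (I : Ideal A) (x : MvPolynomial (Fin n) A)
    (hx : x ∈ (I • ⊤ : Submodule A (MvPolynomial (Fin n) A))) (m : Fin n →₀ ℕ) :
    x.coeff m ∈ I := by
  refine Submodule.smul_induction_on hx ?_ ?_
  · intro a ha p _
    rw [MvPolynomial.coeff_smul]
    exact I.mul_mem_right _ ha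
  · intro y z hy hz
    rw [MvPolynomial.coeff_add]
    exact I.add_mem hy hz

theorem mem_smul_top_of_coeff_mem (I : Ideal A) (x : MvPolynomial (Fin n) A)
    (hx : ∀ m, x.coeff m ∈ I) : x ∈ (I • ⊤ : Submodule A (MvPolynomial (Fin n) A)) := by
  rw [x.as_sum]
  refine Submodule.sum_mem _ fun m _ => ?_
  have : MvPolynomial.monomial m (x.coeff m) = x.coeff m • MvPolynomial.monomial m (1 : A) := by
    rw [MvPolynomial.smul_monomial, smul_eq_mul, mul_one]
  rw [this]
  exact Submodule.smul_mem_smul (hx m) Submodule.mem_top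

include hf in
theorem mem_smul_top_of_mul_mem (I : Ideal A) (g : MvPolynomial (Fin n) A)
    (h : f * g ∈ (I • ⊤ : Submodule A (MvPolynomial (Fin n) A))) :
    g ∈ (I • ⊤ : Submodule A (MvPolynomial (Fin n) A)) := by
  apply mem_smul_top_of_coeff_mem
  let φ := MvPolynomial.map (σ := Fin n) (Ideal.Quotient.mk I)
  have h1 : φ f * φ g = 0 := by
    rw [← map_mul]
    ext m
    rw [MvPolynomial.coeff_map, MvPolynomial.coeff_zero, Ideal.Quotient.eq_zero_iff_mem]
    exact coeff_mem_of_mem_smul_top n I _ h m
  have hprim : Ideal.span (Set.range (φ f).coeff) = ⊤ := by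
    have : Set.range (φ f).coeff = (Ideal.Quotient.mk I) '' Set.range f.coeff := by
      ext y
      simp only [Set.mem_range, Set.mem_image, exists_exists_eq_and]
      constructor
      · rintro ⟨m, rfl⟩
        exact ⟨m, (MvPolynomial.coeff_map _ _ _).symm⟩
      · rintro ⟨m, rfl⟩
        exact ⟨m, MvPolynomial.coeff_map _ _ _⟩
    rw [this, ← Ideal.map_span, hf, Ideal.map_top]
  have h2 := nzd_of_primitive n (φ f) hprim (φ g) h1
  intro m
  have := congrArg (MvPolynomial.coeff m) h2
  rw [MvPolynomial.coeff_map, MvPolynomial.coeff_zero, Ideal.Quotient.eq_zero_iff_mem] at this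
  exact this

/-- the ideal `(f)` as an `A`-submodule -/
noncomputable abbrev Z : Submodule A (MvPolynomial (Fin n) A) :=
  (Ideal.span ({f} : Set (MvPolynomial (Fin n) A))).restrictScalars A

theorem mul_mem_Z (p : MvPolynomial (Fin n) A) : f * p ∈ Z n f :=
  Ideal.mul_mem_right _ _ (Ideal.subset_span rfl)

/-- `p ↦ (f p) ⊗ 1` -/
noncomputable def μ (I : Ideal A) : MvPolynomial (Fin n) A →ₗ[A] (Z n f) ⊗[A] (A ⧸ I) where
  toFun p := (⟨f * p, mul_mem_Z n f p⟩ : Z n f) ⊗ₜ[A] (1 : A ⧸ I)
  map_add' p q := by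
    rw [← TensorProduct.add_tmul]
    congr 1
    ext1
    simp [mul_add]
  map_smul' a p := by
    rw [RingHom.id_apply, TensorProduct.smul_tmul']
    congr 1
    ext1
    simp

theorem μ_eq_zero (I : Ideal A) (g : MvPolynomial (Fin n) A)
    (hg : g ∈ (I • ⊤ : Submodule A (MvPolynomial (Fin n) A))) : μ n f I g = 0 := by
  have : (I • ⊤ : Submodule A (MvPolynomial (Fin n) A)) ≤ LinearMap.ker (μ n f I) := by
    rw [Submodule.smul_le]
    intro a ha p _
    rw [LinearMap.mem_ker, map_smul]
    show a • ((⟨f * p, mul_mem_Z n f p⟩ : Z n f) ⊗ₜ[A] (1 : A ⧸ I)) = 0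
    rw [TensorProduct.smul_tmul', TensorProduct.smul_tmul, ← Algebra.algebraMap_eq_smul_one,
      Ideal.Quotient.algebraMap_eq, Ideal.Quotient.eq_zero_iff_mem.2 ha, TensorProduct.tmul_zero]
  exact this hg

include hf in
theorem rTensor_injective (I : Ideal A) :
    Function.Injective ((Z n f).subtype.rTensor (A ⧸ I)) := by
  rw [injective_iff_map_eq_zero]
  -- z = z₀ ⊗ 1
  have h1 : ∀ z : (Z n f) ⊗[A] (A ⧸ I), ∃ z₀ : Z n f, z = z₀ ⊗ₜ[A] (1 : A ⧸ I) := by
    intro z
    induction z using TensorProduct.induction_on with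
    | zero => exact ⟨0, (TensorProduct.zero_tmul _ _).symm⟩
    | tmul x a =>
      obtain ⟨a, rfl⟩ := Ideal.Quotient.mk_surjective a
      refine ⟨a • x, ?_⟩
      rw [TensorProduct.smul_tmul, ← Algebra.algebraMap_eq_smul_one, Ideal.Quotient.algebraMap_eq]
    | add x y hx hy =>
      obtain ⟨x₀, rfl⟩ := hx
      obtain ⟨y₀, rfl⟩ := hy
      exact ⟨x₀ + y₀, (TensorProduct.add_tmul _ _ _).symm⟩
  intro z hz
  obtain ⟨z₀, rfl⟩ := h1 z
  obtain ⟨g, hg⟩ := Ideal.mem_span_singleton'.1 z₀.2
  have hz' : (TensorProduct.tensorQuotEquivQuotSMul (MvPolynomial (Fin n) A) I)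
      (((Z n f).subtype.rTensor (A ⧸ I)) (z₀ ⊗ₜ[A] (1 : A ⧸ I))) = 0 := by
    rw [hz, map_zero]
  rw [LinearMap.rTensor_tmul, Submodule.subtype_apply, ← map_one (Ideal.Quotient.mk I),
    TensorProduct.tensorQuotEquivQuotSMul_tmul_mk, one_smul, Submodule.Quotient.mk_eq_zero,
    ← hg, mul_comm] at hz'
  have hgI := mem_smul_top_of_mul_mem n f hf I g hz'
  have : z₀ = ⟨f * g, mul_mem_Z n f g⟩ := by
    ext1
    rw [← hg, mul_comm]
  rw [this]
  exact μ_eq_zero n f I g hgI

include hf in
theorem main :
    f ∈ nonZeroDivisors (MvPolynomial (Fin n) A) ∧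
      Module.Flat A (MvPolynomial (Fin n) A ⧸ Ideal.span ({f} : Set (MvPolynomial (Fin n) A))) := by
  constructor
  · rw [mem_nonZeroDivisors_iff_left]
    exact fun g hg => nzd_of_primitive n f hf g hg
  · have h1 : Module.Flat A (MvPolynomial (Fin n) A ⧸ Z n f) :=
      Groth.Agent.Lib.Helper16.TorAmp.flat_quotient_of_rTensor_injective (Z n f)
        (fun I => rTensor_injective n f hf I)
    exact Module.Flat.of_linearEquiv
      (Submodule.Quotient.restrictScalarsEquiv A
        (Ideal.span ({f} : Set (MvPolynomial (Fin n) A)))).symm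

end Flat

end H10S7766
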