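import Mathlib

open CategoryTheory ProfiniteGrp ProfiniteGrp.ProfiniteCompletion

universe u

namespace Groth.Agent.Lib.helper10.ProCompl

variable {G G' : GrpCat.{u}}

/-- coordinate of the completion -/
def coord (H : FiniteIndexNormalSubgroup G) (x : completion G) : (diagram G).obj H := x.1 H

lemma continuous_coord (H : FiniteIndexNormalSubgroup G) : Continuous (coord H) :=
  (continuous_apply H).comp continuous_subtype_val

instance (H : FiniteIndexNormalSubgroup G) : DiscreteTopology ((diagram G).obj H) := ⟨rfl⟩

lemma coord_eta (H : FiniteIndexNormalSubgroup G) (g : G) :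
    coord H (eta G g) = (QuotientGroup.mk g : G ⧸ H.toSubgroup) := rfl

lemma coord_compat {H K : FiniteIndexNormalSubgroup G} (h : H ≤ K) (x : completion G) :
    QuotientGroup.map H.toSubgroup K.toSubgroup (MonoidHom.id _) h (coord H x) = coord K x :=
  x.2 (homOfLE h)

lemma map_eta (f : G ⟶ G') (g : G) :
    (profiniteCompletion.map f).hom (eta G g) = eta G' (f g) := by
  have := lift_eta (f ≫ eta G')
  exact ConcreteCategory.congr_hom this g

lemma coord_ext {x y : completion G} (h : ∀ H, coord H x = coord H y) : x = y :=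
  Subtype.ext (funext h)

lemma coord_one (H : FiniteIndexNormalSubgroup G) : coord H (1 : completion G) = (1 : G ⧸ H.toSubgroup) := rfl

/-- the induced map on finite quotients, typed in the diagram -/
def qmap (f : G ⟶ G') (H' : FiniteIndexNormalSubgroup G') :
    (diagram G).obj (H'.comap f.hom) → (diagram G').obj H' :=
  QuotientGroup.map (H'.comap f.hom).toSubgroup H'.toSubgroup f.hom (fun _ h => h)

/-- the coordinate formula for the functorial map -/
lemma coord_map (f : G ⟶ G') (H' : FiniteIndexNormalSubgroup G') (x : completion G) :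
    coord H' ((profiniteCompletion.map f).hom x) =
      QuotientGroup.map (H'.comap f.hom).toSubgroup H'.toSubgroup f.hom (fun _ h => h)
        (coord (H'.comap f.hom) x) := by
  have key : (fun x => coord H' ((profiniteCompletion.map f).hom x)) =
      (fun x => qmap f H' (coord (H'.comap f.hom) x)) := by
    refine (denseRange G).equalizer ?_ ?_ ?_
    · exact (continuous_coord H').comp (profiniteCompletion.map f).hom.continuous_toFun
    · exact (continuous_of_discreteTopology (f := qmap f H')).comp (continuous_coord _)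
    · funext g
      show coord H' ((profiniteCompletion.map f).hom (eta G g)) = _
      rw [map_eta]
      rfl
  exact congrFun key x

lemma exists_lb (J : Finset (FiniteIndexNormalSubgroup G)) : ∃ M, ∀ j ∈ J, M ≤ j := by
  classical
  induction J using Finset.induction_on with
  | empty => exact ⟨FiniteIndexNormalSubgroup.ofSubgroup ⊤, by simp⟩
  | insert a s _ ih =>
    obtain ⟨M, hM⟩ := ih
    refine ⟨M ⊓ a, ?_⟩
    intro j hj
    rcases Finset.mem_insert.mp hj with rfl | hj
    · exact inf_le_right
    · exact inf_le_left.trans (hM j hj)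

lemma mem_closure_of_coord (S : Set (completion G)) (x : completion G)
    (h : ∀ H, ∃ s ∈ S, coord H s = coord H x) : x ∈ closure S := by
  rw [mem_closure_iff]
  rintro o ho hxo
  obtain ⟨s, hs, rfl⟩ := isOpen_induced_iff.mp ho
  obtain ⟨J, u, hu, hJ⟩ := isOpen_pi_iff.mp hs x.1 hxo
  obtain ⟨M, hM⟩ := exists_lb J
  obtain ⟨s₀, hs₀, hs₀x⟩ := h M
  refine ⟨s₀, ?_, hs₀⟩
  apply hJ
  intro j hj
  have : s₀.1 j = x.1 j := by
    have h1 := coord_compat (hM j hj) s₀
    have h2 := coord_compat (hM j hj) x
    rw [hs₀x] at h1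
    exact h1.symm.trans h2
  rw [this]
  exact (hu j hj).2

lemma isClosed_range_map (f : G ⟶ G') :
    IsClosed (Set.range (profiniteCompletion.map f).hom) :=
  (isCompact_range (profiniteCompletion.map f).hom.continuous_toFun).isClosed

theorem surjective_map (f : G ⟶ G') (hf : Function.Surjective f.hom) :
    Function.Surjective (profiniteCompletion.map f).hom := by
  have hd : Dense (Set.range (profiniteCompletion.map f).hom) := by
    refine (denseRange G').mono ?_
    rintro _ ⟨g', rfl⟩
    obtain ⟨g, rfl⟩ := hf g'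
    exact ⟨eta G g, map_eta f g⟩
  rw [← Set.range_eq_univ, ← (isClosed_range_map f).closure_eq, hd.closure_eq]

section RightExact

variable (A : Type u) [CommGroup A] (A' : Subgroup A)

/-- the quotient morphism -/
abbrev qHom : GrpCat.of A ⟶ GrpCat.of (A ⧸ A') := GrpCat.ofHom (QuotientGroup.mk' A')
/-- the inclusion morphism -/
abbrev iHom : GrpCat.of A' ⟶ GrpCat.of A := GrpCat.ofHom A'.subtype

lemma map_q_map_i (y : completion (GrpCat.of A')) :
    (profiniteCompletion.map (qHom A A')).hom ((profiniteCompletion.map (iHom A A')).hom y) = 1 := by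
  apply coord_ext
  intro H''
  rw [coord_map, coord_map]
  obtain ⟨b, hb⟩ := QuotientGroup.mk_surjective
    (coord (FiniteIndexNormalSubgroup.comap (iHom A A').hom
      (FiniteIndexNormalSubgroup.comap (qHom A A').hom H'')) y)
  rw [← hb]
  rw [QuotientGroup.map_mk, QuotientGroup.map_mk]
  have : (qHom A A').hom ((iHom A A').hom b) = 1 := by
    show (QuotientGroup.mk (b : A) : A ⧸ A') = 1
    rw [QuotientGroup.eq_one_iff]
    exact b.2
  rw [this]
  rfl

theorem ker_eq_range :
    (profiniteCompletion.map (qHom A A')).hom.toMonoidHom.ker =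
      (profiniteCompletion.map (iHom A A')).hom.toMonoidHom.range := by
  ext x
  constructor
  · intro hx
    have hx1 : (profiniteCompletion.map (qHom A A')).hom x = 1 := hx
    have hcl := isClosed_range_map (iHom A A')
    suffices h : x ∈ Set.range (profiniteCompletion.map (iHom A A')).hom by
      obtain ⟨y, hy⟩ := h
      exact ⟨y, hy⟩
    rw [← hcl.closure_eq]
    apply mem_closure_of_coord
    intro H
    have hfi : (H.toSubgroup.map (QuotientGroup.mk' A')).FiniteIndex := by
      refine ⟨fun h0 => ?_⟩
      have := Subgroup.index_map_dvd H.toSubgroup (QuotientGroup.mk'_surjective A')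
      rw [h0, zero_dvd_iff] at this
      exact H.isFiniteIndex'.index_ne_zero this
    let H'' : FiniteIndexNormalSubgroup (GrpCat.of (A ⧸ A')) :=
      FiniteIndexNormalSubgroup.ofSubgroup (H.toSubgroup.map (QuotientGroup.mk' A'))
    have hle : H ≤ FiniteIndexNormalSubgroup.comap (qHom A A').hom H'' := by
      intro a ha
      exact ⟨a, ha, rfl⟩
    obtain ⟨a, ha⟩ := QuotientGroup.mk_surjective (coord H x)
    have h1 : coord H'' ((profiniteCompletion.map (qHom A A')).hom x) = (1 : (A ⧸ A') ⧸ H''.toSubgroup) := by
      rw [hx1]; rfl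
    rw [coord_map, ← coord_compat hle x, ← ha, QuotientGroup.map_mk, QuotientGroup.map_mk] at h1
    have h2 : (QuotientGroup.mk (QuotientGroup.mk a : A ⧸ A') :
        (A ⧸ A') ⧸ (H.toSubgroup.map (QuotientGroup.mk' A'))) = 1 := h1
    rw [QuotientGroup.eq_one_iff] at h2
    obtain ⟨h, hh, hha⟩ := h2
    have ha' : h⁻¹ * a ∈ A' := by
      have : (QuotientGroup.mk h : A ⧸ A') = QuotientGroup.mk a := hha
      exact QuotientGroup.eq.mp this
    refine ⟨(profiniteCompletion.map (iHom A A')).hom (eta (GrpCat.of A') ⟨h⁻¹ * a, ha'⟩),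
      ⟨_, rfl⟩, ?_⟩
    rw [map_eta, ← ha]
    show (QuotientGroup.mk (h⁻¹ * a) : A ⧸ H.toSubgroup) = QuotientGroup.mk a
    rw [QuotientGroup.eq]
    have : (h⁻¹ * a)⁻¹ * a = h := by
      rw [mul_inv_rev, inv_inv, mul_comm a⁻¹ h, inv_mul_cancel_right]
    rw [this]
    exact hh
  · rintro ⟨y, rfl⟩
    exact map_q_map_i A A' y

end RightExact

end Groth.Agent.Lib.helper10.ProCompl
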