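import Groth.Agent.Lib.helper10.ProCompl
import Groth.Agent.S13363
import Groth.Agent.S13364

open CategoryTheory ProfiniteGrp ProfiniteGrp.ProfiniteCompletion

universe u

namespace Groth.Agent.Lib.helper10.ProCompl

section Inj

variable {A : Type u} [CommGroup A] (A' : Subgroup A)

/-- no nontrivial divisible elements in an extension of such a group by a finite group -/
lemma no_divisible_quotient (K₁ : Subgroup A) (hK₁le : K₁ ≤ A') [hK : (K₁.subgroupOf A').FiniteIndex]
    (hdiv : ∀ x : A ⧸ A', (∀ n : ℕ, 0 < n → ∃ y : A ⧸ A', y ^ n = x) → x = 1)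
    (htors : ∃ N : ℕ, 0 < N ∧ ∀ x : A ⧸ A', IsOfFinOrder x → x ^ N = 1)
    (x : A ⧸ K₁)
    (hx : ∀ n : ℕ, 0 < n → ∃ y : A ⧸ K₁, y ^ n = x) : x = 1 := by
  let φ : A' →* A ⧸ K₁ := (QuotientGroup.mk' K₁).comp A'.subtype
  have hφker : φ.ker = K₁.subgroupOf A' := by
    ext b
    rw [MonoidHom.mem_ker, Subgroup.mem_subgroupOf]
    show (QuotientGroup.mk (b : A) : A ⧸ K₁) = 1 ↔ _
    rw [QuotientGroup.eq_one_iff]
  have hfin : Finite φ.range := by
    have : φ.ker.FiniteIndex := by rw [hφker]; exact hK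
    exact Finite.of_equiv _ (QuotientGroup.quotientKerEquivRange φ).toEquiv
  let g : A ⧸ K₁ →* A ⧸ A' := QuotientGroup.map K₁ A' (MonoidHom.id A) hK₁le
  have hgsurj : Function.Surjective g := by
    intro z
    obtain ⟨a, rfl⟩ := QuotientGroup.mk_surjective z
    exact ⟨QuotientGroup.mk a, rfl⟩
  have hgker : g.ker = φ.range := by
    ext z
    obtain ⟨a, rfl⟩ := QuotientGroup.mk_surjective z
    rw [MonoidHom.mem_ker]
    show (QuotientGroup.mk a : A ⧸ A') = 1 ↔ _
    rw [QuotientGroup.eq_one_iff]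
    constructor
    · intro ha
      exact ⟨⟨a, ha⟩, rfl⟩
    · rintro ⟨b, hb⟩
      have : (QuotientGroup.mk (b : A) : A ⧸ K₁) = QuotientGroup.mk a := hb
      rw [QuotientGroup.eq] at this
      have h2 := hK₁le this
      have h3 := A'.mul_mem b.2 h2
      rwa [mul_inv_cancel_left] at h3
  have key := Groth.Agent.S13364.result (A' := Additive φ.range) (A := Additive (A ⧸ K₁))
    (A'' := Additive (A ⧸ A')) (MonoidHom.toAdditive φ.range.subtype) (MonoidHom.toAdditive g)
    (fun a b h => Subtype.ext h) hgsurj ?_ ?_ hdiv ?_ (Additive.ofMul x) hx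
  · exact key
  · ext z
    have := SetLike.ext_iff.mp hgker (Additive.toMul z)
    rw [MonoidHom.mem_ker] at this
    rw [AddMonoidHom.mem_ker, AddMonoidHom.mem_range]
    constructor
    · intro hz
      obtain ⟨b, hb⟩ := this.mp hz
      exact ⟨Additive.ofMul ⟨φ b, b, rfl⟩, hb⟩
    · rintro ⟨c, hc⟩
      apply this.mpr
      rw [← hc]
      exact (Additive.toMul c).2
  · intro c hc
    obtain ⟨y, hy⟩ := hc (Nat.card φ.range) Nat.card_pos
    rw [← hy]
    exact pow_card_eq_one' (G := φ.range) (x := Additive.toMul y)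
  · obtain ⟨N, hN, h⟩ := htors
    refine ⟨N, hN, fun z hz => ?_⟩
    exact h (Additive.toMul z) (isOfFinAddOrder_ofMul_iff.mp hz)

lemma exists_finiteIndex_inf_le (K₁ : Subgroup A) (hK₁le : K₁ ≤ A')
    [hK : (K₁.subgroupOf A').FiniteIndex]
    (hdiv : ∀ x : A ⧸ A', (∀ n : ℕ, 0 < n → ∃ y : A ⧸ A', y ^ n = x) → x = 1)
    (htors : ∃ N : ℕ, 0 < N ∧ ∀ x : A ⧸ A', IsOfFinOrder x → x ^ N = 1) :
    ∃ H : Subgroup A, H.FiniteIndex ∧ H ⊓ A' ≤ K₁ := by
  classical
  let _ : TopologicalSpace (Additive (A ⧸ K₁)) := ⊥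
  have : DiscreteTopology (Additive (A ⧸ K₁)) := ⟨rfl⟩
  have hsep : ∀ a : Additive (A ⧸ K₁), a ≠ 0 →
      ∃ B : AddSubgroup (Additive (A ⧸ K₁)), B.FiniteIndex ∧ a ∉ B := by
    intro a ha
    have := (Groth.Agent.S13363.result (A := Additive (A ⧸ K₁))
      (fun n hn => isOpen_discrete _) a).mpr ?_
    · obtain ⟨B, _, hB, haB⟩ := this
      exact ⟨B, hB, haB⟩
    · intro hdiva
      exact ha (no_divisible_quotient A' K₁ hK₁le hdiv htors (Additive.toMul a) hdiva)
  let φ : A' →* A ⧸ K₁ := (QuotientGroup.mk' K₁).comp A'.subtype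
  have hφker : φ.ker = K₁.subgroupOf A' := by
    ext b
    rw [MonoidHom.mem_ker, Subgroup.mem_subgroupOf]
    show (QuotientGroup.mk (b : A) : A ⧸ K₁) = 1 ↔ _
    rw [QuotientGroup.eq_one_iff]
  have hfin : Finite φ.range := by
    have : φ.ker.FiniteIndex := by rw [hφker]; exact hK
    exact Finite.of_equiv _ (QuotientGroup.quotientKerEquivRange φ).toEquiv
  choose! B hBfin hB using hsep
  let ι := {c : φ.range // (c : A ⧸ K₁) ≠ 1}
  have : Finite ι := Subtype.finite
  let Hbar : AddSubgroup (Additive (A ⧸ K₁)) := ⨅ c : ι, B (Additive.ofMul (c.1 : A ⧸ K₁))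
  have hHbar : Hbar.FiniteIndex := AddSubgroup.finiteIndex_iInf (fun c => hBfin _ c.2)
  refine ⟨(AddSubgroup.toSubgroup' Hbar).comap (QuotientGroup.mk' K₁), ⟨?_⟩, ?_⟩
  · rw [Subgroup.index_comap_of_surjective _ (QuotientGroup.mk'_surjective K₁)]
    exact hHbar.index_ne_zero
  · rintro a ⟨haH, haA'⟩
    by_contra haK
    have hne : (QuotientGroup.mk a : A ⧸ K₁) ≠ 1 := by rwa [Ne, QuotientGroup.eq_one_iff]
    let c : ι := ⟨⟨QuotientGroup.mk a, ⟨⟨a, haA'⟩, rfl⟩⟩, hne⟩
    have h1 : Additive.ofMul (QuotientGroup.mk a : A ⧸ K₁) ∈ Hbar := haH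
    have h2 := (AddSubgroup.mem_iInf.mp h1) c
    exact hB _ hne h2

theorem injective_map_i
    (hdiv : ∀ x : A ⧸ A', (∀ n : ℕ, 0 < n → ∃ y : A ⧸ A', y ^ n = x) → x = 1)
    (htors : ∃ N : ℕ, 0 < N ∧ ∀ x : A ⧸ A', IsOfFinOrder x → x ^ N = 1) :
    Function.Injective (profiniteCompletion.map (iHom A A')).hom := by
  rw [injective_iff_map_eq_one]
  intro y hy
  apply coord_ext
  intro K
  have hKfin : ((K.toSubgroup.map A'.subtype).subgroupOf A').FiniteIndex := by
    have : (K.toSubgroup.map A'.subtype).subgroupOf A' = K.toSubgroup := by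
      ext b
      rw [Subgroup.mem_subgroupOf]
      constructor
      · rintro ⟨c, hc, hcb⟩
        have : c = b := Subtype.ext hcb
        rwa [← this]
      · intro hb
        exact ⟨b, hb, rfl⟩
    rw [this]
    infer_instance
  have hle1 : K.toSubgroup.map A'.subtype ≤ A' := by
    rintro _ ⟨b, _, rfl⟩
    exact b.2
  obtain ⟨H, hH, hHK⟩ := exists_finiteIndex_inf_le A' (K.toSubgroup.map A'.subtype) hle1 hdiv htors
  let H' : FiniteIndexNormalSubgroup (GrpCat.of A) := FiniteIndexNormalSubgroup.ofSubgroup H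
  have hle : FiniteIndexNormalSubgroup.comap (iHom A A').hom H' ≤ K := by
    intro b hb
    have hb1 : (b : A) ∈ H := hb
    obtain ⟨c, hc, hcb⟩ := hHK ⟨hb1, b.2⟩
    have : c = b := Subtype.ext hcb
    rw [← this]
    exact hc
  rw [← coord_compat hle y]
  have h1 : coord H' ((profiniteCompletion.map (iHom A A')).hom y) =
      (1 : A ⧸ H) := by
    rw [hy]; rfl
  rw [coord_map] at h1
  obtain ⟨b, hb⟩ := QuotientGroup.mk_surjective
    (coord (FiniteIndexNormalSubgroup.comap (iHom A A').hom H') y)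
  rw [← hb] at h1 ⊢
  rw [QuotientGroup.map_mk] at h1 ⊢
  have h2 : (QuotientGroup.mk (b : A) : A ⧸ H) = 1 := h1
  rw [QuotientGroup.eq_one_iff] at h2
  have h3 : (QuotientGroup.mk b : A' ⧸ K.toSubgroup) = 1 := by
    rw [QuotientGroup.eq_one_iff]
    exact hle h2
  exact h3

end Inj

end Groth.Agent.Lib.helper10.ProCompl
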