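import Mathlib.RingTheory.Ideal.IdempotentFG
import Mathlib.RingTheory.Finiteness.Projective
import Mathlib.RingTheory.Finiteness.ModuleFinitePresentation
import Mathlib.RingTheory.Flat.EquationalCriterion
import Mathlib.RingTheory.Etale.Basic
import Mathlib.RingTheory.Smooth.Flat
import Mathlib.RingTheory.Spectrum.Prime.FreeLocus
import Mathlib.RingTheory.Localization.Away.Basic

/-!
# Finitely generated projective modules: trace idempotent, annihilator; maps of finite étale algebras

* `exists_idem_trace`: for a finitely generated projective module `M` over a commutative ring `A`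
  there is an idempotent `e` such that every value `φ m` of a linear form lies in `(e)`, `e` itself
  is a finite sum of such values, and the annihilator of `M` is `(1 - e)`.
* `exists_idem_ker`: the kernel of a map of finite étale `R`-algebras is generated by an idempotent.
* `surjective_of_injective_of_rank`: an injective map of finite étale algebras with equal ranks at
  all primes is surjective.
-/

set_option autoImplicit false
set_option linter.style.haveILetI false

namespace Groth.Agent.Lib.helper10.ProjIdem

open Module

section Trace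

variable (A : Type*) [CommRing A] (M : Type*) [AddCommGroup M] [Module A M]
  [Module.Finite A M] [Module.Projective A M]

theorem exists_idem_trace :
    ∃ e : A, IsIdempotentElem e ∧ (∀ (φ : M →ₗ[A] A) (m : M), φ m ∈ Ideal.span {e}) ∧
      (∃ (n : ℕ) (φ : Fin n → (M →ₗ[A] A)) (x : Fin n → M), ∑ i, φ i (x i) = e) ∧
      Module.annihilator A M = Ideal.span {1 - e} := by
  obtain ⟨n, f, g, -, -, hfg⟩ := Module.Finite.exists_comp_eq_id_of_projective A M
  -- dual basis
  let x : Fin n → M := fun i => f (Pi.single i 1)
  let φ : Fin n → (M →ₗ[A] A) := fun i => (LinearMap.proj i).comp g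
  have hsum : ∀ m : M, m = ∑ i, φ i m • x i := by
    intro m
    have h1 : f (g m) = m := LinearMap.congr_fun hfg m
    conv_lhs => rw [← h1]
    have h2 : g m = ∑ i, (g m i) • (Pi.single i (1 : A) : Fin n → A) := by
      funext j
      simp [Finset.sum_apply, Pi.single_apply]
    conv_lhs => rw [h2]
    rw [map_sum]
    refine Finset.sum_congr rfl fun i _ => ?_
    rw [map_smul]
    rfl
  -- trace ideal
  let τ : Ideal A := Ideal.span (Set.range fun p : Fin n × Fin n => φ p.1 (x p.2))
  have hτfg : τ.FG :=
    ⟨(Set.finite_range fun p : Fin n × Fin n => φ p.1 (x p.2)).toFinset, by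
      rw [Set.Finite.coe_toFinset]⟩
  have hmem : ∀ (ψ : M →ₗ[A] A) (m : M), ψ m ∈ τ * τ := by
    intro ψ m
    -- ψ m = ∑ j φ_j(m) ψ(x_j), and φ_j(m) = ∑ k φ_k(m) φ_j(x_k), ψ(x_j) = ∑ k φ_k(x_j) ψ(x_k)
    have h1 : ∀ (ψ' : M →ₗ[A] A) (m' : M), ψ' m' = ∑ j, φ j m' * ψ' (x j) := by
      intro ψ' m'
      conv_lhs => rw [hsum m']
      rw [map_sum]
      refine Finset.sum_congr rfl fun j _ => ?_
      rw [map_smul, smul_eq_mul]
    -- values on x j of φ k lie in τ
    have hφx : ∀ k j, φ k (x j) ∈ τ := fun k j => Ideal.subset_span ⟨(k, j), rfl⟩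
    -- φ j m ∈ τ
    have hφm : ∀ j (m' : M), φ j m' ∈ τ := by
      intro j m'
      rw [h1 (φ j) m']
      exact Ideal.sum_mem _ fun k _ => Ideal.mul_mem_left _ _ (hφx j k)
    -- ψ (x j) ∈ τ for any ψ
    have hψx : ∀ j, ψ (x j) ∈ τ := by
      intro j
      rw [h1 ψ (x j)]
      exact Ideal.sum_mem _ fun k _ => Ideal.mul_mem_right _ _ (hφx k j)
    rw [h1 ψ m]
    exact Ideal.sum_mem _ fun j _ => Ideal.mul_mem_mul (hφm j m) (hψx j)
  have hτ_idem : IsIdempotentElem τ := by
    apply le_antisymm Ideal.mul_le_right
    rw [Ideal.span_le]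
    rintro _ ⟨p, rfl⟩
    exact hmem (φ p.1) (x p.2)
  obtain ⟨e, he, hτe⟩ := (Ideal.isIdempotentElem_iff_of_fg τ hτfg).1 hτ_idem
  have hτe' : τ = Ideal.span {e} := hτe
  refine ⟨e, he, ?_, ?_, ?_⟩
  · intro ψ m
    rw [← hτe']
    exact Ideal.mul_le_right (hmem ψ m)
  · -- e ∈ τ is a combination of the generators
    have hemem : e ∈ τ := by rw [hτe']; exact Ideal.mem_span_singleton_self e
    obtain ⟨c, hc⟩ := (Ideal.mem_span_range_iff_exists_fun (R := A)).1 hemem
    let eqv := (finProdFinEquiv : Fin n × Fin n ≃ Fin (n * n))
    refine ⟨n * n, fun k => c (eqv.symm k) • φ (eqv.symm k).1, fun k => x (eqv.symm k).2, ?_⟩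
    rw [← hc]
    rw [← Equiv.sum_comp eqv]
    refine Finset.sum_congr rfl fun p _ => ?_
    simp [LinearMap.smul_apply]
  · ext a
    rw [Module.mem_annihilator, Ideal.mem_span_singleton']
    constructor
    · intro ha
      have hae : a * e = 0 := by
        have : e ∈ τ := by rw [hτe']; exact Ideal.mem_span_singleton_self e
        -- a kills every generator of τ
        have hkill : ∀ t ∈ τ, a * t = 0 := by
          intro t ht
          refine Submodule.span_induction ?_ ?_ ?_ ?_ ht
          · rintro _ ⟨p, rfl⟩
            rw [← smul_eq_mul, ← map_smul, ha, map_zero]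
          · simp
          · intro u v _ _ hu hv; rw [mul_add, hu, hv, add_zero]
          · intro r u _ hu; rw [smul_eq_mul, mul_left_comm, hu, mul_zero]
        exact hkill e this
      exact ⟨a, by rw [mul_sub, mul_one, hae, sub_zero]⟩
    · rintro ⟨b, rfl⟩ m
      rw [hsum m, Finset.smul_sum]
      refine Finset.sum_eq_zero fun i _ => ?_
      have hi : φ i m ∈ Ideal.span {e} := by
        rw [← hτe']; exact Ideal.mul_le_right (hmem (φ i) m)
      obtain ⟨c, hc⟩ := Ideal.mem_span_singleton'.1 hi
      rw [smul_smul, ← hc]
      have : b * (1 - e) * (c * e) = b * c * (e - e * e) := by ring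
      rw [this, he.eq, sub_self, mul_zero, zero_smul]

end Trace


/-- Idempotent generators of an ideal are unique. -/
theorem idem_unique {A : Type*} [CommRing A] {e e' : A} (he : IsIdempotentElem e)
    (he' : IsIdempotentElem e') (h : Ideal.span {e} = Ideal.span {e'}) : e = e' := by
  have h1 : e ∈ Ideal.span {e'} := h ▸ Ideal.mem_span_singleton_self e
  have h2 : e' ∈ Ideal.span {e} := h ▸ Ideal.mem_span_singleton_self e'
  obtain ⟨a, ha⟩ := Ideal.mem_span_singleton'.1 h1
  obtain ⟨b, hb⟩ := Ideal.mem_span_singleton'.1 h2
  have e1 : e * e' = e := by rw [← ha, mul_assoc, he'.eq]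
  have e2 : e' * e = e' := by rw [← hb, mul_assoc, he.eq]
  rw [← e1, mul_comm, e2]

section Etale

variable {R : Type*} [CommRing R] {A B : Type*} [CommRing A] [CommRing B] [Algebra R A]
  [Algebra R B] [Module.Finite R A] [Algebra.Etale R A] [Module.Finite R B] [Algebra.Etale R B]

/-- Via a map of finite étale algebras the target is a finitely generated projective module over
the source. -/
theorem finite_projective_of_etale (f : A →ₐ[R] B) :
    letI := f.toRingHom.toAlgebra
    Module.Finite A B ∧ Module.Projective A B := by
  letI := f.toRingHom.toAlgebra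
  haveI : IsScalarTower R A B := IsScalarTower.of_algebraMap_eq fun r => (f.commutes r).symm
  haveI : Algebra.Etale A B := Algebra.Etale.of_restrictScalars R A B
  haveI : Module.Finite A B := Module.Finite.of_restrictScalars_finite R A B
  haveI : Module.FinitePresentation A B :=
    Module.FinitePresentation.of_finite_of_finitePresentation A B
  exact ⟨inferInstance, Module.Flat.projective_of_finitePresentation⟩

/-- The kernel of a map of finite étale algebras is generated by an idempotent. -/
theorem exists_idem_ker (f : A →ₐ[R] B) :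
    ∃ e : A, IsIdempotentElem e ∧ RingHom.ker f = Ideal.span {e} := by
  letI := f.toRingHom.toAlgebra
  obtain ⟨h1, h2⟩ := finite_projective_of_etale f
  obtain ⟨e, he, -, -, hann⟩ := exists_idem_trace A B
  refine ⟨1 - e, he.one_sub, ?_⟩
  rw [← hann]
  ext a
  rw [RingHom.mem_ker, Module.mem_annihilator]
  constructor
  · intro ha b
    rw [Algebra.smul_def]
    change f a * b = 0
    rw [ha, zero_mul]
  · intro ha
    have := ha 1
    rw [Algebra.smul_def, mul_one] at this
    exact this

/-- An injective map of finite étale algebras admits a retraction linear over the source. -/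
theorem exists_retraction (f : A →ₐ[R] B) (hf : Function.Injective f) :
    ∃ r : B →ₗ[R] A, ∀ a, r (f a) = a := by
  letI := f.toRingHom.toAlgebra
  haveI : IsScalarTower R A B := IsScalarTower.of_algebraMap_eq fun r => (f.commutes r).symm
  obtain ⟨h1, h2⟩ := finite_projective_of_etale f
  obtain ⟨e, he, -, ⟨n, φ, x, hsum⟩, hann⟩ := exists_idem_trace A B
  have he1 : e = 1 := by
    have h0 : (1 - e) ∈ Module.annihilator A B := by
      rw [hann]; exact Ideal.mem_span_singleton_self _
    rw [Module.mem_annihilator] at h0
    have h3 := h0 1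
    rw [Algebra.smul_def, mul_one] at h3
    have h4 : f (1 - e) = 0 := h3
    have h5 : (1 - e) = 0 := hf (by rw [h4, map_zero])
    exact (sub_eq_zero.1 h5).symm
  let r' : B →ₗ[A] A := ∑ i, (φ i).comp (LinearMap.mulLeft A (x i))
  have hr1 : r' 1 = 1 := by
    simp only [r', LinearMap.sum_apply, LinearMap.comp_apply, LinearMap.mulLeft_apply, mul_one]
    rw [hsum, he1]
  refine ⟨r'.restrictScalars R, fun a => ?_⟩
  change r' (f a) = a
  have : f a = a • (1 : B) := by rw [Algebra.smul_def, mul_one]; rfl
  rw [this, map_smul, hr1, smul_eq_mul, mul_one]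

/-- An injective map of finite étale algebras whose source and target have the same rank at every
prime of the base is surjective. -/
theorem surjective_of_injective_of_rank (f : A →ₐ[R] B) (hf : Function.Injective f)
    (hrank : ∀ P : PrimeSpectrum R, Module.rankAtStalk A P = Module.rankAtStalk B P) :
    Function.Surjective f := by
  obtain ⟨r, hr⟩ := exists_retraction f hf
  -- B ≃ A × ker r
  let K : Submodule R B := LinearMap.ker r
  have hsplit : ∀ b : B, b - f (r b) ∈ K := by
    intro b
    change r (b - f (r b)) = 0
    rw [map_sub, hr, sub_self]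
  let eqv : B ≃ₗ[R] A × K :=
    { toFun := fun b => (r b, ⟨b - f (r b), hsplit b⟩)
      map_add' := fun b b' => by
        ext
        · simp
        · simp only [map_add, Prod.mk_add_mk, AddMemClass.mk_add_mk]
          abel
      map_smul' := fun c b => by
        ext
        · simp
        · simp only [map_smul, RingHom.id_apply, Prod.smul_mk, SetLike.mk_smul_mk, smul_sub]
      invFun := fun p => f p.1 + p.2.1
      left_inv := fun b => by simp
      right_inv := fun p => by
        have hk : r p.2.1 = 0 := p.2.2
        ext
        · simp [hr, hk]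
        · simp [hr, hk] }
  haveI : Module.Flat R B := inferInstance
  haveI : Module.Flat R A := inferInstance
  haveI : Module.Flat R (A × K) := Module.Flat.of_linearEquiv eqv.symm
  haveI : Module.Finite R (A × K) := Module.Finite.equiv eqv
  haveI : Module.Finite R K := Module.Finite.of_surjective (LinearMap.snd R A K) LinearMap.snd_surjective
  haveI : Module.Flat R K := by
    apply Module.Flat.of_retract (M := A × K) (LinearMap.inr R A K) (LinearMap.snd R A K)
    ext k; simp
  have hK : Module.rankAtStalk (R := R) K = 0 := by
    funext P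
    have h1 := congrFun (Module.rankAtStalk_prod (R := R) A K) P
    have h2 := congrFun (Module.rankAtStalk_eq_of_equiv eqv) P
    have h3 := hrank P
    simp only [Pi.add_apply] at h1
    simp only [Pi.zero_apply]
    omega
  have hsub : Subsingleton K := Module.rankAtStalk_eq_zero_iff_subsingleton.1 hK
  intro b
  refine ⟨r b, ?_⟩
  have : (⟨b - f (r b), hsplit b⟩ : K) = 0 := Subsingleton.elim _ _
  have h0 : b - f (r b) = 0 := congrArg Subtype.val this
  exact (sub_eq_zero.1 h0).symm

end Etale

/-- The quotient of an étale algebra by an idempotent is étale. -/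
theorem etale_quot_idem (R : Type*) [CommRing R] {A : Type*} [CommRing A] [Algebra R A]
    [Algebra.Etale R A] {ε : A} (hε : IsIdempotentElem ε) :
    Algebra.Etale R (A ⧸ Ideal.span {ε}) := by
  haveI : IsLocalization.Away (1 - ε) (A ⧸ Ideal.span {ε}) := by
    apply IsLocalization.away_of_isIdempotentElem hε.one_sub
    · rw [Ideal.Quotient.algebraMap_eq, Ideal.mk_ker, sub_sub_cancel]
    · exact Ideal.Quotient.mk_surjective
  haveI : Algebra.Etale A (A ⧸ Ideal.span {ε}) := Algebra.Etale.of_isLocalizationAway (1 - ε)
  exact Algebra.Etale.comp R A (A ⧸ Ideal.span {ε})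

end Groth.Agent.Lib.helper10.ProjIdem
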