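import Mathlib

set_option autoImplicit false

namespace Groth.Agent.Lib.helper10.ProjLim

variable {A : Type*} [CommRing A]

section mkF

variable {m : ℕ} (J : Submodule A A) {X : Type*} [AddCommGroup X] [Module A X]

/-- the linear map out of `(A/J)^m` determined by `m` elements killed by `J`. -/
noncomputable def mkF (x : Fin m → X) (hx : ∀ j, ∀ a ∈ J, a • x j = 0) :
    (Fin m → A ⧸ J) →ₗ[A] X :=
  ∑ j, (J.liftQ (LinearMap.toSpanSingleton A X (x j))
    (fun a ha => by simpa using hx j a ha)) ∘ₗ LinearMap.proj j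

theorem mkF_mk (x : Fin m → X) (hx : ∀ j, ∀ a ∈ J, a • x j = 0) (a : Fin m → A) :
    mkF J x hx (fun j => Submodule.Quotient.mk (a j)) = ∑ j, a j • x j := by
  unfold mkF
  rw [LinearMap.sum_apply]
  refine Finset.sum_congr rfl fun j _ => ?_
  rw [LinearMap.comp_apply, LinearMap.proj_apply, Submodule.liftQ_apply,
    LinearMap.toSpanSingleton_apply]

theorem exists_rep (v : Fin m → A ⧸ J) :
    ∃ a : Fin m → A, v = fun j => Submodule.Quotient.mk (a j) := by
  choose a ha using fun j => Submodule.Quotient.mk_surjective J (v j)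
  exact ⟨a, funext fun j => (ha j).symm⟩

theorem rep_eq_sum (a : Fin m → A) :
    (fun j => (Submodule.Quotient.mk (a j) : A ⧸ J))
      = ∑ j, a j • (Pi.single j (Submodule.Quotient.mk 1) : Fin m → A ⧸ J) := by
  funext l
  rw [Finset.sum_apply]
  simp only [Pi.smul_apply, Pi.single_apply, smul_ite, smul_zero]
  rw [Finset.sum_ite_eq]
  simp only [Finset.mem_univ, if_true]
  rw [← Submodule.Quotient.mk_smul, smul_eq_mul, mul_one]

end mkF

theorem lift_of_retract (J : Ideal A) {k : ℕ} {Mn : Type*} [AddCommGroup Mn] [Module A Mn]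
    (i : Mn →ₗ[A] (Fin k → A ⧸ J)) (r : (Fin k → A ⧸ J) →ₗ[A] Mn)
    (hri : r ∘ₗ i = LinearMap.id)
    {X Y : Type*} [AddCommGroup X] [Module A X] [AddCommGroup Y] [Module A Y]
    (hX : ∀ a ∈ J, ∀ x : X, a • x = 0) (g : X →ₗ[A] Y) (hg : Function.Surjective g)
    (φ : Mn →ₗ[A] Y) : ∃ ψ : Mn →ₗ[A] X, g ∘ₗ ψ = φ := by
  choose x hx using fun j : Fin k =>
    hg (φ (r (Pi.single j (Submodule.Quotient.mk 1) : Fin k → A ⧸ J)))
  let Ψ : (Fin k → A ⧸ J) →ₗ[A] X := mkF J x (fun j a ha => hX a ha (x j))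
  have hΨ : g ∘ₗ Ψ = φ ∘ₗ r := by
    apply LinearMap.ext
    intro v
    obtain ⟨a, rfl⟩ := exists_rep J v
    simp only [LinearMap.comp_apply]
    rw [mkF_mk, map_sum, rep_eq_sum, map_sum, map_sum]
    refine Finset.sum_congr rfl fun j _ => ?_
    rw [map_smul, map_smul, map_smul, hx]
  refine ⟨Ψ ∘ₗ i, ?_⟩
  rw [← LinearMap.comp_assoc, hΨ, LinearMap.comp_assoc, hri, LinearMap.comp_id]

universe u v

theorem projective_limit (A : Type u) [CommRing A] (I : Ideal A) [IsAdicComplete I A]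
    (M : ℕ → Type v) [∀ n, AddCommGroup (M n)] [∀ n, Module A (M n)]
    (f : ∀ n, M (n + 1) →ₗ[A] M n)
    (hk : ∀ n, I ^ (n + 1) • (⊤ : Submodule A (M n)) = ⊥)
    (hker : ∀ n, LinearMap.ker (f n) = I ^ (n + 1) • (⊤ : Submodule A (M (n + 1))))
    (L : Type v) [AddCommGroup L] [Module A L] (π : ∀ n, L →ₗ[A] M n)
    (hπ : ∀ n, f n ∘ₗ π (n + 1) = π n)
    (hinj : ∀ x : L, (∀ n, π n x = 0) → x = 0)
    (hproj : ∀ n, ∃ (m : ℕ) (i : M n →ₗ[A] (Fin m → A ⧸ I ^ (n + 1)))
      (r : (Fin m → A ⧸ I ^ (n + 1)) →ₗ[A] M n), r ∘ₗ i = LinearMap.id)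
    (hfin : Module.Finite A L) (hsurj : ∀ n, Function.Surjective (π n)) :
    Module.Projective A L := by
  obtain ⟨m, p, hp⟩ := Module.Finite.exists_fin' A L
  -- the quotients
  have hJ : ∀ n, (I ^ (n + 1) • (⊤ : Submodule A A) : Submodule A A) = I ^ (n + 1) := fun n => by
    rw [smul_eq_mul, Ideal.mul_top]
  have killM : ∀ n, ∀ a ∈ I ^ (n + 1), ∀ y : M n, a • y = 0 := by
    intro n a ha y
    have : a • y ∈ I ^ (n + 1) • (⊤ : Submodule A (M n)) :=
      Submodule.smul_mem_smul ha Submodule.mem_top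
    rw [hk n] at this
    exact this
  have killF : ∀ n, ∀ a ∈ I ^ (n + 1),
      ∀ v : Fin m → A ⧸ (I ^ (n + 1) • (⊤ : Submodule A A) : Submodule A A), a • v = 0 := by
    intro n a ha v
    obtain ⟨b, rfl⟩ := exists_rep _ v
    funext j
    rw [Pi.smul_apply, ← Submodule.Quotient.mk_smul, Pi.zero_apply,
      Submodule.Quotient.mk_eq_zero]
    exact Submodule.smul_mem_smul ha Submodule.mem_top
  let pn : ∀ n, (Fin m → A ⧸ (I ^ (n + 1) • (⊤ : Submodule A A) : Submodule A A)) →ₗ[A] M n :=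
    fun n => mkF _ (fun j => π n (p (Pi.single j 1)))
      (fun j a ha => killM n a (by rwa [hJ n] at ha) _)
  have pn_mk : ∀ n (a : Fin m → A),
      pn n (fun j => Submodule.Quotient.mk (a j)) = π n (p a) := by
    intro n a
    change mkF _ _ _ _ = _
    rw [mkF_mk]
    simp only [← map_smul, ← map_sum]
    congr 2
    funext l
    rw [Finset.sum_apply]
    simp [Pi.single_apply]
  have pn_surj : ∀ n, Function.Surjective (pn n) := by
    intro n y
    obtain ⟨x, rfl⟩ := hsurj n y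
    obtain ⟨a, rfl⟩ := hp x
    exact ⟨_, pn_mk n a⟩
  let red : ∀ n, (Fin m → A ⧸ (I ^ (n + 1 + 1) • (⊤ : Submodule A A) : Submodule A A)) →ₗ[A]
      (Fin m → A ⧸ (I ^ (n + 1) • (⊤ : Submodule A A) : Submodule A A)) :=
    fun n => LinearMap.pi fun j => Submodule.factorPow I A (Nat.le_succ (n + 1)) ∘ₗ LinearMap.proj j
  have red_mk : ∀ n (a : Fin m → A),
      red n (fun j => Submodule.Quotient.mk (a j)) = fun j => Submodule.Quotient.mk (a j) := by
    intro n a
    rfl
  have compat : ∀ n, pn n ∘ₗ red n = f n ∘ₗ pn (n + 1) := by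
    intro n
    apply LinearMap.ext
    intro v
    obtain ⟨a, rfl⟩ := exists_rep _ v
    rw [LinearMap.comp_apply, LinearMap.comp_apply, red_mk, pn_mk, pn_mk, ← hπ n,
      LinearMap.comp_apply]
  -- base section
  have base : ∃ t : M 0 →ₗ[A] (Fin m → A ⧸ (I ^ (0 + 1) • (⊤ : Submodule A A) : Submodule A A)),
      pn 0 ∘ₗ t = LinearMap.id := by
    obtain ⟨k, i, r, hri⟩ := hproj 0
    exact lift_of_retract (I ^ (0 + 1)) i r hri (killF 0) (pn 0) (pn_surj 0) LinearMap.id
  -- step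
  have step : ∀ n (t : M n →ₗ[A] (Fin m → A ⧸ (I ^ (n + 1) • (⊤ : Submodule A A) : Submodule A A))),
      pn n ∘ₗ t = LinearMap.id →
      ∃ t' : M (n + 1) →ₗ[A]
          (Fin m → A ⧸ (I ^ (n + 1 + 1) • (⊤ : Submodule A A) : Submodule A A)),
        pn (n + 1) ∘ₗ t' = LinearMap.id ∧ red n ∘ₗ t' = t ∘ₗ f n := by
    intro n t ht
    obtain ⟨k, i, r, hri⟩ := hproj (n + 1)
    let Z : Submodule A (M (n + 1) ×
        (Fin m → A ⧸ (I ^ (n + 1) • (⊤ : Submodule A A) : Submodule A A))) :=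
      LinearMap.eqLocus (f n ∘ₗ LinearMap.fst A _ _) (pn n ∘ₗ LinearMap.snd A _ _)
    let g : (Fin m → A ⧸ (I ^ (n + 1 + 1) • (⊤ : Submodule A A) : Submodule A A)) →ₗ[A] Z :=
      LinearMap.codRestrict Z ((pn (n + 1)).prod (red n)) (fun w => by
        change f n (pn (n + 1) w) = pn n (red n w)
        rw [← LinearMap.comp_apply, ← LinearMap.comp_apply, compat n])
    have hg : Function.Surjective g := by
      rintro ⟨⟨y, v⟩, hyv⟩
      change f n y = pn n v at hyv
      obtain ⟨a, rfl⟩ := exists_rep _ v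
      set w₀ : Fin m → A ⧸ (I ^ (n + 1 + 1) • (⊤ : Submodule A A) : Submodule A A) :=
        fun j => Submodule.Quotient.mk (a j) with hw₀
      have h1 : y - pn (n + 1) w₀ ∈ LinearMap.ker (f n) := by
        rw [LinearMap.mem_ker, map_sub, hyv, ← LinearMap.comp_apply, ← compat n,
          LinearMap.comp_apply, red_mk, sub_self]
      rw [hker n] at h1
      -- elements of I^(n+1) • ⊤ are images of elements killed by red
      have h2 : ∀ z ∈ I ^ (n + 1) • (⊤ : Submodule A (M (n + 1))),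
          ∃ w₁, pn (n + 1) w₁ = z ∧ red n w₁ = 0 := by
        intro z hz
        refine Submodule.smul_induction_on hz ?_ ?_
        · intro c hc y' _
          obtain ⟨w', rfl⟩ := pn_surj (n + 1) y'
          refine ⟨c • w', by rw [map_smul], ?_⟩
          rw [map_smul]
          exact killF n c hc _
        · rintro z₁ z₂ ⟨w₁, rfl, hw₁⟩ ⟨w₂, rfl, hw₂⟩
          exact ⟨w₁ + w₂, by rw [map_add], by rw [map_add, hw₁, hw₂, add_zero]⟩
      obtain ⟨w₁, hw₁, hw₁'⟩ := h2 _ h1
      refine ⟨w₀ + w₁, ?_⟩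
      apply Subtype.ext
      change ((pn (n + 1)) (w₀ + w₁), (red n) (w₀ + w₁)) = (y, _)
      rw [map_add, map_add, hw₁, hw₁', add_zero, red_mk, add_sub_cancel]
    let φ : M (n + 1) →ₗ[A] Z :=
      LinearMap.codRestrict Z (LinearMap.id.prod (t ∘ₗ f n)) (fun y => by
        change f n y = pn n (t (f n y))
        rw [← LinearMap.comp_apply (pn n) t, ht, LinearMap.id_apply])
    have hZkill : ∀ c ∈ I ^ (n + 1 + 1), ∀ w : Fin m →
        A ⧸ (I ^ (n + 1 + 1) • (⊤ : Submodule A A) : Submodule A A), c • w = 0 := killF (n + 1)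
    obtain ⟨ψ, hψ⟩ := lift_of_retract (I ^ (n + 1 + 1)) i r hri hZkill g hg φ
    refine ⟨ψ, ?_, ?_⟩
    · apply LinearMap.ext
      intro y
      have := congrArg (fun z : Z => z.1.1) (LinearMap.congr_fun hψ y)
      exact this
    · apply LinearMap.ext
      intro y
      have := congrArg (fun z : Z => z.1.2) (LinearMap.congr_fun hψ y)
      exact this
  -- the compatible system of sections
  let T : ∀ n, {t : M n →ₗ[A] (Fin m → A ⧸ (I ^ (n + 1) • (⊤ : Submodule A A) : Submodule A A)) //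
      pn n ∘ₗ t = LinearMap.id} := fun n =>
    Nat.rec ⟨base.choose, base.choose_spec⟩
      (fun n ih => ⟨(step n ih.1 ih.2).choose, (step n ih.1 ih.2).choose_spec.1⟩) n
  have hT : ∀ n, red n ∘ₗ (T (n + 1)).1 = (T n).1 ∘ₗ f n := fun n =>
    (step n (T n).1 (T n).2).choose_spec.2
  -- coordinates
  have hmono : StrictMono (fun n : ℕ => n + 1) := fun a b h => Nat.succ_lt_succ h
  let c : Fin m → ∀ n, L →ₗ[A] A ⧸ (I ^ (n + 1) • (⊤ : Submodule A A) : Submodule A A) :=
    fun j n => LinearMap.proj j ∘ₗ (T n).1 ∘ₗ π n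
  have hc : ∀ j, ∀ {k : ℕ}, Submodule.factorPow I A (hmono.monotone k.le_succ) ∘ₗ c j (k + 1) = c j k := by
    intro j k
    apply LinearMap.ext
    intro x
    have h1 : red k ((T (k + 1)).1 (π (k + 1) x)) = (T k).1 (π k x) := by
      rw [← LinearMap.comp_apply (red k), hT k, LinearMap.comp_apply, ← LinearMap.comp_apply (f k),
        hπ k]
    exact congrFun h1 j
  let s : L →ₗ[A] (Fin m → A) :=
    LinearMap.pi fun j => IsAdicComplete.StrictMono.lift I hmono (c j) (hc j)
  have hs : ∀ n x, (fun j => (Submodule.Quotient.mk (s x j) :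
      A ⧸ (I ^ (n + 1) • (⊤ : Submodule A A) : Submodule A A))) = (T n).1 (π n x) := by
    intro n x
    funext j
    exact IsAdicComplete.StrictMono.mk_lift I hmono (c j) (hc j) x
  have hps : p ∘ₗ s = LinearMap.id := by
    apply LinearMap.ext
    intro x
    rw [LinearMap.comp_apply, LinearMap.id_apply, ← sub_eq_zero]
    apply hinj
    intro n
    rw [map_sub, sub_eq_zero, ← pn_mk n (s x), hs n x, ← LinearMap.comp_apply (pn n), (T n).2,
      LinearMap.id_apply]
  exact Module.Projective.of_split s p hps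

end Groth.Agent.Lib.helper10.ProjLim
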