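import Mathlib

/-!
# Descent of vanishing / flatness along families of flat algebras covering the maximal spectrum
-/

set_option autoImplicit false
universe u
open TensorProduct

namespace Groth.Agent.Lib.helper10.QFDescent

/-- if `1 ⊗ x = 0` in `L ⊗_B N` for a flat `B`-algebra `L`, the annihilator of `x` generates the
unit ideal of `L`. -/
theorem map_ker_toSpanSingleton_eq_top {B L N : Type u} [CommRing B] [CommRing L] [Algebra B L]
    [Module.Flat B L] [AddCommGroup N] [Module B N] (x : N) (hx : (1 : L) ⊗ₜ[B] x = 0) :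
    Ideal.map (algebraMap B L) (LinearMap.ker (LinearMap.toSpanSingleton B N x)) = ⊤ := by
  set J : Ideal B := LinearMap.ker (LinearMap.toSpanSingleton B N x) with hJ
  let φ : (B ⧸ J) →ₗ[B] N := J.liftQ (LinearMap.toSpanSingleton B N x) le_rfl
  have hφ : Function.Injective φ := by
    rw [← LinearMap.ker_eq_bot]
    exact Submodule.ker_liftQ_eq_bot _ _ _ le_rfl
  have h1 := Module.Flat.lTensor_preserves_injective_linearMap (M := L) φ hφ
  have h2 : (1 : L) ⊗ₜ[B] (Ideal.Quotient.mk J (1 : B) : B ⧸ J) = 0 := by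
    apply h1
    rw [LinearMap.lTensor_tmul, map_zero]
    show (1 : L) ⊗ₜ[B] (LinearMap.toSpanSingleton B N x 1) = 0
    rw [LinearMap.toSpanSingleton_apply, one_smul]
    exact hx
  have h3 := congrArg (TensorProduct.tensorQuotEquivQuotSMul L J) h2
  rw [TensorProduct.tensorQuotEquivQuotSMul_tmul_mk, map_zero, one_smul,
    Submodule.Quotient.mk_eq_zero, Ideal.smul_top_eq_map] at h3
  exact (Ideal.eq_top_iff_one _).mpr h3

/-- vanishing can be checked on a family of flat algebras covering the maximal spectrum -/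
theorem eq_zero_of_locally {B N : Type u} [CommRing B] [AddCommGroup N] [Module B N] (x : N)
    (h : ∀ q : Ideal B, q.IsMaximal → ∃ (L : Type u) (_ : CommRing L) (_ : Algebra B L),
      Module.Flat B L ∧ (∃ Q : Ideal L, Q.IsPrime ∧ Q.comap (algebraMap B L) = q) ∧
      (1 : L) ⊗ₜ[B] x = 0) : x = 0 := by
  by_contra hx
  set J : Ideal B := LinearMap.ker (LinearMap.toSpanSingleton B N x) with hJ
  have hJne : J ≠ ⊤ := by
    intro hJ'
    have h1 : (1 : B) ∈ J := by rw [hJ']; trivial
    rw [hJ, LinearMap.mem_ker, LinearMap.toSpanSingleton_apply, one_smul] at h1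
    exact hx h1
  obtain ⟨q, hq, hJq⟩ := Ideal.exists_le_maximal J hJne
  obtain ⟨L, _, _, hflat, ⟨Q, hQ, hQq⟩, h0⟩ := h q hq
  have h1 := map_ker_toSpanSingleton_eq_top (L := L) x h0
  have h2 : Ideal.map (algebraMap B L) J ≤ Q := by
    rw [Ideal.map_le_iff_le_comap, hQq]
    exact hJq
  rw [← hJ, ] at h1
  exact hQ.ne_top (top_le_iff.mp (h1 ▸ h2))

/-- flatness over `A` of a `B`-module can be checked on a family of flat `B`-algebras covering
the maximal spectrum of `B`. -/
theorem flat_of_locally {A B M : Type u} [CommRing A] [CommRing B] [Algebra A B]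
    [AddCommGroup M] [Module A M] [Module B M] [IsScalarTower A B M]
    (h : ∀ q : Ideal B, q.IsMaximal → ∃ (L : Type u) (_ : CommRing L) (_ : Algebra B L)
      (_ : Algebra A L) (_ : IsScalarTower A B L),
      Module.Flat B L ∧ (∃ Q : Ideal L, Q.IsPrime ∧ Q.comap (algebraMap B L) = q) ∧
      Module.Flat A (L ⊗[B] M)) : Module.Flat A M := by
  rw [Module.Flat.iff_lTensor_injective']
  intro I
  rw [injective_iff_map_eq_zero]
  intro z hz
  apply eq_zero_of_locally (B := B) (N := M ⊗[A] I) z
  intro q hq
  obtain ⟨L, _, _, _, _, hflat, hQ, hflatA⟩ := h q hq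
  refine ⟨L, inferInstance, inferInstance, hflat, hQ, ?_⟩
  -- transport along associativity
  have hnat : ∀ w : M ⊗[A] I,
      (LinearMap.lTensor (L ⊗[B] M) I.subtype)
        ((TensorProduct.AlgebraTensorModule.assoc A B L L M I).symm ((1 : L) ⊗ₜ[B] w)) =
      (TensorProduct.AlgebraTensorModule.assoc A B L L M A).symm
        ((1 : L) ⊗ₜ[B] (LinearMap.lTensor M I.subtype w)) := by
    intro w
    induction w using TensorProduct.induction_on with
    | zero => simp
    | tmul m i => rfl
    | add x y hx hy =>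
      rw [TensorProduct.tmul_add, map_add, map_add, hx, hy, map_add, TensorProduct.tmul_add,
        map_add]
  have h1 := hnat z
  rw [hz, TensorProduct.tmul_zero, map_zero] at h1
  have h2 := (Module.Flat.iff_lTensor_injective'.mp hflatA I)
  have h3 : (TensorProduct.AlgebraTensorModule.assoc A B L L M I).symm ((1 : L) ⊗ₜ[B] z) = 0 := by
    apply h2
    rw [h1, map_zero]
  have h4 := congrArg (TensorProduct.AlgebraTensorModule.assoc A B L L M I) h3
  rwa [LinearEquiv.apply_symm_apply, map_zero] at h4

end Groth.Agent.Lib.helper10.QFDescent
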