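import Mathlib
import Groth.Agent.S12080
import Groth.Agent.Lib.Helper23.Fitting11
import Groth.Agent.Lib.helper10.QFDescent

/-!
# Descent of invertibility along families of flat algebras covering the maximal spectrum
-/

set_option autoImplicit false
universe u
open TensorProduct

namespace Groth.Agent.Lib.helper10.QFInvDescent

open Helper23.Fit

/-- Fitting ideals of an invertible module -/
theorem fitt_of_invertible {L N : Type u} [CommRing L] [AddCommGroup N] [Module L N]
    [Module.Invertible L N] :
    Fitt.ideal L N 0 = ⊥ ∧ ∀ k, 1 ≤ k → Fitt.ideal L N k = ⊤ := by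
  have hrank : ∀ p : PrimeSpectrum L, Module.rankAtStalk (R := L) N p = 1 := by
    intro p
    haveI : Module.Free (Localization.AtPrime p.asIdeal)
        (LocalizedModule p.asIdeal.primeCompl N) := Module.free_of_flat_of_isLocalRing
    exact Module.Invertible.finrank_eq_one (Localization.AtPrime p.asIdeal)
      (LocalizedModule p.asIdeal.primeCompl N)
  exact ⟨ideal_eq_bot_of_projective_rank 1 hrank 0 Nat.zero_lt_one,
    fun k hk => ideal_eq_top_of_projective_rank 1 hrank k hk⟩

theorem invertible_of_locally {B M : Type u} [CommRing B] [AddCommGroup M] [Module B M]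
    [Module.Finite B M]
    (h : ∀ q : Ideal B, q.IsMaximal → ∃ (L : Type u) (_ : CommRing L) (_ : Algebra B L),
      Module.Flat B L ∧ (∃ Q : Ideal L, Q.IsPrime ∧ Q.comap (algebraMap B L) = q) ∧
      Module.Invertible L (L ⊗[B] M)) : Module.Invertible B M := by
  -- Fitting ideals
  have h1 : ∀ k, 1 ≤ k → Fitt.ideal B M k = ⊤ := by
    intro k hk
    by_contra hne
    obtain ⟨q, hq, hle⟩ := Ideal.exists_le_maximal _ hne
    obtain ⟨L, _, _, hflat, ⟨Q, hQ, hQq⟩, hinv⟩ := h q hq
    have h2 := (fitt_of_invertible (L := L) (N := L ⊗[B] M)).2 k hk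
    rw [ideal_baseChange (R' := L) (M := M) k] at h2
    have h3 : (Fitt.ideal B M k).map (algebraMap B L) ≤ Q := by
      rw [Ideal.map_le_iff_le_comap, hQq]
      exact hle
    exact hQ.ne_top (top_le_iff.mp (h2 ▸ h3))
  have h0 : Fitt.ideal B M 0 = ⊥ := by
    rw [eq_bot_iff]
    intro a ha
    rw [Ideal.mem_bot]
    apply Groth.Agent.Lib.helper10.QFDescent.eq_zero_of_locally (B := B) (N := B) a
    intro q hq
    obtain ⟨L, _, _, hflat, hQ, hinv⟩ := h q hq
    refine ⟨L, inferInstance, inferInstance, hflat, hQ, ?_⟩
    have h2 := (fitt_of_invertible (L := L) (N := L ⊗[B] M)).1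
    rw [ideal_baseChange (R' := L) (M := M) 0] at h2
    have h3 : algebraMap B L a = 0 := by
      have : algebraMap B L a ∈ (Fitt.ideal B M 0).map (algebraMap B L) :=
        Ideal.mem_map_of_mem _ ha
      rw [h2] at this
      exact this
    have h4 : (1 : L) ⊗ₜ[B] a = (algebraMap B L a) ⊗ₜ[B] (1 : B) := by
      rw [Algebra.algebraMap_eq_smul_one, TensorProduct.smul_tmul, smul_eq_mul, mul_one]
    rw [h4, h3, TensorProduct.zero_tmul]
  -- local freeness
  apply Groth.Agent.S12080.result B M
    {f | Nonempty (LocalizedModule.Away f M ≃ₗ[Localization.Away f] Localization.Away f)}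
  · by_contra hne
    obtain ⟨p, hp, hle⟩ := Ideal.exists_le_maximal _ hne
    haveI := hp.isPrime
    obtain ⟨f, hfp, hfree, hrank⟩ := locallyFree_of_ideal (R := B) (M := M) 1
      (fun k hk => by
        have : k = 0 := by omega
        rw [this]; exact h0)
      h1 p
    apply hfp
    apply hle
    apply Ideal.subset_span
    haveI := hfree
    haveI := away_nontrivial p f hfp
    let b := Module.finBasisOfFinrankEq (Localization.Away f)
      (LocalizedModule (Submonoid.powers f) M) hrank
    exact ⟨b.equivFun.trans (LinearEquiv.funUnique (Fin 1) (Localization.Away f)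
      (Localization.Away f))⟩
  · intro f hf
    exact hf

end Groth.Agent.Lib.helper10.QFInvDescent
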