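import Mathlib
import Groth.Agent.Lib.helper10.QFEpi
import Groth.Agent.Lib.Helper25.QuietSynt

/-!
# Étale-local finite flat models of a quasi-finite flat algebra and its dualizing module
-/

set_option autoImplicit false
universe u
open TensorProduct

namespace Groth.Agent.Lib.helper10.QFLocal

open Groth.Agent.Lib.helper10.QFEpi Groth.Agent.Lib.Helper25.QuietSynt

attribute [local instance] Algebra.TensorProduct.rightAlgebra

set_option maxHeartbeats 1600000 in
set_option synthInstance.maxHeartbeats 200000 in
/-- Stage 1: an étale neighbourhood `A'` of `q ∩ A` and a finite flat `A'`-algebra `C`, which is a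
localization of `A' ⊗_A B` at an idempotent, having a prime over `q`. -/
theorem stage1 {A B' B : Type u} [CommRing A] [CommRing B'] [CommRing B]
    [Algebra A B'] [Algebra B' B] [Algebra A B] [IsScalarTower A B' B]
    [IsNoetherianRing A] [Module.Finite A B'] [Module.Flat B' B]
    (hepi : RingEpi (algebraMap B' B))
    [Algebra.FiniteType A B] [Module.Flat A B] (q : Ideal B) [q.IsPrime]
    [Algebra.QuasiFiniteAt A q] :
    ∃ (A' C : Type u) (_ : CommRing A') (_ : CommRing C) (_ : Algebra A A') (_ : Algebra A' C)
      (_ : Algebra B C) (_ : Algebra B' C) (_ : IsScalarTower B' B C) (_ : Algebra A C)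
      (_ : IsScalarTower A A' C) (_ : IsScalarTower A B C),
      Algebra.Etale A A' ∧ Module.Finite A' C ∧ Module.Flat A' C ∧ Module.Flat B C ∧
      (∃ Q : Ideal C, Q.IsPrime ∧ Q.comap (algebraMap B C) = q) ∧
      Nonempty (C ⊗[B'] Disc.Omega A B' ≃ₗ[C] Disc.Omega A' C) ∧
      (HasSqPres A B → HasSqPres A' C) := by
  obtain ⟨A', _, _, het, P, _, _, e, he, P', hP'prime, _, hP'q, heP', hres, hfin, huniq⟩ :=
    Algebra.exists_etale_isIdempotentElem_forall_liesOver_eq (q.under A) q
  haveI : Module.Flat A A' := inferInstance
  haveI : IsNoetherianRing A' := Algebra.FiniteType.isNoetherianRing A A'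
  -- the rings
  let μ : A' ⊗[A] B' →ₐ[A'] A' ⊗[A] B :=
    Algebra.TensorProduct.map (AlgHom.id A' A') (IsScalarTower.toAlgHom A B' B)
  letI algT'T : Algebra (A' ⊗[A] B') (A' ⊗[A] B) := μ.toRingHom.toAlgebra
  letI algB'T : Algebra B' (A' ⊗[A] B) :=
    ((algebraMap B (A' ⊗[A] B)).comp (algebraMap B' B)).toAlgebra
  haveI : IsScalarTower B' B (A' ⊗[A] B) := IsScalarTower.of_algebraMap_eq (fun _ => rfl)
  haveI : IsScalarTower B' (A' ⊗[A] B') (A' ⊗[A] B) := IsScalarTower.of_algebraMap_eq (fun x => by
    show (1 : A') ⊗ₜ[A] (algebraMap B' B x) = μ ((1 : A') ⊗ₜ[A] x)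
    simp [μ])
  haveI : IsScalarTower A' (A' ⊗[A] B') (A' ⊗[A] B) := IsScalarTower.of_algebraMap_eq (fun x => by
    show x ⊗ₜ[A] (1 : B) = μ (x ⊗ₜ[A] (1 : B'))
    simp [μ])
  haveI : IsScalarTower A (A' ⊗[A] B') (A' ⊗[A] B) := IsScalarTower.of_algebraMap_eq (fun x => by
    rw [IsScalarTower.algebraMap_apply A A' (A' ⊗[A] B), IsScalarTower.algebraMap_apply A A' (A' ⊗[A] B'),
      ← IsScalarTower.algebraMap_apply A' (A' ⊗[A] B') (A' ⊗[A] B)])
  -- flatness of `T' → T`
  have hpo : Algebra.IsPushout B' B (A' ⊗[A] B') (A' ⊗[A] B) :=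
    (Algebra.IsPushout.comp_iff A B' A' (A' ⊗[A] B') (T := B) (T' := A' ⊗[A] B)).mp inferInstance
  haveI hflatT'T : Module.Flat (A' ⊗[A] B') (A' ⊗[A] B) :=
    Module.Flat.isBaseChange (R := B') (S := A' ⊗[A] B') (M := B) (N := A' ⊗[A] B) hpo.symm.out
  have hpoB : Algebra.IsPushout A B A' (A' ⊗[A] B) := inferInstance
  haveI hflatBT : Module.Flat B (A' ⊗[A] B) :=
    Module.Flat.isBaseChange (R := A) (S := B) (M := A') (N := A' ⊗[A] B) hpoB.out
  -- the ring `C`
  haveI towB'BC : IsScalarTower B' B (Localization.Away e) := inferInstance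
  haveI : IsScalarTower B' (A' ⊗[A] B') (Localization.Away e) := inferInstance
  haveI : IsScalarTower A' (A' ⊗[A] B') (Localization.Away e) := inferInstance
  haveI : IsScalarTower (A' ⊗[A] B') (A' ⊗[A] B) (Localization.Away e) := inferInstance
  haveI : Module.Flat (A' ⊗[A] B) (Localization.Away e) :=
    IsLocalization.flat _ (Submonoid.powers e)
  haveI : Module.Flat (A' ⊗[A] B') (Localization.Away e) :=
    Module.Flat.trans (A' ⊗[A] B') (A' ⊗[A] B) (Localization.Away e)
  haveI : Module.Flat A' (Localization.Away e) :=
    Module.Flat.trans A' (A' ⊗[A] B) (Localization.Away e)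
  haveI : Module.Flat B (Localization.Away e) :=
    Module.Flat.trans B (A' ⊗[A] B) (Localization.Away e)
  have hepiC : RingEpi (algebraMap (A' ⊗[A] B') (Localization.Away e)) := by
    have h1 : RingEpi μ.toRingHom := RingEpi.tensorMap (IsScalarTower.toAlgHom A B' B) hepi
    have h2 := h1.comp (ringEpi_of_isLocalization (S := Localization.Away e) (Submonoid.powers e))
    have h3 : algebraMap (A' ⊗[A] B') (Localization.Away e) =
        (algebraMap (A' ⊗[A] B) (Localization.Away e)).comp μ.toRingHom := by
      refine RingHom.ext fun x => ?_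
      exact IsScalarTower.algebraMap_apply (A' ⊗[A] B') (A' ⊗[A] B) (Localization.Away e) x
    rw [h3]
    exact h2
  have hcore := core (A := A) (A' := A') (B' := B') (T' := A' ⊗[A] B') (C := Localization.Away e)
    inferInstance hepiC
  refine ⟨A', Localization.Away e, inferInstance, inferInstance, inferInstance, inferInstance,
    inferInstance, inferInstance, towB'BC, inferInstance, inferInstance, inferInstance,
    het, hfin, inferInstance, inferInstance, ?_, hcore, ?_⟩
  swap
  · intro h
    have hP : HasSqPres A' (A' ⊗[A] B) := by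
      obtain ⟨ι, σ, _, _, hc, ⟨P⟩⟩ := h
      exact ⟨ι, σ, inferInstance, inferInstance, hc, ⟨P.baseChange A'⟩⟩
    have hQ : HasSqPres (A' ⊗[A] B) (Localization.Away e) :=
      ⟨Unit, Unit, inferInstance, inferInstance, rfl,
        ⟨Algebra.Presentation.localizationAway (Localization.Away e) e⟩⟩
    exact HasSqPres.comp hQ hP
  -- the prime
  have hdisj : Disjoint (Submonoid.powers e : Set (A' ⊗[A] B)) (P' : Set (A' ⊗[A] B)) := by
    rw [Set.disjoint_left]
    rintro _ ⟨m, rfl⟩ hm
    exact heP' (hP'prime.mem_of_pow_mem m hm)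
  refine ⟨P'.map (algebraMap (A' ⊗[A] B) (Localization.Away e)),
    IsLocalization.isPrime_of_isPrime_disjoint (Submonoid.powers e) _ P' hP'prime hdisj, ?_⟩
  have h1 : (P'.map (algebraMap (A' ⊗[A] B) (Localization.Away e))).comap
      (algebraMap (A' ⊗[A] B) (Localization.Away e)) = P' :=
    IsLocalization.comap_map_of_isPrime_disjoint (Submonoid.powers e) _ hP'prime hdisj
  rw [← hP'q]
  conv_rhs => rw [← h1]
  rw [Ideal.comap_comap]
  rfl

set_option maxHeartbeats 1600000 in
set_option synthInstance.maxHeartbeats 200000 in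
/-- Stage 2: shrinking the base to make a finite flat algebra free. -/
theorem stage2 {A' C : Type u} [CommRing A'] [CommRing C] [Algebra A' C] [IsNoetherianRing A']
    [Module.Finite A' C] [Module.Flat A' C] (Q : Ideal C) [Q.IsPrime] :
    ∃ f : A', algebraMap A' C f ∉ Q ∧
      Module.Finite (Localization.Away f)
        (Localization (Algebra.algebraMapSubmonoid C (Submonoid.powers f))) ∧
      Module.Free (Localization.Away f)
        (Localization (Algebra.algebraMapSubmonoid C (Submonoid.powers f))) ∧
      Nonempty ((Localization (Algebra.algebraMapSubmonoid C (Submonoid.powers f))) ⊗[C]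
          Disc.Omega A' C ≃ₗ[Localization (Algebra.algebraMapSubmonoid C (Submonoid.powers f))]
        Disc.Omega (Localization.Away f)
          (Localization (Algebra.algebraMapSubmonoid C (Submonoid.powers f)))) ∧
      (HasSqPres A' C → HasSqPres (Localization.Away f)
        (Localization (Algebra.algebraMapSubmonoid C (Submonoid.powers f)))) := by
  haveI hP : (Q.comap (algebraMap A' C)).IsPrime := Ideal.comap_isPrime _ _
  haveI : Module.FinitePresentation A' C := Module.finitePresentation_of_finite A' C
  haveI : Module.Free (Localization.AtPrime (Q.comap (algebraMap A' C)))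
      (LocalizedModule (Q.comap (algebraMap A' C)).primeCompl C) :=
    Module.free_of_flat_of_isLocalRing
  obtain ⟨f, hf, hfree, -⟩ := Module.FinitePresentation.exists_free_localizedModule_powers
    (Q.comap (algebraMap A' C)).primeCompl
    (LocalizedModule.mkLinearMap (Q.comap (algebraMap A' C)).primeCompl C)
    (Localization.AtPrime (Q.comap (algebraMap A' C)))
  refine ⟨f, fun h => hf h, ?_⟩
  have hfin : Module.Finite (Localization.Away f)
      (Localization (Algebra.algebraMapSubmonoid C (Submonoid.powers f))) :=
    Module.Finite.of_isLocalizedModule (Submonoid.powers f) (Rₚ := Localization.Away f)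
      (IsScalarTower.toAlgHom A' C
        (Localization (Algebra.algebraMapSubmonoid C (Submonoid.powers f)))).toLinearMap
  have hfr : Module.Free (Localization.Away f)
      (Localization (Algebra.algebraMapSubmonoid C (Submonoid.powers f))) := by
    let e₀ := IsLocalizedModule.iso (Submonoid.powers f) (IsScalarTower.toAlgHom A' C
        (Localization (Algebra.algebraMapSubmonoid C (Submonoid.powers f)))).toLinearMap
    let e₁ := e₀.extendScalarsOfIsLocalization (Submonoid.powers f) (Localization.Away f)
    exact Module.Free.of_equiv e₁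
  have hpo : Algebra.IsPushout A' (Localization.Away f) C
      (Localization (Algebra.algebraMapSubmonoid C (Submonoid.powers f))) :=
    (Algebra.isPushout_of_isLocalization (Submonoid.powers f) (Localization.Away f) C
      (Localization (Algebra.algebraMapSubmonoid C (Submonoid.powers f)))).symm
  refine ⟨hfin, hfr, ?_, ?_⟩
  · have h1 := Groth.Agent.S8958.result A' C (Localization.Away f)
      (Localization (Algebra.algebraMapSubmonoid C (Submonoid.powers f)))
      (Localization (Algebra.algebraMapSubmonoid C (Submonoid.powers f))) hpo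
    exact ⟨(LinearEquiv.ofBijective _ h1).trans (TensorProduct.lid _ _)⟩
  · intro h
    obtain ⟨ι, σ, _, _, hc, ⟨P⟩⟩ := h
    haveI := hpo
    exact HasSqPres.of_algEquiv (Algebra.IsPushout.equiv A' (Localization.Away f) C
      (Localization (Algebra.algebraMapSubmonoid C (Submonoid.powers f))))
      ⟨ι, σ, inferInstance, inferInstance, hc, ⟨P.baseChange (Localization.Away f)⟩⟩

set_option maxHeartbeats 1600000 in
set_option synthInstance.maxHeartbeats 200000 in
/-- The local model: a flat `B`-algebra `L` with a prime over `q`, finite free over a Noetherian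
flat `A`-algebra `A₁`, over which the dualizing module becomes `Hom_{A₁}(L, A₁)`. -/
theorem exists_local_model {A B' B : Type u} [CommRing A] [CommRing B'] [CommRing B]
    [Algebra A B'] [Algebra B' B] [Algebra A B] [IsScalarTower A B' B]
    [IsNoetherianRing A] [Module.Finite A B'] [Module.Flat B' B]
    (hepi : RingEpi (algebraMap B' B))
    [Algebra.FiniteType A B] [Module.Flat A B] (q : Ideal B) [q.IsPrime]
    [Algebra.QuasiFiniteAt A q] :
    ∃ (A₁ L : Type u) (_ : CommRing A₁) (_ : CommRing L) (_ : Algebra A A₁) (_ : Algebra A₁ L)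
      (_ : Algebra B L) (_ : Algebra B' L) (_ : IsScalarTower B' B L) (_ : Algebra A L)
      (_ : IsScalarTower A A₁ L) (_ : IsScalarTower A B L),
      IsNoetherianRing A₁ ∧ Module.Flat A A₁ ∧ Module.Finite A₁ L ∧ Module.Free A₁ L ∧
      Module.Flat B L ∧ (∃ Q : Ideal L, Q.IsPrime ∧ Q.comap (algebraMap B L) = q) ∧
      Nonempty (L ⊗[B'] Disc.Omega A B' ≃ₗ[L] Disc.Omega A₁ L) ∧
      (HasSqPres A B → HasSqPres A₁ L) := by
  obtain ⟨A', C, _, _, _, _, _, _, _, _, _, _, het, hfin, hflat, hflatB, ⟨Q, hQ, hQq⟩, ⟨e1⟩, hsq⟩ :=
    stage1 (A := A) (B' := B') (B := B) hepi q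
  haveI : Module.Flat A A' := inferInstance
  haveI : IsNoetherianRing A' := Algebra.FiniteType.isNoetherianRing A A'
  obtain ⟨f, hfQ, hfin2, hfree2, ⟨e2⟩, hsq2⟩ := stage2 (A' := A') (C := C) Q
  haveI towAA₁L : IsScalarTower A (Localization.Away f)
      (Localization (Algebra.algebraMapSubmonoid C (Submonoid.powers f))) := by
    refine ⟨fun a x y => ?_⟩
    have h : algebraMap A (Localization (Algebra.algebraMapSubmonoid C (Submonoid.powers f))) a =
        algebraMap (Localization.Away f) (Localization (Algebra.algebraMapSubmonoid C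
          (Submonoid.powers f))) (algebraMap A (Localization.Away f) a) := by
      rw [IsScalarTower.algebraMap_apply A A'
          (Localization (Algebra.algebraMapSubmonoid C (Submonoid.powers f))),
        IsScalarTower.algebraMap_apply A A' (Localization.Away f),
        ← IsScalarTower.algebraMap_apply A' (Localization.Away f)
          (Localization (Algebra.algebraMapSubmonoid C (Submonoid.powers f)))]
    rw [Algebra.smul_def a x, Algebra.smul_def (_ * x) y, map_mul, ← h, Algebra.smul_def a (x • y),
      Algebra.smul_def x y, mul_assoc]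
  refine ⟨Localization.Away f, Localization (Algebra.algebraMapSubmonoid C (Submonoid.powers f)),
    inferInstance, inferInstance, inferInstance, inferInstance, inferInstance, inferInstance,
    inferInstance, inferInstance, towAA₁L, inferInstance, inferInstance, ?_, hfin2, hfree2, ?_, ?_,
    ?_, fun h => hsq2 (hsq h)⟩
  · exact Module.Flat.trans A A' (Localization.Away f)
  · haveI : Module.Flat C (Localization (Algebra.algebraMapSubmonoid C (Submonoid.powers f))) :=
      IsLocalization.flat _ (Algebra.algebraMapSubmonoid C (Submonoid.powers f))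
    exact Module.Flat.trans B C _
  · have hdisj : Disjoint (Algebra.algebraMapSubmonoid C (Submonoid.powers f) : Set C) (Q : Set C) := by
      rw [Set.disjoint_left]
      rintro _ ⟨_, ⟨m, rfl⟩, rfl⟩ hm
      rw [map_pow] at hm
      exact hfQ (hQ.mem_of_pow_mem m hm)
    refine ⟨Q.map (algebraMap C _),
      IsLocalization.isPrime_of_isPrime_disjoint (Algebra.algebraMapSubmonoid C (Submonoid.powers f))
        _ Q hQ hdisj, ?_⟩
    have h1 : (Q.map (algebraMap C (Localization (Algebra.algebraMapSubmonoid C
        (Submonoid.powers f))))).comap (algebraMap C _) = Q :=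
      IsLocalization.comap_map_of_isPrime_disjoint
        (Algebra.algebraMapSubmonoid C (Submonoid.powers f)) _ hQ hdisj
    rw [← hQq]
    conv_rhs => rw [← h1]
    rw [Ideal.comap_comap]
    rfl
  · exact ⟨((TensorProduct.AlgebraTensorModule.cancelBaseChange B' C
        (Localization (Algebra.algebraMapSubmonoid C (Submonoid.powers f)))
        (Localization (Algebra.algebraMapSubmonoid C (Submonoid.powers f)))
        (Disc.Omega A B')).symm.trans
      (TensorProduct.AlgebraTensorModule.congr (LinearEquiv.refl _ _) e1)).trans e2⟩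

end Groth.Agent.Lib.helper10.QFLocal
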