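import Mathlib
import Groth.Prelude.Def_Disc

/-!
# `Hom_{A₁}(L, A₁)` is flat over `A` for `L` finite free over a flat `A`-algebra `A₁`
-/

set_option autoImplicit false
universe u
open TensorProduct

namespace Groth.Agent.Lib.helper10.QFOmegaFlat

variable {A A₁ L : Type u} [CommRing A] [CommRing A₁] [CommRing L] [Algebra A A₁] [Algebra A₁ L]
  [Algebra A L] [IsScalarTower A A₁ L]

/-- `ω` as an `A₁`-module is the dual of `L` -/
noncomputable def tau :
    letI : Module A₁ (Disc.Omega A₁ L) := Module.compHom _ (algebraMap A₁ L)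
    Disc.Omega A₁ L ≃ₗ[A₁] (L →ₗ[A₁] A₁) :=
  letI : Module A₁ (Disc.Omega A₁ L) := Module.compHom _ (algebraMap A₁ L)
  { toFun := fun φ => φ.toLinearMap
    invFun := fun f => ⟨f⟩
    left_inv := fun φ => rfl
    right_inv := fun f => rfl
    map_add' := fun φ ψ => rfl
    map_smul' := fun a φ => by
      ext x
      change φ.toLinearMap (algebraMap A₁ L a * x) = a • φ.toLinearMap x
      rw [← Algebra.smul_def, map_smul] }

theorem flat_omega [Module.Flat A A₁] [Module.Finite A₁ L] [Module.Free A₁ L] :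
    letI : Module A (Disc.Omega A₁ L) := Module.compHom _ (algebraMap A L)
    Module.Flat A (Disc.Omega A₁ L) := by
  letI mA : Module A (Disc.Omega A₁ L) := Module.compHom _ (algebraMap A L)
  letI mA₁ : Module A₁ (Disc.Omega A₁ L) := Module.compHom _ (algebraMap A₁ L)
  haveI : IsScalarTower A A₁ (Disc.Omega A₁ L) := by
    refine ⟨fun a x φ => ?_⟩
    show algebraMap A₁ L (a • x) • φ = algebraMap A L a • (algebraMap A₁ L x • φ)
    rw [Algebra.smul_def, map_mul, ← IsScalarTower.algebraMap_apply A A₁ L, mul_smul]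
  haveI : Module.Flat A₁ (Disc.Omega A₁ L) :=
    Module.Flat.of_linearEquiv (tau (A₁ := A₁) (L := L))
  exact Module.Flat.trans A A₁ (Disc.Omega A₁ L)

end Groth.Agent.Lib.helper10.QFOmegaFlat
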