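import Mathlib

set_option autoImplicit false
open scoped Pointwise

namespace Groth.Agent.Lib.helper10.RamCard

open Ideal

section inertia

variable {R S G : Type*} [CommRing R] [CommRing S] [Algebra R S] [Group G]
  [MulSemiringAction G S] [IsGaloisGroup G R S] [Finite G]

attribute [local instance] Ideal.Quotient.field in
theorem card_stabilizer_eq_card_inertia_mul_finrank' (p : Ideal R) [p.IsPrime]
    (P : Ideal S) [P.LiesOver p] [P.IsPrime]
    (hsep : letI := Localization.AtPrime.algebraOfLiesOver p P
      Algebra.IsSeparable p.ResidueField P.ResidueField) :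
    Nat.card (MulAction.stabilizer G P) = Nat.card (inertia G P) * P.inertiaDeg R := by
  let := Localization.AtPrime.algebraOfLiesOver p P
  have heq : (algebraMap (S ⧸ P) P.ResidueField).comp (algebraMap (R ⧸ p) (S ⧸ P)) =
      (algebraMap p.ResidueField P.ResidueField).comp (algebraMap (R ⧸ p) p.ResidueField) := by
    ext
    simp [← IsScalarTower.algebraMap_apply]
  let := ((algebraMap (S ⧸ P) P.ResidueField).comp (algebraMap (R ⧸ p) (S ⧸ P))).toAlgebra
  have : IsScalarTower (R ⧸ p) (S ⧸ P) P.ResidueField := .of_algebraMap_eq' rfl
  have : IsScalarTower (R ⧸ p) p.ResidueField P.ResidueField := .of_algebraMap_eq' heq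
  have : IsGalois p.ResidueField P.ResidueField :=
    { __ := Ideal.IsFractionRing.normal G p P p.ResidueField P.ResidueField }
  have : Module.Finite p.ResidueField P.ResidueField :=
    Ideal.IsFractionRing.finite_of_isInvariant G p P p.ResidueField P.ResidueField
  have : Subgroup.index _ = _ := Nat.card_congr
    (IsFractionRing.stabilizerQuotientInertiaEquiv G p P p.ResidueField P.ResidueField).toEquiv
  rw [inertiaDeg_eq p P, ← IsGalois.card_aut_eq_finrank p.ResidueField P.ResidueField, ← this,
    ← ((inertia G P).subgroupOf (MulAction.stabilizer G P)).card_mul_index,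
    Nat.card_congr (Subgroup.subgroupOfEquivOfLe (inertia_le_stabilizer (M := G) P)).toEquiv,
    AddSubgroup.subgroupOf_inertia]

lemma ncard_primesOver_mul_card_inertia_mul_finrank' (p : Ideal R) [p.IsPrime]
    (P : Ideal S) [P.LiesOver p] [P.IsPrime]
    (hsep : letI := Localization.AtPrime.algebraOfLiesOver p P
      Algebra.IsSeparable p.ResidueField P.ResidueField) :
    (p.primesOver S).ncard * Nat.card (P.inertia G) * P.inertiaDeg R = Nat.card G := by
  rw [mul_assoc, ← card_stabilizer_eq_card_inertia_mul_finrank' p P hsep,
    ← Algebra.IsInvariant.orbit_eq_primesOver R S G p P]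
  simpa using Nat.card_congr (MulAction.orbitProdStabilizerEquivGroup G P)

/-- The cardinality of the inertia group is equal to the ramification index
(separable residue extension version). -/
lemma card_inertia_eq_ramificationIdxIn' [IsDomain R] [IsDomain S] [Module.Finite R S]
    [Module.Flat R S]
    (p : Ideal R) (P : Ideal S) [P.LiesOver p] [p.IsPrime] [P.IsPrime]
    (hsep : letI := Localization.AtPrime.algebraOfLiesOver p P
      Algebra.IsSeparable p.ResidueField P.ResidueField) :
    Nat.card (P.inertia G) = Ideal.ramificationIdxIn p S := by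
  have H := ncard_primesOver_mul_card_inertia_mul_finrank' (G := G) p P hsep
  rw [← inertiaDegIn_eq_inertiaDeg p P G] at H
  have h1 : (p.primesOver S).ncard ≠ 0 := by grind [Nat.card_pos]
  have h2 : p.inertiaDegIn S ≠ 0 := by grind [Nat.card_pos]
  rwa [← ncard_primesOver_mul_ramificationIdxIn_mul_inertiaDegIn p S G,
    mul_assoc, mul_right_inj' h1, mul_left_inj' h2] at H

end inertia

universe u

theorem card_inertia_aklb (A K L B : Type u) [CommRing A] [IsDomain A] [IsDiscreteValuationRing A]
    [CommRing B] [IsDomain B] [Field K] [Field L] [Algebra A K] [Algebra B L] [IsFractionRing A K] [IsFractionRing B L]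
    [Algebra A B] [Algebra K L] [Algebra A L] [IsScalarTower A K L] [IsScalarTower A B L] [IsIntegralClosure B A L]
    [FiniteDimensional K L] [IsGalois K L] (m : Ideal B) [m.IsMaximal]
    [hs : Algebra.IsSeparable (A ⧸ m.comap (algebraMap A B)) (B ⧸ m)] :
    letI := IsIntegralClosure.MulSemiringAction A K L B
    Nat.card (m.inertia (L ≃ₐ[K] L)) = Ideal.ramificationIdx' (IsLocalRing.maximalIdeal A) m := by
  let _ := IsIntegralClosure.MulSemiringAction A K L B
  have hD := IsIntegralClosure.isDedekindDomain A K L B
  have hfin : Module.Finite A B := IsIntegralClosure.finite A K L B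
  have hG : IsGaloisGroup Gal(L/K) A B := IsGaloisGroup.of_isFractionRing _ _ _ K L
  set p := m.comap (algebraMap A B) with hp
  have hlo : m.LiesOver p := ⟨rfl⟩
  have hpmax : p.IsMaximal := Ideal.isMaximal_comap_of_isIntegral_of_isMaximal m
  have hpeq : p = IsLocalRing.maximalIdeal A := IsLocalRing.eq_maximalIdeal hpmax
  have hp0 : p ≠ ⊥ := by
    rw [hpeq]; exact IsDiscreteValuationRing.not_a_field A
  have hinj : Function.Injective (algebraMap A B) := by
    have h1 : Function.Injective (algebraMap A L) := by
      rw [IsScalarTower.algebraMap_eq A K L]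
      exact (algebraMap K L).injective.comp (IsFractionRing.injective A K)
    rw [IsScalarTower.algebraMap_eq A B L] at h1
    exact Function.Injective.of_comp h1
  have hfs : FaithfulSMul A B := (faithfulSMul_iff_algebraMap_injective A B).mpr hinj
  have htf : Module.IsTorsionFree A B := inferInstance
  have hflat : Module.Flat A B := inferInstance
  let _ := Localization.AtPrime.algebraOfLiesOver p m
  have hsep : Algebra.IsSeparable p.ResidueField m.ResidueField := inferInstance
  rw [card_inertia_eq_ramificationIdxIn' (G := Gal(L/K)) p m hsep,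
    Ideal.ramificationIdxIn_eq_ramificationIdx p m Gal(L/K), ← hpeq,
    Ideal.ramificationIdx'_eq_ramificationIdx p m hp0]

end Groth.Agent.Lib.helper10.RamCard
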