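import Mathlib

set_option autoImplicit false

/-!
# S19138, part A: maximisers of `ℓ·y / √(y·By)` on the orthant (real data).
-/

namespace Groth.Agent.Lib.helper10.RatMax

open Matrix Finset

variable {n : ℕ}

section real
variable (ℓ : Fin n → ℝ) (B : Matrix (Fin n) (Fin n) ℝ)

/-- the quadratic form -/
def Q (y : Fin n → ℝ) : ℝ := y ⬝ᵥ B *ᵥ y

/-- the gradient of the quadratic form -/
def G (y : Fin n → ℝ) : Fin n → ℝ := B *ᵥ y + y ᵥ* B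

/-- the objective -/
noncomputable def f (y : Fin n → ℝ) : ℝ := ℓ ⬝ᵥ y / Real.sqrt (Q B y)

lemma G_dot (y z : Fin n → ℝ) : G B y ⬝ᵥ z = y ⬝ᵥ B *ᵥ z + z ⬝ᵥ B *ᵥ y := by
  unfold G
  rw [add_dotProduct, ← dotProduct_mulVec, dotProduct_comm (B *ᵥ y) z, add_comm]

lemma G_symm (y z : Fin n → ℝ) : G B y ⬝ᵥ z = G B z ⬝ᵥ y := by
  rw [G_dot, G_dot, add_comm]

lemma G_self (y : Fin n → ℝ) : G B y ⬝ᵥ y = 2 * Q B y := by
  rw [G_dot, Q]; ring

lemma G_neg (y : Fin n → ℝ) : G B (-y) = - G B y := by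
  unfold G
  rw [mulVec_neg, neg_vecMul, neg_add]

lemma G_sub (y z : Fin n → ℝ) : G B (y - z) = G B y - G B z := by
  unfold G
  rw [mulVec_sub, sub_vecMul]
  abel

lemma Q_add_smul (y z : Fin n → ℝ) (t : ℝ) :
    Q B (y + t • z) = Q B y + t * (G B y ⬝ᵥ z) + t ^ 2 * Q B z := by
  rw [G_dot]
  simp only [Q, mulVec_add, mulVec_smul, add_dotProduct, dotProduct_add, smul_dotProduct,
    dotProduct_smul, smul_eq_mul]
  ring

lemma Q_smul (t : ℝ) (y : Fin n → ℝ) : Q B (t • y) = t ^ 2 * Q B y := by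
  simp only [Q, mulVec_smul, smul_dotProduct, dotProduct_smul, smul_eq_mul]
  ring

lemma f_smul {t : ℝ} (ht : 0 < t) (y : Fin n → ℝ) : f ℓ B (t • y) = f ℓ B y := by
  unfold f
  rw [Q_smul, dotProduct_smul, Real.sqrt_mul (sq_nonneg t), Real.sqrt_sq ht.le, smul_eq_mul,
    mul_div_mul_left _ _ ht.ne']

/-- maximiser of `f` on the non-zero points of the orthant -/
def IsMax (y : Fin n → ℝ) : Prop :=
  (∀ i, 0 ≤ y i) ∧ y ≠ 0 ∧ ∀ z : Fin n → ℝ, (∀ i, 0 ≤ z i) → z ≠ 0 → f ℓ B z ≤ f ℓ B y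

lemma sum_pos_of_ne {y : Fin n → ℝ} (hy : ∀ i, 0 ≤ y i) (hne : y ≠ 0) : 0 < ∑ i, y i := by
  obtain ⟨i, hi⟩ := Function.ne_iff.1 hne
  exact Finset.sum_pos' (fun i _ => hy i) ⟨i, mem_univ _, lt_of_le_of_ne (hy i) (Ne.symm hi)⟩

lemma normalize_mem {y : Fin n → ℝ} (hy : ∀ i, 0 ≤ y i) (hne : y ≠ 0) :
    (∑ i, y i)⁻¹ • y ∈ stdSimplex ℝ (Fin n) := by
  have hs := sum_pos_of_ne hy hne
  refine ⟨fun i => ?_, ?_⟩
  · simp only [Pi.smul_apply, smul_eq_mul]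
    exact mul_nonneg (inv_nonneg.2 hs.le) (hy i)
  · simp only [Pi.smul_apply, smul_eq_mul]
    rw [← Finset.mul_sum, inv_mul_cancel₀ hs.ne']

lemma exists_isMax (hpos : ∀ y : Fin n → ℝ, (∀ i, 0 ≤ y i) → y ≠ 0 → 0 < Q B y)
    (hℓ : ∃ y : Fin n → ℝ, (∀ i, 0 ≤ y i) ∧ 0 < ℓ ⬝ᵥ y) : ∃ y, IsMax ℓ B y := by
  obtain ⟨y₀, hy₀, hy₀'⟩ := hℓ
  have hy₀ne : y₀ ≠ 0 := by
    rintro rfl
    simp at hy₀'
  have hcomp : IsCompact (stdSimplex ℝ (Fin n)) := isCompact_stdSimplex ℝ (Fin n)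
  have hne : (stdSimplex ℝ (Fin n)).Nonempty := ⟨_, normalize_mem hy₀ hy₀ne⟩
  have hne0 : ∀ y ∈ stdSimplex ℝ (Fin n), y ≠ 0 := by
    rintro y hy rfl
    have := hy.2
    simp at this
  have hcont : ContinuousOn (f ℓ B) (stdSimplex ℝ (Fin n)) := by
    unfold f
    apply ContinuousOn.div
    · exact (continuous_const.dotProduct continuous_id).continuousOn
    · refine (Real.continuous_sqrt.comp ?_).continuousOn
      unfold Q
      exact continuous_id.dotProduct (continuous_const.matrix_mulVec continuous_id)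
    · intro y hy
      exact (Real.sqrt_pos.2 (hpos y hy.1 (hne0 y hy))).ne'
  obtain ⟨y₁, hy₁, hmax⟩ := hcomp.exists_isMaxOn hne hcont
  refine ⟨y₁, hy₁.1, hne0 y₁ hy₁, fun z hz hzne => ?_⟩
  have h1 : f ℓ B ((∑ i, z i)⁻¹ • z) ≤ f ℓ B y₁ := hmax (normalize_mem hz hzne)
  have hs := sum_pos_of_ne hz hzne
  rw [f_smul ℓ B (inv_pos.2 hs)] at h1
  exact h1

end real

end Groth.Agent.Lib.helper10.RatMax
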