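import Groth.Agent.Lib.helper10.RatMaxA

set_option autoImplicit false

/-!
# S19138, part B: minimal support, first-order condition, uniqueness.
-/

namespace Groth.Agent.Lib.helper10.RatMax

open Matrix Finset

variable {n : ℕ}

section real
variable (ℓ : Fin n → ℝ) (B : Matrix (Fin n) (Fin n) ℝ)

/-- minimal support among maximisers -/
def IsMinSupp (y : Fin n → ℝ) : Prop :=
  ∀ z, IsMax ℓ B z → (∀ i, y i = 0 → z i = 0) → ∀ i, z i = 0 → y i = 0

lemma exists_minimal (h : ∃ y, IsMax ℓ B y) : ∃ y, IsMax ℓ B y ∧ IsMinSupp ℓ B y := by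
  classical
  have hP : ∃ k, ∃ y, IsMax ℓ B y ∧ (univ.filter (fun i => y i ≠ 0)).card = k := by
    obtain ⟨y, hy⟩ := h
    exact ⟨_, y, hy, rfl⟩
  obtain ⟨y, hy, hcard⟩ := Nat.find_spec hP
  refine ⟨y, hy, fun z hz hsub i hzi => ?_⟩
  by_contra hyi
  have hlt : (univ.filter (fun i => z i ≠ 0)).card < (univ.filter (fun i => y i ≠ 0)).card := by
    apply Finset.card_lt_card
    refine ⟨fun j hj => ?_, fun hsub' => ?_⟩
    · simp only [mem_filter, mem_univ, true_and] at hj ⊢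
      exact fun h0 => hj (hsub j h0)
    · have : i ∈ univ.filter (fun i => z i ≠ 0) := hsub' (by simp [hyi])
      simp [hzi] at this
  rw [hcard] at hlt
  exact Nat.find_min hP hlt ⟨z, hz, rfl⟩

lemma isMax_smul {y : Fin n → ℝ} (hy : IsMax ℓ B y) {t : ℝ} (ht : 0 < t) : IsMax ℓ B (t • y) := by
  refine ⟨fun i => ?_, ?_, fun z hz hzne => ?_⟩
  · simp only [Pi.smul_apply, smul_eq_mul]
    exact mul_nonneg ht.le (hy.1 i)
  · exact smul_ne_zero ht.ne' hy.2.1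
  · rw [f_smul ℓ B ht]
    exact hy.2.2 z hz hzne

lemma isMinSupp_smul {y : Fin n → ℝ} (hy : IsMinSupp ℓ B y) {t : ℝ} (ht : 0 < t) :
    IsMinSupp ℓ B (t • y) := by
  intro z hz hsub i hzi
  have h1 : ∀ i, y i = 0 → z i = 0 := fun i hi => hsub i (by simp [hi])
  simp [hy z hz h1 i hzi]

/-- normalised minimal-support maximiser -/
lemma exists_normalized (hpos : ∀ y : Fin n → ℝ, (∀ i, 0 ≤ y i) → y ≠ 0 → 0 < Q B y)
    (hℓ : ∃ y : Fin n → ℝ, (∀ i, 0 ≤ y i) ∧ 0 < ℓ ⬝ᵥ y) :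
    ∃ y, IsMax ℓ B y ∧ IsMinSupp ℓ B y ∧ ℓ ⬝ᵥ y = Q B y ∧ 0 < Q B y := by
  obtain ⟨y, hy, hmin⟩ := exists_minimal ℓ B (exists_isMax ℓ B hpos hℓ)
  obtain ⟨y₀, hy₀, hy₀'⟩ := hℓ
  have hy₀ne : y₀ ≠ 0 := by
    rintro rfl
    simp at hy₀'
  have hQ : 0 < Q B y := hpos y hy.1 hy.2.1
  have hf0 : 0 < f ℓ B y₀ := div_pos hy₀' (Real.sqrt_pos.2 (hpos y₀ hy₀ hy₀ne))
  have hf : 0 < f ℓ B y := lt_of_lt_of_le hf0 (hy.2.2 y₀ hy₀ hy₀ne)
  have hL : 0 < ℓ ⬝ᵥ y := by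
    unfold f at hf
    have := mul_pos hf (Real.sqrt_pos.2 hQ)
    rwa [div_mul_cancel₀ _ (Real.sqrt_pos.2 hQ).ne'] at this
  have ht : 0 < ℓ ⬝ᵥ y / Q B y := div_pos hL hQ
  refine ⟨(ℓ ⬝ᵥ y / Q B y) • y, isMax_smul ℓ B hy ht, isMinSupp_smul ℓ B hmin ht, ?_, ?_⟩
  · rw [Q_smul, dotProduct_smul, smul_eq_mul]
    field_simp
  · rw [Q_smul]
    positivity

variable {ℓ B}

/-- the key inequality for a normalised maximiser -/
lemma key_ineq {y : Fin n → ℝ} (hy : IsMax ℓ B y) (hn : ℓ ⬝ᵥ y = Q B y) (hQ : 0 < Q B y)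
    (hpos : ∀ y : Fin n → ℝ, (∀ i, 0 ≤ y i) → y ≠ 0 → 0 < Q B y)
    {w : Fin n → ℝ} (hw : ∀ i, 0 ≤ w i) (hLw : 0 < ℓ ⬝ᵥ w) :
    (ℓ ⬝ᵥ w) ^ 2 ≤ Q B y * Q B w := by
  have hwne : w ≠ 0 := by
    rintro rfl
    simp at hLw
  have h1 := hy.2.2 w hw hwne
  have hfy : f ℓ B y = Real.sqrt (Q B y) := by
    unfold f
    rw [hn, Real.div_sqrt]
  rw [hfy] at h1
  unfold f at h1
  have hQw := hpos w hw hwne
  rw [div_le_iff₀ (Real.sqrt_pos.2 hQw)] at h1
  have h2 := pow_le_pow_left₀ hLw.le h1 2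
  rwa [mul_pow, Real.sq_sqrt hQ.le, Real.sq_sqrt hQw.le] at h2

lemma eq_zero_of_quadratic {A K ε : ℝ} (hε : 0 < ε)
    (h : ∀ t : ℝ, |t| < ε → t * A ≤ t ^ 2 * K) : A = 0 := by
  have key : ∀ A' K' : ℝ, (∀ t : ℝ, 0 < t → t < ε → t * A' ≤ t ^ 2 * K') → A' ≤ 0 := by
    intro A' K' h'
    by_contra hA
    push Not at hA
    set t := min (ε / 2) (A' / (2 * (|K'| + 1))) with ht
    have hK : 0 < 2 * (|K'| + 1) := by positivity
    have ht0 : 0 < t := lt_min (by linarith) (div_pos hA hK)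
    have ht1 : t < ε := lt_of_le_of_lt (min_le_left _ _) (by linarith)
    have ht2 : t ≤ A' / (2 * (|K'| + 1)) := min_le_right _ _
    have h1 := h' t ht0 ht1
    have h2 : A' ≤ t * K' := by
      have : t * A' ≤ t * (t * K') := by rw [← mul_assoc, ← sq]; exact h1
      exact le_of_mul_le_mul_left this ht0
    have h3 : t * K' ≤ t * |K'| := mul_le_mul_of_nonneg_left (le_abs_self _) ht0.le
    have h4 : t * (2 * (|K'| + 1)) ≤ A' := by rwa [le_div_iff₀ hK] at ht2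
    nlinarith [abs_nonneg K']
  apply le_antisymm
  · exact key A K fun t ht0 ht1 => h t (by rwa [abs_of_pos ht0])
  · have := key (-A) K fun t ht0 ht1 => by
      have := h (-t) (by rwa [abs_neg, abs_of_pos ht0])
      rw [neg_sq] at this
      linarith
    linarith

/-- first-order condition -/
lemma first_order {y : Fin n → ℝ} (hy : IsMax ℓ B y) (hn : ℓ ⬝ᵥ y = Q B y) (hQ : 0 < Q B y)
    (hpos : ∀ y : Fin n → ℝ, (∀ i, 0 ≤ y i) → y ≠ 0 → 0 < Q B y)
    {i : Fin n} (hi : 0 < y i) : G B y i = 2 * ℓ i := by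
  set c := Q B y with hc
  have hε : 0 < min (y i) (c / (|ℓ i| + 1)) := lt_min hi (div_pos hQ (by positivity))
  have hA : c * (2 * ℓ i - G B y i) = 0 := by
    apply eq_zero_of_quadratic (K := c * Q B (Pi.single i 1) - (ℓ i) ^ 2) hε
    intro t ht
    have ht1 : |t| < y i := lt_of_lt_of_le ht (min_le_left _ _)
    have ht2 : |t| < c / (|ℓ i| + 1) := lt_of_lt_of_le ht (min_le_right _ _)
    have hw : ∀ j, 0 ≤ (y + t • (Pi.single i 1 : Fin n → ℝ)) j := by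
      intro j
      simp only [Pi.add_apply, Pi.smul_apply, smul_eq_mul]
      by_cases hj : j = i
      · subst hj
        rw [Pi.single_eq_same, mul_one]
        have := neg_abs_le t
        linarith
      · rw [Pi.single_eq_of_ne hj, mul_zero, add_zero]
        exact hy.1 j
    have hL : ℓ ⬝ᵥ (y + t • (Pi.single i 1 : Fin n → ℝ)) = c + t * ℓ i := by
      rw [dotProduct_add, dotProduct_smul, dotProduct_single_one, hn, smul_eq_mul]
    have hLpos : 0 < ℓ ⬝ᵥ (y + t • (Pi.single i 1 : Fin n → ℝ)) := by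
      rw [hL]
      have h1 : |t * ℓ i| < c := by
        rw [abs_mul]
        have h3 : 0 < |ℓ i| + 1 := by positivity
        rw [lt_div_iff₀ h3] at ht2
        nlinarith [abs_nonneg t, abs_nonneg (ℓ i)]
      have := neg_abs_le (t * ℓ i)
      linarith
    have h := key_ineq hy hn hQ hpos hw hLpos
    rw [hL, Q_add_smul, dotProduct_single_one, ← hc] at h
    nlinarith
  rcases mul_eq_zero.1 hA with h | h
  · exact absurd h hQ.ne'
  · linarith

end real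

end Groth.Agent.Lib.helper10.RatMax
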