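import Groth.Agent.Lib.helper10.RatMaxB
import Groth.Agent.Lib.helper10.LatMaxB

set_option autoImplicit false

/-!
# S19138, part C: uniqueness along kernel directions, rationality, main theorem.
-/

namespace Groth.Agent.Lib.helper10.RatMax

open Matrix Finset

variable {n : ℕ}

section real
variable {ℓ : Fin n → ℝ} {B : Matrix (Fin n) (Fin n) ℝ}

lemma kernel_aux {y : Fin n → ℝ} (hy : IsMax ℓ B y) (hmin : IsMinSupp ℓ B y)
    (hn : ℓ ⬝ᵥ y = Q B y) (hQ : 0 < Q B y)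
    (hpos : ∀ y : Fin n → ℝ, (∀ i, 0 ≤ y i) → y ≠ 0 → 0 < Q B y)
    {d : Fin n → ℝ} (hd0 : ∀ i, y i = 0 → d i = 0) (hdG : ∀ i, y i ≠ 0 → G B d i = 0)
    (hneg : ∃ i, d i < 0) : False := by
  classical
  have hterm : ∀ (u : Fin n → ℝ) (i : Fin n), (y i = 0 → u i = 0) → G B d i * u i = 0 := by
    intro u i hu
    by_cases hi : y i = 0
    · rw [hu hi, mul_zero]
    · rw [hdG i hi, zero_mul]
  have hQd : Q B d = 0 := by
    have h1 : G B d ⬝ᵥ d = 0 := Finset.sum_eq_zero fun i _ => hterm d i (hd0 i)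
    rw [G_self] at h1
    linarith
  have hSd : G B y ⬝ᵥ d = 0 := by
    rw [G_symm]
    exact Finset.sum_eq_zero fun i _ => hterm y i id
  have hLd : ℓ ⬝ᵥ d = 0 := by
    have h1 : (2 : ℝ) * (ℓ ⬝ᵥ d) = G B y ⬝ᵥ d := by
      unfold dotProduct
      rw [Finset.mul_sum]
      refine Finset.sum_congr rfl fun i _ => ?_
      by_cases hi : y i = 0
      · rw [hd0 i hi, mul_zero, mul_zero, mul_zero]
      · rw [first_order hy hn hQ hpos (lt_of_le_of_ne (hy.1 i) (Ne.symm hi))]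
        ring
    rw [hSd] at h1
    linarith
  set J := univ.filter (fun i => d i < 0) with hJ
  have hJne : J.Nonempty := by
    obtain ⟨i, hi⟩ := hneg
    exact ⟨i, by simp [hJ, hi]⟩
  obtain ⟨i₀, hi₀, hmin₀⟩ := Finset.exists_min_image J (fun i => y i / (- d i)) hJne
  have hdi₀ : d i₀ < 0 := by simpa [hJ] using hi₀
  have hyi₀ : 0 < y i₀ := by
    refine lt_of_le_of_ne (hy.1 i₀) (fun h => ?_)
    have := hd0 i₀ h.symm
    linarith
  set t := y i₀ / (- d i₀) with ht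
  have ht0 : 0 < t := div_pos hyi₀ (by linarith)
  have hw : ∀ i, 0 ≤ (y + t • d) i := by
    intro i
    simp only [Pi.add_apply, Pi.smul_apply, smul_eq_mul]
    by_cases hdi : d i < 0
    · have h1 : t ≤ y i / (- d i) := hmin₀ i (by simp [hJ, hdi])
      rw [le_div_iff₀ (by linarith)] at h1
      linarith
    · push Not at hdi
      have := hy.1 i
      have := mul_nonneg ht0.le hdi
      linarith
  have hwi₀ : (y + t • d) i₀ = 0 := by
    simp only [Pi.add_apply, Pi.smul_apply, smul_eq_mul, ht]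
    have hne : d i₀ ≠ 0 := hdi₀.ne
    rw [div_neg, neg_mul, div_mul_cancel₀ _ hne, add_neg_cancel]
  have hLw : ℓ ⬝ᵥ (y + t • d) = Q B y := by
    rw [dotProduct_add, dotProduct_smul, hLd, smul_zero, add_zero, hn]
  have hQw : Q B (y + t • d) = Q B y := by
    rw [Q_add_smul, hSd, hQd, mul_zero, mul_zero, add_zero, add_zero]
  have hwne : y + t • d ≠ 0 := by
    intro h
    rw [h] at hLw
    simp at hLw
    linarith
  have hfw : f ℓ B (y + t • d) = f ℓ B y := by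
    unfold f
    rw [hLw, hQw, hn]
  have hwmax : IsMax ℓ B (y + t • d) := by
    refine ⟨hw, hwne, fun z hz hzne => ?_⟩
    rw [hfw]
    exact hy.2.2 z hz hzne
  have := hmin _ hwmax (fun i hi => by simp [hi, hd0 i hi]) i₀ hwi₀
  linarith

lemma kernel_zero {y : Fin n → ℝ} (hy : IsMax ℓ B y) (hmin : IsMinSupp ℓ B y)
    (hn : ℓ ⬝ᵥ y = Q B y) (hQ : 0 < Q B y)
    (hpos : ∀ y : Fin n → ℝ, (∀ i, 0 ≤ y i) → y ≠ 0 → 0 < Q B y)
    {d : Fin n → ℝ} (hd0 : ∀ i, y i = 0 → d i = 0) (hdG : ∀ i, y i ≠ 0 → G B d i = 0) :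
    d = 0 := by
  by_contra hd
  obtain ⟨i, hi⟩ := Function.ne_iff.1 hd
  rcases lt_or_gt_of_ne hi with h | h
  · exact kernel_aux hy hmin hn hQ hpos hd0 hdG ⟨i, h⟩
  · refine kernel_aux hy hmin hn hQ hpos (d := -d) (fun j hj => by simp [hd0 j hj])
      (fun j hj => by rw [G_neg]; simp [hdG j hj]) ⟨i, ?_⟩
    simp only [Pi.neg_apply, Pi.zero_apply] at h ⊢
    linarith

end real

section rational

theorem main (ℓ : Fin n → ℚ) (B : Matrix (Fin n) (Fin n) ℚ)
    (hpos : ∀ y : Fin n → ℝ, (∀ i, 0 ≤ y i) → y ≠ 0 →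
      0 < y ⬝ᵥ (B.map (fun r : ℚ => (r : ℝ))) *ᵥ y)
    (hℓ : ∃ y : Fin n → ℝ, (∀ i, 0 ≤ y i) ∧ 0 < (fun i => (ℓ i : ℝ)) ⬝ᵥ y) :
    ∃ x : Fin n → ℚ, (∀ i, 0 ≤ x i) ∧ x ≠ 0 ∧
      ∀ y : Fin n → ℝ, (∀ i, 0 ≤ y i) → y ≠ 0 →
        (fun i => (ℓ i : ℝ)) ⬝ᵥ y / Real.sqrt (y ⬝ᵥ (B.map (fun r : ℚ => (r : ℝ))) *ᵥ y) ≤
          (fun i => (ℓ i : ℝ)) ⬝ᵥ (fun i => (x i : ℝ)) /
            Real.sqrt ((fun i => (x i : ℝ)) ⬝ᵥ (B.map (fun r : ℚ => (r : ℝ))) *ᵥ
              (fun i => (x i : ℝ))) := by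
  classical
  set ℓR : Fin n → ℝ := fun i => (ℓ i : ℝ) with hℓR
  set BR : Matrix (Fin n) (Fin n) ℝ := B.map (fun r : ℚ => (r : ℝ)) with hBR
  have hpos' : ∀ y : Fin n → ℝ, (∀ i, 0 ≤ y i) → y ≠ 0 → 0 < Q BR y := hpos
  obtain ⟨y, hy, hmin, hn, hQ⟩ := exists_normalized ℓR BR hpos' hℓ
  obtain ⟨π, hπ⟩ := LatMax.exists_retraction
  have hπmul : ∀ (q : ℚ) (x : ℝ), π ((q : ℝ) * x) = q * π x := by
    intro q x
    have : (q : ℝ) * x = q • x := by rw [Rat.smul_def]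
    rw [this, map_smul, smul_eq_mul]
  have hπmul' : ∀ (q : ℚ) (x : ℝ), π (x * (q : ℝ)) = π x * q := by
    intro q x
    rw [mul_comm, hπmul, mul_comm]
  set x : Fin n → ℚ := fun j => π (y j) with hx
  set z : Fin n → ℝ := fun j => (x j : ℝ) with hz
  -- the rational system
  have hsys : ∀ i, y i ≠ 0 → G BR z i = 2 * (ℓ i : ℝ) := by
    intro i hi
    have h1 := first_order hy hn hQ hpos' (lt_of_le_of_ne (hy.1 i) (Ne.symm hi))
    have h2 : π (G BR y i) = ∑ j, B i j * x j + ∑ j, x j * B j i := by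
      simp only [G, Pi.add_apply, mulVec, vecMul, dotProduct, hBR, Matrix.map_apply, map_add,
        map_sum, hπmul, hπmul', hx]
    have h3 : π (G BR y i) = 2 * ℓ i := by
      rw [h1]
      have : (2 : ℝ) * (ℓR i) = ((2 * ℓ i : ℚ) : ℝ) := by simp [hℓR]
      rw [this, hπ]
    have h4 : G BR z i = ((∑ j, B i j * x j + ∑ j, x j * B j i : ℚ) : ℝ) := by
      simp only [G, Pi.add_apply, mulVec, vecMul, dotProduct, hBR, Matrix.map_apply, hz]
      push_cast
      rfl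
    rw [h4, ← h2, h3]
    push_cast
    rfl
  have hzy : z = y := by
    have hd : z - y = 0 := by
      apply kernel_zero hy hmin hn hQ hpos'
      · intro i hi
        simp [hz, hx, hi]
      · intro i hi
        rw [G_sub, Pi.sub_apply, hsys i hi,
          first_order hy hn hQ hpos' (lt_of_le_of_ne (hy.1 i) (Ne.symm hi)), sub_self]
    exact sub_eq_zero.1 hd
  refine ⟨x, fun i => ?_, ?_, fun w hw hwne => ?_⟩
  · have h1 : (0 : ℝ) ≤ (x i : ℝ) := by
      have := congr_fun hzy i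
      simp only [hz] at this
      rw [this]
      exact hy.1 i
    exact_mod_cast h1
  · intro h0
    apply hy.2.1
    rw [← hzy]
    funext i
    simp [hz, h0]
  · have := hy.2.2 w hw hwne
    rw [← hzy] at this
    exact this

end rational

end Groth.Agent.Lib.helper10.RatMax
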