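import Mathlib

set_option autoImplicit false
universe u
open DirectSum

namespace Groth.Agent.Lib.helper10.ReesLike

section generic
variable {R : Type*} [CommRing R] {ι : Type*} [DecidableEq ι] (M : ι → Type*)
  [∀ i, AddCommGroup (M i)] [∀ i, Module R (M i)]

theorem isInternal_range_lof :
    DirectSum.IsInternal (fun i => LinearMap.range (DirectSum.lof R ι M i)) := by
  rw [DirectSum.isInternal_submodule_iff_iSupIndep_and_iSup_eq_top]
  constructor
  · rw [iSupIndep_def]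
    intro i
    rw [Submodule.disjoint_def]
    intro x hx1 hx2
    obtain ⟨a, rfl⟩ := hx1
    have h : (⨆ (j) (_ : j ≠ i), LinearMap.range (DirectSum.lof R ι M j)) ≤
        LinearMap.ker (DirectSum.component R ι M i) := by
      refine iSup₂_le fun j hj => ?_
      rintro _ ⟨b, rfl⟩
      rw [LinearMap.mem_ker]
      exact (DirectSum.component.of R i j b).trans (dif_neg hj)
    have h2 := h hx2
    rw [LinearMap.mem_ker, DirectSum.component.lof_self] at h2
    rw [h2, map_zero]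
  · exact DFinsupp.iSup_range_lsingle

end generic

section
variable (R R' : Type u) [CommRing R] [CommRing R'] [Algebra R R'] (t : Finset R')

def N : Submodule R (R × R') :=
  Submodule.span R ((fun y : R' => ((0:R), y)) '' (t : Set R'))

def S : Type u := ⨁ d : ℕ, ↥(N R R' t ^ d)

noncomputable instance : CommRing (S R R' t) :=
  inferInstanceAs (CommRing (⨁ d : ℕ, ↥(N R R' t ^ d)))

noncomputable instance : Algebra R (S R R' t) :=
  inferInstanceAs (Algebra R (⨁ d : ℕ, ↥(N R R' t ^ d)))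

noncomputable def ofS (d : ℕ) : ↥(N R R' t ^ d) →ₗ[R] S R R' t :=
  DirectSum.lof R ℕ (fun d => ↥(N R R' t ^ d)) d

noncomputable def 𝒜 (d : ℕ) : Submodule R (S R R' t) := LinearMap.range (ofS R R' t d)

theorem isInternal_𝒜 : DirectSum.IsInternal (𝒜 R R' t) :=
  isInternal_range_lof (R := R) (fun d => ↥(N R R' t ^ d))

theorem ofS_mul_ofS {i j : ℕ} (a : ↥(N R R' t ^ i)) (b : ↥(N R R' t ^ j))
    (h : (a : R × R') * (b : R × R') ∈ N R R' t ^ (i + j)) :
    ofS R R' t i a * ofS R R' t j b = ofS R R' t (i + j) ⟨(a : R × R') * (b : R × R'), h⟩ :=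
  (DirectSum.of_mul_of (A := fun d => ↥(N R R' t ^ d)) a b).trans rfl

theorem one_eq : (1 : S R R' t) = ofS R R' t 0 ⟨1, by rw [pow_zero]; exact Submodule.one_le.mp le_rfl⟩ :=
  rfl

instance : SetLike.GradedMonoid (𝒜 R R' t) where
  one_mem := ⟨_, (one_eq R R' t).symm⟩
  mul_mem := by
    rintro i j _ _ ⟨a, rfl⟩ ⟨b, rfl⟩
    exact ⟨_, (ofS_mul_ofS R R' t a b (by rw [pow_add]; exact Submodule.mul_mem_mul a.2 b.2)).symm⟩

noncomputable instance gradedAlgebra : GradedAlgebra (𝒜 R R' t) :=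
  DirectSum.IsInternal.gradedAlgebra (M := 𝒜 R R' t) (isInternal_𝒜 R R' t)


/-- evaluation at `T = 1`, second component. -/
noncomputable def ψ : S R R' t →+* R' :=
  (RingHom.snd R R').comp (DirectSum.coeAlgHom (fun d => N R R' t ^ d)).toRingHom

theorem ψ_ofS (d : ℕ) (b : ↥(N R R' t ^ d)) :
    ψ R R' t (ofS R R' t d b) = (b : R × R').2 :=
  congrArg Prod.snd (DirectSum.coeAlgHom_of (fun d => N R R' t ^ d) d b)

theorem induction_on {P : S R R' t → Prop} (x : S R R' t) (h0 : P 0)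
    (hof : ∀ d b, P (ofS R R' t d b)) (hadd : ∀ x y, P x → P y → P (x + y)) : P x :=
  DirectSum.induction_on (motive := P) x h0 hof hadd

variable {R R' t}

theorem ofS_mem_𝒜 (d : ℕ) (b : ↥(N R R' t ^ d)) : ofS R R' t d b ∈ 𝒜 R R' t d := ⟨b, rfl⟩

theorem gen_mem {y : R'} (hy : y ∈ t) : ((0:R), y) ∈ N R R' t :=
  Submodule.subset_span ⟨y, hy, rfl⟩

theorem gen_mem' {y : R'} (hy : y ∈ t) : ((0:R), y) ∈ N R R' t ^ 1 := by
  rw [pow_one]
  exact gen_mem hy

variable (R R' t) in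
/-- degree-one generators -/
noncomputable def gen (y : {y : R' // y ∈ t}) : S R R' t :=
  ofS R R' t 1 ⟨((0:R), y.1), gen_mem' y.2⟩

theorem algebraMap_eq (r : R) (h : algebraMap R (R × R') r ∈ N R R' t ^ 0) :
    algebraMap R (S R R' t) r = ofS R R' t 0 ⟨algebraMap R (R × R') r, h⟩ :=
  rfl

theorem algebraMap_mem_pow_zero (r : R) : algebraMap R (R × R') r ∈ N R R' t ^ 0 := by
  rw [pow_zero]
  exact Submodule.algebraMap_mem r

theorem ψ_algebraMap (r : R) : ψ R R' t (algebraMap R (S R R' t) r) = algebraMap R R' r := by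
  rw [algebraMap_eq r (algebraMap_mem_pow_zero r), ψ_ofS]
  rfl

theorem algebraMap_injective : Function.Injective (algebraMap R (S R R' t)) := by
  intro r r' h
  have h2 := congrArg (DirectSum.coeAlgHom (fun d => N R R' t ^ d)) h
  have e1 : ∀ r : R, (DirectSum.coeAlgHom (fun d => N R R' t ^ d)) (algebraMap R (S R R' t) r) =
      algebraMap R (R × R') r := fun r => AlgHom.commutes _ r
  rw [e1, e1] at h2
  exact congrArg Prod.fst h2

theorem mem_range_of_mem_zero (x : S R R' t) (hx : x ∈ 𝒜 R R' t 0) :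
    x ∈ Set.range (algebraMap R (S R R' t)) := by
  obtain ⟨⟨b, hb⟩, rfl⟩ := hx
  have hb' := hb
  rw [pow_zero, Submodule.mem_one] at hb'
  obtain ⟨r, rfl⟩ := hb'
  exact ⟨r, algebraMap_eq r hb⟩

theorem of_one_mem_adjoin (n : R × R') (hn : n ∈ N R R' t) :
    ∃ hn' : n ∈ N R R' t ^ 1, ofS R R' t 1 ⟨n, hn'⟩ ∈
      Algebra.adjoin R (Set.range (gen R R' t)) := by
  induction hn using Submodule.span_induction with
  | mem x hx =>
    obtain ⟨y, hy, rfl⟩ := hx
    exact ⟨gen_mem' hy, Algebra.subset_adjoin ⟨⟨y, hy⟩, rfl⟩⟩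
  | zero =>
    refine ⟨zero_mem _, ?_⟩
    have : (⟨0, zero_mem _⟩ : ↥(N R R' t ^ 1)) = 0 := rfl
    rw [this, map_zero]
    exact zero_mem _
  | add x y hx hy ihx ihy =>
    obtain ⟨hx', hx''⟩ := ihx
    obtain ⟨hy', hy''⟩ := ihy
    refine ⟨add_mem hx' hy', ?_⟩
    have : (⟨x + y, add_mem hx' hy'⟩ : ↥(N R R' t ^ 1)) = ⟨x, hx'⟩ + ⟨y, hy'⟩ := rfl
    rw [this, map_add]
    exact add_mem hx'' hy''
  | smul r x hx ihx =>
    obtain ⟨hx', hx''⟩ := ihx
    refine ⟨Submodule.smul_mem _ r hx', ?_⟩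
    have : (⟨r • x, Submodule.smul_mem _ r hx'⟩ : ↥(N R R' t ^ 1)) = r • ⟨x, hx'⟩ := rfl
    rw [this, map_smul]
    exact Subalgebra.smul_mem _ hx'' r

theorem of_mem_adjoin (d : ℕ) (b : R × R') (hb : b ∈ N R R' t ^ d) :
    ofS R R' t d ⟨b, hb⟩ ∈ Algebra.adjoin R (Set.range (gen R R' t)) := by
  induction d generalizing b with
  | zero =>
    have hb' := hb
    rw [pow_zero, Submodule.mem_one] at hb'
    obtain ⟨r, rfl⟩ := hb'
    rw [← algebraMap_eq r hb]
    exact Subalgebra.algebraMap_mem _ r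
  | succ d ih =>
    have hb' : b ∈ N R R' t ^ d * N R R' t := by rw [← pow_succ]; exact hb
    have key : ∃ hb'' : b ∈ N R R' t ^ (d + 1),
        ofS R R' t (d + 1) ⟨b, hb''⟩ ∈ Algebra.adjoin R (Set.range (gen R R' t)) := by
      induction hb' using Submodule.mul_induction_on' with
      | mem_mul_mem m hm n hn =>
        obtain ⟨hn', hn''⟩ := of_one_mem_adjoin n hn
        have hmn : m * n ∈ N R R' t ^ (d + 1) := by
          rw [pow_succ]; exact Submodule.mul_mem_mul hm hn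
        refine ⟨hmn, ?_⟩
        rw [← ofS_mul_ofS R R' t ⟨m, hm⟩ ⟨n, hn'⟩ hmn]
        exact mul_mem (ih m hm) hn''
      | add x hx y hy ihx ihy =>
        obtain ⟨hx', hx''⟩ := ihx (by rw [pow_succ]; exact hx)
        obtain ⟨hy', hy''⟩ := ihy (by rw [pow_succ]; exact hy)
        refine ⟨add_mem hx' hy', ?_⟩
        have : (⟨x + y, add_mem hx' hy'⟩ : ↥(N R R' t ^ (d + 1))) = ⟨x, hx'⟩ + ⟨y, hy'⟩ := rfl
        rw [this, map_add]
        exact add_mem hx'' hy''
    exact key.2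

theorem adjoin_eq_top : Algebra.adjoin R (Set.range (gen R R' t)) = ⊤ := by
  rw [eq_top_iff]
  rintro x -
  induction x using induction_on with
  | h0 => exact zero_mem _
  | hof i b => exact of_mem_adjoin i b.1 b.2
  | hadd x y hx hy => exact add_mem hx hy

section loc
variable (R) (h1 : (1:R') ∈ t)

noncomputable def f : S R R' t := gen R R' t ⟨1, h1⟩

theorem f_mem : f R h1 ∈ 𝒜 R R' t 1 := ofS_mem_𝒜 _ _

theorem ψ_f : ψ R R' t (f R h1) = 1 := by rw [f, gen, ψ_ofS]

theorem isUnit_ψ_f : IsUnit (ψ R R' t (f R h1)) := by rw [ψ_f]; exact isUnit_one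

noncomputable def ε : HomogeneousLocalization.Away (𝒜 R R' t) (f R h1) →+* R' :=
  (IsLocalization.Away.lift (S := Localization.Away (f R h1)) (f R h1) (g := ψ R R' t)
    (isUnit_ψ_f R h1)).comp
    (algebraMap (HomogeneousLocalization.Away (𝒜 R R' t) (f R h1)) (Localization.Away (f R h1)))

theorem ε_mk (n : ℕ) (a : S R R' t) (ha : a ∈ 𝒜 R R' t (n • 1)) :
    ε R h1 (HomogeneousLocalization.Away.mk (𝒜 R R' t) (f_mem R h1) n a ha) = ψ R R' t a := by
  unfold ε
  rw [RingHom.comp_apply, HomogeneousLocalization.algebraMap_apply,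
    HomogeneousLocalization.Away.val_mk]
  have h := IsLocalization.mk'_spec (Localization.Away (f R h1)) a
    (⟨f R h1 ^ n, n, rfl⟩ : Submonoid.powers (f R h1))
  rw [← Localization.mk_eq_mk'] at h
  have h2 := congrArg (IsLocalization.Away.lift (S := Localization.Away (f R h1)) (f R h1)
    (g := ψ R R' t) (isUnit_ψ_f R h1)) h
  rw [map_mul, IsLocalization.Away.lift_eq, IsLocalization.Away.lift_eq, map_pow, ψ_f, one_pow,
    mul_one] at h2
  exact h2

theorem ε_injective : Function.Injective (ε R h1) := by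
  rw [injective_iff_map_eq_zero]
  intro x hx
  obtain ⟨n, a, ha, rfl⟩ := HomogeneousLocalization.Away.mk_surjective (𝒜 R R' t) (f_mem R h1) x
  rw [ε_mk] at hx
  have ha' : a ∈ 𝒜 R R' t n := by simpa using ha
  obtain ⟨⟨b, hb⟩, rfl⟩ := ha'
  rw [ψ_ofS] at hx
  apply HomogeneousLocalization.val_injective
  rw [HomogeneousLocalization.Away.val_mk, HomogeneousLocalization.val_zero,
    Localization.mk_eq_mk', IsLocalization.mk'_eq_zero_iff]
  refine ⟨⟨f R h1, 1, pow_one _⟩, ?_⟩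
  have hz : ((0:R), (1:R')) * b = 0 := by
    ext
    · simp
    · simpa using hx
  have hmem : (((⟨((0:R), (1:R')), gen_mem' h1⟩ : ↥(N R R' t ^ 1)) : R × R') *
      ((⟨b, hb⟩ : ↥(N R R' t ^ n)) : R × R')) ∈ N R R' t ^ (1 + n) := by
    show ((0:R), (1:R')) * b ∈ _
    rw [hz]; exact zero_mem _
  show f R h1 * _ = 0
  rw [f, gen, ofS_mul_ofS R R' t _ _ hmem]
  have : (⟨_, hmem⟩ : ↥(N R R' t ^ (1 + n))) = 0 := Subtype.ext hz
  rw [this, map_zero]

include h1 in
theorem exists_pow_mem (ht : Algebra.adjoin R (t : Set R') = ⊤) (y : R') :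
    ∃ d : ℕ, ∃ b ∈ N R R' t ^ d, (b : R × R').2 = y := by
  have hy : y ∈ Algebra.adjoin R (t : Set R') := by rw [ht]; trivial
  induction hy using Algebra.adjoin_induction with
  | mem y hy => exact ⟨1, (0,y), gen_mem' hy, rfl⟩
  | algebraMap r => exact ⟨0, algebraMap R (R × R') r, algebraMap_mem_pow_zero r, rfl⟩
  | add y1 y2 _ _ ih1 ih2 =>
    obtain ⟨d1, b1, hb1, rfl⟩ := ih1
    obtain ⟨d2, b2, hb2, rfl⟩ := ih2
    have hu : ∀ k, ((0:R),(1:R'))^k ∈ N R R' t ^ k :=
      fun k => Submodule.pow_mem_pow _ (gen_mem h1) k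
    refine ⟨d1 + d2, b1 * (0,1)^d2 + b2 * (0,1)^d1, add_mem ?_ ?_, ?_⟩
    · rw [pow_add]; exact Submodule.mul_mem_mul hb1 (hu d2)
    · rw [add_comm, pow_add]; exact Submodule.mul_mem_mul hb2 (hu d1)
    · simp
  | mul y1 y2 _ _ ih1 ih2 =>
    obtain ⟨d1, b1, hb1, rfl⟩ := ih1
    obtain ⟨d2, b2, hb2, rfl⟩ := ih2
    exact ⟨d1 + d2, b1 * b2, by rw [pow_add]; exact Submodule.mul_mem_mul hb1 hb2, rfl⟩

theorem ε_surjective (ht : Algebra.adjoin R (t : Set R') = ⊤) : Function.Surjective (ε R h1) := by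
  intro y
  obtain ⟨d, b, hb, rfl⟩ := exists_pow_mem R h1 ht y
  refine ⟨HomogeneousLocalization.Away.mk (𝒜 R R' t) (f_mem R h1) d
    (ofS R R' t d ⟨b, hb⟩) (by simpa using ofS_mem_𝒜 d ⟨b, hb⟩), ?_⟩
  rw [ε_mk, ψ_ofS]

end loc

theorem main (R R' : Type u) [CommRing R] [CommRing R'] [Algebra R R'] [Algebra.FiniteType R R'] :
    ∃ (S : Type u) (_ : CommRing S) (_ : Algebra R S) (𝒜 : ℕ → Submodule R S) (_ : GradedAlgebra 𝒜) (f : S) (_ : f ∈ 𝒜 1) (s : Finset S)
      (e : HomogeneousLocalization.Away 𝒜 f ≃+* R'),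
      Function.Injective (algebraMap R S) ∧ (∀ x ∈ 𝒜 0, x ∈ Set.range (algebraMap R S)) ∧
      (↑s ⊆ (𝒜 1 : Set S)) ∧ Algebra.adjoin R (s : Set S) = ⊤ ∧
      ∀ r : R, (e.symm (algebraMap R R' r)).val = algebraMap S (Localization.Away f) (algebraMap R S r) := by
  classical
  obtain ⟨t0, ht0⟩ := (Algebra.FiniteType.out : (⊤ : Subalgebra R R').FG)
  obtain ⟨t, h1, ht⟩ : ∃ t : Finset R', (1:R') ∈ t ∧ Algebra.adjoin R (t : Set R') = ⊤ := by
    refine ⟨insert 1 t0, Finset.mem_insert_self _ _, ?_⟩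
    rw [eq_top_iff, ← ht0]
    exact Algebra.adjoin_mono (by simp)
  let e : HomogeneousLocalization.Away (𝒜 R R' t) (f R h1) ≃+* R' :=
    RingEquiv.ofBijective (ε R h1) ⟨ε_injective R h1, ε_surjective R h1 ht⟩
  refine ⟨S R R' t, inferInstance, inferInstance, 𝒜 R R' t, gradedAlgebra R R' t, f R h1,
    f_mem R h1, Finset.univ.image (gen R R' t), e, algebraMap_injective, mem_range_of_mem_zero,
    ?_, ?_, ?_⟩
  · intro x hx
    rw [Finset.coe_image] at hx
    obtain ⟨y, -, rfl⟩ := hx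
    exact ofS_mem_𝒜 _ _
  · rw [Finset.coe_image, Finset.coe_univ, Set.image_univ]
    exact adjoin_eq_top
  · intro r
    have h0 : algebraMap R (S R R' t) r ∈ 𝒜 R R' t (0 • 1) := by
      rw [zero_smul, algebraMap_eq r (algebraMap_mem_pow_zero r)]
      exact ofS_mem_𝒜 _ _
    have h2 : e.symm (algebraMap R R' r) = HomogeneousLocalization.Away.mk (𝒜 R R' t)
        (f_mem R h1) 0 (algebraMap R (S R R' t) r) h0 := by
      rw [RingEquiv.symm_apply_eq]
      show _ = ε R h1 _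
      rw [ε_mk, ψ_algebraMap]
    rw [h2, HomogeneousLocalization.Away.val_mk, ← Localization.mk_one_eq_algebraMap]
    congr 1

end

end Groth.Agent.Lib.helper10.ReesLike
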