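import Mathlib

set_option maxHeartbeats 400000
set_option autoImplicit false
universe u

namespace H10S14994

variable {A : Type u} [CommRing A] [IsDomain A]

/-- A non-torsion element of a finite module over a domain is detected by a functional. -/
theorem exists_dual_ne_zero_of_not_torsion {Q : Type u} [AddCommGroup Q] [Module A Q]
    [Module.Finite A Q] (q : Q) (hq : q ∉ Submodule.torsion A Q) :
    ∃ g : Q →ₗ[A] A, g q ≠ 0 := by
  classical
  let K := FractionRing A
  let V := LocalizedModule (nonZeroDivisors A) Q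
  let ι : Q →ₗ[A] V := LocalizedModule.mkLinearMap (nonZeroDivisors A) Q
  have hv : ι q ≠ 0 := by
    intro h0
    rw [IsLocalizedModule.eq_zero_iff (nonZeroDivisors A)] at h0
    obtain ⟨s, hs⟩ := h0
    exact hq ((Submodule.mem_torsion_iff q).2 ⟨s, hs⟩)
  obtain ⟨φ, hφ⟩ := Module.Projective.exists_dual_ne_zero K hv
  let ψ : Q →ₗ[A] K := (φ.restrictScalars A).comp ι
  obtain ⟨S, hS⟩ := (Module.Finite.fg_top : (⊤ : Submodule A Q).FG)
  obtain ⟨b, hb⟩ := IsLocalization.exist_integer_multiples_of_finset (nonZeroDivisors A)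
    (S.image ψ)
  have hrange : ∀ x : Q, ((b : A) • ψ x) ∈ LinearMap.range (Algebra.linearMap A K) := by
    intro x
    have hx : x ∈ Submodule.span A (S : Set Q) := hS ▸ Submodule.mem_top
    induction hx using Submodule.span_induction with
    | mem y hy =>
      obtain ⟨r, hr⟩ := hb (ψ y) (Finset.mem_image_of_mem ψ hy)
      exact ⟨r, hr⟩
    | zero => simp
    | add y z _ _ hy hz =>
      rw [map_add, smul_add]
      exact Submodule.add_mem _ hy hz
    | smul r y _ hy =>
      rw [map_smul, smul_comm]
      exact Submodule.smul_mem _ r hy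
  have hinj : Function.Injective (Algebra.linearMap A K) := IsFractionRing.injective A K
  let e := LinearEquiv.ofInjective (Algebra.linearMap A K) hinj
  let g' : Q →ₗ[A] LinearMap.range (Algebra.linearMap A K) :=
    LinearMap.codRestrict _ ((b : A) • ψ) hrange
  refine ⟨e.symm.toLinearMap.comp g', ?_⟩
  intro h0
  have h1 : g' q = 0 := by
    have := congrArg e h0
    simpa using this
  have h2 : (b : A) • ψ q = 0 := congrArg Subtype.val h1
  have h3 : ψ q ≠ 0 := hφ
  rw [Algebra.smul_def, mul_eq_zero] at h2
  rcases h2 with h2 | h2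
  · have : (b : A) = 0 := (IsFractionRing.injective A K) (by rw [h2, map_zero])
    exact nonZeroDivisors.coe_ne_zero b this
  · exact h3 h2

theorem main (M : Type u) [AddCommGroup M] [Module A M] [Module.Finite A M]
    (N : Submodule A M) :
    (LinearMap.range N.subtype.dualMap.dualMap).comap (Module.Dual.eval A M) ≤
      (Submodule.torsion A (M ⧸ N)).comap N.mkQ := by
  intro m hm
  rw [Submodule.mem_comap] at hm ⊢
  by_contra hq
  obtain ⟨g, hg⟩ := exists_dual_ne_zero_of_not_torsion (N.mkQ m) hq
  obtain ⟨ξ, hξ⟩ := hm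
  let f : Module.Dual A M := g.comp N.mkQ
  have h1 : Module.Dual.eval A M m f = g (N.mkQ m) := rfl
  have h2 : N.subtype.dualMap f = 0 := by
    ext n
    show g (N.mkQ (n : M)) = 0
    rw [Submodule.mkQ_apply, (Submodule.Quotient.mk_eq_zero N).2 n.2, map_zero]
  have h3 : (N.subtype.dualMap.dualMap ξ) f = ξ (N.subtype.dualMap f) := rfl
  rw [← hξ, h3, h2, map_zero] at h1
  exact hg h1.symm

end H10S14994
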