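import Mathlib

set_option autoImplicit false
universe u

namespace Groth.Agent.Lib.helper10.ResCount

open Polynomial

section general

variable {F : Type*} [Field F]

/-- fibre counting for surjective linear maps. -/
lemma card_preimage {V W : Type*} [AddCommGroup V] [Module F V] [AddCommGroup W] [Module F W]
    [Finite V] [Finite W] (L : V →ₗ[F] W) (hL : Function.Surjective L) (P : W → Prop) :
    Nat.card {v : V // P (L v)} * Nat.card W = Nat.card {w : W // P w} * Nat.card V := by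
  obtain ⟨s, hs⟩ := L.exists_rightInverse_of_surjective (LinearMap.range_eq_top.mpr hL)
  have hs' : ∀ w, L (s w) = w := fun w => LinearMap.congr_fun hs w
  let e : V ≃ W × LinearMap.ker L :=
    { toFun := fun v => (L v, ⟨v - s (L v), by simp [hs']⟩)
      invFun := fun p => s p.1 + p.2
      left_inv := fun v => by simp
      right_inv := fun p => by
        obtain ⟨w, κ, hκ⟩ := p
        have hκ' : L κ = 0 := hκ
        ext <;> simp [hs', hκ'] }
  let e2 : {v : V // P (L v)} ≃ {w : W // P w} × LinearMap.ker L :=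
    { toFun := fun v => (⟨L v.1, v.2⟩, (e v.1).2)
      invFun := fun p => ⟨e.symm (p.1.1, p.2), by
        have : L (e.symm (p.1.1, p.2)) = p.1.1 := by
          have h := congrArg Prod.fst (e.apply_symm_apply (p.1.1, p.2))
          exact h
        rw [this]; exact p.1.2⟩
      left_inv := fun v => by
        apply Subtype.ext
        show e.symm (L v.1, (e v.1).2) = v.1
        have : (L v.1, (e v.1).2) = e v.1 := rfl
        rw [this, e.symm_apply_apply]
      right_inv := fun p => by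
        obtain ⟨⟨w, hw⟩, κ⟩ := p
        have h := e.apply_symm_apply (w, κ)
        apply Prod.ext
        · apply Subtype.ext
          exact congrArg Prod.fst h
        · show (e (e.symm (w, κ))).2 = κ
          rw [h] }
  rw [Nat.card_congr e2, Nat.card_congr e, Nat.card_prod, Nat.card_prod]
  ring

lemma card_pairs_fst {α β : Type*} [Fintype α] [Finite β] (P : α → β → Prop) :
    Nat.card {p : α × β // P p.1 p.2} = ∑ a, Nat.card {b : β // P a b} := by
  rw [← Nat.card_sigma]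
  exact Nat.card_congr
    { toFun := fun p => ⟨p.1.1, ⟨p.1.2, p.2⟩⟩
      invFun := fun s => ⟨(s.1, s.2.1), s.2.2⟩
      left_inv := fun p => rfl
      right_inv := fun s => rfl }

lemma card_pairs_snd {α β : Type*} [Finite α] [Fintype β] (P : α → β → Prop) :
    Nat.card {p : α × β // P p.1 p.2} = ∑ b, Nat.card {a : α // P a b} := by
  rw [← Nat.card_sigma]
  exact Nat.card_congr
    { toFun := fun p => ⟨p.1.2, ⟨p.1.1, p.2⟩⟩
      invFun := fun s => ⟨(s.2.1, s.1), s.2.2⟩
      left_inv := fun p => rfl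
      right_inv := fun s => rfl }

end general


section polys

variable {F : Type u} [Field F]

/-- the polynomial with coefficient vector `c`. -/
noncomputable def gp (m : ℕ) (c : Fin (m + 1) → F) : F[X] :=
  ∑ i : Fin (m + 1), C (c i) * X ^ (i : ℕ)

lemma gp_eq_ofFn [DecidableEq F] (m : ℕ) (c : Fin (m + 1) → F) : gp m c = ofFn (m + 1) c := by
  rw [ofFn_eq_sum_monomial]
  simp [gp, C_mul_X_pow_eq_monomial]

lemma coeff_gp_lt (m : ℕ) (c : Fin (m + 1) → F) {i : ℕ} (hi : i < m + 1) :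
    (gp m c).coeff i = c ⟨i, hi⟩ := by
  classical
  rw [gp_eq_ofFn, ofFn_coeff_eq_val_of_lt _ hi]

lemma coeff_gp_ge (m : ℕ) (c : Fin (m + 1) → F) {i : ℕ} (hi : m + 1 ≤ i) :
    (gp m c).coeff i = 0 := by
  classical
  rw [gp_eq_ofFn, ofFn_coeff_eq_zero_of_ge _ hi]

lemma natDegree_gp_le (m : ℕ) (c : Fin (m + 1) → F) : (gp m c).natDegree ≤ m := by
  rw [natDegree_le_iff_coeff_eq_zero]
  intro N hN
  exact coeff_gp_ge m c hN

lemma res_two_one (a : Fin 3 → F) (h : Fin 2 → F) :
    resultant (gp 2 a) (gp 1 h) 2 1 = a 0 * h 1 ^ 2 - a 1 * h 0 * h 1 + a 2 * h 0 ^ 2 := by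
  rw [resultant]
  have e : ∀ i j : Fin 3, sylvester (gp 2 a) (gp 1 h) 2 1 i j =
      !![h 0, 0, a 0; h 1, h 0, a 1; 0, h 1, a 2] i j := by
    intro i j
    fin_cases i <;> fin_cases j <;> simp [sylvester, Fin.addCases, coeff_gp_lt]
  have e' : sylvester (gp 2 a) (gp 1 h) 2 1 = !![h 0, 0, a 0; h 1, h 0, a 1; 0, h 1, a 2] :=
    Matrix.ext e
  rw [e', Matrix.det_fin_three]
  simp
  ring


open Classical in
/-- `gp` as a linear map. -/
noncomputable def gpL (m : ℕ) : (Fin (m + 1) → F) →ₗ[F] F[X] := ofFn (m + 1)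

lemma gpL_apply (m : ℕ) (c : Fin (m + 1) → F) : gpL m c = gp m c := by
  classical
  rw [gp_eq_ofFn]; rfl

lemma gp_toFn (m : ℕ) (p : F[X]) (hp : p.natDegree ≤ m) : gp m (toFn (m + 1) p) = p := by
  classical
  rw [gp_eq_ofFn, ofFn_comp_toFn_eq_id_of_natDegree_lt (by omega)]

lemma toFn_gp (m : ℕ) (c : Fin (m + 1) → F) : toFn (m + 1) (gp m c) = c := by
  classical
  rw [gp_eq_ofFn, toFn_comp_ofFn_eq_id]

lemma gp_two_coeff (a : Fin 3 → F) : (gp 2 a).coeff 2 = a 2 := coeff_gp_lt 2 a (by norm_num)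

/-- case A: reduce modulo `f`. -/
lemma res_caseA (a : Fin 3 → F) (ha : a 2 ≠ 0) (n : ℕ) (hn : 2 ≤ n) (g : F[X])
    (hg : g.natDegree ≤ n) :
    resultant (gp 2 a) g 2 n =
      (a 2) ^ (n - 1) * resultant (gp 2 a) (g %ₘ (C (a 2)⁻¹ * gp 2 a)) 2 1 := by
  obtain ⟨f, hf_def⟩ : ∃ f, f = gp 2 a := ⟨_, rfl⟩
  rw [← hf_def]
  have hf2 : f.coeff 2 = a 2 := by rw [hf_def, gp_two_coeff]
  have hfdeg : f.natDegree ≤ 2 := by rw [hf_def]; exact natDegree_gp_le 2 a
  have hfdeg' : f.natDegree = 2 := le_antisymm hfdeg (le_natDegree_of_ne_zero (by rw [hf2]; exact ha))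
  obtain ⟨ft, hft_def⟩ : ∃ ft, ft = C (a 2)⁻¹ * f := ⟨_, rfl⟩
  rw [← hft_def]
  have hftdeg : ft.natDegree = 2 := by
    rw [hft_def, natDegree_C_mul (inv_ne_zero ha), hfdeg']
  have hmonic : ft.Monic := by
    rw [Monic, leadingCoeff, hftdeg, hft_def, coeff_C_mul, hf2, inv_mul_cancel₀ ha]
  have hne1 : ft ≠ 1 := by
    intro h
    rw [h, natDegree_one] at hftdeg
    omega
  have hfeq : f = C (a 2) * ft := by
    rw [hft_def, ← mul_assoc, ← C_mul, mul_inv_cancel₀ ha, C_1, one_mul]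
  have hdecomp : g = g %ₘ ft + f * (C (a 2)⁻¹ * (g /ₘ ft)) := by
    conv_lhs => rw [← modByMonic_add_div g ft]
    rw [hft_def]; ring
  have hpdeg : (C (a 2)⁻¹ * (g /ₘ ft)).natDegree + 2 ≤ n := by
    rw [natDegree_C_mul (inv_ne_zero ha), natDegree_divByMonic g hmonic, hftdeg]
    omega
  have h1 : resultant f g 2 n = resultant f (g %ₘ ft) 2 n := by
    conv_lhs => rw [hdecomp]
    exact resultant_add_mul_right f (g %ₘ ft) (C (a 2)⁻¹ * (g /ₘ ft)) 2 n hpdeg hfdeg
  have hmdeg : (g %ₘ ft).natDegree ≤ 1 := by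
    have := natDegree_modByMonic_lt g hmonic hne1
    omega
  have h2 : resultant f (g %ₘ ft) 2 (1 + (n - 1)) =
      f.coeff 2 ^ (n - 1) * resultant f (g %ₘ ft) 2 1 :=
    resultant_add_right_deg f (g %ₘ ft) 2 1 (n - 1) hmdeg
  have hn' : 1 + (n - 1) = n := by omega
  rw [hn'] at h2
  rw [h1, h2, hf2]

end polys

end Groth.Agent.Lib.helper10.ResCount
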