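import Groth.Agent.Lib.helper10.ResCount

set_option autoImplicit false
universe u

namespace Groth.Agent.Lib.helper10.ResCount

open Polynomial

variable {F : Type u} [Field F]

lemma gp_two_eq (a : Fin 3 → F) :
    gp 2 a = C (a 0) + C (a 1) * X + C (a 2) * X ^ 2 := by
  rw [gp, Fin.sum_univ_three]
  simp

/-- case B: `f` of degree one. -/
lemma res_caseB (a : Fin 3 → F) (ha2 : a 2 = 0) (ha1 : a 1 ≠ 0) (n : ℕ) (g : F[X])
    (hg : g.natDegree ≤ n) :
    resultant (gp 2 a) g 2 n =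
      (-1) ^ n * g.coeff n * ((a 1) ^ n * eval (-(a 0 / a 1)) g) := by
  have hf : gp 2 a = C (a 1) * (X + C (a 0 / a 1)) := by
    rw [gp_two_eq, ha2, mul_add, ← C_mul, mul_div_cancel₀ _ ha1]
    simp; ring
  have hdeg : (C (a 1) * (X + C (a 0 / a 1))).natDegree ≤ 1 := by
    rw [natDegree_C_mul ha1]
    exact (natDegree_X_add_C _).le
  rw [hf]
  show resultant _ g (1 + 1) n = _
  rw [resultant_succ_left_deg _ _ _ _ hdeg, resultant_C_mul_left,
    resultant_X_add_C_left _ _ _ hg]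

/-- case C: `f` a nonzero constant. -/
lemma res_caseC (a : Fin 3 → F) (ha2 : a 2 = 0) (ha1 : a 1 = 0) (n : ℕ) (g : F[X]) :
    resultant (gp 2 a) g 2 n = (-1) ^ (2 * n) * g.coeff n ^ 2 * (a 0) ^ n := by
  have hf : gp 2 a = C (a 0) := by
    rw [gp_two_eq, ha2, ha1]; simp
  rw [hf, resultant_C_left]

section counting

variable [Finite F]

lemma card_pi_fin (m : ℕ) : Nat.card (Fin m → F) = Nat.card F ^ m := by
  rw [Nat.card_fun, Nat.card_fin]

lemma card_ne_zero : Nat.card {u : F // u ≠ 0} = Nat.card F - 1 := by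
  rw [← Nat.card_congr unitsEquivNeZero, Nat.card_units]

/-- number of `b` with nonvanishing resultant, for fixed `a`. -/
noncomputable def Nn (n : ℕ) (a : Fin 3 → F) : ℕ :=
  Nat.card {b : Fin (n + 1) → F // resultant (gp 2 a) (gp n b) 2 n ≠ 0}

lemma count_A (a : Fin 3 → F) (ha : a 2 ≠ 0) (n : ℕ) (hn : 2 ≤ n) :
    Nn n a * Nat.card F ^ 2 = Nn 1 a * Nat.card F ^ (n + 1) := by
  let L : (Fin (n + 1) → F) →ₗ[F] (Fin 2 → F) :=
    (toFn 2).comp ((modByMonicHom (C (a 2)⁻¹ * gp 2 a)).comp (gpL n))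
  have hLapp : ∀ b, L b = toFn 2 (gp n b %ₘ (C (a 2)⁻¹ * gp 2 a)) := by
    intro b
    show toFn 2 (modByMonicHom _ (gpL n b)) = _
    rw [gpL_apply]; rfl
  -- monic facts
  have hf2 : (gp 2 a).coeff 2 = a 2 := gp_two_coeff a
  have hfdeg' : (gp 2 a).natDegree = 2 :=
    le_antisymm (natDegree_gp_le 2 a) (le_natDegree_of_ne_zero (by rw [hf2]; exact ha))
  have hftdeg : (C (a 2)⁻¹ * gp 2 a).natDegree = 2 := by
    rw [natDegree_C_mul (inv_ne_zero ha), hfdeg']
  have hmonic : (C (a 2)⁻¹ * gp 2 a).Monic := by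
    rw [Monic, leadingCoeff, hftdeg, coeff_C_mul, hf2, inv_mul_cancel₀ ha]
  have hne1 : (C (a 2)⁻¹ * gp 2 a) ≠ 1 := by
    intro h
    rw [h, natDegree_one] at hftdeg
    omega
  have hmod : ∀ b, gp 1 (L b) = gp n b %ₘ (C (a 2)⁻¹ * gp 2 a) := by
    intro b
    rw [hLapp]
    apply gp_toFn
    have := natDegree_modByMonic_lt (gp n b) hmonic hne1
    omega
  have hL : Function.Surjective L := by
    intro w
    refine ⟨toFn (n + 1) (gp 1 w), ?_⟩
    rw [hLapp, gp_toFn n _ ((natDegree_gp_le 1 w).trans (by omega))]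
    have : gp 1 w %ₘ (C (a 2)⁻¹ * gp 2 a) = gp 1 w := by
      rw [modByMonic_eq_self_iff hmonic]
      apply degree_lt_degree
      rw [hftdeg]
      exact lt_of_le_of_lt (natDegree_gp_le 1 w) (by norm_num)
    rw [this, toFn_gp]
  have key := card_preimage L hL (fun w => resultant (gp 2 a) (gp 1 w) 2 1 ≠ 0)
  rw [card_pi_fin, card_pi_fin] at key
  have hiff : ∀ b : Fin (n + 1) → F,
      resultant (gp 2 a) (gp 1 (L b)) 2 1 ≠ 0 ↔ resultant (gp 2 a) (gp n b) 2 n ≠ 0 := by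
    intro b
    rw [res_caseA a ha n hn (gp n b) (natDegree_gp_le n b), hmod]
    rw [mul_ne_zero_iff]
    exact ⟨fun h => ⟨pow_ne_zero _ ha, h⟩, fun h => h.2⟩
  have hcongr : Nat.card {b : Fin (n + 1) → F // resultant (gp 2 a) (gp 1 (L b)) 2 1 ≠ 0} =
      Nn n a := Nat.card_congr (Equiv.subtypeEquivRight hiff)
  rw [hcongr] at key
  exact key

lemma gpL_single (m : ℕ) (i : Fin (m + 1)) (c : F) :
    gp m (Pi.single i c) = C c * X ^ (i : ℕ) := by
  rw [gp, Finset.sum_eq_single i]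
  · rw [Pi.single_eq_same]
  · intro j _ hj
    rw [Pi.single_eq_of_ne hj]; simp
  · intro h; exact absurd (Finset.mem_univ _) h

lemma count_B (a : Fin 3 → F) (ha2 : a 2 = 0) (ha1 : a 1 ≠ 0) (n : ℕ) (hn : 1 ≤ n) :
    Nn n a * Nat.card F ^ 2 = (Nat.card F - 1) ^ 2 * Nat.card F ^ (n + 1) := by
  obtain ⟨α, hα⟩ : ∃ α : F, α = -(a 0 / a 1) := ⟨_, rfl⟩
  let L : (Fin (n + 1) → F) →ₗ[F] F × F :=
    LinearMap.prod (LinearMap.proj (Fin.last n)) ((leval α).comp (gpL n))
  have hLapp : ∀ b, L b = (b (Fin.last n), eval α (gp n b)) := by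
    intro b
    show (b (Fin.last n), leval α (gpL n b)) = _
    rw [gpL_apply]; rfl
  have h0last : (0 : Fin (n + 1)) ≠ Fin.last n := by
    intro h
    have := congrArg Fin.val h
    simp at this
    omega
  have hL : Function.Surjective L := by
    rintro ⟨u, v⟩
    refine ⟨Pi.single (Fin.last n) u + Pi.single 0 (v - u * α ^ n), ?_⟩
    rw [map_add, hLapp, hLapp, gpL_single, gpL_single]
    ext
    · simp [Pi.single_eq_of_ne h0last.symm]
    · simp
  have key := card_preimage L hL (fun w => w.1 ≠ 0 ∧ w.2 ≠ 0)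
  rw [card_pi_fin, Nat.card_prod, Nat.card_congr (Equiv.subtypeProdEquivProd
    (p := fun u : F => u ≠ 0) (q := fun v : F => v ≠ 0)), Nat.card_prod, card_ne_zero] at key
  have hiff : ∀ b : Fin (n + 1) → F,
      ((L b).1 ≠ 0 ∧ (L b).2 ≠ 0) ↔ resultant (gp 2 a) (gp n b) 2 n ≠ 0 := by
    intro b
    have hlast : (gp n b).coeff n = b (Fin.last n) := coeff_gp_lt n b (Nat.lt_succ_self n)
    rw [res_caseB a ha2 ha1 n (gp n b) (natDegree_gp_le n b), hLapp, ← hα, hlast]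
    show (b (Fin.last n) ≠ 0 ∧ _) ↔ _
    constructor
    · rintro ⟨h1, h2⟩
      exact mul_ne_zero (mul_ne_zero (pow_ne_zero _ (by norm_num)) h1)
        (mul_ne_zero (pow_ne_zero _ ha1) h2)
    · intro h
      rw [mul_ne_zero_iff, mul_ne_zero_iff, mul_ne_zero_iff] at h
      exact ⟨h.1.2, h.2.2⟩
  have hcongr : Nat.card {b : Fin (n + 1) → F // (L b).1 ≠ 0 ∧ (L b).2 ≠ 0} = Nn n a :=
    Nat.card_congr (Equiv.subtypeEquivRight hiff)
  rw [hcongr] at key
  rw [sq, sq]; exact key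

lemma count_C (a : Fin 3 → F) (ha2 : a 2 = 0) (ha1 : a 1 = 0) (ha0 : a 0 ≠ 0) (n : ℕ) :
    Nn n a * Nat.card F = (Nat.card F - 1) * Nat.card F ^ (n + 1) := by
  let L : (Fin (n + 1) → F) →ₗ[F] F := LinearMap.proj (Fin.last n)
  have hL : Function.Surjective L := by
    intro u
    exact ⟨Pi.single (Fin.last n) u, by simp [L]⟩
  have key := card_preimage L hL (fun w => w ≠ 0)
  rw [card_pi_fin, card_ne_zero] at key
  have hiff : ∀ b : Fin (n + 1) → F,
      (L b ≠ 0) ↔ resultant (gp 2 a) (gp n b) 2 n ≠ 0 := by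
    intro b
    have hlast : (gp n b).coeff n = b (Fin.last n) := coeff_gp_lt n b (Nat.lt_succ_self n)
    rw [res_caseC a ha2 ha1 n (gp n b), hlast]
    show (b (Fin.last n) ≠ 0) ↔ _
    constructor
    · intro h1
      exact mul_ne_zero (mul_ne_zero (pow_ne_zero _ (by norm_num)) (pow_ne_zero _ h1))
        (pow_ne_zero _ ha0)
    · intro h
      rw [mul_ne_zero_iff, mul_ne_zero_iff] at h
      exact fun h0 => h.1.2 (by rw [h0]; simp)
  have hcongr : Nat.card {b : Fin (n + 1) → F // L b ≠ 0} = Nn n a :=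
    Nat.card_congr (Equiv.subtypeEquivRight hiff)
  rw [hcongr] at key
  exact key

lemma count_D (a : Fin 3 → F) (ha2 : a 2 = 0) (ha1 : a 1 = 0) (ha0 : a 0 = 0) (n : ℕ)
    (hn : 1 ≤ n) : Nn n a = 0 := by
  have hf : gp 2 a = 0 := by rw [gp_two_eq, ha2, ha1, ha0]; simp
  unfold Nn
  rw [hf]
  have : IsEmpty {b : Fin (n + 1) → F // resultant 0 (gp n b) 2 n ≠ 0} := by
    constructor
    rintro ⟨b, hb⟩
    apply hb
    rw [resultant_zero_left, zero_pow (by omega), zero_mul]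
  exact Nat.card_of_isEmpty

end counting

end Groth.Agent.Lib.helper10.ResCount
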