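import Groth.Agent.Lib.helper10.ResCount2

set_option autoImplicit false
universe u

namespace Groth.Agent.Lib.helper10.ResCount

open Polynomial

variable {F : Type u} [Field F] [Fintype F]

lemma q_pos : 0 < Nat.card F := Nat.card_pos

lemma count_all (a : Fin 3 → F) (n : ℕ) (hn : 2 ≤ n) :
    Nn n a * Nat.card F ^ 2 = Nn 1 a * Nat.card F ^ (n + 1) := by
  have hq : 0 < Nat.card F := q_pos
  by_cases ha2 : a 2 = 0
  · by_cases ha1 : a 1 = 0
    · by_cases ha0 : a 0 = 0
      · rw [count_D a ha2 ha1 ha0 n (by omega), count_D a ha2 ha1 ha0 1 le_rfl]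
        simp
      · have h1 := count_C a ha2 ha1 ha0 n
        have h2 := count_C a ha2 ha1 ha0 1
        have h3 : Nn 1 a = (Nat.card F - 1) * Nat.card F := by
          apply Nat.eq_of_mul_eq_mul_right hq
          rw [h2]; ring
        rw [h3, sq, ← mul_assoc, h1]; ring
    · have h1 := count_B a ha2 ha1 n (by omega)
      have h2 := count_B a ha2 ha1 1 le_rfl
      have h3 : Nn 1 a = (Nat.card F - 1) ^ 2 := by
        apply Nat.eq_of_mul_eq_mul_right (pow_pos hq 2)
        rw [h2]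
      rw [h1, h3]
  · exact count_A a ha2 n hn

/-- total count. -/
noncomputable def Ntot (n : ℕ) : ℕ :=
  Nat.card {p : (Fin 3 → F) × (Fin (n + 1) → F) // resultant (gp 2 p.1) (gp n p.2) 2 n ≠ 0}

lemma Ntot_eq_sum (n : ℕ) : Ntot (F := F) n = ∑ a : Fin 3 → F, Nn n a := by
  classical
  exact card_pairs_fst (fun a b => resultant (gp 2 a) (gp n b) 2 n ≠ 0)

lemma Ntot_rec (n : ℕ) (hn : 2 ≤ n) :
    Ntot (F := F) n * Nat.card F ^ 2 = Ntot (F := F) 1 * Nat.card F ^ (n + 1) := by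
  classical
  rw [Ntot_eq_sum, Ntot_eq_sum, Finset.sum_mul, Finset.sum_mul]
  exact Finset.sum_congr rfl (fun a _ => count_all a n hn)

/-- number of `a` with nonvanishing resultant against a fixed linear `h`. -/
noncomputable def Mh (h : Fin 2 → F) : ℕ :=
  Nat.card {a : Fin 3 → F // resultant (gp 2 a) (gp 1 h) 2 1 ≠ 0}

lemma Mh_zero : Mh (0 : Fin 2 → F) = 0 := by
  unfold Mh
  have : IsEmpty {a : Fin 3 → F // resultant (gp 2 a) (gp 1 (0 : Fin 2 → F)) 2 1 ≠ 0} := by
    constructor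
    rintro ⟨a, ha⟩
    apply ha
    rw [res_two_one]
    simp
  exact Nat.card_of_isEmpty

lemma Mh_ne (h : Fin 2 → F) (hh : h ≠ 0) :
    Mh h * Nat.card F = (Nat.card F - 1) * Nat.card F ^ 3 := by
  let ℓ : (Fin 3 → F) →ₗ[F] F :=
    (h 1 ^ 2) • LinearMap.proj 0 - (h 0 * h 1) • LinearMap.proj 1 + (h 0 ^ 2) • LinearMap.proj 2
  have hℓ : ∀ a, ℓ a = a 0 * h 1 ^ 2 - a 1 * h 0 * h 1 + a 2 * h 0 ^ 2 := by
    intro a
    show h 1 ^ 2 * a 0 - h 0 * h 1 * a 1 + h 0 ^ 2 * a 2 = _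
    ring
  have hsurj : Function.Surjective ℓ := by
    intro u
    by_cases h1 : h 1 = 0
    · have h0 : h 0 ≠ 0 := by
        intro h0
        apply hh
        funext i
        fin_cases i
        · exact h0
        · exact h1
      refine ⟨Pi.single 2 (u / h 0 ^ 2), ?_⟩
      rw [hℓ]
      simp
      field_simp
    · refine ⟨Pi.single 0 (u / h 1 ^ 2), ?_⟩
      rw [hℓ]
      simp
      field_simp
  have key := card_preimage ℓ hsurj (fun w => w ≠ 0)
  rw [card_pi_fin, card_ne_zero] at key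
  have hiff : ∀ a : Fin 3 → F, (ℓ a ≠ 0) ↔ resultant (gp 2 a) (gp 1 h) 2 1 ≠ 0 := by
    intro a
    rw [res_two_one, hℓ]
  have hcongr : Nat.card {a : Fin 3 → F // ℓ a ≠ 0} = Mh h :=
    Nat.card_congr (Equiv.subtypeEquivRight hiff)
  rw [hcongr] at key
  exact key

lemma Ntot_one :
    Ntot (F := F) 1 = (Nat.card F ^ 2 - 1) * ((Nat.card F - 1) * Nat.card F ^ 2) := by
  classical
  have hq : 0 < Nat.card F := q_pos
  have h1 : Ntot (F := F) 1 = ∑ h : Fin 2 → F, Mh h :=
    card_pairs_snd (fun a b => resultant (gp 2 a) (gp 1 b) 2 1 ≠ 0)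
  apply Nat.eq_of_mul_eq_mul_right hq
  rw [h1, Finset.sum_mul]
  have h2 : ∀ h : Fin 2 → F, Mh h * Nat.card F =
      if h = 0 then 0 else (Nat.card F - 1) * Nat.card F ^ 3 := by
    intro h
    split_ifs with hh
    · rw [hh, Mh_zero, zero_mul]
    · exact Mh_ne h hh
  rw [Finset.sum_congr rfl (fun h _ => h2 h), Finset.sum_ite, Finset.sum_const_zero, zero_add,
    Finset.sum_const, smul_eq_mul, Finset.filter_ne', Finset.card_erase_of_mem (Finset.mem_univ _),
    Finset.card_univ, ← Nat.card_eq_fintype_card, card_pi_fin]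
  ring

theorem Ntot_formula (n : ℕ) (hn : 2 ≤ n) :
    Ntot (F := F) n = (Nat.card F ^ 2 - 1) * ((Nat.card F - 1) * Nat.card F ^ (n + 1)) := by
  have hq : 0 < Nat.card F := q_pos
  apply Nat.eq_of_mul_eq_mul_right (pow_pos hq 2)
  rw [Ntot_rec n hn, Ntot_one]
  ring

end Groth.Agent.Lib.helper10.ResCount
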