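import Groth.Agent.Lib.helper10.ResCount3

set_option autoImplicit false
universe u

namespace Groth.Agent.Lib.helper10.ResCount

open Polynomial

variable {F : Type u} [Field F]

lemma gp_smul (m : ℕ) (c : F) (v : Fin (m + 1) → F) : gp m (c • v) = C c * gp m v := by
  rw [← gpL_apply, map_smul, gpL_apply, smul_eq_C_mul]

/-- the resultant as a function of the pair of coefficient vectors. -/
noncomputable def Rr (n : ℕ) (p : (Fin 3 → F) × (Fin (n + 1) → F)) : F :=
  resultant (gp 2 p.1) (gp n p.2) 2 n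

/-- the scaling action. -/
noncomputable def tau (n j : ℕ) (c : F) (p : (Fin 3 → F) × (Fin (n + 1) → F)) :
    (Fin 3 → F) × (Fin (n + 1) → F) := (c • p.1, (c⁻¹) ^ j • p.2)

lemma Rr_tau (n j : ℕ) (hn : n = 2 * j + 1) (c : F) (hc : c ≠ 0)
    (p : (Fin 3 → F) × (Fin (n + 1) → F)) : Rr n (tau n j c p) = c * Rr n p := by
  unfold Rr tau
  show resultant (gp 2 (c • p.1)) (gp n ((c⁻¹) ^ j • p.2)) 2 n = _
  rw [gp_smul, gp_smul, resultant_C_mul_left, resultant_C_mul_right]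
  have : c ^ n * ((c⁻¹ ^ j) ^ 2) = c := by
    rw [hn, ← pow_mul, inv_pow, pow_succ, mul_comm j 2]
    field_simp
  rw [← mul_assoc, this]

lemma tau_tau (n j : ℕ) (c d : F) (p : (Fin 3 → F) × (Fin (n + 1) → F)) :
    tau n j c (tau n j d p) = tau n j (c * d) p := by
  unfold tau
  ext i
  · simp [mul_assoc]
  · simp only [Pi.smul_apply, smul_eq_mul]
    rw [mul_inv, mul_pow]; ring

lemma tau_one (n j : ℕ) (p : (Fin 3 → F) × (Fin (n + 1) → F)) : tau n j 1 p = p := by
  unfold tau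
  simp

/-- the nonvanishing locus is a product of `Fˣ` with the locus `Res = 1`. -/
noncomputable def scaleEquiv (n j : ℕ) (hn : n = 2 * j + 1) :
    {p : (Fin 3 → F) × (Fin (n + 1) → F) // Rr n p ≠ 0} ≃
      {u : F // u ≠ 0} × {p : (Fin 3 → F) × (Fin (n + 1) → F) // Rr n p = 1} where
  toFun p := (⟨Rr n p.1, p.2⟩, ⟨tau n j (Rr n p.1)⁻¹ p.1, by
    rw [Rr_tau n j hn _ (inv_ne_zero p.2), inv_mul_cancel₀ p.2]⟩)
  invFun z := ⟨tau n j z.1.1 z.2.1, by
    rw [Rr_tau n j hn _ z.1.2, z.2.2, mul_one]; exact z.1.2⟩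
  left_inv p := by
    apply Subtype.ext
    show tau n j (Rr n p.1) (tau n j (Rr n p.1)⁻¹ p.1) = p.1
    rw [tau_tau, mul_inv_cancel₀ p.2, tau_one]
  right_inv z := by
    obtain ⟨⟨u, hu⟩, ⟨p, hp⟩⟩ := z
    have h1 : Rr n (tau n j u p) = u := by rw [Rr_tau n j hn _ hu, hp, mul_one]
    apply Prod.ext
    · apply Subtype.ext
      exact h1
    · apply Subtype.ext
      show tau n j (Rr n (tau n j u p))⁻¹ (tau n j u p) = p
      rw [h1, tau_tau, inv_mul_cancel₀ hu, tau_one]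

theorem card_res_eq_one [Fintype F] (n : ℕ) (hodd : Odd n) (h3 : 3 ≤ n) :
    Nat.card {p : (Fin 3 → F) × (Fin (n + 1) → F) // Rr n p = 1} =
      (Nat.card F ^ 2 - 1) * Nat.card F ^ (n + 1) := by
  obtain ⟨j, hj⟩ := hodd
  have h := Ntot_formula (F := F) n (by omega)
  have hN : Ntot (F := F) n = Nat.card {p : (Fin 3 → F) × (Fin (n + 1) → F) // Rr n p ≠ 0} := rfl
  rw [hN, Nat.card_congr (scaleEquiv n j hj), Nat.card_prod, card_ne_zero] at h
  have hq : 2 ≤ Nat.card F := by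
    rw [Nat.card_eq_fintype_card]; exact Fintype.one_lt_card
  apply Nat.eq_of_mul_eq_mul_left (show 0 < Nat.card F - 1 by omega)
  rw [h]; ring

end Groth.Agent.Lib.helper10.ResCount
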