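import Mathlib.RingTheory.FinitePresentation
import Mathlib.RingTheory.Localization.Integral
import Mathlib.RingTheory.Localization.Away.Basic
import Mathlib.Algebra.Polynomial.Inductions
import Mathlib.RingTheory.Ideal.Quotient.Operations

set_option maxHeartbeats 400000
open Polynomial
universe u v

namespace Groth.Agent.Lib.helper10.RescaleLift

section sig
variable {A : Type*} [CommRing A]

noncomputable def sig (a : A) : A[X] →ₐ[A] A[X] := Polynomial.aeval (C a * X)

@[simp] lemma sig_X (a : A) : sig a X = C a * X := by simp [sig]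
@[simp] lemma sig_C (a c : A) : sig a (C c) = C c := by simp [sig]

lemma sig_sig (a b : A) (p : A[X]) : sig a (sig b p) = sig (b * a) p := by
  have : (sig a).comp (sig b) = sig (b * a) := by
    apply Polynomial.algHom_ext
    simp [mul_assoc]
  exact DFunLike.congr_fun this p

lemma eval_zero_sig (a : A) (p : A[X]) : (sig a p).eval 0 = p.eval 0 := by
  have : (evalRingHom 0).comp (sig a).toRingHom = evalRingHom (0 : A) := by
    apply Polynomial.ringHom_ext
    · intro c; simp
    · simp
  exact DFunLike.congr_fun this p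

lemma map_sig {A' : Type*} [CommRing A'] (φ : A →+* A') (a : A) (p : A[X]) :
    (sig a p).map φ = sig (φ a) (p.map φ) := by
  have : (mapRingHom φ).comp (sig a).toRingHom = (sig (φ a)).toRingHom.comp (mapRingHom φ) := by
    apply Polynomial.ringHom_ext
    · intro c; simp
    · simp
  exact DFunLike.congr_fun this p

lemma sig_C_mul (a c : A) (p : A[X]) : sig a (C c * p) = C c * sig a p := by
  rw [map_mul, sig_C]

end sig

section loc
variable {R : Type u} [CommRing R] (r : R)

local notation "S" => Localization.Away r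

lemma exists_lift_mul (p : (S)[X]) :
    ∃ E : ℕ, ∀ n, E ≤ n → ∃ q : R[X], q.map (algebraMap R S) = C (algebraMap R S (r ^ n)) * p := by
  obtain ⟨b, hb, hq⟩ := IsLocalization.integerNormalization_spec (Submonoid.powers r) p
  obtain ⟨E, rfl⟩ := (Submonoid.mem_powers_iff _ _).mp hb
  refine ⟨E, fun n hn => ⟨C (r ^ (n - E)) * IsLocalization.integerNormalization
    (Submonoid.powers r) p, ?_⟩⟩
  rw [Polynomial.map_mul, hq, Polynomial.map_C, ← IsScalarTower.algebraMap_smul S (r ^ E) p,
    Polynomial.smul_eq_C_mul, ← mul_assoc, ← C_mul, ← map_mul, ← pow_add, Nat.sub_add_cancel hn]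

lemma exists_pow_mul_eq_zero (h : R[X]) (hh : h.map (algebraMap R S) = 0) :
    ∃ k : ℕ, C (r ^ k) * h = 0 := by
  classical
  have hc : ∀ i, ∃ k : ℕ, r ^ k * h.coeff i = 0 := by
    intro i
    have : algebraMap R S (h.coeff i) = 0 := by
      rw [← Polynomial.coeff_map, hh, coeff_zero]
    obtain ⟨⟨_, k, rfl⟩, hk⟩ := (IsLocalization.map_eq_zero_iff (Submonoid.powers r) S _).mp this
    exact ⟨k, hk⟩
  choose k hk using hc
  refine ⟨h.support.sup k, ?_⟩
  ext i
  rw [coeff_C_mul, coeff_zero]
  by_cases hi : i ∈ h.support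
  · have hle : k i ≤ h.support.sup k := Finset.le_sup hi
    rw [← Nat.sub_add_cancel hle, pow_add, mul_assoc, hk, mul_zero]
  · rw [notMem_support_iff.mp hi, mul_zero]

end loc


section main
variable (R : Type u) (B : Type v) [CommRing R] [CommRing B] [Algebra R B]
  [Algebra.FinitePresentation R B] (r : R)

local notation "S" => Localization.Away r

lemma X_mul_eq_zero {A : Type*} [CommRing A] (q : A[X]) (h : X * q = 0) : q = 0 := by
  ext n
  rw [← coeff_X_mul, h, coeff_zero, coeff_zero]

theorem main (x : B →ₐ[R] (S)[X]) (x₀ : B →ₐ[R] R)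
    (hx₀ : (algebraMap R S).comp x₀.toRingHom = (Polynomial.evalRingHom 0).comp x.toRingHom) :
    ∃ N : ℕ, ∀ n : ℕ, N ≤ n →
      ∃ y : B →ₐ[R] R[X],
        (Polynomial.evalRingHom 0).comp y.toRingHom = x₀.toRingHom ∧
        (Polynomial.mapRingHom (algebraMap R S)).comp y.toRingHom =
          (sig (algebraMap R S (r ^ n))).toRingHom.comp x.toRingHom := by
  classical
  obtain ⟨m, π, hπ, gs, hgs⟩ := Algebra.FinitePresentation.out (R := R) (A := B)
  set loc := algebraMap R S with hloc
  let p : Fin m → (S)[X] := fun j => x (π (MvPolynomial.X j))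
  let c : Fin m → R := fun j => x₀ (π (MvPolynomial.X j))
  have hp0 : ∀ j, (p j).coeff 0 = loc (c j) := by
    intro j
    rw [coeff_zero_eq_eval_zero]
    exact (DFunLike.congr_fun hx₀ (π (MvPolynomial.X j))).symm
  have hp : ∀ j, p j = C (loc (c j)) + X * (p j).divX := by
    intro j
    conv_lhs => rw [← divX_mul_X_add (p j), hp0]
    ring
  -- common exponent
  have hE0 : ∀ j, ∃ E : ℕ, ∀ n, E ≤ n →
      ∃ q : R[X], q.map loc = C (loc (r ^ n)) * (p j).divX := fun j => exists_lift_mul r _
  choose E0 hE0 using hE0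
  let E := Finset.univ.sup E0
  have hEj : ∀ j, ∃ q : R[X], q.map loc = C (loc (r ^ E)) * (p j).divX := fun j =>
    hE0 j E (Finset.le_sup (Finset.mem_univ j))
  choose q0 hq0 using hEj
  let q : Fin m → R[X] := fun j => C (c j) + X * sig (r ^ E) (q0 j)
  let Y : MvPolynomial (Fin m) R →ₐ[R] R[X] := MvPolynomial.aeval q
  have hA : (mapRingHom loc).comp Y.toRingHom =
      (sig (loc (r ^ E))).toRingHom.comp (x.toRingHom.comp π.toRingHom) := by
    apply MvPolynomial.ringHom_ext
    · intro a
      simp [Y, hloc, IsScalarTower.algebraMap_apply R S (S)[X]]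
    · intro j
      have h1 : (sig (loc (r ^ E))) (x (π (MvPolynomial.X j))) =
          C (loc (c j)) + C (loc (r ^ E)) * X * sig (loc (r ^ E)) ((p j).divX) := by
        change sig (loc (r ^ E)) (p j) = _
        conv_lhs => rw [hp j]
        rw [map_add, map_mul, sig_C, sig_X]
      have h2 : (q j).map loc =
          C (loc (c j)) + X * sig (loc (r ^ E)) (C (loc (r ^ E)) * (p j).divX) := by
        simp only [q, Polynomial.map_add, Polynomial.map_mul, Polynomial.map_C, Polynomial.map_X,
          map_sig, hq0]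
      simp only [RingHom.coe_comp, Function.comp_apply, AlgHom.toRingHom_eq_coe, RingHom.coe_coe,
        coe_mapRingHom, Y, MvPolynomial.aeval_X]
      rw [h1, h2, sig_C_mul]
      ring
  have hB : (evalRingHom 0).comp Y.toRingHom = x₀.toRingHom.comp π.toRingHom := by
    apply MvPolynomial.ringHom_ext
    · intro a
      simp [Y]
    · intro j
      simp [Y, q, c]
  -- generators of the kernel
  have hg : ∀ g ∈ gs, ∃ k : ℕ, ∀ n, k ≤ n → sig (r ^ n) (Y g) = 0 := by
    intro g hg
    have hgker : π g = 0 := by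
      have : g ∈ RingHom.ker π.toRingHom := hgs ▸ Ideal.subset_span hg
      exact this
    have h0 : (Y g).coeff 0 = 0 := by
      rw [coeff_zero_eq_eval_zero]
      have := DFunLike.congr_fun hB g
      simp only [RingHom.coe_comp, Function.comp_apply, AlgHom.toRingHom_eq_coe,
        RingHom.coe_coe, coe_evalRingHom] at this
      rw [this, hgker, map_zero]
    obtain ⟨h, hh⟩ := Polynomial.X_dvd_iff.mpr h0
    have hmap : (Y g).map loc = 0 := by
      have := DFunLike.congr_fun hA g
      simp only [RingHom.coe_comp, Function.comp_apply, AlgHom.toRingHom_eq_coe,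
        RingHom.coe_coe, coe_mapRingHom] at this
      rw [this, hgker, map_zero, map_zero]
    have hhmap : h.map loc = 0 := by
      apply X_mul_eq_zero
      rw [← Polynomial.map_X loc, ← Polynomial.map_mul, ← hh, hmap]
    obtain ⟨k, hk⟩ := exists_pow_mul_eq_zero r h hhmap
    refine ⟨k, fun n hn => ?_⟩
    have e1 : sig (r ^ n) (Y g) = X * sig (r ^ n) (C (r ^ (n - k)) * (C (r ^ k) * h)) := by
      rw [hh, map_mul, sig_X, ← mul_assoc, ← C_mul, ← pow_add, Nat.sub_add_cancel hn, sig_C_mul]
      ring
    rw [e1, hk, mul_zero, map_zero, mul_zero]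
  choose! kg hkg using hg
  let k₀ := gs.sup kg
  refine ⟨E + k₀, fun N hN => ?_⟩
  obtain ⟨n, rfl⟩ : ∃ n, N = E + n := ⟨N - E, by omega⟩
  have hn : k₀ ≤ n := by omega
  let Z : MvPolynomial (Fin m) R →ₐ[R] R[X] := ((sig (r ^ n)).restrictScalars R).comp Y
  have hZ : RingHom.ker π.toRingHom ≤ RingHom.ker Z.toRingHom := by
    rw [← hgs, Ideal.span_le]
    intro g hg
    have : kg g ≤ n := le_trans (Finset.le_sup hg) hn
    exact hkg g hg n this
  refine ⟨AlgHom.liftOfSurjective π hπ Z hZ, ?_, ?_⟩
  · apply RingHom.ext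
    intro b
    obtain ⟨P, rfl⟩ := hπ b
    simp only [RingHom.coe_comp, Function.comp_apply, AlgHom.toRingHom_eq_coe, RingHom.coe_coe,
      AlgHom.liftOfSurjective_apply, coe_evalRingHom]
    change eval 0 (sig (r ^ n) (Y P)) = _
    rw [eval_zero_sig]
    exact DFunLike.congr_fun hB P
  · apply RingHom.ext
    intro b
    obtain ⟨P, rfl⟩ := hπ b
    simp only [RingHom.coe_comp, Function.comp_apply, AlgHom.toRingHom_eq_coe, RingHom.coe_coe,
      AlgHom.liftOfSurjective_apply, coe_mapRingHom]
    change (sig (r ^ n) (Y P)).map loc = _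
    rw [map_sig]
    have := DFunLike.congr_fun hA P
    simp only [RingHom.coe_comp, Function.comp_apply, AlgHom.toRingHom_eq_coe,
      RingHom.coe_coe, coe_mapRingHom] at this
    rw [this, sig_sig, ← map_mul, ← pow_add]

end main

end Groth.Agent.Lib.helper10.RescaleLift
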