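import Mathlib
import Groth.Prelude

/-!
# Formal triviality of deformations of a rigid algebra (algebraic form)

Let `B` be a `k`-algebra, `τ ∈ B` a regular element, `B₀ ≃ B ⧸ (τ)`. If every `k`-extension of
`B₀` by `B₀` is trivial, then the identity of `B₀` lifts to `k`-algebra maps `B₀ → B ⧸ (τ ^ m)`.
-/

set_option autoImplicit false

namespace Groth.Agent.Lib.helper10.RigidFT

attribute [local instance] Exal.opModule Exal.isCentralScalar_opModule

universe u

section Triv

variable {k : Type u} [CommRing k] {B₀ : Type u} [CommRing B₀] [Algebra k B₀]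

theorem isTrivial_of_subsingleton (h : Subsingleton (Exal.Exalcom k B₀ B₀))
    (X : Exal.Ext k B₀ B₀) : X.IsTrivial := by
  have hcl : X.cl = (Exal.Ext.trivial k B₀ B₀).cl := Subsingleton.elim _ _
  obtain ⟨θ⟩ := Quotient.exact hcl
  let s₀ : B₀ →+* X.E :=
    ((θ.toAlgEquiv.symm : (Exal.Ext.trivial k B₀ B₀).E →+* X.E)).comp
      (TrivSqZeroExt.inlHom B₀ B₀ : B₀ →+* (Exal.Ext.trivial k B₀ B₀).E)
  refine ⟨{ s₀ with commutes' := fun c => ?_ }, fun b => ?_⟩
  · exact θ.toAlgEquiv.symm.commutes c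
  · exact θ.symm.proj_apply (TrivSqZeroExt.inl b)

end Triv

section Lift

variable {k : Type u} [CommRing k] {B B₀ : Type u} [CommRing B] [CommRing B₀] [Algebra k B]
  [Algebra k B₀] (τ : B) (hτ : IsSMulRegular B τ)
  (e : (B ⧸ Ideal.span {τ}) ≃ₐ[k] B₀)

lemma span_pow_le (m : ℕ) (hm : 1 ≤ m) : Ideal.span {τ ^ m} ≤ Ideal.span {τ} := by
  rw [Ideal.span_singleton_le_iff_mem]
  obtain ⟨j, rfl⟩ := Nat.exists_eq_add_of_le hm
  rw [pow_add, pow_one]
  exact Ideal.mul_mem_right _ _ (Ideal.mem_span_singleton_self τ)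

/-- Reduction `B ⧸ (τ ^ m) → B ⧸ (τ)`. -/
noncomputable def red (m : ℕ) (hm : 1 ≤ m) : (B ⧸ Ideal.span {τ ^ m}) →ₐ[k] (B ⧸ Ideal.span {τ}) :=
  Ideal.Quotient.factorₐ k (span_pow_le τ m hm)

lemma red_mk (m : ℕ) (hm : 1 ≤ m) (b : B) :
    red (k := k) τ m hm (Ideal.Quotient.mk _ b) = Ideal.Quotient.mk _ b := rfl

/-- Transition `B ⧸ (τ ^ (m+1)) → B ⧸ (τ ^ m)`. -/
noncomputable def trans (m : ℕ) :
    (B ⧸ Ideal.span {τ ^ (m + 1)}) →ₐ[k] (B ⧸ Ideal.span {τ ^ m}) :=
  Ideal.Quotient.factorₐ k (by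
    rw [Ideal.span_singleton_le_iff_mem, pow_succ]
    exact Ideal.mul_mem_right _ _ (Ideal.mem_span_singleton_self _))

lemma trans_mk (m : ℕ) (b : B) :
    trans (k := k) τ m (Ideal.Quotient.mk _ b) = Ideal.Quotient.mk _ b := rfl

/-- Multiplication by `τ ^ m` as a map `B ⧸ (τ) → B ⧸ (τ ^ (m+1))`. -/
noncomputable def mulPow (m : ℕ) : (B ⧸ Ideal.span {τ}) →+ (B ⧸ Ideal.span {τ ^ (m + 1)}) :=
  (Submodule.liftQ (Ideal.span {τ})
    ((Submodule.mkQ (Ideal.span {τ ^ (m + 1)})) ∘ₗ (LinearMap.mulLeft B (τ ^ m))) (by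
      intro x hx
      obtain ⟨c, rfl⟩ := Ideal.mem_span_singleton'.mp hx
      rw [LinearMap.mem_ker, LinearMap.comp_apply, LinearMap.mulLeft_apply, Submodule.mkQ_apply,
        Submodule.Quotient.mk_eq_zero]
      apply Ideal.mem_span_singleton'.mpr
      exact ⟨c, by rw [pow_succ]; ring⟩)).toAddMonoidHom

lemma mulPow_mk (m : ℕ) (b : B) :
    mulPow τ m (Ideal.Quotient.mk _ b) = Ideal.Quotient.mk _ (τ ^ m * b) := rfl

include hτ in
lemma mulPow_injective (m : ℕ) : Function.Injective (mulPow τ m) := by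
  rw [injective_iff_map_eq_zero]
  intro x hx
  obtain ⟨b, rfl⟩ := Ideal.Quotient.mk_surjective x
  rw [mulPow_mk, Ideal.Quotient.eq_zero_iff_mem] at hx
  obtain ⟨c, hc⟩ := Ideal.mem_span_singleton'.mp hx
  rw [Ideal.Quotient.eq_zero_iff_mem]
  apply Ideal.mem_span_singleton'.mpr
  refine ⟨c, ?_⟩
  have hreg : IsSMulRegular B (τ ^ m) := hτ.pow m
  apply hreg
  simp only [smul_eq_mul]
  rw [← hc, pow_succ]; ring

include hτ in
/-- The lifting step. -/
theorem exists_lift_succ (htriv : ∀ X : Exal.Ext k B₀ B₀, X.IsTrivial) (m : ℕ) (hm : 1 ≤ m)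
    (s : B₀ →ₐ[k] (B ⧸ Ideal.span {τ ^ m}))
    (hs : ∀ b₀, red (k := k) τ m hm (s b₀) = e.symm b₀) :
    ∃ s' : B₀ →ₐ[k] (B ⧸ Ideal.span {τ ^ (m + 1)}),
      (∀ b₀, trans (k := k) τ m (s' b₀) = s b₀) ∧
      ∀ b₀, red (k := k) τ (m + 1) (by omega) (s' b₀) = e.symm b₀ := by
  classical
  let π := trans (k := k) τ m
  have hπsurj : Function.Surjective π := by
    intro x
    obtain ⟨b, rfl⟩ := Ideal.Quotient.mk_surjective x
    exact ⟨Ideal.Quotient.mk _ b, rfl⟩
  have hredπ : ∀ c, red (k := k) τ m hm (π c) = red (k := k) τ (m + 1) (by omega) c := by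
    intro c
    obtain ⟨b, rfl⟩ := Ideal.Quotient.mk_surjective c
    rfl
  -- the fibre product
  let E : Subalgebra k (B₀ × (B ⧸ Ideal.span {τ ^ (m + 1)})) :=
    AlgHom.equalizer (s.comp (AlgHom.fst k B₀ _)) (π.comp (AlgHom.snd k B₀ _))
  have hE : ∀ x : B₀ × (B ⧸ Ideal.span {τ ^ (m + 1)}), x ∈ E ↔ s x.1 = π x.2 := fun x => Iff.rfl
  let proj : E →ₐ[k] B₀ := (AlgHom.fst k B₀ _).comp E.val
  have hπmul : ∀ y : B ⧸ Ideal.span {τ}, π (mulPow τ m y) = 0 := by
    intro y
    obtain ⟨b, rfl⟩ := Ideal.Quotient.mk_surjective y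
    rw [mulPow_mk]
    change Ideal.Quotient.mk _ (τ ^ m * b) = 0
    rw [Ideal.Quotient.eq_zero_iff_mem]
    exact Ideal.mul_mem_right _ _ (Ideal.mem_span_singleton_self _)
  let incl : B₀ →+ E :=
    { toFun := fun z => ⟨(0, mulPow τ m (e.symm z)), by
        rw [hE]; simp only; rw [map_zero, hπmul]⟩
      map_zero' := by
        apply Subtype.ext
        simp
      map_add' := fun a b => by
        apply Subtype.ext
        simp [map_add] }
  have hincl : ∀ z, (incl z).1 = (0, mulPow τ m (e.symm z)) := fun z => rfl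
  let X : Exal.Ext k B₀ B₀ :=
    { E := E
      proj := proj
      incl := incl
      isExtension :=
        { proj_surjective := by
            intro b₀
            obtain ⟨c, hc⟩ := hπsurj (s b₀)
            exact ⟨⟨(b₀, c), by rw [hE]; exact hc.symm⟩, rfl⟩
          incl_injective := by
            intro a b hab
            have h1 := congrArg (fun x : E => x.1.2) hab
            simp only [hincl] at h1
            exact e.symm.injective (mulPow_injective τ hτ m h1)
          exact := by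
            rintro ⟨⟨b₀, c⟩, hx⟩
            rw [hE] at hx
            simp only at hx
            constructor
            · intro h0
              change b₀ = 0 at h0
              subst h0
              rw [map_zero] at hx
              obtain ⟨c', rfl⟩ := Ideal.Quotient.mk_surjective c
              have : c' ∈ Ideal.span {τ ^ m} := by
                rw [← Ideal.Quotient.eq_zero_iff_mem]
                exact hx.symm
              obtain ⟨d, rfl⟩ := Ideal.mem_span_singleton'.mp this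
              refine ⟨e (Ideal.Quotient.mk _ d), ?_⟩
              apply Subtype.ext
              rw [hincl, e.symm_apply_apply, mulPow_mk, mul_comm]
            · rintro ⟨z, hz⟩
              have := congrArg (fun x : E => x.1.1) hz
              simp only [hincl] at this
              exact this.symm
          mul_incl := by
            rintro ⟨⟨b₀, c⟩, hx⟩ z
            rw [hE] at hx
            simp only at hx
            apply Subtype.ext
            change ((b₀, c) : B₀ × _) * (0, mulPow τ m (e.symm z)) =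
              (0, mulPow τ m (e.symm (b₀ • z)))
            rw [Prod.mk_mul_mk, mul_zero, smul_eq_mul, map_mul]
            congr 1
            have h1 : e.symm b₀ = red (k := k) τ (m + 1) (by omega) c := by
              rw [← hs b₀, hx, hredπ]
            rw [h1]
            obtain ⟨c', rfl⟩ := Ideal.Quotient.mk_surjective c
            obtain ⟨w, hw⟩ := Ideal.Quotient.mk_surjective (e.symm z)
            rw [← hw, red_mk, ← map_mul, mulPow_mk, mulPow_mk, ← map_mul]
            congr 1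
            ring } }
  obtain ⟨σ, hσ⟩ := htriv X
  let s' : B₀ →ₐ[k] (B ⧸ Ideal.span {τ ^ (m + 1)}) :=
    ((AlgHom.snd k B₀ _).comp E.val).comp σ
  have hs' : ∀ b₀, trans (k := k) τ m (s' b₀) = s b₀ := by
    intro b₀
    have hmem := (σ b₀).2
    rw [hE] at hmem
    have h1 : (σ b₀).1.1 = b₀ := hσ b₀
    rw [h1] at hmem
    exact hmem.symm
  refine ⟨s', hs', fun b₀ => ?_⟩
  rw [← hredπ, ← hs b₀]
  exact congrArg _ (hs' b₀)

include hτ in
/-- Formal triviality. -/
theorem exists_lift (htriv : ∀ X : Exal.Ext k B₀ B₀, X.IsTrivial) (m : ℕ) (hm : 1 ≤ m) :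
    ∃ s : B₀ →ₐ[k] (B ⧸ Ideal.span {τ ^ m}), ∀ b₀, red (k := k) τ m hm (s b₀) = e.symm b₀ := by
  induction m, hm using Nat.le_induction with
  | base =>
    let j : (B ⧸ Ideal.span {τ}) ≃ₐ[k] (B ⧸ Ideal.span {τ ^ 1}) :=
      Ideal.quotientEquivAlgOfEq k (by rw [pow_one])
    refine ⟨j.toAlgHom.comp e.symm.toAlgHom, fun b₀ => ?_⟩
    obtain ⟨w, hw⟩ := Ideal.Quotient.mk_surjective (e.symm b₀)
    change red (k := k) τ 1 le_rfl (j (e.symm b₀)) = e.symm b₀
    rw [← hw]
    rfl
  | succ m hm ih =>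
    obtain ⟨s, hs⟩ := ih
    obtain ⟨s', -, hs'⟩ := exists_lift_succ τ hτ e htriv m hm s hs
    exact ⟨s', hs'⟩

end Lift

end Groth.Agent.Lib.helper10.RigidFT
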