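import Mathlib
import Groth.Prelude

set_option autoImplicit false
universe u

namespace Groth.Agent.Lib.helper10.RigidPrelim

section

variable {k : Type u} [Field k] [IsAlgClosed k] {A : Type u} [CommRing A] [IsDomain A]
  [Algebra k A] [Algebra.FiniteType k A] (t : A) (ht : (Ideal.span {t}).IsMaximal)

include ht in
theorem algebraMap_quot_surjective :
    Function.Surjective (algebraMap k (A ⧸ Ideal.span {t})) := by
  letI : Field (A ⧸ Ideal.span {t}) := Ideal.Quotient.field _
  have : Algebra.FiniteType k (A ⧸ Ideal.span {t}) := inferInstance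
  have hfin : Module.Finite k (A ⧸ Ideal.span {t}) :=
    finite_of_finite_type_of_isJacobsonRing k _
  have : Algebra.IsIntegral k (A ⧸ Ideal.span {t}) := inferInstance
  exact (IsAlgClosed.algebraMap_bijective_of_isIntegral (k := k)).2

include ht in
theorem not_isUnit : ¬ IsUnit t := by
  intro h
  exact ht.ne_top (Ideal.span_singleton_eq_top.mpr h)

theorem ne_zero_of_dim (hdim : ringKrullDim A = 1) (ht : (Ideal.span {t}).IsMaximal) : t ≠ 0 := by
  rintro rfl
  have hbot : (⊥ : Ideal A).IsMaximal := by
    have : Ideal.span {(0 : A)} = ⊥ := by simp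
    rwa [this] at ht
  have hf : IsField A := Ring.isField_iff_maximal_bot.mpr hbot
  letI := hf.toField
  have := ringKrullDim_eq_zero_of_field A
  rw [this] at hdim
  exact zero_ne_one hdim

include ht in
theorem pow_notMem (ht0 : t ≠ 0) (n₀ : ℕ) : t ^ n₀ ∉ Ideal.span {t ^ (n₀ + 1)} := by
  intro h
  obtain ⟨a, ha⟩ := Ideal.mem_span_singleton'.mp h
  have h1 : t ^ n₀ * (a * t) = t ^ n₀ * 1 := by rw [mul_one]; nth_rewrite 2 [← ha]; rw [pow_succ]; ring
  have h2 := mul_left_cancel₀ (pow_ne_zero n₀ ht0) h1
  exact not_isUnit t ht (IsUnit.of_mul_eq_one a (by rw [mul_comm]; exact h2))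

end

end Groth.Agent.Lib.helper10.RigidPrelim
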