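import Mathlib

set_option autoImplicit false
universe u
open scoped TensorProduct

namespace H10S14086

section gen
variable {R : Type u} [CommRing R] {R' : Type u} [CommRing R'] [Algebra R R']
  {X Y : Type u} [CommRing X] [CommRing Y] [Algebra R X] [Algebra R Y]

lemma map_id_eq_lTensor (h : X →ₐ[R] Y) (x : R' ⊗[R] X) :
    Algebra.TensorProduct.map (AlgHom.id R' R') h x = (h.toLinearMap.lTensor R') x := by
  induction x using TensorProduct.induction_on with
  | zero => simp
  | add x y hx hy => simp only [map_add, hx, hy]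
  | tmul a b => simp
end gen

variable (R A B R' : Type u) [CommRing R] [CommRing A]
    [CommRing B] [CommRing R'] [Algebra R A] [Algebra R B] [Algebra R R']

/-- finite injective flat ⇒ faithfully flat ⇒ universally injective -/
lemma lTensor_injective_of_finite_flat_injective (Q : Type u) [CommRing Q] [Algebra R Q]
    [Algebra B Q] [IsScalarTower R B Q] [Module.Finite B Q] [Module.Flat B Q]
    (hinj : Function.Injective (algebraMap B Q)) :
    Function.Injective ((IsScalarTower.toAlgHom R B Q).toLinearMap.lTensor R') := by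
  have hfs : FaithfulSMul B Q := (faithfulSMul_iff_algebraMap_injective B Q).mpr hinj
  have hint : Algebra.IsIntegral B Q := Algebra.IsIntegral.of_finite B Q
  have hff : Module.FaithfullyFlat B Q :=
    Module.FaithfullyFlat.of_comap_surjective (Algebra.IsIntegral.comap_surjective B Q)
  rw [LinearMap.lTensor_inj_iff_rTensor_inj]
  -- B ⊗ R' → Q ⊗_B (B ⊗ R') ≅ Q ⊗ R'
  have h1 := Module.FaithfullyFlat.tensorProduct_mk_injective (A := B) (B := Q) (B ⊗[R] R')
  let e := TensorProduct.AlgebraTensorModule.cancelBaseChange R B Q Q R'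
  have h2 : Function.Injective (fun x : B ⊗[R] R' => e (TensorProduct.mk B Q (B ⊗[R] R') 1 x)) :=
    e.injective.comp h1
  have h3 : (fun x : B ⊗[R] R' => e (TensorProduct.mk B Q (B ⊗[R] R') 1 x)) =
      ((IsScalarTower.toAlgHom R B Q).toLinearMap.rTensor R') := by
    funext x
    induction x using TensorProduct.induction_on with
    | zero => simp
    | add x y hx hy => simp only [map_add, hx, hy]
    | tmul b r =>
      simp [e, Algebra.smul_def]
  rw [← h3]
  exact h2

end H10S14086

namespace H10S14086

variable (R A B R' : Type u) [CommRing R] [CommRing A]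
    [CommRing B] [CommRing R'] [Algebra R A] [Algebra R B] [Algebra R R']

theorem main [Module.Flat R A] [Module.Flat R B]
    (I : Ideal A) [Algebra B (A ⧸ I)] [IsScalarTower R B (A ⧸ I)] [Module.Finite B (A ⧸ I)] [Module.Flat B (A ⧸ I)]
    (hinj : Function.Injective (algebraMap B (A ⧸ I))) :
    Function.Injective (Algebra.TensorProduct.map (AlgHom.id R' R')
        ((AlgHom.snd R B A).comp (AlgHom.equalizer ((IsScalarTower.toAlgHom R B (A ⧸ I)).comp (AlgHom.fst R B A))
          ((Ideal.Quotient.mkₐ R I).comp (AlgHom.snd R B A))).val)) ∧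
    ∀ (b : TensorProduct R R' B) (a : TensorProduct R R' A),
      Algebra.TensorProduct.map (AlgHom.id R' R') (IsScalarTower.toAlgHom R B (A ⧸ I)) b =
        Algebra.TensorProduct.map (AlgHom.id R' R') (Ideal.Quotient.mkₐ R I) a →
      ∃ x : TensorProduct R R' ↥(AlgHom.equalizer ((IsScalarTower.toAlgHom R B (A ⧸ I)).comp (AlgHom.fst R B A))
          ((Ideal.Quotient.mkₐ R I).comp (AlgHom.snd R B A))),
        Algebra.TensorProduct.map (AlgHom.id R' R') ((AlgHom.fst R B A).comp (AlgHom.equalizer ((IsScalarTower.toAlgHom R B (A ⧸ I)).comp (AlgHom.fst R B A))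
          ((Ideal.Quotient.mkₐ R I).comp (AlgHom.snd R B A))).val) x = b ∧
        Algebra.TensorProduct.map (AlgHom.id R' R') ((AlgHom.snd R B A).comp (AlgHom.equalizer ((IsScalarTower.toAlgHom R B (A ⧸ I)).comp (AlgHom.fst R B A))
          ((Ideal.Quotient.mkₐ R I).comp (AlgHom.snd R B A))).val) x = a := by
  set β := IsScalarTower.toAlgHom R B (A ⧸ I) with hβ
  set π := Ideal.Quotient.mkₐ R I with hπ
  set P := AlgHom.equalizer (β.comp (AlgHom.fst R B A)) (π.comp (AlgHom.snd R B A)) with hP
  let fstL := LinearMap.fst R B A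
  let sndL := LinearMap.snd R B A
  let ψ : B × A →ₗ[R] A ⧸ I := β.toLinearMap ∘ₗ fstL - π.toLinearMap ∘ₗ sndL
  let g : P →ₗ[R] B × A := P.val.toLinearMap
  have hflatQ : Module.Flat R (A ⧸ I) := Module.Flat.trans R B (A ⧸ I)
  have hsurj : Function.Surjective ψ := by
    intro q
    obtain ⟨a, rfl⟩ := Ideal.Quotient.mk_surjective q
    refine ⟨(0, -a), ?_⟩
    simp [ψ, fstL, sndL, π]
  have hginj : Function.Injective g := Subtype.val_injective
  have hexact : Function.Exact g ψ := by
    intro y
    constructor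
    · intro hy
      refine ⟨⟨y, ?_⟩, rfl⟩
      rw [hP, AlgHom.mem_equalizer]
      have : β y.1 - π y.2 = 0 := hy
      simpa [sub_eq_zero] using this
    · rintro ⟨x, rfl⟩
      have hx2 : (x : B × A) ∈ (β.comp (AlgHom.fst R B A)).equalizer (π.comp (AlgHom.snd R B A)) := x.2
      rw [AlgHom.mem_equalizer] at hx2
      have h2 : β (x : B × A).1 = π (x : B × A).2 := by simpa using hx2
      show β (x : B × A).1 - π (x : B × A).2 = 0
      rw [h2, sub_self]
  have hgT := LinearMap.lTensor_injective_of_exact_of_flat ψ hsurj g hginj hexact R'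
  have hex' := lTensor_exact R' hexact hsurj
  have hψ : ∀ z : R' ⊗[R] (B × A), ψ.lTensor R' z =
      β.toLinearMap.lTensor R' (fstL.lTensor R' z) - π.toLinearMap.lTensor R' (sndL.lTensor R' z) := by
    intro z
    simp only [ψ, LinearMap.lTensor_sub, LinearMap.sub_apply, LinearMap.lTensor_comp_apply]
  have hfst : ∀ x : R' ⊗[R] P, Algebra.TensorProduct.map (AlgHom.id R' R')
      ((AlgHom.fst R B A).comp P.val) x = fstL.lTensor R' (g.lTensor R' x) := by
    intro x
    rw [map_id_eq_lTensor, ← LinearMap.lTensor_comp_apply]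
    rfl
  have hsnd : ∀ x : R' ⊗[R] P, Algebra.TensorProduct.map (AlgHom.id R' R')
      ((AlgHom.snd R B A).comp P.val) x = sndL.lTensor R' (g.lTensor R' x) := by
    intro x
    rw [map_id_eq_lTensor, ← LinearMap.lTensor_comp_apply]
    rfl
  have hβinj := lTensor_injective_of_finite_flat_injective R B R' (A ⧸ I) hinj
  refine ⟨?_, ?_⟩
  · rw [injective_iff_map_eq_zero]
    intro x hx
    rw [hsnd] at hx
    have h0 : ψ.lTensor R' (g.lTensor R' x) = 0 := (hex' _).2 ⟨x, rfl⟩
    rw [hψ, hx, map_zero, sub_zero] at h0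
    have h1 : fstL.lTensor R' (g.lTensor R' x) = 0 := by
      apply hβinj
      rw [h0, map_zero]
    -- z = 0 since both components vanish
    have hz : g.lTensor R' x = 0 := by
      have hid : (LinearMap.inl R B A ∘ₗ fstL + LinearMap.inr R B A ∘ₗ sndL) = LinearMap.id := by
        ext y <;> simp [fstL, sndL]
      have := congrArg (fun l => LinearMap.lTensor R' l (g.lTensor R' x)) hid
      simp only [LinearMap.lTensor_add, LinearMap.add_apply, LinearMap.lTensor_comp_apply, h1, hx,
        map_zero, add_zero, LinearMap.lTensor_id, LinearMap.id_apply] at this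
      exact this.symm
    exact hgT (by rw [hz, map_zero])
  · intro b a hba
    rw [map_id_eq_lTensor, map_id_eq_lTensor] at hba
    let z : R' ⊗[R] (B × A) := (LinearMap.inl R B A).lTensor R' b + (LinearMap.inr R B A).lTensor R' a
    have hz1 : fstL.lTensor R' z = b := by
      simp only [z, map_add, ← LinearMap.lTensor_comp_apply, fstL]
      rw [LinearMap.fst_comp_inl, LinearMap.fst_comp_inr]
      simp
    have hz2 : sndL.lTensor R' z = a := by
      simp only [z, map_add, ← LinearMap.lTensor_comp_apply, sndL]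
      rw [LinearMap.snd_comp_inl, LinearMap.snd_comp_inr]
      simp
    have hz0 : ψ.lTensor R' z = 0 := by
      rw [hψ, hz1, hz2, hba, sub_self]
    obtain ⟨x, hx⟩ := (hex' z).1 hz0
    refine ⟨x, ?_, ?_⟩
    · rw [hfst, hx, hz1]
    · rw [hsnd, hx, hz2]

end H10S14086
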