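import Mathlib

set_option maxHeartbeats 400000
set_option autoImplicit false
universe u

namespace H10S19181

section Abstract

variable {P : Type*} [CommRing P]

theorem mem_span_of_pow_mul_mem {x g : P} (hx : IsRegular x)
    (hg : ∀ v, x ∣ g * v → x ∣ v) (n : ℕ) (u : P)
    (h : x ^ n * u ∈ Ideal.span ({g} : Set P)) : u ∈ Ideal.span ({g} : Set P) := by
  induction n generalizing u with
  | zero => simpa using h
  | succ n ih =>
    apply ih
    rw [Ideal.mem_span_singleton] at h ⊢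
    obtain ⟨v, hv⟩ := h
    have h1 : x ∣ g * v := ⟨x ^ n * u, by rw [← hv]; ring⟩
    obtain ⟨v', rfl⟩ := hg v h1
    refine ⟨v', hx.left ?_⟩
    show x * (x ^ n * u) = x * (g * v')
    rw [← mul_assoc, ← pow_succ', hv]
    ring

end Abstract

open MvPolynomial

variable {R : Type u} [CommRing R]

/-- evaluation `X 0 ↦ 0`, `X 1 ↦ X` -/
noncomputable def ev0 : MvPolynomial (Fin 2) R →ₐ[R] Polynomial R :=
  aeval ![0, Polynomial.X]

/-- `X ↦ X 1` -/
noncomputable def back : Polynomial R →ₐ[R] MvPolynomial (Fin 2) R :=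
  Polynomial.aeval (X 1)

@[simp] theorem ev0_X0 : ev0 (X 0 : MvPolynomial (Fin 2) R) = 0 := by simp [ev0]
@[simp] theorem ev0_X1 : ev0 (X 1 : MvPolynomial (Fin 2) R) = Polynomial.X := by simp [ev0]
@[simp] theorem ev0_C (a : R) : ev0 (C a : MvPolynomial (Fin 2) R) = Polynomial.C a := by
  simp [ev0]

theorem sub_back_ev0_mem (w : MvPolynomial (Fin 2) R) :
    w - back (ev0 w) ∈ Ideal.span ({X 0} : Set (MvPolynomial (Fin 2) R)) := by
  have h : (Ideal.Quotient.mkₐ R (Ideal.span ({X 0} : Set (MvPolynomial (Fin 2) R)))) =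
      (Ideal.Quotient.mkₐ R (Ideal.span ({X 0} : Set (MvPolynomial (Fin 2) R)))).comp
        (back.comp ev0) := by
    apply MvPolynomial.algHom_ext
    intro i
    fin_cases i
    · simp only [Fin.zero_eta, Fin.isValue, AlgHom.comp_apply, ev0_X0, map_zero]
      rw [Ideal.Quotient.mkₐ_eq_mk, Ideal.Quotient.eq_zero_iff_mem]
      exact Ideal.subset_span rfl
    · simp [back]
  have := DFunLike.congr_fun h w
  rw [AlgHom.comp_apply, AlgHom.comp_apply, Ideal.Quotient.mkₐ_eq_mk,
    Ideal.Quotient.eq] at this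
  exact this

theorem X0_dvd_iff (w : MvPolynomial (Fin 2) R) : X 0 ∣ w ↔ ev0 w = 0 := by
  constructor
  · rintro ⟨v, rfl⟩
    simp
  · intro h
    have := sub_back_ev0_mem w
    rw [h, map_zero, sub_zero, Ideal.mem_span_singleton] at this
    exact this

theorem saturation (g : MvPolynomial (Fin 2) R)
    (hg : ∀ v : Polynomial R, ev0 g * v = 0 → v = 0) (s : MvPolynomial (Fin 2) R) :
    (∃ n : ℕ, X 0 ^ n * s ∈ Ideal.span ({X 0 ^ 2 * g} : Set (MvPolynomial (Fin 2) R))) ↔
      s ∈ Ideal.span ({g} : Set (MvPolynomial (Fin 2) R)) := by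
  constructor
  · rintro ⟨n, hn⟩
    refine mem_span_of_pow_mul_mem (isRegular_X (n := (0 : Fin 2))) ?_ n s ?_
    · intro v hv
      rw [X0_dvd_iff] at hv ⊢
      rw [map_mul] at hv
      exact hg _ hv
    · rw [Ideal.mem_span_singleton] at hn ⊢
      obtain ⟨t, ht⟩ := hn
      exact ⟨X 0 ^ 2 * t, by rw [ht]; ring⟩
  · intro h
    refine ⟨2, ?_⟩
    rw [Ideal.mem_span_singleton] at h ⊢
    exact mul_dvd_mul_left _ h

theorem regular_one_add (r : Polynomial R) (v : Polynomial R)
    (h : (1 + Polynomial.X * r) * v = 0) : v = 0 := by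
  have h1 : v = (-(Polynomial.X * r)) * v := by
    have : v + Polynomial.X * r * v = 0 := by rw [← h]; ring
    rw [neg_mul]
    exact eq_neg_of_add_eq_zero_left this
  have h2 : ∀ k : ℕ, v = (-(Polynomial.X * r)) ^ k * v := by
    intro k
    induction k with
    | zero => simp
    | succ k ih => rw [pow_succ, mul_assoc, ← h1]; exact ih
  ext d
  have hd : (Polynomial.X : Polynomial R) ^ (d + 1) ∣ v := by
    rw [h2 (d + 1), neg_pow, mul_pow]
    exact ⟨(-1) ^ (d + 1) * r ^ (d + 1) * v, by ring⟩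
  rw [Polynomial.X_pow_dvd_iff] at hd
  simpa using hd d (Nat.lt_succ_self d)

theorem main (a₁ a₂ : R) :
    (∀ s : MvPolynomial (Fin 2) R,
      (∃ n : ℕ, X 0 ^ n * s ∈ Ideal.span ({X 0 ^ 2 * (1 + C a₁ * X 1 - X 0 * X 1 ^ 3 - C a₂ * X 1 ^ 2)} :
        Set (MvPolynomial (Fin 2) R))) ↔
      s ∈ Ideal.span ({1 + C a₁ * X 1 - X 0 * X 1 ^ 3 - C a₂ * X 1 ^ 2} : Set (MvPolynomial (Fin 2) R))) ∧
    (∀ s : MvPolynomial (Fin 2) R,
      (∃ n : ℕ, X 0 ^ n * s ∈ Ideal.span ({X 0 ^ 2 * (X 1 ^ 2 + C a₁ * X 1 - X 0 - C a₂)} :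
        Set (MvPolynomial (Fin 2) R))) ↔
      s ∈ Ideal.span ({X 1 ^ 2 + C a₁ * X 1 - X 0 - C a₂} : Set (MvPolynomial (Fin 2) R))) := by
  constructor
  · intro s
    apply saturation
    intro v hv
    apply regular_one_add (Polynomial.C a₁ - Polynomial.C a₂ * Polynomial.X) v
    rw [← hv]
    simp only [map_sub, map_add, map_mul, map_one, map_pow, ev0_X0, ev0_X1, ev0_C]
    ring
  · intro s
    apply saturation
    intro v hv
    have hmonic : (Polynomial.X ^ 2 + (Polynomial.C a₁ * Polynomial.X - Polynomial.C a₂) :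
        Polynomial R).Monic := by
      apply Polynomial.monic_X_pow_add
      refine lt_of_le_of_lt (Polynomial.degree_sub_le _ _) ?_
      refine max_lt (lt_of_le_of_lt (Polynomial.degree_C_mul_X_le _) (by norm_num)) ?_
      exact lt_of_le_of_lt Polynomial.degree_C_le (by norm_num)
    apply (hmonic.mul_right_eq_zero_iff).1
    rw [← hv]
    simp only [map_sub, map_add, map_mul, map_pow, ev0_X0, ev0_X1, ev0_C]
    ring

end H10S19181
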