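import Mathlib

set_option maxHeartbeats 400000
set_option autoImplicit false
universe u
open Polynomial

namespace H10S11235

theorem main (k : Type u) [Field k] [IsAlgClosed k]
    (A : Type u) [CommRing A] [Algebra k A] (α : k)
    (M : Ideal (Polynomial A)) (hM : M.IsMaximal)
    (hα : Polynomial.X - Polynomial.C (algebraMap k A α) ∈ M)
    (I : Ideal (Polynomial A)) (hIM : I ≤ M)
    (hI : ∀ c : kˣ, (I.map (Polynomial.aeval (R := A)
      (algebraMap k A (c : k) • (Polynomial.X : Polynomial A)))).radical = I.radical) :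
    ∃ N : Ideal (Polynomial A), N.IsMaximal ∧ I ≤ N ∧ Polynomial.X ∈ N := by
  classical
  by_cases hα0 : α = 0
  · refine ⟨M, hM, hIM, ?_⟩
    simpa [hα0] using hα
  have hprime : M.IsPrime := hM.isPrime
  -- it suffices that I ⊔ (X) is proper
  suffices hne : I ⊔ Ideal.span {(X : A[X])} ≠ ⊤ by
    obtain ⟨N, hN, hle⟩ := Ideal.exists_le_maximal _ hne
    exact ⟨N, hN, le_sup_left.trans hle,
      hle (Ideal.mem_sup_right (Ideal.subset_span (Set.mem_singleton _)))⟩
  intro htop
  have h1 : (1 : A[X]) ∈ I ⊔ Ideal.span {(X : A[X])} := htop ▸ Submodule.mem_top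
  obtain ⟨f, hf, y, hy, hfy⟩ := Submodule.mem_sup.1 h1
  obtain ⟨g, rfl⟩ := Ideal.mem_span_singleton'.1 hy
  have hf0 : f.coeff 0 = 1 := by
    have := congrArg (fun p => coeff p 0) hfy
    simpa using this
  -- the residue field
  let L := A[X] ⧸ M
  let _ : Field L := Ideal.Quotient.field M
  let q : A[X] →+* L := Ideal.Quotient.mk M
  let ψ : A →+* L := q.comp C
  let κ : k →+* L := ψ.comp (algebraMap k A)
  have hκ : Function.Injective κ := κ.injective
  have hqX : q X = κ α := by
    have : q (X - C (algebraMap k A α)) = 0 := Ideal.Quotient.eq_zero_iff_mem.2 hα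
    rw [map_sub, sub_eq_zero] at this
    exact this
  let F : L[X] := f.map ψ
  have hroot : ∀ x : k, x ≠ 0 → F.IsRoot (κ x * κ α) := by
    intro x hx
    have hmem : aeval (algebraMap k A x • (X : A[X])) f ∈ M := by
      have h2 : aeval (algebraMap k A x • (X : A[X])) f ∈
          (I.map (Polynomial.aeval (R := A) (algebraMap k A x • (X : A[X])))).radical :=
        Ideal.le_radical (Ideal.mem_map_of_mem _ hf)
      have h3 := hI (Units.mk0 x hx)
      rw [Units.val_mk0] at h3
      rw [h3] at h2
      exact (hprime.radical_le_iff.2 hIM) h2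
    have hq0 : q (aeval (algebraMap k A x • (X : A[X])) f) = 0 :=
      Ideal.Quotient.eq_zero_iff_mem.2 hmem
    rw [aeval_def, hom_eval₂] at hq0
    have e1 : q (algebraMap k A x • (X : A[X])) = κ x * κ α := by
      rw [Algebra.smul_def, map_mul, hqX]
      rfl
    rw [e1] at hq0
    rw [IsRoot.def, eval_map]
    exact hq0
  have hinf : Set.Infinite {y : L | F.IsRoot y} := by
    have hinfk : Infinite {x : k // x ≠ 0} := by
      have : ({x : k | x ≠ 0} : Set k).Infinite := by
        have := (Set.finite_singleton (0 : k)).infinite_compl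
        convert this using 1
        ext x; simp
      exact Set.infinite_coe_iff.2 this
    refine Set.infinite_of_injective_forall_mem (f := fun x : {x : k // x ≠ 0} => κ x.1 * κ α) ?_
      (fun x => hroot x.1 x.2)
    intro x x' hxx
    have hκα : κ α ≠ 0 := fun h0 => hα0 (hκ (h0.trans (map_zero κ).symm))
    have := mul_right_cancel₀ hκα hxx
    exact Subtype.ext (hκ this)
  have hF0 : F = 0 := Polynomial.eq_zero_of_infinite_isRoot F hinf
  have : F.coeff 0 = 1 := by
    rw [coeff_map, hf0, map_one]
  rw [hF0, coeff_zero] at this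
  exact zero_ne_one this

end H10S11235
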