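import Groth.Agent.Lib.helper10.SchFinGeomPt
import Mathlib.RingTheory.TensorProduct.Basic
import Mathlib.LinearAlgebra.TensorProduct.Pi
import Mathlib.RingTheory.Flat.FaithfullyFlat.Basic
import Mathlib.RingTheory.Finiteness.Descent
import Mathlib.RingTheory.Etale.Descent
import Mathlib.RingTheory.Etale.Pi
import Mathlib.RingTheory.Flat.Localization
import Mathlib.RingTheory.RingHom.Etale
import Mathlib.RingTheory.RingHom.FaithfullyFlat
import Mathlib.RingTheory.RingHom.Finite

/-!
# Affine up-closed subsets of a finite ringed poset: base change of sections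
-/

set_option autoImplicit false
set_option linter.style.haveILetI false
set_option linter.unusedSectionVars false
set_option linter.unusedVariables false

universe u

namespace Groth.Agent.Lib.helper10.SchFinAff

open SchFin TensorProduct

section Transport

variable {S S' R : Type u} [CommRing S] [CommRing S'] [CommRing R]
  {M M' N : Type u} [AddCommGroup M] [AddCommGroup M'] [AddCommGroup N]
  [Module S M] [Module S' M'] [Module R N]

/-- `IsBCAlong` is invariant under a ring isomorphism of the bases together with a compatible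
isomorphism of the sources. -/
theorem isBCAlong_of_iso (ρ : S ≃+* S') (g : S →+* R) (g' : S' →+* R) (hg : ∀ s, g' (ρ s) = g s)
    (μ : M ≃+ M') (hμ : ∀ (s : S) (m : M), μ (s • m) = ρ s • μ m)
    (f : M →ₛₗ[g] N) (f' : M' →ₛₗ[g'] N) (hf : ∀ m, f' (μ m) = f m)
    (h : IsBCAlong g' f') : IsBCAlong g f := by
  unfold IsBCAlong at h ⊢
  letI algS : Algebra S R := g.toAlgebra
  letI algS' : Algebra S' R := g'.toAlgebra
  letI modS : Module S N := Module.compHom N g
  letI modS' : Module S' N := Module.compHom N g'
  haveI : IsScalarTower S R N := IsScalarTower.of_algebraMap_smul fun _ _ => rfl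
  haveI : IsScalarTower S' R N := IsScalarTower.of_algebraMap_smul fun _ _ => rfl
  let fL : M →ₗ[S] N := { toFun := f, map_add' := f.map_add, map_smul' := f.map_smulₛₗ }
  let fL' : M' →ₗ[S'] N := { toFun := f', map_add' := f'.map_add, map_smul' := f'.map_smulₛₗ }
  change IsBaseChange R fL' at h
  change IsBaseChange R fL
  have hμs : ∀ (s' : S') (m' : M'), μ.symm (s' • m') = ρ.symm s' • μ.symm m' := by
    intro s' m'
    apply μ.injective
    rw [hμ, AddEquiv.apply_symm_apply, AddEquiv.apply_symm_apply, RingEquiv.apply_symm_apply]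
  -- the comparison of tensor products
  let Ψ : R ⊗[S'] M' →+ R ⊗[S] M :=
    TensorProduct.liftAddHom
      { toFun := fun r =>
          { toFun := fun m' => r ⊗ₜ[S] μ.symm m'
            map_zero' := by rw [map_zero, TensorProduct.tmul_zero]
            map_add' := fun a b => by rw [map_add, TensorProduct.tmul_add] }
        map_zero' := by
          ext m'
          exact TensorProduct.zero_tmul _ _
        map_add' := fun a b => by
          ext m'
          exact TensorProduct.add_tmul _ _ _ }
      (fun s' r m' => by
        show (s' • r) ⊗ₜ[S] μ.symm m' = r ⊗ₜ[S] μ.symm (s' • m')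
        rw [hμs, TensorProduct.tmul_smul, TensorProduct.smul_tmul']
        congr 1
        show g' s' * r = g (ρ.symm s') * r
        rw [← hg, RingEquiv.apply_symm_apply])
  have hΨ : ∀ (r : R) (m' : M'), Ψ (r ⊗ₜ[S'] m') = r ⊗ₜ[S] μ.symm m' := fun r m' => rfl
  have hΨsurj : Function.Surjective Ψ := by
    intro t
    induction t using TensorProduct.induction_on with
    | zero => exact ⟨0, map_zero _⟩
    | tmul r m => exact ⟨r ⊗ₜ[S'] μ m, by rw [hΨ, AddEquiv.symm_apply_apply]⟩
    | add a b ha hb =>
      obtain ⟨a', rfl⟩ := ha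
      obtain ⟨b', rfl⟩ := hb
      exact ⟨a' + b', map_add _ _ _⟩
  have hcomp : ∀ t, (fL.liftBaseChange R) (Ψ t) = h.equiv t := by
    intro t
    induction t using TensorProduct.induction_on with
    | zero => rw [map_zero, map_zero, map_zero]
    | tmul r m' =>
      rw [hΨ, LinearMap.liftBaseChange_tmul, IsBaseChange.equiv_tmul]
      congr 1
      show f (μ.symm m') = f' m'
      rw [← hf, AddEquiv.apply_symm_apply]
    | add a b ha hb => rw [map_add, map_add, map_add, ha, hb]
  have hbij : Function.Bijective ((fL.liftBaseChange R) ∘ Ψ) := by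
    have : ((fL.liftBaseChange R) ∘ Ψ) = h.equiv := funext hcomp
    rw [this]
    exact h.equiv.bijective
  have hΨbij : Function.Bijective Ψ := ⟨hbij.1.of_comp, hΨsurj⟩
  have hL : Function.Bijective (fL.liftBaseChange R) :=
    (Function.Bijective.of_comp_iff _ hΨbij).1 hbij
  exact IsBaseChange.of_equiv (LinearEquiv.ofBijective (fL.liftBaseChange R) hL)
    (fun x => by
      show (fL.liftBaseChange R) ((1 : R) ⊗ₜ[S] x) = fL x
      rw [LinearMap.liftBaseChange_tmul, one_smul])

end Transport

section Restrict

variable {X : RSpace.{u}} (U : Set X.pt)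

/-- sections of the rings over `U` are the global sections of the restricted space -/
def sectRingEquiv : X.sectRing U ≃+* (X.restrict U).sectRing Set.univ where
  toFun s := ⟨fun q => s.1 q.1, fun q q' h => s.2 q.1 q'.1 h⟩
  invFun t := ⟨fun q => t.1 ⟨q, trivial⟩, fun q q' h => t.2 ⟨q, trivial⟩ ⟨q', trivial⟩ h⟩
  left_inv s := rfl
  right_inv t := rfl
  map_mul' a b := rfl
  map_add' a b := rfl

/-- sections of a module over `U` are the global sections of the restricted module -/
def sectEquiv (M : OMod X) : M.sect U ≃+ (M.restrict U).sect Set.univ where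
  toFun s := ⟨fun q => s.1 q.1, fun q q' h => s.2 q.1 q'.1 h⟩
  invFun t := ⟨fun q => t.1 ⟨q, trivial⟩, fun q q' h => t.2 ⟨q, trivial⟩ ⟨q', trivial⟩ h⟩
  left_inv s := rfl
  right_inv t := rfl
  map_add' a b := rfl

theorem restrict_isQcoh (M : OMod X) (hM : M.IsQcoh) : (M.restrict U).IsQcoh :=
  fun p q h => hM p.1 q.1 h

/-- The affine base change property, stated on the space itself: over an affine subset, evaluation
of sections of a quasi-coherent module at a point is a base change. -/
theorem isBCAlong_evalMod (hUa : (X.restrict U).IsAffine) (M : OMod X) (hM : M.IsQcoh) (q : U) :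
    IsBCAlong (X.evalRing U q) (M.evalMod U q) :=
  isBCAlong_of_iso (sectRingEquiv U) (X.evalRing U q)
    ((X.restrict U).evalRing Set.univ ⟨q, trivial⟩) (fun _ => rfl)
    (sectEquiv U M) (fun _ _ => rfl) (M.evalMod U q)
    ((M.restrict U).evalMod Set.univ ⟨q, trivial⟩) (fun _ => rfl)
    (hUa.2.2.1 (M.restrict U) (restrict_isQcoh U M hM) q)

end Restrict

section FF

variable {S : Type u} [CommRing S] {ι : Type u} [Finite ι] (C : ι → Type u)
  [∀ i, AddCommGroup (C i)] [∀ i, Module S (C i)]
  {N₁ N₂ : Type u} [AddCommGroup N₁] [AddCommGroup N₂] [Module S N₁] [Module S N₂]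

theorem lTensor_pi_eq (Φ : N₁ →ₗ[S] N₂) [Fintype ι] [DecidableEq ι] :
    (Φ.lTensor (∀ i, C i) : (∀ i, C i) ⊗[S] N₁ → (∀ i, C i) ⊗[S] N₂) =
      (TensorProduct.piLeft S N₂ C).symm ∘
        (fun (v : ∀ i, C i ⊗[S] N₁) (i : ι) => (Φ.lTensor (C i)) (v i)) ∘
          (TensorProduct.piLeft S N₁ C) := by
  have key : ∀ t : (∀ i, C i) ⊗[S] N₁,
      TensorProduct.piLeft S N₂ C ((Φ.lTensor (∀ i, C i)) t) =
        fun i => (Φ.lTensor (C i)) (TensorProduct.piLeft S N₁ C t i) := by
    intro t
    induction t using TensorProduct.induction_on with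
    | zero =>
      rw [map_zero, map_zero, map_zero]
      funext i
      rw [Pi.zero_apply, Pi.zero_apply, map_zero]
    | tmul c n =>
      funext i
      simp
    | add a b ha hb =>
      rw [map_add, map_add, map_add, ha, hb]
      funext i
      rw [Pi.add_apply, Pi.add_apply, map_add]
  funext t
  show _ = (TensorProduct.piLeft S N₂ C).symm _
  rw [LinearEquiv.eq_symm_apply]
  exact key t

/-- A linear map is injective as soon as it is so after tensoring with each factor of a faithfully
flat finite product. -/
theorem injective_of_forall_lTensor_injective (hff : Module.FaithfullyFlat S (∀ i, C i))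
    (Φ : N₁ →ₗ[S] N₂) (h : ∀ i, Function.Injective (Φ.lTensor (C i))) : Function.Injective Φ := by
  classical
  cases nonempty_fintype ι
  rw [← Module.FaithfullyFlat.lTensor_injective_iff_injective S (∀ i, C i)]
  rw [lTensor_pi_eq C Φ]
  refine (TensorProduct.piLeft S N₂ C).symm.injective.comp
    (Function.Injective.comp ?_ (TensorProduct.piLeft S N₁ C).injective)
  intro v w hvw
  funext i
  exact h i (congrFun hvw i)

/-- A linear map is surjective as soon as it is so after tensoring with each factor of a faithfully
flat finite product. -/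
theorem surjective_of_forall_lTensor_surjective (hff : Module.FaithfullyFlat S (∀ i, C i))
    (Φ : N₁ →ₗ[S] N₂) (h : ∀ i, Function.Surjective (Φ.lTensor (C i))) :
    Function.Surjective Φ := by
  classical
  cases nonempty_fintype ι
  rw [← Module.FaithfullyFlat.lTensor_surjective_iff_surjective S (∀ i, C i)]
  rw [lTensor_pi_eq C Φ]
  refine (TensorProduct.piLeft S N₂ C).symm.surjective.comp
    (Function.Surjective.comp ?_ (TensorProduct.piLeft S N₁ C).surjective)
  intro w
  choose v hv using fun i => h i (w i)
  exact ⟨v, funext hv⟩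

/-- A linear map is bijective as soon as it is so after tensoring with each factor of a faithfully
flat finite product. -/
theorem bijective_of_forall_lTensor_bijective (hff : Module.FaithfullyFlat S (∀ i, C i))
    (Φ : N₁ →ₗ[S] N₂) (h : ∀ i, Function.Bijective (Φ.lTensor (C i))) : Function.Bijective Φ :=
  ⟨injective_of_forall_lTensor_injective C hff Φ fun i => (h i).1,
    surjective_of_forall_lTensor_surjective C hff Φ fun i => (h i).2⟩

end FF

section Charts

variable {S B : Type u} [CommRing S] [CommRing B] [Algebra S B]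
  {ι : Type u} [Finite ι] (R A : ι → Type u) [∀ q, CommRing (R q)] [∀ q, CommRing (A q)]
  [∀ q, Algebra S (R q)] [∀ q, Algebra (R q) (A q)] [∀ q, Algebra B (A q)] [∀ q, Algebra S (A q)]
  [∀ q, IsScalarTower S (R q) (A q)] [∀ q, IsScalarTower S B (A q)]

/-- a factor as an algebra over the product -/
@[reducible] def evalAlg (q : ι) : Algebra (∀ i, R i) (R q) := (Pi.evalRingHom R q).toAlgebra

/-- an algebra over a factor as an algebra over the product -/
@[reducible] def compAlg (q : ι) : Algebra (∀ i, R i) (A q) :=
  ((algebraMap (R q) (A q)).comp (Pi.evalRingHom R q)).toAlgebra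

attribute [local instance] evalAlg compAlg
attribute [-instance] Pi.module' Pi.instAlgebraForall

instance towerProd (q : ι) : IsScalarTower (∀ i, R i) (R q) (A q) :=
  IsScalarTower.of_algebraMap_eq fun _ => rfl

instance towerBase (q : ι) : IsScalarTower S (∀ i, R i) (A q) :=
  IsScalarTower.of_algebraMap_eq fun x => by
    show algebraMap S (A q) x = algebraMap (R q) (A q) (algebraMap S (R q) x)
    exact IsScalarTower.algebraMap_apply S (R q) (A q) x

/-- the comparison map from the base change to the product of the charts -/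
noncomputable def piLam : (∀ i, R i) ⊗[S] B →ₐ[∀ i, R i] (∀ q, A q) :=
  Algebra.TensorProduct.lift (Algebra.ofId (∀ i, R i) (∀ q, A q))
    (AlgHom.pi fun q => IsScalarTower.toAlgHom S B (A q)) (fun _ _ => Commute.all _ _)

theorem piLam_bijective (hpush : ∀ q, Algebra.IsPushout S (R q) B (A q)) :
    Function.Bijective (piLam (S := S) (B := B) R A) := by
  classical
  cases nonempty_fintype ι
  have heq : (piLam (S := S) (B := B) R A : (∀ i, R i) ⊗[S] B → ∀ q, A q) =
      (fun (v : ∀ q, R q ⊗[S] B) (q : ι) => Algebra.IsPushout.equiv S (R q) B (A q) (v q)) ∘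
        (TensorProduct.piLeft S B R) := by
    funext t
    induction t using TensorProduct.induction_on with
    | zero =>
      funext q
      simp
    | tmul c b =>
      funext q
      show (piLam (S := S) (B := B) R A (c ⊗ₜ[S] b)) q =
        Algebra.IsPushout.equiv S (R q) B (A q) ((TensorProduct.piLeft S B R (c ⊗ₜ[S] b)) q)
      have h1 : (TensorProduct.piLeft S B R (c ⊗ₜ[S] b)) q = c q ⊗ₜ[S] b := by simp
      rw [h1, Algebra.IsPushout.equiv_tmul]
      rfl
    | add a b ha hb =>
      rw [map_add, ha, hb]
      funext q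
      simp
  rw [heq]
  refine Function.Bijective.comp ?_ (TensorProduct.piLeft S B R).bijective
  constructor
  · intro v w hvw
    funext q
    exact (Algebra.IsPushout.equiv S (R q) B (A q)).injective (congrFun hvw q)
  · intro w
    exact ⟨fun q => (Algebra.IsPushout.equiv S (R q) B (A q)).symm (w q), by
      funext q
      exact (Algebra.IsPushout.equiv S (R q) B (A q)).apply_symm_apply (w q)⟩

/-- the base change to the product of the rings of the charts is the product of the charts -/
noncomputable def piEquiv (hpush : ∀ q, Algebra.IsPushout S (R q) B (A q)) :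
    (∀ i, R i) ⊗[S] B ≃ₐ[∀ i, R i] (∀ q, A q) :=
  AlgEquiv.ofBijective (piLam R A) (piLam_bijective R A hpush)

/-! ### finiteness -/

theorem finite_chart_of_finite (hpush : ∀ q, Algebra.IsPushout S (R q) B (A q))
    [Module.Finite S B] (q : ι) : Module.Finite (R q) (A q) :=
  Module.Finite.equiv (Algebra.IsPushout.equiv S (R q) B (A q)).toLinearEquiv

theorem evalAlg_surjective (q : ι) : Function.Surjective (algebraMap (∀ i, R i) (R q)) := by
  classical
  intro r
  exact ⟨Pi.single q r, Pi.single_eq_same q r⟩

theorem finite_of_finite_charts (hpush : ∀ q, Algebra.IsPushout S (R q) B (A q))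
    (hff : Module.FaithfullyFlat S (∀ i, R i)) (h : ∀ q, Module.Finite (R q) (A q)) :
    Module.Finite S B := by
  haveI : ∀ q, Module.Finite (∀ i, R i) (R q) := fun q =>
    Module.Finite.of_surjective (Algebra.linearMap (∀ i, R i) (R q)) (evalAlg_surjective R q)
  haveI : ∀ q, Module.Finite (∀ i, R i) (A q) := fun q => Module.Finite.trans (R q) (A q)
  haveI : Module.Finite (∀ i, R i) (∀ q, A q) := inferInstance
  haveI : Module.Finite (∀ i, R i) ((∀ i, R i) ⊗[S] B) :=
    Module.Finite.equiv (piEquiv R A hpush).symm.toLinearEquiv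
  exact Module.Finite.of_finite_tensorProduct_of_faithfullyFlat (∀ i, R i)

/-! ### flatness -/

theorem flat_chart_of_flat (hpush : ∀ q, Algebra.IsPushout S (R q) B (A q))
    [Module.Flat S B] (q : ι) : Module.Flat (R q) (A q) :=
  Module.Flat.of_linearEquiv (Algebra.IsPushout.equiv S (R q) B (A q)).toLinearEquiv.symm

theorem evalAlg_isLocalization (q : ι) [DecidableEq ι] :
    IsLocalization.Away (Pi.single q (1 : R q) : ∀ i, R i) (R q) := by
  apply IsLocalization.away_of_isIdempotentElem_of_mul
  · show Pi.single q (1 : R q) * Pi.single q (1 : R q) = Pi.single q (1 : R q)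
    rw [← Pi.single_mul, one_mul]
  · intro x y
    show x q = y q ↔ _
    constructor
    · intro hxy
      funext i
      by_cases hi : i = q
      · subst hi
        simp [hxy]
      · simp [Pi.single_eq_of_ne hi]
    · intro hxy
      have := congrFun hxy q
      simpa using this
  · exact evalAlg_surjective R q

theorem flat_of_flat_charts (hpush : ∀ q, Algebra.IsPushout S (R q) B (A q))
    (hff : Module.FaithfullyFlat S (∀ i, R i)) (h : ∀ q, Module.Flat (R q) (A q)) :
    Module.Flat S B := by
  classical
  cases nonempty_fintype ι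
  haveI : ∀ q, Module.Flat (∀ i, R i) (R q) := fun q =>
    haveI := evalAlg_isLocalization R q
    IsLocalization.flat (R q) (Submonoid.powers (Pi.single q (1 : R q) : ∀ i, R i))
  haveI : ∀ q, Module.Flat (∀ i, R i) (A q) := fun q => Module.Flat.trans (∀ i, R i) (R q) (A q)
  haveI : Module.Flat (∀ i, R i) (∀ q, A q) :=
    Module.Flat.of_linearEquiv (DFinsupp.linearEquivFunOnFintype).symm
  haveI : Module.Flat (∀ i, R i) ((∀ i, R i) ⊗[S] B) :=
    Module.Flat.of_linearEquiv (piEquiv R A hpush).toLinearEquiv
  exact Module.Flat.of_flat_tensorProduct S B (∀ i, R i)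

/-! ### faithful flatness -/

theorem faithfullyFlat_chart_of_faithfullyFlat (hpush : ∀ q, Algebra.IsPushout S (R q) B (A q))
    [Module.FaithfullyFlat S B] (q : ι) : Module.FaithfullyFlat (R q) (A q) :=
  Module.FaithfullyFlat.of_linearEquiv (R q) (R q ⊗[S] B)
    (Algebra.IsPushout.equiv S (R q) B (A q)).toLinearEquiv.symm

theorem faithfullyFlat_of_faithfullyFlat_charts (hpush : ∀ q, Algebra.IsPushout S (R q) B (A q))
    (hff : Module.FaithfullyFlat S (∀ i, R i)) (h : ∀ q, Module.FaithfullyFlat (R q) (A q)) :
    Module.FaithfullyFlat S B := by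
  haveI : Module.Flat S B := flat_of_flat_charts R A hpush hff fun q => inferInstance
  apply Module.FaithfullyFlat.of_comap_surjective
  intro 𝔭
  obtain ⟨𝔮, h𝔮⟩ := PrimeSpectrum.comap_surjective_of_faithfullyFlat (A := S) (B := ∀ i, R i) 𝔭
  obtain ⟨i, 𝔯, h𝔯⟩ := PrimeSpectrum.exists_comap_evalRingHom_eq 𝔮
  obtain ⟨𝔰, h𝔰⟩ := PrimeSpectrum.comap_surjective_of_faithfullyFlat (A := R i) (B := A i) 𝔯
  refine ⟨PrimeSpectrum.comap (algebraMap B (A i)) 𝔰, ?_⟩
  rw [← h𝔮, ← h𝔯, ← h𝔰]
  apply PrimeSpectrum.ext
  apply Ideal.ext
  intro x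
  show algebraMap B (A i) (algebraMap S B x) ∈ 𝔰.asIdeal ↔
    algebraMap (R i) (A i) (algebraMap S (R i) x) ∈ 𝔰.asIdeal
  rw [← IsScalarTower.algebraMap_apply S B (A i), ← IsScalarTower.algebraMap_apply S (R i) (A i)]

/-! ### etaleness -/

theorem etale_chart_of_etale (hpush : ∀ q, Algebra.IsPushout S (R q) B (A q))
    [Algebra.Etale S B] (q : ι) : Algebra.Etale (R q) (A q) :=
  Algebra.Etale.of_equiv (Algebra.IsPushout.equiv S (R q) B (A q))

theorem etale_of_etale_charts (hpush : ∀ q, Algebra.IsPushout S (R q) B (A q))
    (hff : Module.FaithfullyFlat S (∀ i, R i)) (h : ∀ q, Algebra.Etale (R q) (A q)) :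
    Algebra.Etale S B := by
  classical
  haveI : ∀ q, Algebra.Etale (∀ i, R i) (R q) := fun q =>
    haveI := evalAlg_isLocalization R q
    Algebra.Etale.of_isLocalizationAway (Pi.single q (1 : R q) : ∀ i, R i)
  haveI : ∀ q, Algebra.Etale (∀ i, R i) (A q) := fun q => Algebra.Etale.comp (∀ i, R i) (R q) (A q)
  haveI : Algebra.Etale (∀ i, R i) (∀ q, A q) := inferInstance
  haveI : Algebra.Etale (∀ i, R i) ((∀ i, R i) ⊗[S] B) :=
    Algebra.Etale.of_equiv (piEquiv R A hpush).symm
  exact Algebra.Etale.of_etale_tensorProduct_of_faithfullyFlat (∀ i, R i)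

end Charts

section ResSect

variable {X : RSpace.{u}}

/-- Over an affine subset of the minimal open set of `x` (with the faithful flatness hypothesis),
sections of a quasi-coherent module are the base change of its value at `x`. -/
theorem isBCAlong_resSect (x : X.pt) (U : Set X.pt) (hU : U ⊆ X.up x)
    (hUa : (X.restrict U).IsAffine)
    (hff : Module.FaithfullyFlat (X.sectRing U) ((q : ↥U) → X.ring q.1)) (M : OMod X)
    (hM : M.IsQcoh) : IsBCAlong (X.resSect x U hU) (M.resSect x U hU) := by
  unfold IsBCAlong
  letI algS : Algebra (X.ring x) (X.sectRing U) := (X.resSect x U hU).toAlgebra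
  letI modMU : Module (X.ring x) (M.sect U) := Module.compHom _ (X.resSect x U hU)
  haveI : IsScalarTower (X.ring x) (X.sectRing U) (M.sect U) :=
    IsScalarTower.of_algebraMap_smul fun _ _ => rfl
  let fL : M.carrier x →ₗ[X.ring x] M.sect U :=
    { toFun := M.resSect x U hU
      map_add' := (M.resSect x U hU).map_add
      map_smul' := (M.resSect x U hU).map_smulₛₗ }
  change IsBaseChange (X.sectRing U) fL
  letI algSq : ∀ q : U, Algebra (X.sectRing U) (X.ring q.1) := fun q => (X.evalRing U q).toAlgebra
  letI algxq : ∀ q : U, Algebra (X.ring x) (X.ring q.1) := fun q => (X.res (hU q.2)).toAlgebra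
  haveI : ∀ q : U, IsScalarTower (X.ring x) (X.sectRing U) (X.ring q.1) := fun q =>
    IsScalarTower.of_algebraMap_eq (fun a => rfl)
  have hff' : @Module.FaithfullyFlat (X.sectRing U) ((q : ↥U) → X.ring q.1) _ _
      (Pi.module _ _ _) := hff
  have hbij : Function.Bijective (fL.liftBaseChange (X.sectRing U)) := by
    apply bijective_of_forall_lTensor_bijective (fun q : U => X.ring q.1) hff'
    intro q
    have hq := isBCAlong_evalMod U hUa M hM q
    unfold IsBCAlong at hq
    letI : Module (X.sectRing U) (M.carrier q.1) := Module.compHom _ (X.evalRing U q)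
    haveI : IsScalarTower (X.sectRing U) (X.ring q.1) (M.carrier q.1) :=
      IsScalarTower.of_algebraMap_smul fun _ _ => rfl
    have hxq := hM x q.1 (hU q.2)
    unfold IsBCAlong at hxq
    letI : Module (X.ring x) (M.carrier q.1) := Module.compHom _ (X.res (hU q.2))
    haveI : IsScalarTower (X.ring x) (X.ring q.1) (M.carrier q.1) :=
      IsScalarTower.of_algebraMap_smul fun _ _ => rfl
    have hcomp : ∀ t : X.ring q.1 ⊗[X.sectRing U] (X.sectRing U ⊗[X.ring x] M.carrier x),
        hq.equiv (((fL.liftBaseChange (X.sectRing U)).lTensor (X.ring q.1)) t) =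
          hxq.equiv (TensorProduct.AlgebraTensorModule.cancelBaseChange (X.ring x) (X.sectRing U)
            (X.sectRing U) (X.ring q.1) (M.carrier x) t) := by
      intro t
      induction t using TensorProduct.induction_on with
      | zero => rw [map_zero, map_zero, map_zero, map_zero]
      | add a b ha hb => rw [map_add, map_add, map_add, map_add, ha, hb]
      | tmul r t' =>
        induction t' using TensorProduct.induction_on with
        | zero => rw [TensorProduct.tmul_zero, map_zero, map_zero, map_zero, map_zero]
        | add a b ha hb =>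
          rw [TensorProduct.tmul_add, map_add, map_add, map_add, map_add, ha, hb]
        | tmul s m =>
          rw [LinearMap.lTensor_tmul, LinearMap.liftBaseChange_tmul, IsBaseChange.equiv_tmul,
            TensorProduct.AlgebraTensorModule.cancelBaseChange_tmul, IsBaseChange.equiv_tmul]
          show r • (s.1 q • M.res (hU q.2) m) = (s.1 q * r) • M.res (hU q.2) m
          rw [smul_smul, mul_comm]
    have h1 : Function.Bijective (hq.equiv ∘
        ((fL.liftBaseChange (X.sectRing U)).lTensor (X.ring q.1))) := by
      have : (hq.equiv ∘ ((fL.liftBaseChange (X.sectRing U)).lTensor (X.ring q.1))) =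
          hxq.equiv ∘ (TensorProduct.AlgebraTensorModule.cancelBaseChange (X.ring x)
            (X.sectRing U) (X.sectRing U) (X.ring q.1) (M.carrier x)) := funext hcomp
      rw [this]
      exact hxq.equiv.bijective.comp (LinearEquiv.bijective _)
    exact (Function.Bijective.of_comp_iff' hq.equiv.bijective _).1 h1
  exact IsBaseChange.of_equiv (LinearEquiv.ofBijective (fL.liftBaseChange (X.sectRing U)) hbij)
    (fun m => by
      show (fL.liftBaseChange (X.sectRing U)) ((1 : X.sectRing U) ⊗ₜ[X.ring x] m) = fL m
      rw [LinearMap.liftBaseChange_tmul, one_smul])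

end ResSect

section AlgCriteria

variable {X : RSpace.{u}}

/-- The four criteria over an affine subset: finiteness, flatness, faithful flatness and etaleness
of a quasi-coherent algebra at the points of the subset are read off the ring map on sections. -/
theorem affine_criteria (A : Alg X) (hA : A.IsQcoh) (U : Set X.pt)
    (hUa : (X.restrict U).IsAffine)
    (hφ : Module.FaithfullyFlat (X.sectRing U) ((q : ↥U) → X.ring q.1)) :
    ((∀ q : X.pt, q ∈ U → Module.Finite (X.ring q) (A.carrier q)) ↔ (A.sectMap U).Finite) ∧
    ((∀ q : X.pt, q ∈ U → Module.Flat (X.ring q) (A.carrier q)) ↔ (A.sectMap U).Flat) ∧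
    ((∀ q : X.pt, q ∈ U → Module.FaithfullyFlat (X.ring q) (A.carrier q)) ↔
      (A.sectMap U).FaithfullyFlat) ∧
    ((∀ q : X.pt, q ∈ U → Algebra.Etale (X.ring q) (A.carrier q)) ↔ (A.sectMap U).Etale) := by
  letI algSB : Algebra (X.sectRing U) (A.total.sectRing U) := (A.sectMap U).toAlgebra
  letI algSR : ∀ q : U, Algebra (X.sectRing U) (X.ring q.1) := fun q =>
    (X.evalRing U q).toAlgebra
  letI algBA : ∀ q : U, Algebra (A.total.sectRing U) (A.carrier q.1) := fun q =>
    (A.total.evalRing U q).toAlgebra
  letI algSA : ∀ q : U, Algebra (X.sectRing U) (A.carrier q.1) := fun q =>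
    ((algebraMap (X.ring q.1) (A.carrier q.1)).comp (X.evalRing U q)).toAlgebra
  haveI tw1 : ∀ q : U, IsScalarTower (X.sectRing U) (X.ring q.1) (A.carrier q.1) := fun q =>
    IsScalarTower.of_algebraMap_eq fun _ => rfl
  haveI tw2 : ∀ q : U, IsScalarTower (X.sectRing U) (A.total.sectRing U) (A.carrier q.1) :=
    fun q => IsScalarTower.of_algebraMap_eq fun _ => rfl
  have hφ' : @Module.FaithfullyFlat (X.sectRing U) ((q : ↥U) → X.ring q.1) _ _
      (Pi.module _ _ _) := hφ
  -- the pushout squares
  have hpush : ∀ q : U, Algebra.IsPushout (X.sectRing U) (X.ring q.1) (A.total.sectRing U)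
      (A.carrier q.1) := by
    intro q
    have hq := isBCAlong_evalMod U hUa A.toMod hA q
    unfold IsBCAlong at hq
    letI : Module (X.sectRing U) (A.toMod.carrier q.1) := Module.compHom _ (X.evalRing U q)
    haveI : IsScalarTower (X.sectRing U) (X.ring q.1) (A.toMod.carrier q.1) :=
      IsScalarTower.of_algebraMap_smul fun _ _ => rfl
    -- sections of the algebra as sections of the underlying module
    let κ : A.total.sectRing U ≃ₗ[X.sectRing U] A.toMod.sect U :=
      { toFun := fun t => ⟨t.1, t.2⟩
        invFun := fun t => ⟨t.1, t.2⟩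
        left_inv := fun _ => rfl
        right_inv := fun _ => rfl
        map_add' := fun _ _ => rfl
        map_smul' := fun s t => by
          apply Subtype.ext
          funext p
          exact (Algebra.smul_def (R := X.ring p.1) (A := A.carrier p.1) (s.1 p) (t.1 p)).symm }
    have hbij : Function.Bijective (LinearMap.liftBaseChange (X.ring q.1)
        (IsScalarTower.toAlgHom (X.sectRing U) (A.total.sectRing U)
          (A.carrier q.1)).toLinearMap) := by
      have heq : (LinearMap.liftBaseChange (X.ring q.1)
          (IsScalarTower.toAlgHom (X.sectRing U) (A.total.sectRing U)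
            (A.carrier q.1)).toLinearMap : X.ring q.1 ⊗[X.sectRing U] A.total.sectRing U →
              A.carrier q.1) =
          hq.equiv ∘ (TensorProduct.congr (LinearEquiv.refl (X.sectRing U) (X.ring q.1)) κ) := by
        funext τ
        induction τ using TensorProduct.induction_on with
        | zero =>
          show _ = hq.equiv ((TensorProduct.congr (LinearEquiv.refl (X.sectRing U) (X.ring q.1)) κ) 0)
          rw [map_zero, map_zero, map_zero]
          rfl
        | tmul r b =>
          show _ = hq.equiv (r ⊗ₜ[X.sectRing U] κ b)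
          rw [LinearMap.liftBaseChange_tmul, IsBaseChange.equiv_tmul]
          rfl
        | add a b ha hb =>
          show _ = hq.equiv
            ((TensorProduct.congr (LinearEquiv.refl (X.sectRing U) (X.ring q.1)) κ) (a + b))
          rw [map_add, map_add, map_add, ha, hb]
          rfl
      rw [heq]
      exact hq.equiv.bijective.comp (LinearEquiv.bijective _)
    exact ⟨IsBaseChange.of_equiv (LinearEquiv.ofBijective _ hbij) (fun b => by
      show (LinearMap.liftBaseChange (X.ring q.1) _) ((1 : X.ring q.1) ⊗ₜ[X.sectRing U] b) = _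
      rw [LinearMap.liftBaseChange_tmul, one_smul])⟩
  refine ⟨⟨fun h => ?_, fun h q hq => ?_⟩, ⟨fun h => ?_, fun h q hq => ?_⟩,
    ⟨fun h => ?_, fun h q hq => ?_⟩, ⟨fun h => ?_, fun h q hq => ?_⟩⟩
  · exact finite_of_finite_charts (fun q : U => X.ring q.1) (fun q : U => A.carrier q.1) hpush hφ'
      (fun q => h q.1 q.2)
  · haveI : Module.Finite (X.sectRing U) (A.total.sectRing U) := h
    exact finite_chart_of_finite (fun q : U => X.ring q.1) (fun q : U => A.carrier q.1) hpush
      ⟨q, hq⟩
  · exact flat_of_flat_charts (fun q : U => X.ring q.1) (fun q : U => A.carrier q.1) hpush hφ'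
      (fun q => h q.1 q.2)
  · haveI : Module.Flat (X.sectRing U) (A.total.sectRing U) := h
    exact flat_chart_of_flat (fun q : U => X.ring q.1) (fun q : U => A.carrier q.1) hpush ⟨q, hq⟩
  · exact faithfullyFlat_of_faithfullyFlat_charts (fun q : U => X.ring q.1)
      (fun q : U => A.carrier q.1) hpush hφ' (fun q => h q.1 q.2)
  · haveI : Module.FaithfullyFlat (X.sectRing U) (A.total.sectRing U) := h
    exact faithfullyFlat_chart_of_faithfullyFlat (fun q : U => X.ring q.1)
      (fun q : U => A.carrier q.1) hpush ⟨q, hq⟩
  · exact etale_of_etale_charts (fun q : U => X.ring q.1) (fun q : U => A.carrier q.1) hpush hφ'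
      (fun q => h q.1 q.2)
  · haveI : Algebra.Etale (X.sectRing U) (A.total.sectRing U) := h
    exact etale_chart_of_etale (fun q : U => X.ring q.1) (fun q : U => A.carrier q.1) hpush
      ⟨q, hq⟩

end AlgCriteria

end Groth.Agent.Lib.helper10.SchFinAff
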