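import Groth.Prelude.Def_SchFin2
import Mathlib.RingTheory.TensorProduct.IsBaseChangeRightExact
import Mathlib.RingTheory.TensorProduct.IsBaseChangePi
import Mathlib.RingTheory.Flat.IsBaseChange

/-!
# Base change along a ring map (`SchFin.IsBCAlong`): quotients, products, kernels
-/

set_option autoImplicit false
set_option linter.style.haveILetI false

universe u

namespace Groth.Agent.Lib.helper10.SchFinBC

open SchFin TensorProduct

variable {R S : Type u} [CommRing R] [CommRing S] (g : R →+* S)

/-- A ring map between algebras compatible with a ring map of the bases, as a semilinear map. -/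
def semi {A A' : Type u} [CommRing A] [CommRing A'] [Algebra R A] [Algebra S A'] (ρ : A →+* A')
    (hρ : ∀ r, ρ (algebraMap R A r) = algebraMap S A' (g r)) : A →ₛₗ[g] A' :=
  { toFun := ρ, map_add' := map_add ρ,
    map_smul' := fun r a => by rw [Algebra.smul_def, Algebra.smul_def, map_mul, hρ] }

@[simp] lemma semi_apply {A A' : Type u} [CommRing A] [CommRing A'] [Algebra R A] [Algebra S A']
    (ρ : A →+* A') (hρ : ∀ r, ρ (algebraMap R A r) = algebraMap S A' (g r)) (a : A) :
    semi g ρ hρ a = ρ a := rfl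

/-- Quotients by (compatible) principal ideals of a base change are base changes. -/
theorem isBCAlong_quot {A B : Type u} [CommRing A] [CommRing B] [Algebra R A] [Algebra S B]
    (fA : A →ₛₗ[g] B) (hfA : IsBCAlong g fA) (ε : A) (ε' : B) (hmul : ∀ a, fA (ε * a) = ε' * fA a)
    (fQ : (A ⧸ Ideal.span {ε}) →ₛₗ[g] (B ⧸ Ideal.span {ε'}))
    (hfQ : ∀ a, fQ (Ideal.Quotient.mk _ a) = Ideal.Quotient.mk _ (fA a)) :
    IsBCAlong g fQ := by
  unfold IsBCAlong at hfA ⊢
  letI : Algebra R S := g.toAlgebra
  letI : Module R B := Module.compHom B g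
  haveI : IsScalarTower R S B := IsScalarTower.of_algebraMap_smul fun _ _ => rfl
  letI : Module R (B ⧸ Ideal.span {ε'}) := Module.compHom _ g
  haveI : IsScalarTower R S (B ⧸ Ideal.span {ε'}) := IsScalarTower.of_algebraMap_smul fun _ _ => rfl
  let h₂ : A →ₗ[R] B := { toFun := fA, map_add' := fA.map_add, map_smul' := fA.map_smulₛₗ }
  let h₃ : (A ⧸ Ideal.span {ε}) →ₗ[R] (B ⧸ Ideal.span {ε'}) :=
    { toFun := fQ, map_add' := fQ.map_add, map_smul' := fQ.map_smulₛₗ }
  change IsBaseChange S h₂ at hfA
  change IsBaseChange S h₃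
  refine IsBaseChange.of_right_exact S h₂ h₂ h₃ (f := LinearMap.mulLeft R ε)
    (g := (Ideal.Quotient.mkₐ R (Ideal.span {ε})).toLinearMap)
    (f' := LinearMap.mulLeft S ε') (g' := (Ideal.Quotient.mkₐ S (Ideal.span {ε'})).toLinearMap)
    ?_ ?_ hfA hfA ?_ ?_ ?_ ?_
  · ext a
    exact hmul a
  · ext a
    exact hfQ a
  · intro y
    change Ideal.Quotient.mk _ y = 0 ↔ _
    rw [Ideal.Quotient.eq_zero_iff_mem, Ideal.mem_span_singleton']
    constructor
    · rintro ⟨a, rfl⟩; exact ⟨a, mul_comm _ _⟩
    · rintro ⟨a, rfl⟩; exact ⟨a, mul_comm _ _⟩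
  · exact Ideal.Quotient.mk_surjective
  · intro y
    change Ideal.Quotient.mk _ y = 0 ↔ _
    rw [Ideal.Quotient.eq_zero_iff_mem, Ideal.mem_span_singleton']
    constructor
    · rintro ⟨a, rfl⟩; exact ⟨a, mul_comm _ _⟩
    · rintro ⟨a, rfl⟩; exact ⟨a, mul_comm _ _⟩
  · exact Ideal.Quotient.mk_surjective

/-- Finite products of base changes are base changes. -/
theorem isBCAlong_pi {ι : Type u} [Finite ι] {M N : ι → Type u} [∀ i, AddCommGroup (M i)]
    [∀ i, AddCommGroup (N i)] [∀ i, Module R (M i)] [∀ i, Module S (N i)]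
    (f : ∀ i, M i →ₛₗ[g] N i) (hf : ∀ i, IsBCAlong g (f i))
    (F : (∀ i, M i) →ₛₗ[g] (∀ i, N i)) (hF : ∀ m i, F m i = f i (m i)) :
    IsBCAlong g F := by
  unfold IsBCAlong at hf ⊢
  letI : Algebra R S := g.toAlgebra
  letI : ∀ i, Module R (N i) := fun i => Module.compHom (N i) g
  haveI : ∀ i, IsScalarTower R S (N i) := fun i => IsScalarTower.of_algebraMap_smul fun _ _ => rfl
  let h : ∀ i, M i →ₗ[R] N i := fun i =>
    { toFun := f i, map_add' := (f i).map_add, map_smul' := (f i).map_smulₛₗ }
  have hh : ∀ i, IsBaseChange S (h i) := hf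
  have key := IsBaseChange.pi (S := S) h hh
  let H : (∀ i, M i) →ₗ[R] (∀ i, N i) :=
    { toFun := F, map_add' := F.map_add, map_smul' := F.map_smulₛₗ }
  have hH : H = LinearMap.pi fun i => h i ∘ₗ LinearMap.proj i := by
    ext m i
    exact hF m i
  change IsBaseChange S H
  rw [hH]
  exact key

/-- Flat base change preserves injectivity. -/
theorem injective_of_isBaseChange_of_flat {R S : Type*} [CommRing R] [CommRing S] [Algebra R S]
    [Module.Flat R S] {M N M' N' : Type*} [AddCommGroup M] [AddCommGroup N] [AddCommGroup M']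
    [AddCommGroup N'] [Module R M] [Module R N] [Module R M'] [Module R N'] [Module S M']
    [Module S N'] [IsScalarTower R S M'] [IsScalarTower R S N'] {hM : M →ₗ[R] M'}
    {hN : N →ₗ[R] N'} (bM : IsBaseChange S hM) (bN : IsBaseChange S hN) (ψ : M →ₗ[R] N)
    (ψ' : M' →ₗ[S] N') (comm : ∀ m, hN (ψ m) = ψ' (hM m)) (inj : Function.Injective ψ) :
    Function.Injective ψ' := by
  have key : ∀ t : S ⊗[R] M, ψ' (bM.equiv t) = bN.equiv (LinearMap.lTensor S ψ t) := by
    intro t
    induction t using TensorProduct.induction_on with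
    | zero => simp
    | tmul s m =>
        rw [IsBaseChange.equiv_tmul, LinearMap.lTensor_tmul, IsBaseChange.equiv_tmul, map_smul, comm]
    | add x y hx hy => rw [map_add, map_add, hx, hy, map_add, map_add]
  have hinj : Function.Injective (LinearMap.lTensor S ψ) :=
    Module.Flat.lTensor_preserves_injective_linearMap ψ inj
  intro x y hxy
  obtain ⟨tx, rfl⟩ := bM.equiv.surjective x
  obtain ⟨ty, rfl⟩ := bM.equiv.surjective y
  rw [key, key] at hxy
  rw [hinj (bN.equiv.injective hxy)]


/-- Flat base change of the kernel of an algebra map whose kernel is principal. -/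
theorem ker_eq_span_of_flat (hg : g.Flat) {A A' B B' : Type u} [CommRing A] [CommRing A']
    [CommRing B] [CommRing B'] [Algebra R A] [Algebra S A'] [Algebra R B] [Algebra S B']
    (ρA : A →+* A') (hρA : ∀ r, ρA (algebraMap R A r) = algebraMap S A' (g r))
    (ρB : B →+* B') (hρB : ∀ r, ρB (algebraMap R B r) = algebraMap S B' (g r))
    (bA : IsBCAlong g (semi g ρA hρA)) (bB : IsBCAlong g (semi g ρB hρB))
    (φ : A →ₐ[R] B) (φ' : A' →ₐ[S] B') (comm : ∀ a, ρB (φ a) = φ' (ρA a))
    (e : A) (he : RingHom.ker φ = Ideal.span {e}) :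
    RingHom.ker φ' = Ideal.span {ρA e} := by
  have heker : φ e = 0 := by
    have : e ∈ RingHom.ker φ := he ▸ Ideal.mem_span_singleton_self e
    exact this
  apply le_antisymm
  · -- the hard inclusion
    have hle : Ideal.span {e} ≤ Ideal.comap ρA (Ideal.span {ρA e}) := by
      rw [Ideal.span_le]
      rintro _ rfl
      exact Ideal.mem_span_singleton_self _
    have hρQ : ∀ r, Ideal.quotientMap (Ideal.span {ρA e}) ρA hle
        (algebraMap R (A ⧸ Ideal.span {e}) r) = algebraMap S (A' ⧸ Ideal.span {ρA e}) (g r) := by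
      intro r
      change Ideal.quotientMap (Ideal.span {ρA e}) ρA hle (Ideal.Quotient.mk _ (algebraMap R A r)) =
        Ideal.Quotient.mk _ (algebraMap S A' (g r))
      rw [Ideal.quotientMap_mk, hρA]
    have bQ : IsBCAlong g (semi g (Ideal.quotientMap (Ideal.span {ρA e}) ρA hle) hρQ) :=
      isBCAlong_quot g (semi g ρA hρA) bA e (ρA e) (fun a => map_mul ρA e a) _
        (fun a => Ideal.quotientMap_mk (I := Ideal.span {ρA e}) (f := ρA) (H := hle))
    have h0 : ∀ a ∈ Ideal.span {e}, φ a = 0 := by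
      intro a ha
      rw [← he] at ha
      exact ha
    have h0' : ∀ a ∈ Ideal.span {ρA e}, φ' a = 0 := by
      intro a ha
      obtain ⟨c, rfl⟩ := Ideal.mem_span_singleton'.1 ha
      rw [map_mul, ← comm, heker, map_zero, mul_zero]
    let ψ : (A ⧸ Ideal.span {e}) →ₗ[R] B := (Ideal.Quotient.liftₐ (Ideal.span {e}) φ h0).toLinearMap
    let ψ' : (A' ⧸ Ideal.span {ρA e}) →ₗ[S] B' :=
      (Ideal.Quotient.liftₐ (Ideal.span {ρA e}) φ' h0').toLinearMap
    have hψ : Function.Injective ψ := by
      rw [← LinearMap.ker_eq_bot, LinearMap.ker_eq_bot']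
      intro m hm
      obtain ⟨a, rfl⟩ := Ideal.Quotient.mk_surjective m
      have : φ a = 0 := hm
      rw [Ideal.Quotient.eq_zero_iff_mem, ← he]
      exact this
    have hψ' : Function.Injective ψ' := by
      unfold IsBCAlong at bQ bB
      letI : Algebra R S := g.toAlgebra
      haveI : Module.Flat R S := hg
      letI : Module R B' := Module.compHom B' g
      haveI : IsScalarTower R S B' := IsScalarTower.of_algebraMap_smul fun _ _ => rfl
      letI : Module R (A' ⧸ Ideal.span {ρA e}) := Module.compHom _ g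
      haveI : IsScalarTower R S (A' ⧸ Ideal.span {ρA e}) :=
        IsScalarTower.of_algebraMap_smul fun _ _ => rfl
      refine injective_of_isBaseChange_of_flat bQ bB ψ ψ' ?_ hψ
      intro m
      obtain ⟨a, rfl⟩ := Ideal.Quotient.mk_surjective m
      exact comm a
    intro x hx
    have h1 : ψ' (Ideal.Quotient.mk _ x) = 0 := hx
    have h2 : (Ideal.Quotient.mk (Ideal.span {ρA e}) x) = 0 := hψ' (by rw [h1, map_zero])
    exact Ideal.Quotient.eq_zero_iff_mem.1 h2
  · rw [Ideal.span_le]
    rintro _ rfl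
    change φ' (ρA e) = 0
    rw [← comm, heker, map_zero]

end Groth.Agent.Lib.helper10.SchFinBC
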