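import Groth.Prelude.Def_SchFin2
import Groth.Agent.Lib.helper10.ProjIdem
import Groth.Agent.Lib.helper10.SchFinBC
import Mathlib.RingTheory.Etale.Pi

/-!
# Étale covers of finite ringed posets: basic constructions

* `isIso_of_bijective`: pointwise bijective morphisms are isomorphisms.
* `quotAlg A ε hε`: the quotient of an algebra by a compatible family of elements; it is
  quasi-coherent if `A` is, and an étale cover if `A` is and the elements are idempotent.
* `kerIdem f p`: the idempotent generating the kernel of a morphism of étale covers at a point;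
  compatible with restriction over a finite space (flat restrictions).
* `piAlg F`: finite products.
-/

set_option autoImplicit false
set_option linter.style.haveILetI false

universe u

namespace Groth.Agent.Lib.helper10.SchFinFEt

open SchFin CategoryTheory Groth.Agent.Lib.helper10.SchFinBC

variable {X : RSpace.{u}}

/-- A morphism of algebras which is bijective at every point is an isomorphism. -/
theorem isIso_alg_of_bijective {A B : Alg X} (f : A ⟶ B)
    (h : ∀ p, Function.Bijective (f.app p)) : IsIso f := by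
  let e : ∀ p, A.carrier p ≃ₐ[X.ring p] B.carrier p := fun p => AlgEquiv.ofBijective (f.app p) (h p)
  have he : ∀ p a, e p a = f.app p a := fun p a => rfl
  let g : B ⟶ A :=
    { app := fun p => (e p).symm
      compat := fun {p q} hpq b => by
        apply (h q).1
        change f.app q (A.res hpq ((e p).symm b)) = f.app q ((e q).symm (B.res hpq b))
        rw [← f.compat, ← he, ← he q, AlgEquiv.apply_symm_apply, AlgEquiv.apply_symm_apply] }
  refine ⟨g, ?_, ?_⟩
  · apply Alg.hom_ext
    intro p
    apply AlgHom.ext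
    intro a
    change (e p).symm (f.app p a) = a
    rw [← he, AlgEquiv.symm_apply_apply]
  · apply Alg.hom_ext
    intro p
    apply AlgHom.ext
    intro b
    change f.app p ((e p).symm b) = b
    rw [← he, AlgEquiv.apply_symm_apply]

theorem isIso_of_bijective {A B : FEt X} (f : A ⟶ B)
    (h : ∀ p, Function.Bijective (f.hom.app p)) : IsIso f := by
  have := isIso_alg_of_bijective f.hom h
  exact (ObjectProperty.isIso_hom_iff f).1 this

/-- A cone `B ← A → D` which is a product decomposition at every point is a limit cone. -/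
theorem isLimit_binaryFan_of_bijective {A B D : FEt X} (f : A ⟶ B) (π : A ⟶ D)
    (hbij : ∀ p, Function.Bijective ((f.hom.app p).prod (π.hom.app p))) :
    Nonempty (Limits.IsLimit (Limits.BinaryFan.mk f π)) := by
  let Φ : ∀ p, A.obj.carrier p ≃ₐ[X.ring p] (B.obj.carrier p × D.obj.carrier p) :=
    fun p => AlgEquiv.ofBijective ((f.hom.app p).prod (π.hom.app p)) (hbij p)
  have hΦ : ∀ p a, Φ p a = (f.hom.app p a, π.hom.app p a) := fun p a => rfl
  have hΦ1 : ∀ p x, f.hom.app p ((Φ p).symm x) = x.1 := by
    intro p x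
    have := congrArg Prod.fst ((Φ p).apply_symm_apply x)
    rwa [hΦ] at this
  have hΦ2 : ∀ p x, π.hom.app p ((Φ p).symm x) = x.2 := by
    intro p x
    have := congrArg Prod.snd ((Φ p).apply_symm_apply x)
    rwa [hΦ] at this
  let lift : ∀ {T : FEt X} (s : T ⟶ B) (t : T ⟶ D), T ⟶ A := fun {T} s t =>
    ObjectProperty.homMk
      { app := fun p => ((Φ p).symm : _ →ₐ[X.ring p] _).comp ((s.hom.app p).prod (t.hom.app p))
        compat := fun {p q} h c => by
          apply (Φ q).injective
          show Φ q (A.obj.res h ((Φ p).symm (s.hom.app p c, t.hom.app p c))) =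
            Φ q ((Φ q).symm (s.hom.app q (T.obj.res h c), t.hom.app q (T.obj.res h c)))
          rw [AlgEquiv.apply_symm_apply, hΦ, ← f.hom.compat, ← π.hom.compat, hΦ1, hΦ2,
            s.hom.compat, t.hom.compat] }
  refine ⟨Limits.BinaryFan.IsLimit.mk _ (fun {T} s t => lift s t) ?_ ?_ ?_⟩
  · intro T s t
    apply ObjectProperty.hom_ext
    apply Alg.hom_ext
    intro p
    apply AlgHom.ext
    intro c
    exact hΦ1 p _
  · intro T s t
    apply ObjectProperty.hom_ext
    apply Alg.hom_ext
    intro p
    apply AlgHom.ext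
    intro c
    exact hΦ2 p _
  · intro T s t m hm1 hm2
    apply ObjectProperty.hom_ext
    apply Alg.hom_ext
    intro p
    apply AlgHom.ext
    intro c
    apply (Φ p).injective
    show Φ p (m.hom.app p c) = Φ p ((Φ p).symm (s.hom.app p c, t.hom.app p c))
    rw [AlgEquiv.apply_symm_apply, hΦ]
    have e1 : f.hom.app p (m.hom.app p c) = s.hom.app p c := by
      rw [← hm1]; rfl
    have e2 : π.hom.app p (m.hom.app p c) = t.hom.app p c := by
      rw [← hm2]; rfl
    rw [e1, e2]

/-- The restriction maps of the underlying module of an algebra are the semilinear maps attached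
to the ring restrictions. -/
theorem toMod_res_eq (A : Alg X) {p q : X.pt} (h : p ≤ q) :
    A.toMod.res h = semi (X.res h) (A.res h) (A.res_algebraMap h) := rfl

section Quot

variable (A : Alg X) (ε : ∀ p, A.carrier p)
  (hε : ∀ {p q : X.pt} (h : p ≤ q), A.res h (ε p) = ε q)

theorem quot_le {p q : X.pt} (h : p ≤ q) (hε : A.res h (ε p) = ε q) :
    Ideal.span {ε p} ≤ Ideal.comap (A.res h) (Ideal.span {ε q}) := by
  rw [Ideal.span_le]
  rintro _ rfl
  show A.res h (ε p) ∈ Ideal.span {ε q}
  rw [hε]
  exact Ideal.mem_span_singleton_self _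

/-- The quotient of an algebra by a compatible family of elements. -/
def quotAlg : Alg X where
  carrier p := A.carrier p ⧸ Ideal.span {ε p}
  res {p q} h := Ideal.quotientMap (Ideal.span {ε q}) (A.res h) (quot_le A ε h (hε h))
  res_algebraMap {p q} h a := by
    change Ideal.quotientMap (Ideal.span {ε q}) (A.res h) _
      (Ideal.Quotient.mk _ (algebraMap (X.ring p) (A.carrier p) a)) =
      Ideal.Quotient.mk _ (algebraMap (X.ring q) (A.carrier q) (X.res h a))
    rw [Ideal.quotientMap_mk, A.res_algebraMap]
  res_self p b := by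
    obtain ⟨a, rfl⟩ := Ideal.Quotient.mk_surjective b
    rw [Ideal.quotientMap_mk, A.res_self]
  res_comp {p q s} h h' b := by
    obtain ⟨a, rfl⟩ := Ideal.Quotient.mk_surjective b
    rw [Ideal.quotientMap_mk, Ideal.quotientMap_mk, Ideal.quotientMap_mk, A.res_comp]

/-- The quotient map. -/
def quotπ : A ⟶ quotAlg A ε hε where
  app p := Ideal.Quotient.mkₐ (X.ring p) (Ideal.span {ε p})
  compat {p q} h b := by
    change Ideal.quotientMap (Ideal.span {ε q}) (A.res h) (quot_le A ε h (hε h))
      (Ideal.Quotient.mk _ b) = Ideal.Quotient.mk _ (A.res h b)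
    rw [Ideal.quotientMap_mk]

theorem quotπ_surjective (p : X.pt) : Function.Surjective ((quotπ A ε hε).app p) :=
  Ideal.Quotient.mk_surjective

theorem quotAlg_isQcoh (hA : A.IsQcoh) : (quotAlg A ε hε).IsQcoh := by
  intro p q h
  have hA' : IsBCAlong (X.res h) (semi (X.res h) (A.res h) (A.res_algebraMap h)) := hA p q h
  show IsBCAlong (X.res h)
    (semi (X.res h) ((quotAlg A ε hε).res h) ((quotAlg A ε hε).res_algebraMap h))
  exact isBCAlong_quot (X.res h) _ hA' (ε p) (ε q)
    (fun a => by
      show A.res h (ε p * a) = ε q * A.res h a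
      rw [map_mul, hε h]) _
    (fun a => by
      show Ideal.quotientMap (Ideal.span {ε q}) (A.res h) (quot_le A ε h (hε h))
        (Ideal.Quotient.mk _ a) = Ideal.Quotient.mk _ (A.res h a)
      rw [Ideal.quotientMap_mk])

theorem quotAlg_isEtCover (hA : A.IsEtCover) (hidem : ∀ p, IsIdempotentElem (ε p)) :
    (quotAlg A ε hε).IsEtCover := by
  refine ⟨quotAlg_isQcoh A ε hε hA.1, fun p => ?_⟩
  haveI : Module.Finite (X.ring p) (A.carrier p) := (hA.2 p).1
  haveI : Algebra.Etale (X.ring p) (A.carrier p) := (hA.2 p).2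
  exact ⟨Module.Finite.of_surjective (Ideal.Quotient.mkₐ (X.ring p) (Ideal.span {ε p})).toLinearMap
    Ideal.Quotient.mk_surjective, ProjIdem.etale_quot_idem (X.ring p) (hidem p)⟩

/-- The morphism induced on the quotient by a morphism killing the family. -/
def quotLift {C : Alg X} (φ : A ⟶ C) (hφ : ∀ p, φ.app p (ε p) = 0) : quotAlg A ε hε ⟶ C where
  app p := Ideal.Quotient.liftₐ (Ideal.span {ε p}) (φ.app p) (by
    intro a ha
    obtain ⟨c, rfl⟩ := Ideal.mem_span_singleton'.1 ha
    rw [map_mul, hφ, mul_zero])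
  compat {p q} h b := by
    obtain ⟨a, rfl⟩ := Ideal.Quotient.mk_surjective b
    show C.res h (φ.app p a) = Ideal.Quotient.liftₐ (Ideal.span {ε q}) (φ.app q) _
      (Ideal.quotientMap (Ideal.span {ε q}) (A.res h) (quot_le A ε h (hε h)) (Ideal.Quotient.mk _ a))
    rw [Ideal.quotientMap_mk]
    exact φ.compat h a

theorem quotπ_quotLift {C : Alg X} (φ : A ⟶ C) (hφ : ∀ p, φ.app p (ε p) = 0) :
    quotπ A ε hε ≫ quotLift A ε hε φ hφ = φ := by
  apply Alg.hom_ext
  intro p
  apply AlgHom.ext
  intro a
  rfl

theorem quotLift_injective {C : Alg X} (φ : A ⟶ C) (hφ : ∀ p, φ.app p (ε p) = 0) (p : X.pt)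
    (hker : RingHom.ker (φ.app p) = Ideal.span {ε p}) :
    Function.Injective ((quotLift A ε hε φ hφ).app p) := by
  rw [injective_iff_map_eq_zero]
  intro b hb
  obtain ⟨a, rfl⟩ := Ideal.Quotient.mk_surjective b
  have : φ.app p a = 0 := hb
  show (Ideal.Quotient.mk (Ideal.span {ε p}) a : A.carrier p ⧸ Ideal.span {ε p}) = 0
  rw [Ideal.Quotient.eq_zero_iff_mem, ← hker]
  exact this

end Quot

section Pi

variable {ι : Type u} [Finite ι] (F : ι → Alg X)

/-- Finite products of algebras. -/
def piAlg : Alg X where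
  carrier p := ∀ i, (F i).carrier p
  res {p q} h := RingHom.pi fun i => ((F i).res h).comp (Pi.evalRingHom (fun i => (F i).carrier p) i)
  res_algebraMap {p q} h a := by
    funext i
    exact (F i).res_algebraMap h a
  res_self p b := by
    funext i
    exact (F i).res_self p (b i)
  res_comp {p q s} h h' b := by
    funext i
    exact (F i).res_comp h h' (b i)

theorem piAlg_isQcoh (hF : ∀ i, (F i).IsQcoh) : (piAlg F).IsQcoh := by
  intro p q h
  have hF' : ∀ i, IsBCAlong (X.res h) (semi (X.res h) ((F i).res h) ((F i).res_algebraMap h)) :=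
    fun i => hF i p q h
  show IsBCAlong (X.res h) (semi (X.res h) ((piAlg F).res h) ((piAlg F).res_algebraMap h))
  exact isBCAlong_pi (X.res h) _ hF' _ (fun m i => rfl)

theorem piAlg_isEtCover (hF : ∀ i, (F i).IsEtCover) : (piAlg F).IsEtCover := by
  refine ⟨piAlg_isQcoh F fun i => (hF i).1, fun p => ?_⟩
  haveI : ∀ i, Module.Finite (X.ring p) ((F i).carrier p) := fun i => ((hF i).2 p).1
  haveI : ∀ i, Algebra.Etale (X.ring p) ((F i).carrier p) := fun i => ((hF i).2 p).2
  exact ⟨(inferInstance : Module.Finite (X.ring p) (∀ i, (F i).carrier p)),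
    (inferInstance : Algebra.Etale (X.ring p) (∀ i, (F i).carrier p))⟩

/-- Projections from the product. -/
def piProj (i : ι) : piAlg F ⟶ F i where
  app p := Pi.evalAlgHom (X.ring p) (fun i => (F i).carrier p) i
  compat _ _ := rfl

/-- The morphism into a product induced by a family of morphisms. -/
def piLift {C : Alg X} (φ : ∀ i, C ⟶ F i) : C ⟶ piAlg F where
  app p := AlgHom.pi fun i => (φ i).app p
  compat {p q} h c := by
    funext i
    exact (φ i).compat h c

end Pi

/-- The structure algebra is an étale cover. -/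
theorem str_isEtCover (X : RSpace.{u}) : (Alg.str X).IsEtCover := by
  refine ⟨?_, fun p => ⟨(inferInstance : Module.Finite (X.ring p) (X.ring p)),
    (inferInstance : Algebra.Etale (X.ring p) (X.ring p))⟩⟩
  intro p q h
  unfold IsBCAlong
  letI : Algebra (X.ring p) (X.ring q) := (X.res h).toAlgebra
  exact IsBaseChange.linearMap (X.ring p) (X.ring q)

section TwoPoint

/-- The algebra `𝒪 × 𝒪`. -/
def twoAlg (X : RSpace.{u}) : Alg X := piAlg (fun _ : ULift.{u} Bool => Alg.str X)

theorem twoAlg_isEtCover (X : RSpace.{u}) : (twoAlg X).IsEtCover :=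
  piAlg_isEtCover _ fun _ => str_isEtCover X

variable (A : Alg X) (ε : ∀ p, A.carrier p)
  (hε : ∀ {p q : X.pt} (h : p ≤ q), A.res h (ε p) = ε q) (hidem : ∀ p, IsIdempotentElem (ε p))

/-- The morphism `𝒪 × 𝒪 ⟶ A` attached to a compatible family of idempotents. -/
def idemHom : twoAlg X ⟶ A where
  app p :=
    { toFun := fun (x : ULift.{u} Bool → X.ring p) => x ⟨true⟩ • ε p + x ⟨false⟩ • (1 - ε p)
      map_one' := by
        show (1 : X.ring p) • ε p + (1 : X.ring p) • (1 - ε p) = 1
        rw [one_smul, one_smul, add_sub_cancel]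
      map_mul' := fun (x y : ULift.{u} Bool → X.ring p) => by
        show (x ⟨true⟩ * y ⟨true⟩) • ε p + (x ⟨false⟩ * y ⟨false⟩) • (1 - ε p) =
          (x ⟨true⟩ • ε p + x ⟨false⟩ • (1 - ε p)) * (y ⟨true⟩ • ε p + y ⟨false⟩ • (1 - ε p))
        have h1 : ε p * ε p = ε p := (hidem p).eq
        have h2 : (1 - ε p) * (1 - ε p) = 1 - ε p := (hidem p).one_sub.eq
        have h3 : ε p * (1 - ε p) = 0 := by rw [mul_sub, mul_one, h1, sub_self]
        have h4 : (1 - ε p) * ε p = 0 := by rw [mul_comm, h3]
        simp only [add_mul, mul_add, smul_mul_smul_comm, h1, h2, h3, h4, smul_zero, add_zero,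
          zero_add]
      map_zero' := by
        show (0 : X.ring p) • ε p + (0 : X.ring p) • (1 - ε p) = 0
        rw [zero_smul, zero_smul, add_zero]
      map_add' := fun (x y : ULift.{u} Bool → X.ring p) => by
        show (x ⟨true⟩ + y ⟨true⟩) • ε p + (x ⟨false⟩ + y ⟨false⟩) • (1 - ε p) =
          (x ⟨true⟩ • ε p + x ⟨false⟩ • (1 - ε p)) + (y ⟨true⟩ • ε p + y ⟨false⟩ • (1 - ε p))
        rw [add_smul, add_smul]
        abel
      commutes' := fun r => by
        show r • ε p + r • (1 - ε p) = algebraMap (X.ring p) (A.carrier p) r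
        rw [← smul_add, add_sub_cancel, Algebra.smul_def, mul_one] }
  compat {p q} h (x : ULift.{u} Bool → X.ring p) := by
    show A.res h (x ⟨true⟩ • ε p + x ⟨false⟩ • (1 - ε p)) =
      (X.res h (x ⟨true⟩)) • ε q + (X.res h (x ⟨false⟩)) • (1 - ε q)
    rw [map_add, Algebra.smul_def, Algebra.smul_def, map_mul, map_mul, A.res_algebraMap,
      A.res_algebraMap, map_sub, map_one, hε h, ← Algebra.smul_def, ← Algebra.smul_def]

theorem idemHom_apply (p : X.pt) (x : ∀ _ : ULift.{u} Bool, X.ring p) :
    (idemHom A ε hε hidem).app p x = x ⟨true⟩ • ε p + x ⟨false⟩ • (1 - ε p) := rfl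

end TwoPoint

section KerIdem

variable {A B : FEt X} (f : A ⟶ B)

theorem exists_kerIdem (p : X.pt) :
    ∃ e : A.obj.carrier p, IsIdempotentElem e ∧ RingHom.ker (f.hom.app p) = Ideal.span {e} := by
  haveI : Module.Finite (X.ring p) (A.obj.carrier p) := (A.property.2 p).1
  haveI : Algebra.Etale (X.ring p) (A.obj.carrier p) := (A.property.2 p).2
  haveI : Module.Finite (X.ring p) (B.obj.carrier p) := (B.property.2 p).1
  haveI : Algebra.Etale (X.ring p) (B.obj.carrier p) := (B.property.2 p).2
  exact ProjIdem.exists_idem_ker (f.hom.app p)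

/-- The idempotent generating the kernel of a morphism of étale covers at a point. -/
noncomputable def kerIdem (p : X.pt) : A.obj.carrier p := (exists_kerIdem f p).choose

theorem kerIdem_idem (p : X.pt) : IsIdempotentElem (kerIdem f p) := (exists_kerIdem f p).choose_spec.1

theorem ker_eq_span_kerIdem (p : X.pt) :
    RingHom.ker (f.hom.app p) = Ideal.span {kerIdem f p} := (exists_kerIdem f p).choose_spec.2

theorem kerIdem_res (hX : X.IsFinSp) {p q : X.pt} (h : p ≤ q) :
    A.obj.res h (kerIdem f p) = kerIdem f q := by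
  have hA : IsBCAlong (X.res h) (semi (X.res h) (A.obj.res h) (A.obj.res_algebraMap h)) :=
    A.property.1 p q h
  have hB : IsBCAlong (X.res h) (semi (X.res h) (B.obj.res h) (B.obj.res_algebraMap h)) :=
    B.property.1 p q h
  have key := ker_eq_span_of_flat (X.res h) (hX.2 p q h) (A.obj.res h) (A.obj.res_algebraMap h)
    (B.obj.res h) (B.obj.res_algebraMap h) hA hB (f.hom.app p) (f.hom.app q)
    (fun a => f.hom.compat h a) (kerIdem f p) (ker_eq_span_kerIdem f p)
  apply ProjIdem.idem_unique ((kerIdem_idem f p).map (A.obj.res h)) (kerIdem_idem f q)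
  rw [← key, ker_eq_span_kerIdem f q]

theorem kerIdem_map (p : X.pt) : f.hom.app p (kerIdem f p) = 0 := by
  have : kerIdem f p ∈ RingHom.ker (f.hom.app p) := by
    rw [ker_eq_span_kerIdem]; exact Ideal.mem_span_singleton_self _
  exact this

end KerIdem

end Groth.Agent.Lib.helper10.SchFinFEt
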