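import Groth.Prelude.Def_SchFin2
import Groth.Agent.Lib.helper10.SchFinFEt
import Mathlib.RingTheory.TotallySplit

/-!
# Connectedness of finite ringed posets, constancy of ranks of étale covers, cardinality of fibres
-/

set_option autoImplicit false
set_option linter.style.haveILetI false

universe u

namespace Groth.Agent.Lib.helper10.SchFinConn

open SchFin CategoryTheory TensorProduct

/-- In a ring with connected spectrum every idempotent is `0` or `1`. -/
theorem idem_eq_zero_or_one {R : Type*} [CommRing R] [ConnectedSpace (PrimeSpectrum R)] {e : R}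
    (he : IsIdempotentElem e) : e = 0 ∨ e = 1 := by
  have hclopen : IsClopen (PrimeSpectrum.basicOpen e : Set (PrimeSpectrum R)) :=
    PrimeSpectrum.isClopen_iff.2 ⟨e, he, rfl⟩
  rcases isClopen_iff.1 hclopen with h | h
  · left
    have h' : PrimeSpectrum.basicOpen e = ⊥ := by
      ext x
      simp only [TopologicalSpace.Opens.coe_bot]
      rw [h]
    exact IsNilpotent.eq_zero_of_isIdempotentElem he ((PrimeSpectrum.basicOpen_eq_bot_iff e).1 h')
      |> fun x => x
  · right
    have h2 : (PrimeSpectrum.basicOpen (1 - e) : Set (PrimeSpectrum R)) = ∅ := by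
      rw [← PrimeSpectrum.zeroLocus_eq_basicOpen_of_isIdempotentElem e he]
      rw [PrimeSpectrum.basicOpen_eq_zeroLocus_compl] at h
      rw [Set.compl_univ_iff] at h
      exact h
    have h' : PrimeSpectrum.basicOpen (1 - e) = ⊥ := by
      ext x
      simp only [TopologicalSpace.Opens.coe_bot]
      rw [h2]
    have := IsNilpotent.eq_zero_of_isIdempotentElem he.one_sub
      ((PrimeSpectrum.basicOpen_eq_bot_iff (1 - e)).1 h')
    exact (sub_eq_zero.1 this).symm


variable {X : RSpace.{u}}

/-- A space whose ring of global sections has connected spectrum and whose rings are nonzero has a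
nonempty, zigzag-connected poset of points. -/
theorem isTopConnected_of_isConnected (hc : X.IsConnected) (hnt : ∀ p : X.pt, Nontrivial (X.ring p)) :
    X.IsTopConnected := by
  haveI : ConnectedSpace (PrimeSpectrum (X.sectRing Set.univ)) := hc
  classical
  have hne : Nonempty X.pt := by
    by_contra hemp
    rw [not_nonempty_iff] at hemp
    haveI : Subsingleton (X.sectRing Set.univ) := by
      constructor
      intro a b
      apply Subtype.ext
      funext q
      exact (hemp.false q.1).elim
    obtain ⟨P⟩ := (inferInstance : Nonempty (PrimeSpectrum (X.sectRing Set.univ)))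
    exact P.2.ne_top (Subsingleton.elim _ _)
  refine ⟨hne, fun p0 q0 => ?_⟩
  let rel : X.pt → X.pt → Prop := Relation.EqvGen (fun a b : X.pt => a ≤ b)
  let s : X.sectRing Set.univ :=
    ⟨fun q => if rel p0 q.1 then 1 else 0, by
      intro q q' h
      have hiff : rel p0 q.1 ↔ rel p0 q'.1 :=
        ⟨fun hr => Relation.EqvGen.trans _ _ _ hr (Relation.EqvGen.rel _ _ h),
          fun hr => Relation.EqvGen.trans _ _ _ hr
            (Relation.EqvGen.symm _ _ (Relation.EqvGen.rel _ _ h))⟩
      by_cases hq : rel p0 q.1
      · simp only [if_pos hq, if_pos (hiff.1 hq), map_one]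
      · simp only [if_neg hq, if_neg (fun h' => hq (hiff.2 h')), map_zero]⟩
  have hs : IsIdempotentElem s := by
    apply Subtype.ext
    funext q
    show (if rel p0 q.1 then (1 : X.ring q.1) else 0) * (if rel p0 q.1 then 1 else 0) =
      if rel p0 q.1 then 1 else 0
    split_ifs <;> simp
  rcases idem_eq_zero_or_one hs with h0 | h1
  · exfalso
    have := congrArg (fun t : X.sectRing Set.univ => t.1 ⟨p0, trivial⟩) h0
    have h2 : (if rel p0 p0 then (1 : X.ring p0) else 0) = 0 := this
    rw [if_pos (Relation.EqvGen.refl p0)] at h2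
    haveI := hnt p0
    exact one_ne_zero h2
  · have := congrArg (fun t : X.sectRing Set.univ => t.1 ⟨q0, trivial⟩) h1
    have h2 : (if rel p0 q0 then (1 : X.ring q0) else 0) = 1 := this
    by_contra hn
    rw [if_neg hn] at h2
    haveI := hnt q0
    exact zero_ne_one h2

theorem nontrivial_of_isPwConnected (h : X.IsPwConnected) (p : X.pt) : Nontrivial (X.ring p) := by
  haveI : ConnectedSpace (PrimeSpectrum (X.ring p)) := h p
  obtain ⟨P⟩ := (inferInstance : Nonempty (PrimeSpectrum (X.ring p)))
  by_contra hn
  rw [not_nontrivial_iff_subsingleton] at hn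
  exact P.2.ne_top (Subsingleton.elim _ _)

/-- A nonzero ring whose only idempotents are `0` and `1` has connected spectrum. -/
theorem connectedSpace_of_idem {R : Type*} [CommRing R] [Nontrivial R]
    (h : ∀ e : R, IsIdempotentElem e → e = 0 ∨ e = 1) : ConnectedSpace (PrimeSpectrum R) := by
  haveI : PreconnectedSpace (PrimeSpectrum R) := by
    rw [preconnectedSpace_iff_clopen]
    intro s hs
    obtain ⟨e, he, rfl⟩ := PrimeSpectrum.isClopen_iff.1 hs
    rcases h e he with rfl | rfl
    · left; simp
    · right; simp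
  exact ⟨inferInstance⟩

/-- A space with nonempty zigzag-connected poset of points all of whose rings have connected
spectrum has a ring of global sections with connected spectrum. -/
theorem isConnected_of_isTopConnected (htc : X.IsTopConnected) (hpw : X.IsPwConnected) :
    X.IsConnected := by
  classical
  obtain ⟨⟨p0⟩, hconn⟩ := htc
  have hnt := nontrivial_of_isPwConnected hpw
  haveI : Nontrivial (X.sectRing Set.univ) := by
    haveI := hnt p0
    exact (X.evalRing Set.univ ⟨p0, trivial⟩).domain_nontrivial
  apply connectedSpace_of_idem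
  intro s hs
  have hpt : ∀ q : X.pt, s.1 ⟨q, trivial⟩ = 0 ∨ s.1 ⟨q, trivial⟩ = 1 := by
    intro q
    haveI : ConnectedSpace (PrimeSpectrum (X.ring q)) := hpw q
    apply idem_eq_zero_or_one
    have := congrArg (fun t : X.sectRing Set.univ => t.1 ⟨q, trivial⟩) hs.eq
    exact this
  have hrel : ∀ p q : X.pt, Relation.EqvGen (fun a b : X.pt => a ≤ b) p q →
      (s.1 ⟨p, trivial⟩ = 1 ↔ s.1 ⟨q, trivial⟩ = 1) := by
    intro p q hpq
    induction hpq with
    | rel a b h =>
        have hc := s.2 ⟨a, trivial⟩ ⟨b, trivial⟩ h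
        constructor
        · intro ha
          rw [← hc, ha, map_one]
        · intro hb
          rcases hpt a with h0 | h1
          · exfalso
            rw [h0, map_zero] at hc
            haveI := hnt b
            exact zero_ne_one (hc.trans hb)
          · exact h1
    | refl a => exact Iff.rfl
    | symm a b _ ih => exact ih.symm
    | trans a b c _ _ ih1 ih2 => exact ih1.trans ih2
  rcases hpt p0 with h0 | h1
  · left
    apply Subtype.ext
    funext q
    rcases hpt q.1 with hq0 | hq1
    · exact hq0
    · exfalso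
      have h1' := (hrel p0 q.1 (hconn p0 q.1)).2 hq1
      haveI := hnt p0
      exact zero_ne_one (h0.symm.trans h1')
  · right
    apply Subtype.ext
    funext q
    exact (hrel p0 q.1 (hconn p0 q.1)).1 h1

theorem isTopConnected_of_isWellConnected (h : X.IsWellConnected) : X.IsTopConnected :=
  isTopConnected_of_isConnected h.1 (nontrivial_of_isPwConnected h.2)


section Rank

variable (A : Alg X) (hA : A.IsEtCover)
include hA

theorem rank_eq_same (p : X.pt) [ConnectedSpace (PrimeSpectrum (X.ring p))]
    (P P' : PrimeSpectrum (X.ring p)) :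
    Module.rankAtStalk (A.carrier p) P = Module.rankAtStalk (A.carrier p) P' := by
  haveI : Module.Finite (X.ring p) (A.carrier p) := (hA.2 p).1
  haveI : Algebra.Etale (X.ring p) (A.carrier p) := (hA.2 p).2
  haveI : Module.FinitePresentation (X.ring p) (A.carrier p) :=
    Module.FinitePresentation.of_finite_of_finitePresentation (X.ring p) (A.carrier p)
  exact (Module.isLocallyConstant_rankAtStalk (R := X.ring p) (M := A.carrier p)).apply_eq_of_preconnectedSpace
    P P'

theorem rank_eq_of_le {p q : X.pt} (h : p ≤ q) (Q : PrimeSpectrum (X.ring q)) :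
    Module.rankAtStalk (A.carrier q) Q =
      Module.rankAtStalk (A.carrier p) (PrimeSpectrum.comap (X.res h) Q) := by
  haveI : Module.Finite (X.ring p) (A.carrier p) := (hA.2 p).1
  haveI : Algebra.Etale (X.ring p) (A.carrier p) := (hA.2 p).2
  have hbc : IsBCAlong (X.res h)
      (Groth.Agent.Lib.helper10.SchFinBC.semi (X.res h) (A.res h) (A.res_algebraMap h)) := hA.1 p q h
  unfold IsBCAlong at hbc
  letI : Algebra (X.ring p) (X.ring q) := (X.res h).toAlgebra
  letI : Module (X.ring p) (A.carrier q) := Module.compHom (A.carrier q) (X.res h)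
  haveI : IsScalarTower (X.ring p) (X.ring q) (A.carrier q) :=
    IsScalarTower.of_algebraMap_smul fun _ _ => rfl
  exact Module.rankAtStalk_isBaseChange hbc Q

theorem rank_const (hwc : X.IsWellConnected) :
    ∃ n : ℕ, ∀ (p : X.pt) (P : PrimeSpectrum (X.ring p)),
      Module.rankAtStalk (A.carrier p) P = n := by
  have htc := isTopConnected_of_isWellConnected hwc
  have hpw : ∀ p, ConnectedSpace (PrimeSpectrum (X.ring p)) := hwc.2
  obtain ⟨p0⟩ := htc.1
  haveI := hpw p0
  obtain ⟨P0⟩ := (inferInstance : Nonempty (PrimeSpectrum (X.ring p0)))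
  refine ⟨Module.rankAtStalk (A.carrier p0) P0, ?_⟩
  have hle : ∀ {p q : X.pt} (h : p ≤ q) (P : PrimeSpectrum (X.ring p))
      (Q : PrimeSpectrum (X.ring q)),
      Module.rankAtStalk (A.carrier p) P = Module.rankAtStalk (A.carrier q) Q := by
    intro p q h P Q
    haveI := hpw p
    rw [rank_eq_of_le A hA h Q]
    exact rank_eq_same A hA p _ _
  have hrel : ∀ p q : X.pt, Relation.EqvGen (fun a b : X.pt => a ≤ b) p q →
      ∀ (P : PrimeSpectrum (X.ring p)) (Q : PrimeSpectrum (X.ring q)),
      Module.rankAtStalk (A.carrier p) P = Module.rankAtStalk (A.carrier q) Q := by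
    intro p q hpq
    induction hpq with
    | rel a b h => exact fun P Q => hle h P Q
    | refl a => intro P Q; haveI := hpw a; exact rank_eq_same A hA a P Q
    | symm a b _ ih => exact fun P Q => (ih Q P).symm
    | trans a b c _ _ ih1 ih2 =>
        intro P Q
        haveI := hpw b
        obtain ⟨M⟩ := (inferInstance : Nonempty (PrimeSpectrum (X.ring b)))
        exact (ih1 P M).trans (ih2 M Q)
  intro p P
  exact (hrel p0 p (htc.2 p0 p) P0 P).symm

end Rank


/-- The number of primes of a finite split algebra over a field is its dimension. -/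
theorem card_primeSpectrum_of_isFiniteSplit (k T : Type*) [Field k] [CommRing T] [Algebra k T]
    [Algebra.IsFiniteSplit k T] : Nat.card (PrimeSpectrum T) = Module.finrank k T := by
  obtain ⟨n, ⟨e⟩⟩ := Algebra.IsFiniteSplit.nonempty_algEquiv_fun k T
  have h1 : Nat.card (PrimeSpectrum T) = Nat.card (PrimeSpectrum (Fin n → k)) :=
    Nat.card_congr (PrimeSpectrum.comapEquiv e.toRingEquiv).toEquiv
  have h2 : Nat.card (PrimeSpectrum (Fin n → k)) = n := by
    have e2 : (Σ _ : Fin n, PrimeSpectrum k) ≃ PrimeSpectrum (Fin n → k) :=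
      (PrimeSpectrum.sigmaToPiHomeo (fun _ : Fin n => k)).toEquiv
    rw [← Nat.card_congr e2, Nat.card_sigma]
    simp
  rw [h1, h2, e.toLinearEquiv.finrank_eq, Module.finrank_fin_fun]

theorem card_fib {Ω : Type u} [Field Ω] [IsAlgClosed Ω] (ξ : GeomPt X Ω) :
    ∃ P0 : PrimeSpectrum (X.ring ξ.base), ∀ (A : Alg X), A.IsEtCover →
      Nat.card (ξ.Fib A) = Module.rankAtStalk (A.carrier ξ.base) P0 := by
  letI : Algebra (X.ring ξ.base) Ω := ξ.toField.toAlgebra
  let pt : PrimeSpectrum Ω := ⟨⊥, Ideal.isPrime_bot⟩
  refine ⟨PrimeSpectrum.comap (algebraMap (X.ring ξ.base) Ω) pt, fun A hA => ?_⟩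
  haveI : Module.Finite (X.ring ξ.base) (A.carrier ξ.base) := (hA.2 ξ.base).1
  haveI : Algebra.Etale (X.ring ξ.base) (A.carrier ξ.base) := (hA.2 ξ.base).2
  have h1 : Nat.card (ξ.Fib A) = Module.finrank Ω (Ω ⊗[X.ring ξ.base] A.carrier ξ.base) :=
    card_primeSpectrum_of_isFiniteSplit Ω (Ω ⊗[X.ring ξ.base] A.carrier ξ.base)
  rw [h1, ← Module.rankAtStalk_baseChange (S := Ω) (M := A.carrier ξ.base) pt,
    Module.rankAtStalk_eq_finrank_of_free]
  rfl

end Groth.Agent.Lib.helper10.SchFinConn
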