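import Groth.Agent.Lib.helper10.SchFinTensor
import Groth.Agent.Lib.helper10.SchFinConn

/-!
# The fibre functor of a geometric point: points of the fibre as algebra maps to the field
-/

set_option autoImplicit false
set_option linter.style.haveILetI false

universe u

namespace Groth.Agent.Lib.helper10.SchFinFib

open SchFin CategoryTheory TensorProduct

section Beta

variable {R : Type u} [CommRing R] (Ω : Type u) [Field Ω] [IsAlgClosed Ω] [Algebra R Ω]

/-- Points of the geometric fibre of a finite étale algebra are the algebra maps to the field. -/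
noncomputable def beta (E : Type u) [CommRing E] [Algebra R E] [Module.Finite R E]
    [Algebra.Etale R E] : (E →ₐ[R] Ω) ≃ PrimeSpectrum (Ω ⊗[R] E) :=
  (Algebra.TensorProduct.liftEquivRight R Ω E Ω).trans
    (Algebra.IsFiniteSplit.algHomEquivPrimeSpectrum Ω (Ω ⊗[R] E))

theorem beta_asIdeal (E : Type u) [CommRing E] [Algebra R E] [Module.Finite R E]
    [Algebra.Etale R E] (φ : E →ₐ[R] Ω) :
    (beta Ω E φ).asIdeal = RingHom.ker
      (Algebra.TensorProduct.lift (Algebra.ofId Ω Ω) φ (fun _ _ => Commute.all _ _)) := rfl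

theorem beta_comp {E E' : Type u} [CommRing E] [Algebra R E] [Module.Finite R E]
    [Algebra.Etale R E] [CommRing E'] [Algebra R E'] [Module.Finite R E'] [Algebra.Etale R E']
    (γ : E →ₐ[R] E') (φ' : E' →ₐ[R] Ω) :
    beta Ω E (φ'.comp γ) =
      PrimeSpectrum.comap (Algebra.TensorProduct.map (AlgHom.id Ω Ω) γ).toRingHom (beta Ω E' φ') := by
  apply PrimeSpectrum.ext
  show (beta Ω E (φ'.comp γ)).asIdeal = Ideal.comap _ (beta Ω E' φ').asIdeal
  rw [beta_asIdeal, beta_asIdeal]
  have h : (Algebra.TensorProduct.lift (Algebra.ofId Ω Ω) (φ'.comp γ) (fun _ _ => Commute.all _ _)) =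
      (Algebra.TensorProduct.lift (Algebra.ofId Ω Ω) φ' (fun _ _ => Commute.all _ _)).comp
        (Algebra.TensorProduct.map (AlgHom.id Ω Ω) γ) := by
    apply Algebra.TensorProduct.ext
    · ext
    · ext e
      simp
  rw [h]
  rfl

end Beta

section RingLevel

variable {R : Type u} [CommRing R] {Ω : Type u} [Field Ω] [Algebra R Ω]
  {C A B : Type u} [CommRing C] [CommRing A] [CommRing B] [Algebra R C] [Algebra R A] [Algebra R B]

/-- Ring-level universal property of the pushout `(A ⊗ B) / (1 ⊗ g c - f c ⊗ 1)` for maps to a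
field. -/
theorem exists_algHom_push (f : C →ₐ[R] A) (g : C →ₐ[R] B) (ε : A ⊗[R] B)
    (hε : Ideal.span {ε} =
      Ideal.span (Set.range fun c : C => (1 : A) ⊗ₜ[R] g c - f c ⊗ₜ[R] (1 : B)))
    (φ : A →ₐ[R] Ω) (ψ : B →ₐ[R] Ω) (h : φ.comp f = ψ.comp g) :
    ∃ χ : ((A ⊗[R] B) ⧸ Ideal.span {ε}) →ₐ[R] Ω,
      (∀ a, χ (Ideal.Quotient.mk _ (a ⊗ₜ[R] (1 : B))) = φ a) ∧
        (∀ b, χ (Ideal.Quotient.mk _ ((1 : A) ⊗ₜ[R] b)) = ψ b) := by
  have hker : ∀ t ∈ Ideal.span {ε},
      (Algebra.TensorProduct.lift φ ψ (fun _ _ => Commute.all _ _)) t = 0 := by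
    intro t ht
    rw [hε] at ht
    have hle : Ideal.span (Set.range fun c : C => (1 : A) ⊗ₜ[R] g c - f c ⊗ₜ[R] (1 : B)) ≤
        RingHom.ker (Algebra.TensorProduct.lift φ ψ (fun _ _ => Commute.all _ _)) := by
      rw [Ideal.span_le]
      rintro _ ⟨c, rfl⟩
      show (Algebra.TensorProduct.lift φ ψ (fun _ _ => Commute.all _ _))
        ((1 : A) ⊗ₜ[R] g c - f c ⊗ₜ[R] (1 : B)) = 0
      rw [map_sub, Algebra.TensorProduct.lift_tmul, Algebra.TensorProduct.lift_tmul, map_one,
        map_one, one_mul, mul_one, sub_eq_zero]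
      exact (AlgHom.congr_fun h c).symm
    exact hle ht
  refine ⟨Ideal.Quotient.liftₐ (Ideal.span {ε})
    (Algebra.TensorProduct.lift φ ψ (fun _ _ => Commute.all _ _)) hker, ?_, ?_⟩
  · intro a
    show (Algebra.TensorProduct.lift φ ψ (fun _ _ => Commute.all _ _)) (a ⊗ₜ[R] (1 : B)) = φ a
    rw [Algebra.TensorProduct.lift_tmul, map_one, mul_one]
  · intro b
    show (Algebra.TensorProduct.lift φ ψ (fun _ _ => Commute.all _ _)) ((1 : A) ⊗ₜ[R] b) = ψ b
    rw [Algebra.TensorProduct.lift_tmul, map_one, one_mul]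

theorem algHom_push_ext (ε : A ⊗[R] B) (χ χ' : ((A ⊗[R] B) ⧸ Ideal.span {ε}) →ₐ[R] Ω)
    (h1 : ∀ a, χ (Ideal.Quotient.mk _ (a ⊗ₜ[R] (1 : B))) =
      χ' (Ideal.Quotient.mk _ (a ⊗ₜ[R] (1 : B))))
    (h2 : ∀ b, χ (Ideal.Quotient.mk _ ((1 : A) ⊗ₜ[R] b)) =
      χ' (Ideal.Quotient.mk _ ((1 : A) ⊗ₜ[R] b))) : χ = χ' := by
  apply AlgHom.ext
  intro t
  obtain ⟨t, rfl⟩ := Ideal.Quotient.mk_surjective t
  have key : (χ : _ →+* Ω).comp (Ideal.Quotient.mk (Ideal.span {ε})) =
      (χ' : _ →+* Ω).comp (Ideal.Quotient.mk (Ideal.span {ε})) := by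
    apply SchFinTensor.ringHom_ext_tensor
    intro a b
    have e3 : (Ideal.Quotient.mk (Ideal.span {ε}) (a ⊗ₜ[R] b) : (A ⊗[R] B) ⧸ Ideal.span {ε}) =
        Ideal.Quotient.mk (Ideal.span {ε}) (a ⊗ₜ[R] (1 : B)) *
          Ideal.Quotient.mk (Ideal.span {ε}) ((1 : A) ⊗ₜ[R] b) := by
      rw [← map_mul, Algebra.TensorProduct.tmul_mul_tmul, mul_one, one_mul]
    show χ (Ideal.Quotient.mk _ (a ⊗ₜ[R] b)) = χ' (Ideal.Quotient.mk _ (a ⊗ₜ[R] b))
    rw [e3, map_mul, map_mul, h1, h2]
  exact RingHom.congr_fun key t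

end RingLevel

section Fib

open SchFinFEt SchFinTensor

variable {X : RSpace.{u}} {Ω : Type u} [Field Ω] [IsAlgClosed Ω] (ξ : GeomPt X Ω)

/-- The algebra structure on the field of a geometric point over the ring of its base point. -/
@[reducible] def geomAlg : Algebra (X.ring ξ.base) Ω := ξ.toField.toAlgebra

/-- Points of the fibre of an étale cover are the algebra maps from its stalk to the field. -/
noncomputable def fibEquiv (A : FEt X) :
    letI := geomAlg ξ
    (A.obj.carrier ξ.base →ₐ[X.ring ξ.base] Ω) ≃ ξ.Fib A.obj :=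
  letI := geomAlg ξ
  haveI : Module.Finite (X.ring ξ.base) (A.obj.carrier ξ.base) := (A.property.2 ξ.base).1
  haveI : Algebra.Etale (X.ring ξ.base) (A.obj.carrier ξ.base) := (A.property.2 ξ.base).2
  beta Ω (A.obj.carrier ξ.base)

theorem fibMap_fibEquiv {A B : FEt X} (g : A ⟶ B) :
    letI := geomAlg ξ
    ∀ φ : B.obj.carrier ξ.base →ₐ[X.ring ξ.base] Ω,
      ξ.fibMap g.hom (fibEquiv ξ B φ) = fibEquiv ξ A (φ.comp (g.hom.app ξ.base)) := by
  letI := geomAlg ξ
  intro φ
  haveI : Module.Finite (X.ring ξ.base) (A.obj.carrier ξ.base) := (A.property.2 ξ.base).1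
  haveI : Algebra.Etale (X.ring ξ.base) (A.obj.carrier ξ.base) := (A.property.2 ξ.base).2
  haveI : Module.Finite (X.ring ξ.base) (B.obj.carrier ξ.base) := (B.property.2 ξ.base).1
  haveI : Algebra.Etale (X.ring ξ.base) (B.obj.carrier ξ.base) := (B.property.2 ξ.base).2
  exact (beta_comp Ω (g.hom.app ξ.base) φ).symm

/-- The fibre of a pushout of étale covers is the fibre product of the fibres. -/
theorem fib_push_existsUnique {C A B : FEt X} (f : C ⟶ A) (g : C ⟶ B)
    (a : ξ.Fib A.obj) (b : ξ.Fib B.obj) (hab : ξ.fibMap f.hom a = ξ.fibMap g.hom b) :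
    ∃! p : ξ.Fib (pushObj f g).obj,
      ξ.fibMap (pushInl f g).hom p = a ∧ ξ.fibMap (pushInr f g).hom p = b := by
  letI := geomAlg ξ
  obtain ⟨φ, rfl⟩ := (fibEquiv ξ A).surjective a
  obtain ⟨ψ, rfl⟩ := (fibEquiv ξ B).surjective b
  rw [fibMap_fibEquiv, fibMap_fibEquiv] at hab
  have h := (fibEquiv ξ C).injective hab
  obtain ⟨χ, h1, h2⟩ := exists_algHom_push (f.hom.app ξ.base) (g.hom.app ξ.base)
    (pushIdem f g ξ.base) (span_pushIdem f g ξ.base) φ ψ h
  have e1 : ∀ χ' : (pushObj f g).obj.carrier ξ.base →ₐ[X.ring ξ.base] Ω,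
      χ'.comp ((pushInl f g).hom.app ξ.base) = φ ↔
        ∀ a, χ' (Ideal.Quotient.mk (Ideal.span {pushIdem f g ξ.base})
          (a ⊗ₜ[X.ring ξ.base] (1 : B.obj.carrier ξ.base))) = φ a := by
    intro χ'
    constructor
    · intro hh a
      exact AlgHom.congr_fun hh a
    · intro hh
      exact AlgHom.ext hh
  have e2 : ∀ χ' : (pushObj f g).obj.carrier ξ.base →ₐ[X.ring ξ.base] Ω,
      χ'.comp ((pushInr f g).hom.app ξ.base) = ψ ↔
        ∀ b, χ' (Ideal.Quotient.mk (Ideal.span {pushIdem f g ξ.base})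
          ((1 : A.obj.carrier ξ.base) ⊗ₜ[X.ring ξ.base] b)) = ψ b := by
    intro χ'
    constructor
    · intro hh a
      exact AlgHom.congr_fun hh a
    · intro hh
      exact AlgHom.ext hh
  refine ⟨fibEquiv ξ (pushObj f g) χ, ⟨?_, ?_⟩, ?_⟩
  · rw [fibMap_fibEquiv, (e1 χ).2 h1]
  · rw [fibMap_fibEquiv, (e2 χ).2 h2]
  · rintro p ⟨hp1, hp2⟩
    obtain ⟨χ', rfl⟩ := (fibEquiv ξ (pushObj f g)).surjective p
    rw [fibMap_fibEquiv] at hp1 hp2
    have q1 := (e1 χ').1 ((fibEquiv ξ A).injective hp1)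
    have q2 := (e2 χ').1 ((fibEquiv ξ B).injective hp2)
    congr 1
    exact algHom_push_ext (pushIdem f g ξ.base) χ' χ
      (fun a => (q1 a).trans (h1 a).symm) (fun b => (q2 b).trans (h2 b).symm)

section Pullback

open CategoryTheory.Limits Opposite

variable {C A B : FEt X} (f : C ⟶ A) (g : C ⟶ B)

theorem pull_condition : (pushInl f g).op ≫ f.op = (pushInr f g).op ≫ g.op := by
  rw [← op_comp, ← op_comp, push_condition]

theorem unop_condition (s : PullbackCone f.op g.op) : f ≫ s.fst.unop = g ≫ s.snd.unop :=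
  congrArg Quiver.Hom.unop s.condition

/-- The pullback cone in the opposite category coming from the pushout of étale covers. -/
noncomputable def pullIsLimit :
    IsLimit (PullbackCone.mk (pushInl f g).op (pushInr f g).op (pull_condition f g)) := by
  refine PullbackCone.IsLimit.mk (pull_condition f g)
    (fun s => ((pushIsColimit f g).desc (PushoutCocone.mk s.fst.unop s.snd.unop
      (unop_condition f g s))).op) ?_ ?_ ?_
  · intro s
    apply Quiver.Hom.unop_inj
    exact (pushIsColimit f g).fac (PushoutCocone.mk s.fst.unop s.snd.unop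
      (unop_condition f g s)) WalkingSpan.left
  · intro s
    apply Quiver.Hom.unop_inj
    exact (pushIsColimit f g).fac (PushoutCocone.mk s.fst.unop s.snd.unop
      (unop_condition f g s)) WalkingSpan.right
  · intro s m h1 h2
    apply Quiver.Hom.unop_inj
    apply PushoutCocone.IsColimit.hom_ext (pushIsColimit f g)
    · have e1 : (pushInl f g) ≫ m.unop = s.fst.unop := by
        rw [← h1]; rfl
      refine e1.trans ?_
      exact ((pushIsColimit f g).fac (PushoutCocone.mk s.fst.unop s.snd.unop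
        (unop_condition f g s)) WalkingSpan.left).symm
    · have e2 : (pushInr f g) ≫ m.unop = s.snd.unop := by
        rw [← h2]; rfl
      refine e2.trans ?_
      exact ((pushIsColimit f g).fac (PushoutCocone.mk s.fst.unop s.snd.unop
        (unop_condition f g s)) WalkingSpan.right).symm

theorem preservesLimit_cospan : PreservesLimit (cospan f.op g.op) ξ.fibFunctor := by
  apply preservesLimit_of_preserves_limit_cone (pullIsLimit f g)
  refine (isLimitMapConePullbackConeEquiv ξ.fibFunctor (pull_condition f g)).symm ?_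
  have hex : ∀ (s : PullbackCone (ξ.fibFunctor.map f.op) (ξ.fibFunctor.map g.op)) (t : s.pt),
      ∃! p : ξ.Fib (pushObj f g).obj,
        ξ.fibMap (pushInl f g).hom p = s.fst t ∧ ξ.fibMap (pushInr f g).hom p = s.snd t :=
    fun s t => fib_push_existsUnique ξ f g (s.fst t) (s.snd t)
      (ConcreteCategory.congr_hom s.condition t)
  refine PullbackCone.IsLimit.mk _ (fun s => FintypeCat.homMk fun t => (hex s t).choose) ?_ ?_ ?_
  · intro s
    apply FintypeCat.hom_ext
    intro t
    exact (hex s t).choose_spec.1.1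
  · intro s
    apply FintypeCat.hom_ext
    intro t
    exact (hex s t).choose_spec.1.2
  · intro s m h1 h2
    apply FintypeCat.hom_ext
    intro t
    apply (hex s t).choose_spec.2
    exact ⟨ConcreteCategory.congr_hom h1 t, ConcreteCategory.congr_hom h2 t⟩

theorem preservesPullbacks : PreservesLimitsOfShape WalkingCospan ξ.fibFunctor := by
  constructor
  intro K
  have : PreservesLimit (cospan (K.map WalkingCospan.Hom.inl) (K.map WalkingCospan.Hom.inr))
      ξ.fibFunctor :=
    preservesLimit_cospan ξ (K.map WalkingCospan.Hom.inl).unop (K.map WalkingCospan.Hom.inr).unop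
  exact preservesLimit_of_iso_diagram ξ.fibFunctor (diagramIsoCospan K).symm

end Pullback

section Terminal

open CategoryTheory.Limits Opposite

/-- The structure algebra as an étale cover. -/
noncomputable def strFEt (X : RSpace.{u}) : FEt X := ⟨Alg.str X, str_isEtCover X⟩

/-- The unique morphism from the structure algebra. -/
noncomputable def strDesc (A : FEt X) : strFEt X ⟶ A :=
  ObjectProperty.homMk
    { app := fun p => Algebra.ofId (X.ring p) (A.obj.carrier p)
      compat := fun {_ _} h r => (A.obj.res_algebraMap h r) }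

/-- The structure algebra is an initial étale cover. -/
noncomputable def strIsInitial (X : RSpace.{u}) : IsInitial (strFEt X) :=
  IsInitial.ofUniqueHom (fun A => strDesc A) (by
    intro A m
    apply ObjectProperty.hom_ext
    apply Alg.hom_ext
    intro p
    apply AlgHom.ext
    intro r
    have := (m.hom.app p).commutes r
    exact this)

theorem fib_str_subsingleton (a b : ξ.Fib (strFEt X).obj) : a = b := by
  letI := geomAlg ξ
  obtain ⟨φ, rfl⟩ := (fibEquiv ξ (strFEt X)).surjective a
  obtain ⟨ψ, rfl⟩ := (fibEquiv ξ (strFEt X)).surjective b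
  congr 1
  apply AlgHom.ext
  intro r
  have h1 := φ.commutes r
  have h2 := ψ.commutes r
  exact h1.trans h2.symm

theorem fib_str_nonempty : Nonempty (ξ.Fib (strFEt X).obj) := by
  letI := geomAlg ξ
  exact ⟨fibEquiv ξ (strFEt X) (Algebra.ofId (X.ring ξ.base) Ω)⟩

theorem preservesTerminal : PreservesLimitsOfShape (Discrete PEmpty.{1}) ξ.fibFunctor := by
  have : PreservesLimit (Functor.empty.{0} (FEt X)ᵒᵖ) ξ.fibFunctor := by
    apply preservesLimit_of_preserves_limit_cone (terminalOpOfInitial (strIsInitial X))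
    refine (isLimitMapConeEmptyConeEquiv ξ.fibFunctor (op (strFEt X))).symm ?_
    exact IsTerminal.ofUniqueHom (fun Y => FintypeCat.homMk fun _ => (fib_str_nonempty ξ).some)
      (fun Y m => FintypeCat.hom_ext _ _ fun t => fib_str_subsingleton ξ _ _)
  exact preservesLimitsOfShape_pempty_of_preservesTerminal ξ.fibFunctor

end Terminal

section Epi

/-- A pointwise injective morphism of étale covers induces a surjection on fibres. -/
theorem fibMap_surjective_of_injective {A B : FEt X} (g : A ⟶ B)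
    (hinj : Function.Injective (g.hom.app ξ.base)) : Function.Surjective (ξ.fibMap g.hom) := by
  letI := geomAlg ξ
  haveI : Module.Finite (X.ring ξ.base) (A.obj.carrier ξ.base) := (A.property.2 ξ.base).1
  haveI : Algebra.Etale (X.ring ξ.base) (A.obj.carrier ξ.base) := (A.property.2 ξ.base).2
  haveI : Module.Finite (X.ring ξ.base) (B.obj.carrier ξ.base) := (B.property.2 ξ.base).1
  haveI : Algebra.Etale (X.ring ξ.base) (B.obj.carrier ξ.base) := (B.property.2 ξ.base).2
  obtain ⟨r, hr⟩ := ProjIdem.exists_retraction (g.hom.app ξ.base) hinj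
  let G : Ω ⊗[X.ring ξ.base] A.obj.carrier ξ.base →ₐ[Ω] Ω ⊗[X.ring ξ.base] B.obj.carrier ξ.base :=
    Algebra.TensorProduct.map (AlgHom.id Ω Ω) (g.hom.app ξ.base)
  have hinj' : Function.Injective G := by
    have hleft : Function.LeftInverse (LinearMap.lTensor Ω r) G := by
      intro t
      induction t using TensorProduct.induction_on with
      | zero => rw [map_zero, map_zero]
      | tmul w a =>
        show (LinearMap.lTensor Ω r) (w ⊗ₜ[X.ring ξ.base] g.hom.app ξ.base a) = w ⊗ₜ a
        rw [LinearMap.lTensor_tmul, hr]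
      | add x y hx hy => rw [map_add, map_add, hx, hy]
    exact hleft.injective
  have hint : G.toRingHom.IsIntegral := by
    apply RingHom.IsIntegral.tower_top
      (algebraMap Ω (Ω ⊗[X.ring ξ.base] A.obj.carrier ξ.base)) G.toRingHom
    have h1 : G.toRingHom.comp (algebraMap Ω (Ω ⊗[X.ring ξ.base] A.obj.carrier ξ.base)) =
        algebraMap Ω (Ω ⊗[X.ring ξ.base] B.obj.carrier ξ.base) := G.comp_algebraMap
    rw [h1]
    exact algebraMap_isIntegral_iff.2 inferInstance
  exact hint.comap_surjective hinj'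

end Epi

section Coprod

open CategoryTheory.Limits Opposite

variable {n : ℕ} (A : Fin n → FEt X)

/-- The product of a finite family of étale covers. -/
noncomputable def prodFEt : FEt X :=
  ⟨piAlg (fun j : ULift.{u} (Fin n) => (A j.down).obj),
    piAlg_isEtCover _ (fun j => (A j.down).property)⟩

/-- The projections of the product. -/
noncomputable def prodProj (i : Fin n) : prodFEt A ⟶ A i :=
  ObjectProperty.homMk (piProj (fun j : ULift.{u} (Fin n) => (A j.down).obj) ⟨i⟩)

/-- The morphism to the product induced by a family. -/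
noncomputable def prodLift {T : FEt X} (φ : ∀ i, T ⟶ A i) : T ⟶ prodFEt A :=
  ObjectProperty.homMk (piLift (fun j : ULift.{u} (Fin n) => (A j.down).obj)
    (fun j => (φ j.down).hom))

theorem prodLift_proj {T : FEt X} (φ : ∀ i, T ⟶ A i) (i : Fin n) :
    prodLift A φ ≫ prodProj A i = φ i := by
  apply ObjectProperty.hom_ext
  apply Alg.hom_ext
  intro p
  apply AlgHom.ext
  intro c
  rfl

theorem prod_hom_ext {T : FEt X} (m m' : T ⟶ prodFEt A)
    (h : ∀ i, m ≫ prodProj A i = m' ≫ prodProj A i) : m = m' := by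
  apply ObjectProperty.hom_ext
  apply Alg.hom_ext
  intro p
  apply AlgHom.ext
  intro c
  funext j
  have := congrArg (fun k : T ⟶ A j.down => k.hom.app p c) (h j.down)
  exact this

/-- The coproduct cofan in the opposite category. -/
noncomputable def coprodIsColimit :
    IsColimit (Cofan.mk (op (prodFEt A)) (fun i => (prodProj A i).op) :
      Cofan (fun i => op (A i))) := by
  refine Cofan.IsColimit.mk _ (fun s => (prodLift A (fun i => (s.inj i).unop)).op) ?_ ?_
  · intro s i
    apply Quiver.Hom.unop_inj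
    exact prodLift_proj A (fun i => (s.inj i).unop) i
  · intro s m hm
    apply Quiver.Hom.unop_inj
    apply prod_hom_ext
    intro i
    have e1 : m.unop ≫ prodProj A i = (s.inj i).unop := by
      rw [← hm i]; rfl
    rw [e1]
    exact (prodLift_proj A (fun i => (s.inj i).unop) i).symm

/-- The fibre of a finite product of étale covers is the disjoint union of the fibres. -/
theorem fib_prod_bijective :
    Function.Bijective
      (fun x : Σ i, ξ.Fib (A i).obj => ξ.fibMap (prodProj A x.1).hom x.2) := by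
  letI := geomAlg ξ
  let M : ULift.{u} (Fin n) → Type u := fun j => (A j.down).obj.carrier ξ.base
  let e : Ω ⊗[X.ring ξ.base] (∀ j, M j) ≃ₐ[Ω] ∀ j, Ω ⊗[X.ring ξ.base] M j :=
    Algebra.TensorProduct.piRight (X.ring ξ.base) Ω Ω M
  let Ψ : (Σ j : ULift.{u} (Fin n), PrimeSpectrum (Ω ⊗[X.ring ξ.base] M j)) →
      PrimeSpectrum (Ω ⊗[X.ring ξ.base] (∀ j, M j)) :=
    fun x => PrimeSpectrum.comap e.toRingEquiv.toRingHom
      (PrimeSpectrum.sigmaToPi (fun j => Ω ⊗[X.ring ξ.base] M j) x)
  have hΨ : Function.Bijective Ψ :=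
    (PrimeSpectrum.comapEquiv e.toRingEquiv).symm.bijective.comp
      (PrimeSpectrum.sigmaToPi_bijective (fun j => Ω ⊗[X.ring ξ.base] M j))
  have hring : ∀ j : ULift.{u} (Fin n),
      (Algebra.TensorProduct.map (AlgHom.id Ω Ω)
        ((prodProj A j.down).hom.app ξ.base)).toRingHom =
      (Pi.evalRingHom (fun j => Ω ⊗[X.ring ξ.base] M j) j).comp e.toRingEquiv.toRingHom := by
    intro j
    apply ringHom_ext_tensor
    intro w f
    rfl
  have hkey : ∀ (j : ULift.{u} (Fin n)) (q : PrimeSpectrum (Ω ⊗[X.ring ξ.base] M j)),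
      ξ.fibMap (prodProj A j.down).hom q = Ψ ⟨j, q⟩ := by
    intro j q
    show PrimeSpectrum.comap (Algebra.TensorProduct.map (AlgHom.id Ω Ω)
        ((prodProj A j.down).hom.app ξ.base)).toRingHom q =
      PrimeSpectrum.comap e.toRingEquiv.toRingHom
        (PrimeSpectrum.comap (Pi.evalRingHom (fun j => Ω ⊗[X.ring ξ.base] M j) j) q)
    rw [hring j]
    rfl
  constructor
  · rintro ⟨i, q⟩ ⟨i', q'⟩ h
    have h' : Ψ ⟨⟨i⟩, q⟩ = Ψ ⟨⟨i'⟩, q'⟩ := by
      rw [← hkey ⟨i⟩ q, ← hkey ⟨i'⟩ q']
      exact h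
    have h2 := hΨ.1 h'
    obtain ⟨h3, h4⟩ := Sigma.mk.inj_iff.1 h2
    have h5 : i = i' := ULift.up_injective h3
    subst h5
    rw [heq_eq_eq] at h4
    rw [h4]
  · intro p
    obtain ⟨⟨j, q⟩, hq⟩ := hΨ.2 p
    exact ⟨⟨j.down, q⟩, (hkey j q).trans hq⟩

theorem preservesColimit_discrete :
    PreservesColimit (Discrete.functor (fun i => op (A i))) ξ.fibFunctor := by
  apply preservesColimit_of_preserves_colimit_cocone (coprodIsColimit A)
  refine (isColimitMapCoconeCofanMkEquiv ξ.fibFunctor _ _).symm ?_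
  let e : (Σ i, ξ.Fib (A i).obj) ≃ ξ.Fib (prodFEt A).obj :=
    Equiv.ofBijective _ (fib_prod_bijective ξ A)
  have he : ∀ i (t : ξ.Fib (A i).obj), e ⟨i, t⟩ = ξ.fibMap (prodProj A i).hom t := fun i t => rfl
  refine Cofan.IsColimit.mk _
    (fun s => FintypeCat.homMk fun p => s.inj (e.symm p).1 (e.symm p).2) ?_ ?_
  · intro s i
    apply FintypeCat.hom_ext
    intro t
    have h1 : e.symm (ξ.fibMap (prodProj A i).hom t) = ⟨i, t⟩ := by
      rw [← he]; exact e.symm_apply_apply ⟨i, t⟩
    show s.inj (e.symm (ξ.fibMap (prodProj A i).hom t)).1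
      (e.symm (ξ.fibMap (prodProj A i).hom t)).2 = s.inj i t
    rw [h1]
  · intro s m hm
    apply FintypeCat.hom_ext
    intro p
    obtain ⟨⟨i, t⟩, rfl⟩ := e.surjective p
    show m (e ⟨i, t⟩) = s.inj (e.symm (e ⟨i, t⟩)).1 (e.symm (e ⟨i, t⟩)).2
    rw [e.symm_apply_apply]
    exact ConcreteCategory.congr_hom (hm i) t

end Coprod

theorem preservesFiniteCoproducts : Limits.PreservesFiniteCoproducts ξ.fibFunctor := by
  constructor
  intro n
  constructor
  intro K
  have : Limits.PreservesColimit (Discrete.functor (K.obj ∘ Discrete.mk)) ξ.fibFunctor :=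
    preservesColimit_discrete ξ (fun i => (K.obj ⟨i⟩).unop)
  exact Limits.preservesColimit_of_iso_diagram ξ.fibFunctor (Discrete.natIsoFunctor (F := K)).symm

end Fib

end Groth.Agent.Lib.helper10.SchFinFib
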