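import Groth.Agent.Lib.helper10.SchFinFEt
import Groth.Agent.Lib.helper10.InvEtale

/-!
# Invariants of a finite group acting on an étale cover of a schematic finite space
-/

set_option autoImplicit false
set_option linter.style.haveILetI false
set_option linter.unusedSectionVars false

universe u

namespace Groth.Agent.Lib.helper10.SchFinInv

open SchFin CategoryTheory SchFinBC SchFinFEt InvEtale TensorProduct

section Alg

variable {X : RSpace.{u}} {G : Type u} (A : Alg X) (σ : G → (A ⟶ A))

/-- The action at a point. -/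
def actAt (p : X.pt) (g : G) : A.carrier p →ₐ[X.ring p] A.carrier p := (σ g).app p

theorem res_mem {p q : X.pt} (h : p ≤ q) (a : A.carrier p) (ha : a ∈ invSub (actAt A σ p)) :
    A.res h a ∈ invSub (actAt A σ q) := by
  intro g
  show (σ g).app q (A.res h a) = A.res h a
  rw [← (σ g).compat h a]
  exact congrArg (A.res h) (ha g)

/-- The algebra of invariants. -/
def invAlg : Alg X where
  carrier p := invSub (actAt A σ p)
  res {p q} h := ((A.res h).comp (invSub (actAt A σ p)).val.toRingHom).codRestrict
    (invSub (actAt A σ q)) (fun a => res_mem A σ h a.1 a.2)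
  res_algebraMap {_ _} h a := Subtype.ext (A.res_algebraMap h a)
  res_self p b := Subtype.ext (A.res_self p b.1)
  res_comp {_ _ _} h h' b := Subtype.ext (A.res_comp h h' b.1)

theorem invAlg_res_coe {p q : X.pt} (h : p ≤ q) (a : invSub (actAt A σ p)) :
    (((invAlg A σ).res h a : invSub (actAt A σ q))).1 = A.res h a.1 := rfl

/-- The inclusion of the invariants. -/
def invι : invAlg A σ ⟶ A where
  app p := (invSub (actAt A σ p)).val
  compat _ _ := rfl

theorem invAlg_isQcoh [Finite G] (hX : X.IsFinSp) (hA : A.IsQcoh) : (invAlg A σ).IsQcoh := by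
  intro p q h
  have hA' : IsBCAlong (X.res h) (A.toMod.res h) := hA p q h
  show IsBCAlong (X.res h) ((invAlg A σ).toMod.res h)
  unfold IsBCAlong at hA' ⊢
  letI : Algebra (X.ring p) (X.ring q) := (X.res h).toAlgebra
  haveI : Module.Flat (X.ring p) (X.ring q) := hX.2 p q h
  letI : Module (X.ring p) (A.carrier q) := Module.compHom _ (X.res h)
  haveI : IsScalarTower (X.ring p) (X.ring q) (A.carrier q) :=
    IsScalarTower.of_algebraMap_smul fun _ _ => rfl
  letI : Module (X.ring p) (invSub (actAt A σ q)) := Module.compHom _ (X.res h)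
  haveI : IsScalarTower (X.ring p) (X.ring q) (invSub (actAt A σ q)) :=
    IsScalarTower.of_algebraMap_smul fun _ _ => rfl
  let ρ : A.carrier p →ₗ[X.ring p] A.carrier q :=
    { toFun := A.toMod.res h, map_add' := (A.toMod.res h).map_add,
      map_smul' := (A.toMod.res h).map_smulₛₗ }
  let ρ0 : invSub (actAt A σ p) →ₗ[X.ring p] invSub (actAt A σ q) :=
    { toFun := (invAlg A σ).toMod.res h, map_add' := ((invAlg A σ).toMod.res h).map_add,
      map_smul' := ((invAlg A σ).toMod.res h).map_smulₛₗ }
  change IsBaseChange (X.ring q) ρ at hA'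
  change IsBaseChange (X.ring q) ρ0
  refine isBaseChange_inv (S := X.ring q) (fun g => (actAt A σ p g).toLinearMap)
    (fun g => (actAt A σ q g).toLinearMap) ρ hA' ?_
    (invSub (actAt A σ p)).val.toLinearMap (invSub (actAt A σ q)).val.toLinearMap
    Subtype.val_injective Subtype.val_injective ?_ ?_ ρ0 (fun x => rfl)
  · intro g a
    show A.res h ((σ g).app p a) = (σ g).app q (A.res h a)
    exact (σ g).compat h a
  · intro a
    constructor
    · intro h
      exact ⟨⟨a, h⟩, rfl⟩
    · rintro ⟨x, rfl⟩
      exact x.2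
  · intro a
    constructor
    · intro h
      exact ⟨⟨a, h⟩, rfl⟩
    · rintro ⟨x, rfl⟩
      exact x.2

/-- Lifting a morphism equalising the action to the invariants. -/
def invLift {C : Alg X} (φ : C ⟶ A) (hφ : ∀ g, φ ≫ σ g = φ) : C ⟶ invAlg A σ where
  app p := (φ.app p).codRestrict (invSub (actAt A σ p)) (fun c g => by
    have := congrArg (fun k : C ⟶ A => k.app p c) (hφ g)
    exact this)
  compat {p q} h c := Subtype.ext (φ.compat h c)

theorem invLift_ι {C : Alg X} (φ : C ⟶ A) (hφ : ∀ g, φ ≫ σ g = φ) :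
    invLift A σ φ hφ ≫ invι A σ = φ := by
  apply Alg.hom_ext
  intro p
  apply AlgHom.ext
  intro c
  rfl

theorem invι_act (g : G) : invι A σ ≫ σ g = invι A σ := by
  apply Alg.hom_ext
  intro p
  apply AlgHom.ext
  intro a
  exact a.2 g

theorem invι_mono {C : Alg X} (m m' : C ⟶ invAlg A σ) (h : m ≫ invι A σ = m' ≫ invι A σ) :
    m = m' := by
  apply Alg.hom_ext
  intro p
  apply AlgHom.ext
  intro c
  apply Subtype.ext
  have := congrArg (fun k : C ⟶ A => k.app p c) h
  exact this

theorem invAlg_isEtCover [Group G] [Finite G] (hX : X.IsFinSp) (hA : A.IsEtCover)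
    (hσ1 : σ 1 = 𝟙 A) (hσmul : ∀ g h, σ (g * h) = σ h ≫ σ g)
    (hlt : ∃ (B : Alg X) (n : ℕ), B.IsCovering ∧ ∀ p : X.pt,
      Nonempty (B.carrier p ⊗[X.ring p] A.carrier p ≃ₐ[B.carrier p] (Fin n → B.carrier p))) :
    (invAlg A σ).IsEtCover := by
  refine ⟨invAlg_isQcoh A σ hX hA.1, fun p => ?_⟩
  obtain ⟨B, n, hB, hψ⟩ := hlt
  obtain ⟨ψ⟩ := hψ p
  haveI : IsNoetherianRing (X.ring p) := hX.1 p
  haveI : Module.Finite (X.ring p) (A.carrier p) := (hA.2 p).1
  haveI : Module.FaithfullyFlat (X.ring p) (B.carrier p) := (hB.2 p).2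
  letI : Fintype G := Fintype.ofFinite G
  constructor
  · exact Module.Finite.of_injective (invSub (actAt A σ p)).val.toLinearMap Subtype.val_injective
  · refine etale_inv_of_split (actAt A σ p) (B.carrier p) ?_ ?_ n ψ
    · intro x
      show (σ 1).app p x = x
      rw [hσ1]
      rfl
    · intro g h x
      show (σ (g * h)).app p x = (σ g).app p ((σ h).app p x)
      rw [hσmul]
      rfl

end Alg

section Cat

open CategoryTheory.Limits

variable {X : RSpace.{u}} {G : Type u} [Group G] [Finite G] (J : SingleObj G ⥤ FEt X)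

/-- The underlying algebra of a `G`-object. -/
def JA : Alg X := (J.obj (SingleObj.star G)).obj

/-- The action on the underlying algebra of a `G`-object. -/
def Jσ (g : G) : JA J ⟶ JA J :=
  (J.map (X := SingleObj.star G) (Y := SingleObj.star G) g).hom

theorem Jσ_one : Jσ J 1 = 𝟙 (JA J) := by
  have := J.map_id (SingleObj.star G)
  exact congrArg (fun k => k.hom) this

theorem Jσ_mul (g h : G) : Jσ J (g * h) = Jσ J h ≫ Jσ J g := by
  have := J.map_comp (X := SingleObj.star G) (Y := SingleObj.star G) (Z := SingleObj.star G) h g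
  exact congrArg (fun k => k.hom) this

variable (hX : X.IsFinSp)
  (hlt : ∀ A : FEt X, ∃ (B : Alg X) (n : ℕ), B.IsCovering ∧ ∀ p : X.pt,
    Nonempty (B.carrier p ⊗[X.ring p] A.obj.carrier p ≃ₐ[B.carrier p] (Fin n → B.carrier p)))

/-- The étale cover of invariants. -/
def invFEt : FEt X :=
  ⟨invAlg (JA J) (Jσ J), invAlg_isEtCover (JA J) (Jσ J) hX (J.obj (SingleObj.star G)).property
    (Jσ_one J) (Jσ_mul J) (hlt (J.obj (SingleObj.star G)))⟩

/-- The cone of invariants. -/
def invCone : Cone J where
  pt := invFEt J hX hlt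
  π :=
    { app := fun _ => ObjectProperty.homMk (invι (JA J) (Jσ J))
      naturality := by
        intro j j' g
        apply ObjectProperty.hom_ext
        have h1 := invι_act (JA J) (Jσ J) g
        exact (Category.id_comp _).trans h1.symm }

theorem cone_equalizes (s : Cone J) (g : G) :
    (s.π.app (SingleObj.star G)).hom ≫ Jσ J g = (s.π.app (SingleObj.star G)).hom := by
  have h1 := s.π.naturality (X := SingleObj.star G) (Y := SingleObj.star G) g
  have h2 := congrArg (fun k => k.hom) h1
  exact ((Category.id_comp _).symm.trans h2).symm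

/-- The cone of invariants is a limit. -/
def invConeIsLimit : IsLimit (invCone J hX hlt) where
  lift s := ObjectProperty.homMk (invLift (JA J) (Jσ J) (s.π.app (SingleObj.star G)).hom
    (cone_equalizes J s))
  fac s j := by
    apply ObjectProperty.hom_ext
    exact invLift_ι (JA J) (Jσ J) (s.π.app (SingleObj.star G)).hom (cone_equalizes J s)
  uniq s m hm := by
    apply ObjectProperty.hom_ext
    apply invι_mono (JA J) (Jσ J)
    have h1 := congrArg (fun k => k.hom) (hm (SingleObj.star G))
    refine h1.trans ?_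
    exact (invLift_ι (JA J) (Jσ J) (s.π.app (SingleObj.star G)).hom (cone_equalizes J s)).symm

include hX hlt in
theorem hasLimit : HasLimit J := ⟨⟨⟨invCone J hX hlt, invConeIsLimit J hX hlt⟩⟩⟩

end Cat

end Groth.Agent.Lib.helper10.SchFinInv
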