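import Groth.Agent.Lib.helper10.SchFinFib
import Groth.Agent.Lib.helper10.SchFinInv

/-!
# The fibre functor of a geometric point and quotients by finite groups
-/

set_option autoImplicit false
set_option linter.style.haveILetI false
set_option linter.unusedSectionVars false

universe u

namespace Groth.Agent.Lib.helper10.SchFinGalois

open SchFin CategoryTheory CategoryTheory.Limits Opposite TensorProduct
open SchFinFEt SchFinFib SchFinInv InvEtale

variable {X : RSpace.{u}} {G : Type u} [Group G] [Finite G]
  {Ω : Type u} [Field Ω] [IsAlgClosed Ω] (ξ : GeomPt X Ω)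
  (hX : X.IsFinSp)
  (hlt : ∀ A : FEt X, ∃ (B : Alg X) (n : ℕ), B.IsCovering ∧ ∀ p : X.pt,
    Nonempty (B.carrier p ⊗[X.ring p] A.obj.carrier p ≃ₐ[B.carrier p] (Fin n → B.carrier p)))

section Orbit

variable (J : SingleObj G ⥤ FEt X)

/-- The inclusion of the invariants as a morphism of étale covers. -/
def invInc : invFEt J hX hlt ⟶ J.obj (SingleObj.star G) :=
  (invCone J hX hlt).π.app (SingleObj.star G)

theorem invInc_injective (p : X.pt) : Function.Injective ((invInc hX hlt J).hom.app p) :=
  Subtype.val_injective

/-- The fibres of the map from the fibre of a cover to the fibre of its invariants are orbits. -/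
theorem fib_orbit (a a' : ξ.Fib (J.obj (SingleObj.star G)).obj)
    (h : ξ.fibMap (invInc hX hlt J).hom a = ξ.fibMap (invInc hX hlt J).hom a') :
    ∃ g : G, ξ.fibMap (J.map (X := SingleObj.star G) (Y := SingleObj.star G) g).hom a' = a := by
  letI := geomAlg ξ
  letI : Fintype G := Fintype.ofFinite G
  obtain ⟨φ, rfl⟩ := (fibEquiv ξ (J.obj (SingleObj.star G))).surjective a
  obtain ⟨φ', rfl⟩ := (fibEquiv ξ (J.obj (SingleObj.star G))).surjective a'
  rw [fibMap_fibEquiv, fibMap_fibEquiv] at h
  have h1 := (fibEquiv ξ (invFEt J hX hlt)).injective h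
  obtain ⟨B, n, hB, hψ⟩ := hlt (J.obj (SingleObj.star G))
  obtain ⟨ψ⟩ := hψ ξ.base
  haveI : Module.Finite (X.ring ξ.base) (B.carrier ξ.base) := (hB.2 ξ.base).1
  haveI : Module.FaithfullyFlat (X.ring ξ.base) (B.carrier ξ.base) := (hB.2 ξ.base).2
  obtain ⟨β⟩ := exists_algHom_of_faithfullyFlat (R := X.ring ξ.base) (B := B.carrier ξ.base)
    (Ω := Ω)
  obtain ⟨g, hg⟩ := exists_act_eq_of_agree (actAt (JA J) (Jσ J) ξ.base) (B.carrier ξ.base)
    (by
      intro x
      show (Jσ J 1).app ξ.base x = x
      rw [Jσ_one]
      rfl)
    (by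
      intro g h x
      show (Jσ J (g * h)).app ξ.base x = (Jσ J g).app ξ.base ((Jσ J h).app ξ.base x)
      rw [Jσ_mul]
      rfl) n ψ β φ φ'
    (by
      intro a ha
      exact AlgHom.congr_fun h1 ⟨a, ha⟩)
  refine ⟨g, ?_⟩
  rw [fibMap_fibEquiv]
  congr 1
  exact AlgHom.ext hg

end Orbit

section Quot

variable (J : SingleObj G ⥤ (FEt X)ᵒᵖ)

/-- A `G`-object of the opposite category as a `G`-object of the category of étale covers. -/
def unopFunctor : SingleObj G ⥤ FEt X where
  obj _ := (J.obj (SingleObj.star G)).unop
  map {_ _} g := (J.map (X := SingleObj.star G) (Y := SingleObj.star G) ((show G from g)⁻¹)).unop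
  map_id _ := by
    show (J.map (X := SingleObj.star G) (Y := SingleObj.star G) ((1 : G)⁻¹)).unop = 𝟙 _
    rw [inv_one]
    exact congrArg Quiver.Hom.unop (J.map_id (SingleObj.star G))
  map_comp {_ _ _} f g := by
    show (J.map (X := SingleObj.star G) (Y := SingleObj.star G)
        (((show G from g) * (show G from f))⁻¹)).unop =
      (J.map (X := SingleObj.star G) (Y := SingleObj.star G) ((show G from f)⁻¹)).unop ≫
        (J.map (X := SingleObj.star G) (Y := SingleObj.star G) ((show G from g)⁻¹)).unop
    rw [mul_inv_rev, ← unop_comp]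
    congr 1
    exact J.map_comp (X := SingleObj.star G) (Y := SingleObj.star G) (Z := SingleObj.star G)
      ((show G from g)⁻¹) ((show G from f)⁻¹)

theorem unopFunctor_map (g : G) :
    (unopFunctor J).map (X := SingleObj.star G) (Y := SingleObj.star G) (g⁻¹ : G) =
      (J.map (X := SingleObj.star G) (Y := SingleObj.star G) g).unop := by
  show (J.map (X := SingleObj.star G) (Y := SingleObj.star G) ((g⁻¹)⁻¹ : G)).unop = _
  rw [inv_inv]

theorem invInc_map (g : G) :
    invInc hX hlt (unopFunctor J) ≫
      (J.map (X := SingleObj.star G) (Y := SingleObj.star G) g).unop =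
    invInc hX hlt (unopFunctor J) := by
  have h1 := (invCone (unopFunctor J) hX hlt).π.naturality (X := SingleObj.star G)
    (Y := SingleObj.star G) (g⁻¹ : G)
  rw [unopFunctor_map] at h1
  exact ((Category.id_comp _).symm.trans h1).symm

/-- The cocone of invariants in the opposite category. -/
def quotCocone : Cocone J where
  pt := op (invFEt (unopFunctor J) hX hlt)
  ι :=
    { app := fun _ => (invInc hX hlt (unopFunctor J)).op
      naturality := by
        intro j j' g
        apply Quiver.Hom.unop_inj
        have h1 := invInc_map hX hlt J g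
        exact h1.trans (Category.id_comp _).symm }

/-- The cone over the unopped functor attached to a cocone. -/
def unopCone (s : Cocone J) : Cone (unopFunctor J) where
  pt := s.pt.unop
  π :=
    { app := fun _ => (s.ι.app (SingleObj.star G)).unop
      naturality := by
        intro j j' h
        have h1 := s.ι.naturality (X := SingleObj.star G) (Y := SingleObj.star G)
          ((show G from h)⁻¹)
        have h2 := congrArg Quiver.Hom.unop h1
        have h3 : (s.ι.app (SingleObj.star G)).unop ≫
            (J.map (X := SingleObj.star G) (Y := SingleObj.star G) ((show G from h)⁻¹)).unop =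
            (s.ι.app (SingleObj.star G)).unop := h2.trans (Category.id_comp _)
        exact (Category.id_comp _).trans h3.symm }

/-- The cocone of invariants is a colimit. -/
def quotCoconeIsColimit : IsColimit (quotCocone hX hlt J) where
  desc s := ((invConeIsLimit (unopFunctor J) hX hlt).lift (unopCone J s)).op
  fac s _ := Quiver.Hom.unop_inj
    ((invConeIsLimit (unopFunctor J) hX hlt).fac (unopCone J s) (SingleObj.star G))
  uniq s m hm := Quiver.Hom.unop_inj
    ((invConeIsLimit (unopFunctor J) hX hlt).uniq (unopCone J s) m.unop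
      (fun _ => congrArg Quiver.Hom.unop (hm (SingleObj.star G))))

include hX hlt in
theorem preservesColimit_quot : PreservesColimit J ξ.fibFunctor := by
  apply preservesColimit_of_preserves_colimit_cocone (quotCoconeIsColimit hX hlt J)
  have hsurj : Function.Surjective (ξ.fibMap (invInc hX hlt (unopFunctor J)).hom) :=
    fibMap_surjective_of_injective ξ (invInc hX hlt (unopFunctor J))
      (invInc_injective hX hlt _ ξ.base)
  have hinv : ∀ (s : Cocone (J ⋙ ξ.fibFunctor)) (g : G)
      (a : ξ.Fib (J.obj (SingleObj.star G)).unop.obj),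
      s.ι.app (SingleObj.star G)
        (ξ.fibMap (J.map (X := SingleObj.star G) (Y := SingleObj.star G) g).unop.hom a) =
      s.ι.app (SingleObj.star G) a := by
    intro s g a
    have h1 := s.ι.naturality (X := SingleObj.star G) (Y := SingleObj.star G) g
    exact ConcreteCategory.congr_hom h1 a
  exact
    { desc := fun s => FintypeCat.homMk fun q => s.ι.app (SingleObj.star G) (hsurj q).choose
      fac := fun s j => by
        apply FintypeCat.hom_ext
        intro a
        have hq := (hsurj (ξ.fibMap (invInc hX hlt (unopFunctor J)).hom a)).choose_spec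
        obtain ⟨g, hg⟩ := fib_orbit ξ hX hlt (unopFunctor J) a _ hq.symm
        show s.ι.app (SingleObj.star G)
          (hsurj (ξ.fibMap (invInc hX hlt (unopFunctor J)).hom a)).choose =
          s.ι.app (SingleObj.star G) a
        have hg' : ξ.fibMap (J.map (X := SingleObj.star G) (Y := SingleObj.star G) g⁻¹).unop.hom
            (hsurj (ξ.fibMap (invInc hX hlt (unopFunctor J)).hom a)).choose = a := hg
        have h2 := hinv s g⁻¹ (hsurj (ξ.fibMap (invInc hX hlt (unopFunctor J)).hom a)).choose
        rw [hg'] at h2
        exact h2.symm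
      uniq := fun s m hm => by
        apply FintypeCat.hom_ext
        intro q
        have hq := (hsurj q).choose_spec
        have h1 := ConcreteCategory.congr_hom (hm (SingleObj.star G)) (hsurj q).choose
        show m q = s.ι.app (SingleObj.star G) (hsurj q).choose
        rw [← h1]
        exact congrArg (ConcreteCategory.hom m) hq.symm }

end Quot

section Assembly

include hX hlt in
theorem hasQuot_op : HasColimitsOfShape (SingleObj G) (FEt X)ᵒᵖ :=
  ⟨fun J => ⟨⟨⟨quotCocone hX hlt J, quotCoconeIsColimit hX hlt J⟩⟩⟩⟩

include hX hlt in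
theorem preservesQuot : PreservesColimitsOfShape (SingleObj G) ξ.fibFunctor :=
  ⟨fun {J} => preservesColimit_quot ξ hX hlt J⟩

theorem hasFiniteCoproducts_op (X : RSpace.{u}) : HasFiniteCoproducts (FEt X)ᵒᵖ := by
  constructor
  intro n
  constructor
  intro K
  have : HasColimit (Discrete.functor (K.obj ∘ Discrete.mk)) :=
    ⟨⟨⟨_, coprodIsColimit (fun i => (K.obj ⟨i⟩).unop)⟩⟩⟩
  exact hasColimit_of_iso (Discrete.natIsoFunctor (F := K))

theorem hasTerminal_op (X : RSpace.{u}) : HasTerminal (FEt X)ᵒᵖ := by
  haveI := SchFinTensor.hasInitial X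
  infer_instance

theorem hasPullbacks_op (X : RSpace.{u}) : HasPullbacks (FEt X)ᵒᵖ := by
  haveI := SchFinTensor.hasPushouts X
  infer_instance

/-- A product decomposition of étale covers is a coproduct decomposition in the opposite
category. -/
def binaryCofanOpIsColimit {A B D : FEt X} (f : A ⟶ B) (π : A ⟶ D)
    (h : IsLimit (BinaryFan.mk f π)) : IsColimit (BinaryCofan.mk f.op π.op) :=
  BinaryCofan.IsColimit.mk _
    (fun {T} u v => (BinaryFan.IsLimit.lift' h u.unop v.unop).1.op)
    (fun {T} u v => Quiver.Hom.unop_inj (BinaryFan.IsLimit.lift' h u.unop v.unop).2.1)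
    (fun {T} u v => Quiver.Hom.unop_inj (BinaryFan.IsLimit.lift' h u.unop v.unop).2.2)
    (fun {T} u v m h1 h2 => by
      apply Quiver.Hom.unop_inj
      apply BinaryFan.IsLimit.hom_ext h
      · have e1 : m.unop ≫ f = u.unop := by rw [← h1]; rfl
        exact e1.trans (BinaryFan.IsLimit.lift' h u.unop v.unop).2.1.symm
      · have e2 : m.unop ≫ π = v.unop := by rw [← h2]; rfl
        exact e2.trans (BinaryFan.IsLimit.lift' h u.unop v.unop).2.2.symm)

end Assembly

end Groth.Agent.Lib.helper10.SchFinGalois
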