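import Groth.Agent.Lib.helper10.SchFinPair
import Mathlib.Algebra.Algebra.Epi

/-!
# Geometric points of a schematic finite space from maximal pairs
-/

set_option autoImplicit false
set_option linter.style.haveILetI false
set_option linter.unusedSectionVars false

universe u

namespace Groth.Agent.Lib.helper10.SchFinGeomPt

open SchFin TensorProduct
open Groth.Agent.Lib.helper10.SchFinH0 Groth.Agent.Lib.helper10.SchFinPair

section BC

variable {R S : Type u} [CommRing R] [CommRing S] (g : R →+* S) {M N : Type u}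
  [AddCommGroup M] [AddCommGroup N] [Module R M] [Module S N] (f : M →ₛₗ[g] N)

/-- A semilinear map between a module with vanishing base change and a zero module is a base
change. -/
theorem isBCAlong_of_subsingleton [Subsingleton N]
    (h : letI : Algebra R S := g.toAlgebra; Subsingleton (S ⊗[R] M)) : IsBCAlong g f := by
  unfold IsBCAlong
  letI : Algebra R S := g.toAlgebra
  letI : Module R N := Module.compHom N g
  haveI : IsScalarTower R S N := IsScalarTower.of_algebraMap_smul fun _ _ => rfl
  haveI : Subsingleton (S ⊗[R] M) := h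
  exact IsBaseChange.of_equiv (LinearEquiv.ofSubsingleton _ _) (fun _ => Subsingleton.elim _ _)

theorem isBCAlong_of_subsingleton' [Subsingleton M] [Subsingleton N] : IsBCAlong g f := by
  apply isBCAlong_of_subsingleton
  letI : Algebra R S := g.toAlgebra
  infer_instance

theorem isBCAlong_of_subsingleton'' (hM : Subsingleton M) (hN : Subsingleton N) :
    IsBCAlong g f := isBCAlong_of_subsingleton' g f

/-- A bijective semilinear map over an epimorphism of rings is a base change. -/
theorem isBCAlong_of_bijective_of_isEpi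
    (hg : letI : Algebra R S := g.toAlgebra; Algebra.IsEpi R S) (hf : Function.Bijective f) :
    IsBCAlong g f := by
  unfold IsBCAlong
  letI : Algebra R S := g.toAlgebra
  letI : Module R N := Module.compHom N g
  haveI : IsScalarTower R S N := IsScalarTower.of_algebraMap_smul fun _ _ => rfl
  haveI : Algebra.IsEpi R S := hg
  let fR : M →ₗ[R] N := { toFun := f, map_add' := f.map_add, map_smul' := f.map_smulₛₗ }
  let eR : M ≃ₗ[R] N := LinearEquiv.ofBijective fR hf
  exact IsBaseChange.of_equiv
    ((TensorProduct.AlgebraTensorModule.congr (LinearEquiv.refl S S) eR) ≪≫ₗ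
      TensorProduct.lid' R S N) (fun x => by
        show TensorProduct.lid' R S N ((1 : S) ⊗ₜ[R] eR x) = f x
        rw [TensorProduct.lid'_apply_tmul, one_smul]
        rfl)

end BC

section Alg

/-- If no prime of `S` contracts to the kernel of `R → Ω` (`Ω` a field), then `S ⊗[R] Ω = 0`. -/
theorem subsingleton_tensor_field {R S Ω : Type u} [CommRing R] [CommRing S] [Field Ω]
    [Algebra R S] [Algebra R Ω]
    (hno : ∀ (Q : Ideal S) [Q.IsPrime],
      Q.comap (algebraMap R S) ≠ RingHom.ker (algebraMap R Ω)) :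
    Subsingleton (S ⊗[R] Ω) := by
  by_contra hns
  rw [not_subsingleton_iff_nontrivial] at hns
  obtain ⟨𝔪, h𝔪⟩ := Ideal.exists_maximal (S ⊗[R] Ω)
  have h𝔪p : 𝔪.IsPrime := h𝔪.isPrime
  refine hno (𝔪.comap (Algebra.TensorProduct.includeLeftRingHom : S →+* S ⊗[R] Ω)) ?_
  apply Ideal.ext
  intro r
  show (algebraMap R S r) ⊗ₜ[R] (1 : Ω) ∈ 𝔪 ↔ algebraMap R Ω r = 0
  have h1 : (algebraMap R S r) ⊗ₜ[R] (1 : Ω) = (1 : S) ⊗ₜ[R] (algebraMap R Ω r) := by
    rw [Algebra.algebraMap_eq_smul_one, Algebra.algebraMap_eq_smul_one, TensorProduct.smul_tmul]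
  rw [h1]
  constructor
  · intro hm
    by_contra hne
    apply h𝔪p.ne_top
    rw [Ideal.eq_top_iff_one]
    have h2 : ((1 : S) ⊗ₜ[R] (algebraMap R Ω r)⁻¹) * ((1 : S) ⊗ₜ[R] (algebraMap R Ω r)) =
        (1 : S ⊗[R] Ω) := by
      rw [Algebra.TensorProduct.tmul_mul_tmul, one_mul, inv_mul_cancel₀ hne]
      rfl
    rw [← h2]
    exact 𝔪.mul_mem_left _ hm
  · intro h0
    rw [h0, TensorProduct.tmul_zero]
    exact 𝔪.zero_mem

end Alg

section Small

variable {X : RSpace.{u}} {U : Set X.pt} {R : Type u} [CommRing R] (φ : Coef X U R) (M : OMod X)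

theorem H_subsingleton_of_isEmpty (n : ℕ) [IsEmpty (Chain U n)] : Subsingleton (H φ M n) := by
  have h1 : Subsingleton (Cochain φ M n) := by
    unfold Cochain
    infer_instance
  have h2 : Subsingleton (cocycles φ M n) := inferInstance
  unfold H
  infer_instance

theorem chain_isEmpty_of_isEmpty (n : ℕ) [IsEmpty U] : IsEmpty (Chain U n) :=
  ⟨fun σ => IsEmpty.false (σ 0)⟩

theorem chain_succ_isEmpty_of_subsingleton (n : ℕ) [Subsingleton U] : IsEmpty (Chain U (n + 1)) :=
  ⟨fun σ => by
    have h : σ 0 = σ 1 := Subsingleton.elim _ _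
    have h2 := σ.injective h
    exact absurd h2 (by
      intro e
      have := congrArg Fin.val e
      simp at this)⟩

end Small

section Pt

variable {Ω : Type u} [Field Ω]

instance subsingleton_pt (U : Set (RSpace.point Ω).pt) : Subsingleton U :=
  ⟨fun a b => Subtype.ext (Subsingleton.elim (α := PUnit) a.1 b.1)⟩

/-- the constant section over a subset of the one-point space -/
def sectPt (U : Set (RSpace.point Ω).pt) (r : Ω) : (RSpace.point Ω).sectRing U :=
  ⟨fun _ => r, fun _ _ _ => rfl⟩

theorem h0pt_bijective {R : Type u} [CommRing R] {U : Set (RSpace.point Ω).pt}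
    (φ : Coef (RSpace.point Ω) U R) (q₀ : U) :
    Function.Bijective (fun r : Ω => h0mk φ (sectPt U r)) := by
  constructor
  · intro r r' h
    have h1 := h0mk_injective φ h
    exact congrArg (fun t : (RSpace.point Ω).sectRing U => t.1 q₀) h1
  · intro t
    obtain ⟨s, rfl⟩ := h0mk_surjective φ t
    refine ⟨s.1 q₀, ?_⟩
    show h0mk φ (sectPt U (s.1 q₀)) = h0mk φ s
    congr 1
    apply Subtype.ext
    funext q
    have : q = q₀ := Subsingleton.elim _ _
    subst this
    rfl

theorem resH_zero_bijective_pt {R R' : Type u} [CommRing R] [CommRing R']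
    {U U' : Set (RSpace.point Ω).pt} {φ : Coef (RSpace.point Ω) U R}
    {φ' : Coef (RSpace.point Ω) U' R'} (s : Coef.Sub φ φ') (q₀ : U) (q₀' : U') :
    Function.Bijective (resH (RSpace.point Ω).str s 0) := by
  have h1 : (resH (RSpace.point Ω).str s 0) ∘ (fun r : Ω => h0mk φ (sectPt U r)) =
      fun r : Ω => h0mk φ' (sectPt U' r) := funext fun r => rfl
  have h2 : Function.Bijective
      ((resH (RSpace.point Ω).str s 0) ∘ (fun r : Ω => h0mk φ (sectPt U r))) := by
    rw [h1]
    exact h0pt_bijective φ' q₀'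
  exact (Function.Bijective.of_comp_iff _ (h0pt_bijective φ q₀)).1 h2

variable {X : RSpace.{u}}

/-- the morphism from the one-point space given by a point and a ring map -/
def ptHom (x : X.pt) (ψ : X.ring x →+* Ω) : Hom (RSpace.point Ω) X where
  fn _ := x
  mono _ _ _ := le_rfl
  app _ := ψ
  compat _ b := by
    show ψ b = ψ (X.res _ b)
    rw [X.res_self]

/-- A morphism from the one-point space with a field to a schematic finite space is schematic as
soon as the kernel of its ring map does not lift to points outside the closure of its point. -/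
theorem ptHom_isSchematic (hX : X.IsSchematic) (x : X.pt) (ψ : X.ring x →+* Ω)
    (hmax : ∀ (y y' : X.pt) (hy : y ≤ y') (hyx : y ≤ x) (Q : Ideal (X.ring y')) [Q.IsPrime],
      Q.comap (X.res hy) = (RingHom.ker ψ).comap (X.res hyx) → y' ≤ x) :
    (ptHom x ψ).IsSchematic := by
  refine ⟨⟨fun _ => (inferInstance : IsNoetherianRing Ω), fun _ _ _ => RingHom.Flat.id Ω⟩,
    hX.1, ?_⟩
  intro n u u' hu y y' hy
  constructor
  · by_cases hyx : y ≤ x
    · cases n with
      | zero =>
        apply isBCAlong_of_bijective_of_isEpi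
        · exact @Algebra.isEpi_of_surjective_algebraMap Ω Ω _ _
            ((RSpace.point Ω).res hu).toAlgebra (fun c => ⟨c, rfl⟩)
        · exact resH_zero_bijective_pt _ ⟨u, le_refl u, hyx⟩ ⟨u', le_refl u', hyx⟩
      | succ n =>
        haveI := chain_succ_isEmpty_of_subsingleton (U := (ptHom x ψ).wedge u y) n
        haveI := chain_succ_isEmpty_of_subsingleton (U := (ptHom x ψ).wedge u' y) n
        exact isBCAlong_of_subsingleton'' _ _ (H_subsingleton_of_isEmpty _ _ _)
          (H_subsingleton_of_isEmpty _ _ _)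
    · haveI : IsEmpty ((ptHom x ψ).wedge u y) := ⟨fun q => hyx q.2.2⟩
      haveI : IsEmpty ((ptHom x ψ).wedge u' y) := ⟨fun q => hyx q.2.2⟩
      haveI := chain_isEmpty_of_isEmpty (U := (ptHom x ψ).wedge u y) n
      haveI := chain_isEmpty_of_isEmpty (U := (ptHom x ψ).wedge u' y) n
      exact isBCAlong_of_subsingleton'' _ _ (H_subsingleton_of_isEmpty _ _ _)
        (H_subsingleton_of_isEmpty _ _ _)
  · by_cases hy'x : y' ≤ x
    · have hyx : y ≤ x := hy.trans hy'x
      cases n with
      | zero =>
        apply isBCAlong_of_bijective_of_isEpi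
        · exact isEpi_res hX hy
        · exact resH_zero_bijective_pt _ ⟨u, le_refl u, hyx⟩ ⟨u, le_refl u, hy'x⟩
      | succ n =>
        haveI := chain_succ_isEmpty_of_subsingleton (U := (ptHom x ψ).wedge u y) n
        haveI := chain_succ_isEmpty_of_subsingleton (U := (ptHom x ψ).wedge u y') n
        exact isBCAlong_of_subsingleton'' _ _ (H_subsingleton_of_isEmpty _ _ _)
          (H_subsingleton_of_isEmpty _ _ _)
    · haveI : IsEmpty ((ptHom x ψ).wedge u y') := ⟨fun q => hy'x q.2.2⟩
      haveI := chain_isEmpty_of_isEmpty (U := (ptHom x ψ).wedge u y') n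
      haveI hN := H_subsingleton_of_isEmpty
        (Coef.ofHom (ptHom x ψ) y' _ ((ptHom x ψ).wedge_subset_pre u y')) (RSpace.point Ω).str n
      by_cases hyx : y ≤ x
      · cases n with
        | zero =>
          apply isBCAlong_of_subsingleton
          letI : Algebra (X.ring y) (X.ring y') := (X.res hy).toAlgebra
          letI : Algebra (X.ring y) Ω := (ψ.comp (X.res hyx)).toAlgebra
          have hT : Subsingleton (X.ring y' ⊗[X.ring y] Ω) :=
            subsingleton_tensor_field (fun Q _ hQ => hy'x (hmax y y' hy hyx Q (by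
              rw [RingHom.comap_ker]
              exact hQ)))
          let ι : Ω →ₗ[X.ring y]
              H (Coef.ofHom (ptHom x ψ) y _ ((ptHom x ψ).wedge_subset_pre u y))
                (RSpace.point Ω).str 0 :=
            { toFun := fun r => h0mk _ (sectPt _ r)
              map_add' := fun r r' => by
                rw [← h0mk_add]
                rfl
              map_smul' := fun c r => by
                rw [RingHom.id_apply]
                symm
                apply smul_h0mk
                intro q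
                rfl }
          have hι : Function.Surjective ι :=
            (h0pt_bijective _ (⟨u, le_refl u, hyx⟩ : (ptHom x ψ).wedge u y)).2
          have hs := LinearMap.lTensor_surjective (X.ring y') hι
          exact hs.subsingleton
        | succ n =>
          haveI := chain_succ_isEmpty_of_subsingleton (U := (ptHom x ψ).wedge u y) n
          exact isBCAlong_of_subsingleton'' _ _ (H_subsingleton_of_isEmpty _ _ _) hN
      · haveI : IsEmpty ((ptHom x ψ).wedge u y) := ⟨fun q => hyx q.2.2⟩
        haveI := chain_isEmpty_of_isEmpty (U := (ptHom x ψ).wedge u y) n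
        exact isBCAlong_of_subsingleton'' _ _ (H_subsingleton_of_isEmpty _ _ _) hN

theorem hom_pt_ext (f f' : Hom (RSpace.point Ω) X)
    (h : (⟨f.fn PUnit.unit, f.app PUnit.unit⟩ : Σ x : X.pt, (X.ring x →+* Ω)) =
      ⟨f'.fn PUnit.unit, f'.app PUnit.unit⟩) : f = f' := by
  obtain ⟨fn, mono, app, compat⟩ := f
  obtain ⟨fn', mono', app', compat'⟩ := f'
  have hfn : fn = fn' := by
    funext q
    cases q
    exact congrArg Sigma.fst h
  subst hfn
  have happ : app = app' := by
    funext q
    cases q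
    exact eq_of_heq (Sigma.mk.inj h).2
  subst happ
  rfl

theorem geomPt_ext [IsAlgClosed Ω] (ξ ξ' : GeomPt X Ω)
    (h : (⟨ξ.base, ξ.toField⟩ : Σ x : X.pt, (X.ring x →+* Ω)) = ⟨ξ'.base, ξ'.toField⟩) :
    ξ = ξ' := by
  obtain ⟨f, hf⟩ := ξ
  obtain ⟨f', hf'⟩ := ξ'
  have : f = f' := hom_pt_ext f f' h
  subst this
  rfl

/-- The geometric point attached to a maximal pair and an embedding of its residue field. -/
theorem geomPt_existsUnique (hX : X.IsSchematic)
    (hff : ∀ s a b : X.pt, s ≤ a → s ≤ b → (X.up a ∩ X.up b).Nonempty →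
      Module.FaithfullyFlat (X.sectRing (X.up a ∩ X.up b)) ((q : ↥(X.up a ∩ X.up b)) → X.ring q.1))
    [IsAlgClosed Ω] (a : X.Pair) (ha : ∀ b : X.Pair, X.PairRel a b → b.1 ≤ a.1)
    (φ : a.κ →+* Ω) :
    ∃! ξ : GeomPt X Ω, (⟨ξ.base, ξ.toField⟩ : Σ x : X.pt, (X.ring x →+* Ω)) =
      ⟨a.1, φ.comp (algebraMap (X.ring a.1) a.κ)⟩ := by
  have hker : RingHom.ker (φ.comp (algebraMap (X.ring a.1) a.κ)) = a.2.asIdeal := by
    apply Ideal.ext
    intro r
    rw [RingHom.mem_ker, RingHom.comp_apply, map_eq_zero_iff φ φ.injective]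
    exact Ideal.algebraMap_residueField_eq_zero
  have hmax : ∀ (y y' : X.pt) (hy : y ≤ y') (hyx : y ≤ a.1) (Q : Ideal (X.ring y')) [Q.IsPrime],
      Q.comap (X.res hy) =
        (RingHom.ker (φ.comp (algebraMap (X.ring a.1) a.κ))).comap (X.res hyx) → y' ≤ a.1 := by
    intro y y' hy hyx Q hQp hQ
    rw [hker] at hQ
    exact ha ⟨y', ⟨Q, hQp⟩⟩ (pairRel_of_comap_eq hX hff hyx hy a.2 ⟨Q, hQp⟩
      (PrimeSpectrum.ext hQ.symm))
  refine ⟨⟨ptHom a.1 (φ.comp (algebraMap (X.ring a.1) a.κ)),
    ptHom_isSchematic hX a.1 _ hmax⟩, rfl, ?_⟩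
  intro ξ' hξ'
  exact geomPt_ext _ _ hξ'

/-- The kernel of the ring map of a geometric point does not lift to points strictly above its
point. -/
theorem comap_ne_ker_of_lt [IsAlgClosed Ω] (ξ : GeomPt X Ω) {x' : X.pt} (hx : ξ.base < x')
    (P : Ideal (X.ring x')) [P.IsPrime] :
    P.comap (X.res hx.le) ≠ RingHom.ker ξ.toField := by
  intro hP
  have hbc := (ξ.isSchematic.2.2 0 PUnit.unit PUnit.unit le_rfl ξ.base x' hx.le).2
  unfold IsBCAlong at hbc
  letI : Algebra (X.ring ξ.base) (X.ring x') := (X.res hx.le).toAlgebra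
  letI : Algebra (X.ring ξ.base) Ω := ξ.toField.toAlgebra
  letI : Module (X.ring ξ.base)
      (H (Coef.ofHom ξ.hom x' (ξ.hom.wedge PUnit.unit x') (ξ.hom.wedge_subset_pre PUnit.unit x'))
        (RSpace.point Ω).str 0) := Module.compHom _ (X.res hx.le)
  haveI : IsScalarTower (X.ring ξ.base) (X.ring x')
      (H (Coef.ofHom ξ.hom x' (ξ.hom.wedge PUnit.unit x') (ξ.hom.wedge_subset_pre PUnit.unit x'))
        (RSpace.point Ω).str 0) := IsScalarTower.of_algebraMap_smul fun _ _ => rfl
  -- the target vanishes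
  haveI : IsEmpty (ξ.hom.wedge PUnit.unit x') :=
    ⟨fun q => by
      obtain ⟨⟨⟩, hq⟩ := q
      exact absurd hq.2 (not_le_of_gt hx)⟩
  haveI := chain_isEmpty_of_isEmpty (U := ξ.hom.wedge PUnit.unit x') 0
  haveI hN := H_subsingleton_of_isEmpty
    (Coef.ofHom ξ.hom x' _ (ξ.hom.wedge_subset_pre PUnit.unit x')) (RSpace.point Ω).str 0
  have hsub : Subsingleton (X.ring x' ⊗[X.ring ξ.base]
      H (Coef.ofHom ξ.hom ξ.base (ξ.hom.wedge PUnit.unit ξ.base)
        (ξ.hom.wedge_subset_pre PUnit.unit ξ.base)) (RSpace.point Ω).str 0) :=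
    hbc.equiv.toEquiv.subsingleton
  -- the source is `Ω`
  have hmem : PUnit.unit ∈ ξ.hom.wedge PUnit.unit ξ.base := ⟨le_refl _, le_refl _⟩
  let ι : Ω →ₗ[X.ring ξ.base]
      H (Coef.ofHom ξ.hom ξ.base (ξ.hom.wedge PUnit.unit ξ.base)
        (ξ.hom.wedge_subset_pre PUnit.unit ξ.base)) (RSpace.point Ω).str 0 :=
    { toFun := fun r => h0mk _ (sectPt _ r)
      map_add' := fun r r' => by
        rw [← h0mk_add]
        rfl
      map_smul' := fun c r => by
        rw [RingHom.id_apply]
        symm
        apply smul_h0mk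
        intro q
        obtain ⟨⟨⟩, hq⟩ := q
        show ξ.toField c * r = ξ.toField (X.res (le_refl ξ.base) c) * r
        rw [X.res_self] }
  have hι : Function.Bijective ι := h0pt_bijective _ (⟨PUnit.unit, hmem⟩ : ξ.hom.wedge _ _)
  have hT : Subsingleton (X.ring x' ⊗[X.ring ξ.base] Ω) :=
    (TensorProduct.congr (LinearEquiv.refl (X.ring ξ.base) (X.ring x'))
      (LinearEquiv.ofBijective ι hι)).toEquiv.subsingleton
  -- but a prime over `P` and `⊥` exists
  have hbot : (⊥ : Ideal Ω).IsPrime := Ideal.isPrime_bot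
  obtain ⟨𝔭, h𝔭, -, -⟩ := exists_prime_tensor (X.ring ξ.base) (X.ring x') Ω P ⊥ (by
    rw [← RingHom.ker_eq_comap_bot]
    exact hP)
  apply h𝔭.ne_top
  rw [Ideal.eq_top_iff_one]
  rw [Subsingleton.elim (1 : X.ring x' ⊗[X.ring ξ.base] Ω) 0]
  exact 𝔭.zero_mem

end Pt

end Groth.Agent.Lib.helper10.SchFinGeomPt
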