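import Groth.Prelude.Def_SchFin2
import Mathlib.Algebra.Category.Ring.Epi

/-!
# Degree-zero cohomology of the rings of a finite ringed poset; restriction maps of a schematic
space are epimorphisms of rings
-/

set_option autoImplicit false
set_option linter.style.haveILetI false
set_option linter.unusedSectionVars false

universe u

namespace Groth.Agent.Lib.helper10.SchFinH0

open SchFin TensorProduct

section General

variable {X : RSpace.{u}} {U : Set X.pt} {R : Type u} [CommRing R] (φ : Coef X U R)

/-- The chain of length zero at a point. -/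
def chain0 (q : U) : Chain U 0 where
  toFun _ := q
  inj' a b _ := (Fin.subsingleton_one.elim a b : a = b)
  map_rel_iff' {a b} := by
    have : a = b := Fin.subsingleton_one.elim a b
    subst this
    simp

@[simp] theorem chain0_apply (q : U) (i : Fin 1) : chain0 q i = q := rfl

/-- The cocycle attached to a compatible family. -/
def cocycleOf (s : X.sectRing U) : cocycles φ X.str 0 :=
  ⟨fun σ => s.1 (σ (Fin.last 0)), by
    show diff φ X.str 0 (fun σ => s.1 (σ (Fin.last 0))) = 0
    funext σ
    show (∑ j : Fin 2, ((-1 : ℤ) ^ (j : ℕ)) •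
      Cochain.faceVal (φ := φ) (M := X.str) (fun σ => s.1 (σ (Fin.last 0))) σ j) = 0
    have hf : ∀ j : Fin 2,
        Cochain.faceVal (φ := φ) (M := X.str) (fun σ => s.1 (σ (Fin.last 0))) σ j =
          s.1 (σ (Fin.last 1)) := by
      intro j
      exact s.2 _ _ (Chain.face_last_le j σ)
    simp_rw [hf]
    rw [Fin.sum_univ_two]
    simp⟩

theorem cocycleOf_apply (s : X.sectRing U) (σ : Chain U 0) :
    (cocycleOf φ s).1 σ = s.1 (σ (Fin.last 0)) := rfl

/-- The class in degree-zero cohomology of a compatible family. -/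
def h0mk (s : X.sectRing U) : H φ X.str 0 := H.mk φ X.str 0 (cocycleOf φ s)

theorem smul_h0mk (r : R) (s : X.sectRing U) (s' : X.sectRing U)
    (h : ∀ q : U, s'.1 q = φ.map q r * s.1 q) : r • h0mk φ s = h0mk φ s' := by
  unfold h0mk
  rw [← map_smul]
  congr 1
  apply Subtype.ext
  funext σ
  show φ.map (σ (Fin.last 0)) r • s.1 (σ (Fin.last 0)) = s'.1 (σ (Fin.last 0))
  rw [h]
  rfl

end General

section Epi

variable {X : RSpace.{u}}

/-- In a schematic finite space the restriction maps are epimorphisms of rings (in the sense of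
`Algebra.IsEpi`). -/
theorem isEpi_res (hX : X.IsSchematic) {x y : X.pt} (h : x ≤ y) :
    letI := (X.res h).toAlgebra
    Algebra.IsEpi (X.ring x) (X.ring y) := by
  letI : Algebra (X.ring x) (X.ring y) := (X.res h).toAlgebra
  have hbc := (hX.2.2 0 x y h y y le_rfl).1
  unfold IsBCAlong at hbc
  letI : Module (X.ring x)
      (H (Coef.ofLE y ((Hom.id X).wedge y y) ((Hom.id X).wedge_subset_up y y)) X.str 0) :=
    Module.compHom _ (X.res h)
  haveI : IsScalarTower (X.ring x) (X.ring y)
      (H (Coef.ofLE y ((Hom.id X).wedge y y) ((Hom.id X).wedge_subset_up y y)) X.str 0) :=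
    IsScalarTower.of_algebraMap_smul fun _ _ => rfl
  have hUy : (Hom.id X).wedge x y ⊆ X.up y := fun q hq => hq.2
  have hU'y : (Hom.id X).wedge y y ⊆ X.up y := fun q hq => hq.2
  have hymem : y ∈ (Hom.id X).wedge x y := ⟨h, le_refl y⟩
  rw [Algebra.isEpi_iff_forall_one_tmul_eq]
  intro a
  -- the two elements with the same image
  have himg : ∀ b : X.ring y,
      resH X.str ((Hom.id X).subSrc h y) 0
        (h0mk (Coef.ofLE x ((Hom.id X).wedge x y) ((Hom.id X).wedge_subset_up x y))
          (X.resSect y _ hUy b)) =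
      h0mk (Coef.ofLE y ((Hom.id X).wedge y y) ((Hom.id X).wedge_subset_up y y))
        (X.resSect y _ hU'y b) := fun b => rfl
  have ht : (1 : X.ring y) ⊗ₜ[X.ring x]
        h0mk (Coef.ofLE x ((Hom.id X).wedge x y) ((Hom.id X).wedge_subset_up x y))
          (X.resSect y _ hUy a) =
      a ⊗ₜ[X.ring x]
        h0mk (Coef.ofLE x ((Hom.id X).wedge x y) ((Hom.id X).wedge_subset_up x y))
          (X.resSect y _ hUy 1) := by
    apply hbc.equiv.injective
    rw [IsBaseChange.equiv_tmul, IsBaseChange.equiv_tmul, one_smul]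
    show resH X.str ((Hom.id X).subSrc h y) 0 _ = a • resH X.str ((Hom.id X).subSrc h y) 0 _
    rw [himg, himg]
    symm
    apply smul_h0mk
    intro q
    show X.res _ a = X.res _ a * X.res _ 1
    rw [map_one, mul_one]
  -- evaluation at `y`
  let ev : H (Coef.ofLE x ((Hom.id X).wedge x y) ((Hom.id X).wedge_subset_up x y)) X.str 0
      →ₗ[X.ring x] X.ring y :=
    Submodule.liftQ _
      ({ toFun := fun c => c.1 (chain0 ⟨y, hymem⟩)
         map_add' := fun _ _ => rfl
         map_smul' := fun r c => rfl } :
        cocycles (Coef.ofLE x ((Hom.id X).wedge x y) ((Hom.id X).wedge_subset_up x y)) X.str 0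
          →ₗ[X.ring x] X.ring y)
      (by
        intro c hc
        have h0 : c.1 = 0 := hc
        show c.1 (chain0 ⟨y, hymem⟩) = 0
        rw [h0]
        rfl)
  have hev : ∀ b : X.ring y,
      ev (h0mk (Coef.ofLE x ((Hom.id X).wedge x y) ((Hom.id X).wedge_subset_up x y))
        (X.resSect y _ hUy b)) = b := by
    intro b
    show X.res _ b = b
    exact X.res_self y b
  have h2 := congrArg (LinearMap.lTensor (X.ring y) ev) ht
  rw [LinearMap.lTensor_tmul, LinearMap.lTensor_tmul, hev, hev] at h2
  exact h2

/-- In a schematic finite space the restriction maps are epimorphisms of commutative rings. -/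
theorem epi_res (hX : X.IsSchematic) {x y : X.pt} (h : x ≤ y) :
    CategoryTheory.Epi (CommRingCat.ofHom (X.res h)) := by
  letI : Algebra (X.ring x) (X.ring y) := (X.res h).toAlgebra
  have hepi : Algebra.IsEpi (X.ring x) (X.ring y) := isEpi_res hX h
  exact CommRingCat.epi_iff_epi.2 hepi

end Epi

end Groth.Agent.Lib.helper10.SchFinH0
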