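import Groth.Agent.Lib.helper10.SchFinH0
import Mathlib.AlgebraicGeometry.PullbackCarrier
import Mathlib.RingTheory.Spectrum.Prime.RingHom
import Mathlib.RingTheory.Flat.FaithfullyFlat.Algebra

/-!
# Pairs (point, prime) of a schematic finite space

* degree-zero cohomology of the rings is the ring of sections (`h0mk` is bijective);
* for `s ≤ x`, `s ≤ y` in a schematic finite space, `R_x ⊗[R_s] R_y` is the ring of sections over
  `U_x ∩ U_y`;
* consequences for the relation on pairs.
-/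

set_option autoImplicit false
set_option linter.style.haveILetI false
set_option linter.unusedSectionVars false

universe u

namespace Groth.Agent.Lib.helper10.SchFinPair

open SchFin TensorProduct CategoryTheory AlgebraicGeometry
open Groth.Agent.Lib.helper10.SchFinH0

/-- A pair of primes with the same contraction comes from a prime of the tensor product
(the surjectivity of `Spec (B ⊗[A] A') → Spec B ×_{Spec A} Spec A'`; proof as in helper5's
`StalkBC.exists_prime_tensor`). -/
theorem exists_prime_tensor (A B A' : Type u) [CommRing A] [CommRing B] [CommRing A']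
    [Algebra A B] [Algebra A A'] (q : Ideal B) [hq : q.IsPrime] (Q : Ideal A') [hQ : Q.IsPrime]
    (h : q.comap (algebraMap A B) = Q.comap (algebraMap A A')) :
    ∃ P : Ideal (B ⊗[A] A'), P.IsPrime ∧
      P.comap (Algebra.TensorProduct.includeLeftRingHom : B →+* B ⊗[A] A') = q ∧
      P.comap (Algebra.TensorProduct.includeRight : A' →ₐ[A] B ⊗[A] A').toRingHom = Q := by
  let xq : Spec (CommRingCat.of B) := ⟨q, hq⟩
  let xQ : Spec (CommRingCat.of A') := ⟨Q, hQ⟩
  obtain ⟨z, hz1, hz2⟩ := Scheme.Pullback.exists_preimage_pullback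
    (f := Spec.map (CommRingCat.ofHom (algebraMap A B)))
    (g := Spec.map (CommRingCat.ofHom (algebraMap A A'))) xq xQ (PrimeSpectrum.ext h)
  let w : Spec (CommRingCat.of (B ⊗[A] A')) := (pullbackSpecIso A B A').hom z
  have hzw : z = (pullbackSpecIso A B A').inv w := by
    change z = (pullbackSpecIso A B A').inv ((pullbackSpecIso A B A').hom z)
    rw [← Scheme.Hom.comp_apply, Iso.hom_inv_id]
    rfl
  refine ⟨w.asIdeal, w.isPrime, ?_, ?_⟩
  · have h1 : (Spec.map (CommRingCat.ofHom (Algebra.TensorProduct.includeLeftRingHom :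
        B →+* B ⊗[A] A'))) w = xq := by
      rw [← pullbackSpecIso_inv_fst, Scheme.Hom.comp_apply, ← hzw, hz1]
    exact congrArg PrimeSpectrum.asIdeal h1
  · have h1 : (Spec.map (CommRingCat.ofHom
        (Algebra.TensorProduct.includeRight : A' →ₐ[A] B ⊗[A] A').toRingHom)) w = xQ := by
      rw [AlgHom.toRingHom_eq_coe, ← pullbackSpecIso_inv_snd, Scheme.Hom.comp_apply, ← hzw, hz2]
    exact congrArg PrimeSpectrum.asIdeal h1

section General

variable {X : RSpace.{u}} {U : Set X.pt} {R : Type u} [CommRing R] (φ : Coef X U R)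

/-- The chain of length one attached to a strict inequality. -/
def chain1 (q q' : U) (h : q.1 < q'.1) : Chain U 1 :=
  OrderEmbedding.ofStrictMono ![q, q'] (by
    intro a b hab
    fin_cases a <;> fin_cases b
    · exact absurd hab (lt_irrefl _)
    · exact h
    · exact absurd hab (by decide)
    · exact absurd hab (lt_irrefl _))

theorem chain_eq_chain0 (τ : Chain U 0) : τ = chain0 (τ (Fin.last 0)) := by
  apply RelEmbedding.ext
  intro i
  have : i = Fin.last 0 := Fin.subsingleton_one.elim _ _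
  subst this
  rfl

theorem cochain_heq (c : Cochain φ X.str 0) (τ τ' : Chain U 0) (h : τ = τ') :
    HEq (c τ) (c τ') := by
  subst h
  rfl

theorem res_heq (X : RSpace.{u}) {a a' b : X.pt} (h : a ≤ b) (h' : a' ≤ b) (m : X.ring a)
    (m' : X.ring a') (ha : a = a') (hm : HEq m m') : X.res h m = X.res h' m' := by
  subst ha
  cases hm
  rfl

/-- A degree-zero cocycle is a compatible family. -/
theorem res_cocycle (c : cocycles φ X.str 0) (q q' : U) (h : q.1 ≤ q'.1) :
    X.res h (c.1 (chain0 q)) = c.1 (chain0 q') := by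
  rcases h.eq_or_lt with he | hlt
  · have : q = q' := Subtype.ext he
    subst this
    exact X.res_self _ _
  · have hd : diff φ X.str 0 c.1 (chain1 q q' hlt) = 0 := by
      have h0 : diff φ X.str 0 c.1 = 0 := c.2
      rw [h0]
      rfl
    have hd' : (∑ j : Fin 2, ((-1 : ℤ) ^ (j : ℕ)) •
        Cochain.faceVal (φ := φ) (M := X.str) c.1 (chain1 q q' hlt) j) = 0 := hd
    rw [Fin.sum_univ_two] at hd'
    have e0 : (chain1 q q' hlt).face 0 = chain0 q' := by
      apply RelEmbedding.ext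
      intro i
      have : i = 0 := Fin.subsingleton_one.elim _ _
      subst this
      rfl
    have e1 : (chain1 q q' hlt).face 1 = chain0 q := by
      apply RelEmbedding.ext
      intro i
      have : i = 0 := Fin.subsingleton_one.elim _ _
      subst this
      rfl
    have f0 : Cochain.faceVal (φ := φ) (M := X.str) c.1 (chain1 q q' hlt) 0 =
        c.1 (chain0 q') := by
      show X.res _ (c.1 ((chain1 q q' hlt).face 0)) = c.1 (chain0 q')
      exact (res_heq X _ (le_refl q'.1) _ (c.1 (chain0 q')) rfl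
        (cochain_heq φ c.1 _ _ e0)).trans (X.res_self _ _)
    have f1 : Cochain.faceVal (φ := φ) (M := X.str) c.1 (chain1 q q' hlt) 1 =
        X.res h (c.1 (chain0 q)) := by
      show X.res _ (c.1 ((chain1 q q' hlt).face 1)) = X.res h (c.1 (chain0 q))
      exact res_heq X _ h _ (c.1 (chain0 q)) rfl (cochain_heq φ c.1 _ _ e1)
    rw [f0, f1] at hd'
    simp only [Fin.val_zero, pow_zero, one_smul, Fin.val_one, pow_one, neg_smul] at hd'
    exact (add_neg_eq_zero.1 hd').symm

theorem h0mk_injective : Function.Injective (h0mk φ) := by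
  intro s s' h
  have h1 : (cocycleOf φ s).1 - (cocycleOf φ s').1 = 0 := by
    have h2 : Submodule.Quotient.mk (cocycleOf φ s) = Submodule.Quotient.mk (cocycleOf φ s') := h
    have h3 := (Submodule.Quotient.eq _).1 h2
    exact h3
  apply Subtype.ext
  funext q
  have h4 := congrFun (sub_eq_zero.1 h1) (chain0 q)
  exact h4

theorem h0mk_surjective : Function.Surjective (h0mk φ) := by
  intro t
  obtain ⟨c, rfl⟩ := Submodule.mkQ_surjective _ t
  refine ⟨⟨fun q => c.1 (chain0 q), fun q q' h => res_cocycle φ c q q' h⟩, ?_⟩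
  unfold h0mk H.mk
  congr 1
  apply Subtype.ext
  funext σ
  show c.1 (chain0 (σ (Fin.last 0))) = c.1 σ
  have hh : HEq (c.1 σ) (c.1 (chain0 (σ (Fin.last 0)))) :=
    cochain_heq φ c.1 _ _ (chain_eq_chain0 σ)
  exact (@eq_of_heq (X.ring (σ (Fin.last 0)).1) _ _ hh).symm

theorem h0mk_bijective : Function.Bijective (h0mk φ) := ⟨h0mk_injective φ, h0mk_surjective φ⟩

theorem h0mk_add (s s' : X.sectRing U) : h0mk φ (s + s') = h0mk φ s + h0mk φ s' := by
  unfold h0mk
  rw [← map_add]
  rfl

end General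

section Tensor

variable {X : RSpace.{u}}

theorem h0mk_zero {U : Set X.pt} {R : Type u} [CommRing R] (φ : Coef X U R) :
    h0mk φ (0 : X.sectRing U) = 0 := by
  have h := h0mk_add φ 0 0
  rw [add_zero] at h
  exact left_eq_add.1 h

/-- In a schematic finite space, for `s ≤ x` and `s ≤ y`, primes of the rings of `x` and `y` with the
same contraction to the ring of `s` come from a prime of the ring of sections over `U_x ∩ U_y`
(which is `R_x ⊗[R_s] R_y`). -/
theorem exists_prime_sect (hX : X.IsSchematic) {s x y : X.pt} (hx : s ≤ x) (hy : s ≤ y)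
    (P : Ideal (X.ring x)) [P.IsPrime] (Q : Ideal (X.ring y)) [Q.IsPrime]
    (hPQ : P.comap (X.res hx) = Q.comap (X.res hy)) :
    ∃ 𝔮 : Ideal (X.sectRing ((Hom.id X).wedge x y)), 𝔮.IsPrime ∧
      𝔮.comap (X.resSect x _ ((Hom.id X).wedge_subset_up x y)) = P ∧
      𝔮.comap (X.resSect y ((Hom.id X).wedge x y) (fun q hq => hq.2)) = Q := by
  letI algx : Algebra (X.ring s) (X.ring x) := (X.res hx).toAlgebra
  letI algy : Algebra (X.ring s) (X.ring y) := (X.res hy).toAlgebra
  have hbc := (hX.2.2 0 s x hx y y le_rfl).1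
  unfold IsBCAlong at hbc
  letI : Module (X.ring s)
      (H (Coef.ofLE x ((Hom.id X).wedge x y) ((Hom.id X).wedge_subset_up x y)) X.str 0) :=
    Module.compHom _ (X.res hx)
  haveI : IsScalarTower (X.ring s) (X.ring x)
      (H (Coef.ofLE x ((Hom.id X).wedge x y) ((Hom.id X).wedge_subset_up x y)) X.str 0) :=
    IsScalarTower.of_algebraMap_smul fun _ _ => rfl
  have hWx : (Hom.id X).wedge x y ⊆ X.up x := (Hom.id X).wedge_subset_up x y
  have hWy : (Hom.id X).wedge x y ⊆ X.up y := fun q hq => hq.2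
  have hWs : (Hom.id X).wedge x y ⊆ X.up s := fun _ hq => hx.trans hq.1
  have hW₀y : (Hom.id X).wedge s y ⊆ X.up y := fun q hq => hq.2
  have hymem : y ∈ (Hom.id X).wedge s y := ⟨hy, le_refl y⟩
  -- the identification of `R_y` with the degree-zero cohomology over `U_y`
  let e₀ : X.ring y →ₗ[X.ring s]
      H (Coef.ofLE s ((Hom.id X).wedge s y) ((Hom.id X).wedge_subset_up s y)) X.str 0 :=
    { toFun := fun b => h0mk _ (X.resSect y _ hW₀y b)
      map_add' := fun b b' => by rw [map_add, h0mk_add]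
      map_smul' := fun r b => by
        rw [RingHom.id_apply]
        symm
        apply smul_h0mk
        intro q
        show X.res _ (X.res hy r * b) = X.res _ r * X.res _ b
        rw [map_mul, X.res_comp] }
  have he₀ : Function.Bijective e₀ := by
    constructor
    · intro b b' h
      have h1 := h0mk_injective _ h
      have h2 := congrArg (fun t : X.sectRing ((Hom.id X).wedge s y) => t.1 ⟨y, hymem⟩) h1
      have h3 : X.res (le_refl y) b = X.res (le_refl y) b' := h2
      rwa [X.res_self, X.res_self] at h3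
    · intro t
      obtain ⟨t', rfl⟩ := h0mk_surjective _ t
      refine ⟨t'.1 ⟨y, hymem⟩, ?_⟩
      show h0mk _ (X.resSect y _ hW₀y (t'.1 ⟨y, hymem⟩)) = h0mk _ t'
      congr 1
      apply Subtype.ext
      funext q
      exact t'.2 ⟨y, hymem⟩ q q.2.2
  -- the comparison map
  letI algS : Algebra (X.ring s) (X.sectRing ((Hom.id X).wedge x y)) :=
    (X.resSect s _ hWs).toAlgebra
  let f : X.ring x →ₐ[X.ring s] X.sectRing ((Hom.id X).wedge x y) :=
    { X.resSect x _ hWx with
      commutes' := fun r => by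
        apply Subtype.ext
        funext q
        exact X.res_comp _ _ r }
  let g : X.ring y →ₐ[X.ring s] X.sectRing ((Hom.id X).wedge x y) :=
    { X.resSect y _ hWy with
      commutes' := fun r => by
        apply Subtype.ext
        funext q
        exact X.res_comp _ _ r }
  let μ : X.ring x ⊗[X.ring s] X.ring y →ₐ[X.ring s] X.sectRing ((Hom.id X).wedge x y) :=
    Algebra.TensorProduct.productMap f g
  let E := TensorProduct.congr (LinearEquiv.refl (X.ring s) (X.ring x))
    (LinearEquiv.ofBijective e₀ he₀)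
  have hcomp : ∀ t : X.ring x ⊗[X.ring s] X.ring y,
      h0mk (Coef.ofLE x ((Hom.id X).wedge x y) ((Hom.id X).wedge_subset_up x y)) (μ t) =
        hbc.equiv (E t) := by
    intro t
    induction t using TensorProduct.induction_on with
    | zero => rw [map_zero, map_zero, map_zero, h0mk_zero]
    | add t t' ht ht' => rw [map_add, map_add, map_add, h0mk_add, ht, ht']
    | tmul a b =>
      rw [TensorProduct.congr_tmul, IsBaseChange.equiv_tmul]
      show h0mk _ (X.resSect x _ hWx a * X.resSect y _ hWy b) =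
        a • resH X.str ((Hom.id X).subSrc hx y) 0 (h0mk _ (X.resSect y _ hW₀y b))
      have himg : resH X.str ((Hom.id X).subSrc hx y) 0
          (h0mk (Coef.ofLE s ((Hom.id X).wedge s y) ((Hom.id X).wedge_subset_up s y))
            (X.resSect y _ hW₀y b)) =
          h0mk (Coef.ofLE x ((Hom.id X).wedge x y) ((Hom.id X).wedge_subset_up x y))
            (X.resSect y _ hWy b) := rfl
      rw [himg]
      symm
      apply smul_h0mk
      intro q
      rfl
  have hμ : Function.Bijective μ := by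
    have h1 : Function.Bijective
        ((h0mk (Coef.ofLE x ((Hom.id X).wedge x y) ((Hom.id X).wedge_subset_up x y))) ∘ μ) := by
      have : ((h0mk (Coef.ofLE x ((Hom.id X).wedge x y) ((Hom.id X).wedge_subset_up x y))) ∘ μ) =
          (hbc.equiv ∘ E) := funext hcomp
      rw [this]
      exact hbc.equiv.bijective.comp E.bijective
    exact (Function.Bijective.of_comp_iff' (h0mk_bijective _) μ).1 h1
  obtain ⟨𝔭, h𝔭, h𝔭P, h𝔭Q⟩ := exists_prime_tensor (X.ring s) (X.ring x) (X.ring y) P Q hPQ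
  let eμ : X.ring x ⊗[X.ring s] X.ring y ≃+* X.sectRing ((Hom.id X).wedge x y) :=
    RingEquiv.ofBijective μ.toRingHom hμ
  refine ⟨𝔭.comap eμ.symm.toRingHom, Ideal.comap_isPrime _ _, ?_, ?_⟩
  · rw [Ideal.comap_comap, ← h𝔭P]
    congr 1
    ext a
    show eμ.symm (X.resSect x _ hWx a) = a ⊗ₜ[X.ring s] (1 : X.ring y)
    rw [RingEquiv.symm_apply_eq]
    show X.resSect x _ hWx a = μ (a ⊗ₜ[X.ring s] (1 : X.ring y))
    rw [Algebra.TensorProduct.productMap_apply_tmul, map_one, mul_one]
    rfl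
  · rw [Ideal.comap_comap, ← h𝔭Q]
    congr 1
    ext b
    show eμ.symm (X.resSect y _ hWy b) = (1 : X.ring x) ⊗ₜ[X.ring s] b
    rw [RingEquiv.symm_apply_eq]
    show X.resSect y _ hWy b = μ ((1 : X.ring x) ⊗ₜ[X.ring s] b)
    rw [Algebra.TensorProduct.productMap_apply_tmul, map_one, one_mul]
    rfl

/-- In a schematic finite space (with the faithful flatness hypothesis), pairs above a common point
with the same contraction are related. -/
theorem pairRel_of_comap_eq (hX : X.IsSchematic)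
    (hff : ∀ s a b : X.pt, s ≤ a → s ≤ b → (X.up a ∩ X.up b).Nonempty →
      Module.FaithfullyFlat (X.sectRing (X.up a ∩ X.up b)) ((q : ↥(X.up a ∩ X.up b)) → X.ring q.1))
    {s x y : X.pt} (hx : s ≤ x) (hy : s ≤ y) (P : PrimeSpectrum (X.ring x))
    (Q : PrimeSpectrum (X.ring y))
    (hPQ : PrimeSpectrum.comap (X.res hx) P = PrimeSpectrum.comap (X.res hy) Q) :
    X.PairRel ⟨x, P⟩ ⟨y, Q⟩ := by
  obtain ⟨𝔮, h𝔮, h𝔮P, h𝔮Q⟩ := exists_prime_sect hX hx hy P.asIdeal Q.asIdeal
    (congrArg PrimeSpectrum.asIdeal hPQ)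
  have hW : (Hom.id X).wedge x y = X.up x ∩ X.up y := rfl
  have hne : (X.up x ∩ X.up y).Nonempty := by
    by_contra hem
    rw [Set.not_nonempty_iff_eq_empty] at hem
    apply h𝔮.ne_top
    rw [Ideal.eq_top_iff_one]
    have h10 : (1 : X.sectRing ((Hom.id X).wedge x y)) = 0 := by
      apply Subtype.ext
      funext q
      have hq : q.1 ∈ X.up x ∩ X.up y := q.2
      rw [hem] at hq
      exact absurd hq (Set.notMem_empty _)
    rw [h10]
    exact 𝔮.zero_mem
  have hf := hff s x y hx hy hne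
  obtain ⟨𝔯, h𝔯⟩ := PrimeSpectrum.comap_surjective_of_faithfullyFlat
    (A := X.sectRing (X.up x ∩ X.up y)) (B := ((q : ↥(X.up x ∩ X.up y)) → X.ring q.1)) ⟨𝔮, h𝔮⟩
  obtain ⟨z, r, hr⟩ := PrimeSpectrum.exists_comap_evalRingHom_eq 𝔯
  have h𝔮mem : ∀ t : X.sectRing (X.up x ∩ X.up y), t ∈ 𝔮 ↔ t.1 z ∈ r.asIdeal := by
    intro t
    have h1 : t ∈ 𝔮 ↔ algebraMap (X.sectRing (X.up x ∩ X.up y))
        ((q : ↥(X.up x ∩ X.up y)) → X.ring q.1) t ∈ 𝔯.asIdeal := by
      have := congrArg PrimeSpectrum.asIdeal h𝔯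
      rw [← show (PrimeSpectrum.comap (algebraMap (X.sectRing (X.up x ∩ X.up y))
        ((q : ↥(X.up x ∩ X.up y)) → X.ring q.1)) 𝔯).asIdeal = 𝔮 from this]
      rfl
    rw [h1, ← hr]
    rfl
  refine ⟨z.1, z.2.1, z.2.2, r, ?_, ?_⟩
  · apply PrimeSpectrum.ext
    apply Ideal.ext
    intro a
    show X.res _ a ∈ r.asIdeal ↔ a ∈ P.asIdeal
    rw [← h𝔮P]
    exact (h𝔮mem (X.resSect x ((Hom.id X).wedge x y) ((Hom.id X).wedge_subset_up x y) a)).symm
  · apply PrimeSpectrum.ext
    apply Ideal.ext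
    intro b
    show X.res _ b ∈ r.asIdeal ↔ b ∈ Q.asIdeal
    rw [← h𝔮Q]
    exact (h𝔮mem (X.resSect y ((Hom.id X).wedge x y) (fun q hq => hq.2) b)).symm

theorem comap_res_trans {p q w : X.pt} (h : p ≤ q) (h' : q ≤ w) (r : PrimeSpectrum (X.ring w)) :
    PrimeSpectrum.comap (X.res h) (PrimeSpectrum.comap (X.res h') r) =
      PrimeSpectrum.comap (X.res (h.trans h')) r := by
  apply PrimeSpectrum.ext
  apply Ideal.ext
  intro a
  show X.res h' (X.res h a) ∈ r.asIdeal ↔ X.res (h.trans h') a ∈ r.asIdeal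
  rw [X.res_comp]

theorem comap_res_self (p : X.pt) (r : PrimeSpectrum (X.ring p)) :
    PrimeSpectrum.comap (X.res (le_refl p)) r = r := by
  apply PrimeSpectrum.ext
  apply Ideal.ext
  intro a
  show X.res (le_refl p) a ∈ r.asIdeal ↔ a ∈ r.asIdeal
  rw [X.res_self]

theorem pairRel_refl (a : X.Pair) : X.PairRel a a :=
  ⟨a.1, le_refl _, le_refl _, a.2, comap_res_self _ _, comap_res_self _ _⟩

theorem pairRel_symm {a b : X.Pair} (h : X.PairRel a b) : X.PairRel b a := by
  obtain ⟨z, hx, hy, r, h1, h2⟩ := h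
  exact ⟨z, hy, hx, r, h2, h1⟩

theorem pairRel_trans (hX : X.IsSchematic)
    (hff : ∀ s a b : X.pt, s ≤ a → s ≤ b → (X.up a ∩ X.up b).Nonempty →
      Module.FaithfullyFlat (X.sectRing (X.up a ∩ X.up b)) ((q : ↥(X.up a ∩ X.up b)) → X.ring q.1))
    {a b c : X.Pair} (hab : X.PairRel a b) (hbc : X.PairRel b c) : X.PairRel a c := by
  obtain ⟨z₁, ha₁, hb₁, r₁, h1a, h1b⟩ := hab
  obtain ⟨z₂, hb₂, hc₂, r₂, h2b, h2c⟩ := hbc
  obtain ⟨w, hw₁, hw₂, ρ, hρ₁, hρ₂⟩ :=
    pairRel_of_comap_eq hX hff hb₁ hb₂ r₁ r₂ (h1b.trans h2b.symm)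
  have hw₁' : z₁ ≤ w := hw₁
  have hw₂' : z₂ ≤ w := hw₂
  have hρ₁' : PrimeSpectrum.comap (X.res hw₁') ρ = r₁ := hρ₁
  have hρ₂' : PrimeSpectrum.comap (X.res hw₂') ρ = r₂ := hρ₂
  refine ⟨w, ha₁.trans hw₁', hc₂.trans hw₂', ρ, ?_, ?_⟩
  · rw [← comap_res_trans ha₁ hw₁' ρ, hρ₁', h1a]
  · rw [← comap_res_trans hc₂ hw₂' ρ, hρ₂', h2c]

theorem pairRel_equivalence (hX : X.IsSchematic)
    (hff : ∀ s a b : X.pt, s ≤ a → s ≤ b → (X.up a ∩ X.up b).Nonempty →
      Module.FaithfullyFlat (X.sectRing (X.up a ∩ X.up b)) ((q : ↥(X.up a ∩ X.up b)) → X.ring q.1)) :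
    Equivalence X.PairRel :=
  ⟨pairRel_refl, pairRel_symm, pairRel_trans hX hff⟩

/-- Every class of pairs has exactly one representative at a point above the points of all
representatives. -/
theorem existsUnique_max_rep (hX : X.IsSchematic)
    (hff : ∀ s a b : X.pt, s ≤ a → s ≤ b → (X.up a ∩ X.up b).Nonempty →
      Module.FaithfullyFlat (X.sectRing (X.up a ∩ X.up b)) ((q : ↥(X.up a ∩ X.up b)) → X.ring q.1))
    (c : X.SchPt) :
    ∃! a : X.Pair, Quot.mk X.PairRel a = c ∧
      ∀ b : X.Pair, Quot.mk X.PairRel b = c → b.1 ≤ a.1 := by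
  have heq := pairRel_equivalence hX hff
  obtain ⟨a₀, rfl⟩ := Quot.exists_rep c
  have hiff : ∀ b, Quot.mk X.PairRel b = Quot.mk X.PairRel a₀ ↔ X.PairRel b a₀ := fun b => by
    rw [Quot.eq, heq.eqvGen_iff]
  simp only [hiff]
  let S : Set X.pt := {p | ∃ b : X.Pair, X.PairRel b a₀ ∧ b.1 = p}
  have hSne : S.Nonempty := ⟨a₀.1, a₀, pairRel_refl a₀, rfl⟩
  obtain ⟨m, hmS, hmax⟩ := S.toFinite.exists_maximal hSne
  obtain ⟨a, ha, rfl⟩ := hmS
  -- any related pair at a point above a member of the class lies in the class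
  have hup : ∀ (b : X.Pair), X.PairRel b a₀ → ∀ (z : X.pt) (hz : b.1 ≤ z)
      (r : PrimeSpectrum (X.ring z)), PrimeSpectrum.comap (X.res hz) r = b.2 →
      X.PairRel ⟨z, r⟩ a₀ := fun b hb z hz r hr =>
    heq.trans ⟨z, le_refl z, hz, r, comap_res_self _ _, hr⟩ hb
  have key : ∀ b, X.PairRel b a₀ → b.1 ≤ a.1 := by
    intro b hb
    obtain ⟨z, hbz, haz, r, h1, h2⟩ := heq.trans hb (heq.symm ha)
    have hzr : X.PairRel ⟨z, r⟩ a₀ := hup a ha z haz r h2
    have hza : z ≤ a.1 := hmax ⟨⟨z, r⟩, hzr, rfl⟩ haz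
    exact hbz.trans hza
  refine ⟨a, ⟨ha, key⟩, ?_⟩
  rintro ⟨x', P'⟩ ⟨ha', key'⟩
  obtain ⟨x, P⟩ := a
  have hxx : x' = x := le_antisymm (key _ ha') (key' _ ha)
  subst hxx
  obtain ⟨z, h1z, h2z, r, h1, h2⟩ := heq.trans ha' (heq.symm ha)
  have hzr : X.PairRel ⟨z, r⟩ a₀ := hup _ ha z h2z r h2
  have hzx : z = x' := le_antisymm (key _ hzr) h1z
  subst hzx
  have e1 : r = P' := (comap_res_self _ r).symm.trans h1
  have e2 : r = P := (comap_res_self _ r).symm.trans h2
  rw [← e1, ← e2]

end Tensor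

end Groth.Agent.Lib.helper10.SchFinPair
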