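import Groth.Agent.Lib.helper10.SchFinFEt
import Mathlib.RingTheory.Kaehler.Basic
import Mathlib.RingTheory.Unramified.Basic

set_option autoImplicit false
set_option linter.style.haveILetI false

universe u

namespace Groth.Agent.Lib.helper10.SchFinTensor

open SchFin TensorProduct CategoryTheory Groth.Agent.Lib.helper10.SchFinBC Groth.Agent.Lib.helper10.SchFinFEt

/-- Tensor products of base changes are base changes. -/
theorem isBaseChange_tensor {R S : Type*} [CommRing R] [CommRing S] [Algebra R S]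
    {M N M' N' T : Type*} [AddCommGroup M] [AddCommGroup N] [AddCommGroup M'] [AddCommGroup N']
    [AddCommGroup T]
    [Module R M] [Module R N] [Module R M'] [Module R N'] [Module S M'] [Module S N']
    [IsScalarTower R S M'] [IsScalarTower R S N'] [Module S T] {_ : Module R T}
    {_ : IsScalarTower R S T}
    {hM : M →ₗ[R] M'} {hN : N →ₗ[R] N'}
    (bM : IsBaseChange S hM) (bN : IsBaseChange S hN) (eT : (M' ⊗[S] N') ≃ₗ[S] T)
    (F : (M ⊗[R] N) →ₗ[R] T) (hF : ∀ m n, F (m ⊗ₜ n) = eT (hM m ⊗ₜ hN n)) :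
    IsBaseChange S F := by
  let e : S ⊗[R] (M ⊗[R] N) ≃ₗ[S] T :=
    (AlgebraTensorModule.distribBaseChange R S M N) ≪≫ₗ TensorProduct.congr bM.equiv bN.equiv ≪≫ₗ eT
  refine IsBaseChange.of_equiv e (fun x => ?_)
  induction x using TensorProduct.induction_on with
  | zero => simp
  | tmul m n =>
      rw [hF]
      simp [e, IsBaseChange.equiv_tmul]
  | add x y hx hy => rw [tmul_add, map_add, map_add, hx, hy]

variable {R S : Type u} [CommRing R] [CommRing S] (g : R →+* S)

theorem isBCAlong_tensor {A A' B B' : Type u} [CommRing A] [CommRing A'] [CommRing B]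
    [CommRing B'] [Algebra R A] [Algebra S A'] [Algebra R B] [Algebra S B']
    (fA : A →ₛₗ[g] A') (hA : IsBCAlong g fA) (fB : B →ₛₗ[g] B') (hB : IsBCAlong g fB)
    (F : (A ⊗[R] B) →ₛₗ[g] (A' ⊗[S] B')) (hF : ∀ a b, F (a ⊗ₜ b) = fA a ⊗ₜ fB b) :
    IsBCAlong g F := by
  unfold IsBCAlong at hA hB ⊢
  letI : Algebra R S := g.toAlgebra
  letI : Module R A' := Module.compHom A' g
  haveI : IsScalarTower R S A' := IsScalarTower.of_algebraMap_smul fun _ _ => rfl
  letI : Module R B' := Module.compHom B' g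
  haveI : IsScalarTower R S B' := IsScalarTower.of_algebraMap_smul fun _ _ => rfl
  letI : Module R (A' ⊗[S] B') := Module.compHom _ g
  haveI : IsScalarTower R S (A' ⊗[S] B') := IsScalarTower.of_algebraMap_smul fun _ _ => rfl
  exact isBaseChange_tensor hA hB (LinearEquiv.refl S (A' ⊗[S] B')) _ hF


theorem ringHom_ext_tensor {R A B C : Type*} [CommRing R] [CommRing A] [CommRing B] [Semiring C]
    [Algebra R A] [Algebra R B] (φ ψ : A ⊗[R] B →+* C)
    (h : ∀ a b, φ (a ⊗ₜ b) = ψ (a ⊗ₜ b)) : φ = ψ := by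
  apply RingHom.ext
  intro t
  induction t using TensorProduct.induction_on with
  | zero => rw [map_zero, map_zero]
  | tmul a b => exact h a b
  | add x y hx hy => rw [map_add, map_add, hx, hy]

/-- The diagonal ideal of an unramified algebra of finite type is generated by an idempotent. -/
theorem exists_idempotent_kaehlerIdeal (R C : Type*) [CommRing R] [CommRing C] [Algebra R C]
    [Algebra.EssFiniteType R C] [Algebra.FormallyUnramified R C] :
    ∃ e : C ⊗[R] C, IsIdempotentElem e ∧ KaehlerDifferential.ideal R C = Ideal.span {e} :=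
  (Ideal.isIdempotentElem_iff_of_fg _ (KaehlerDifferential.ideal_fg R C)).mp <|
    (Ideal.cotangent_subsingleton_iff _).mp <| inferInstanceAs <| Subsingleton Ω[C⁄R]

/-- The ideal of `A ⊗[R] B` defining `A ⊗[C] B`, for `C` unramified of finite type over `R`, is
generated by an idempotent. -/
theorem exists_idem_delta {R C A B : Type*} [CommRing R] [CommRing C] [CommRing A] [CommRing B]
    [Algebra R C] [Algebra R A] [Algebra R B] [Algebra.EssFiniteType R C]
    [Algebra.FormallyUnramified R C] (f : C →ₐ[R] A) (g : C →ₐ[R] B) :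
    ∃ ε : A ⊗[R] B, IsIdempotentElem ε ∧ Ideal.span {ε} =
      Ideal.span (Set.range fun c : C => (1 : A) ⊗ₜ[R] g c - f c ⊗ₜ[R] (1 : B)) := by
  obtain ⟨e, he, hsp⟩ := exists_idempotent_kaehlerIdeal R C
  let Φ : C ⊗[R] C →ₐ[R] A ⊗[R] B := Algebra.TensorProduct.map f g
  refine ⟨Φ e, he.map Φ, ?_⟩
  have h1 : Ideal.span {Φ e} = Ideal.map Φ (Ideal.span {e}) := by
    rw [Ideal.map_span, Set.image_singleton]
  rw [h1, ← hsp, ← KaehlerDifferential.span_range_eq_ideal, Ideal.map_span, ← Set.range_comp]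
  congr 1
  ext x
  constructor
  · rintro ⟨c, rfl⟩
    refine ⟨c, ?_⟩
    simp [Φ]
  · rintro ⟨c, rfl⟩
    refine ⟨c, ?_⟩
    simp [Φ]

section TensorAlg

variable {X : RSpace.{u}} (A B : Alg X)

/-- The restriction maps of the tensor product algebra. -/
noncomputable def tensorRes {p q : X.pt} (h : p ≤ q) :
    (A.carrier p ⊗[X.ring p] B.carrier p) →+* (A.carrier q ⊗[X.ring q] B.carrier q) :=
  letI : Algebra (X.ring p) (A.carrier q ⊗[X.ring q] B.carrier q) :=
    ((algebraMap (X.ring q) (A.carrier q ⊗[X.ring q] B.carrier q)).comp (X.res h)).toAlgebra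
  let fa : A.carrier p →ₐ[X.ring p] (A.carrier q ⊗[X.ring q] B.carrier q) :=
    { toRingHom := (Algebra.TensorProduct.includeLeftRingHom).comp (A.res h)
      commutes' := fun r => by
        show (A.res h (algebraMap _ _ r)) ⊗ₜ[X.ring q] (1 : B.carrier q) = _
        rw [A.res_algebraMap]
        rfl }
  let fb : B.carrier p →ₐ[X.ring p] (A.carrier q ⊗[X.ring q] B.carrier q) :=
    { toRingHom := (Algebra.TensorProduct.includeRight (R := X.ring q) (A := A.carrier q)
        (B := B.carrier q)).toRingHom.comp (B.res h)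
      commutes' := fun r => by
        show (1 : A.carrier q) ⊗ₜ[X.ring q] (B.res h (algebraMap _ _ r)) = _
        rw [B.res_algebraMap]
        show (1 : A.carrier q) ⊗ₜ[X.ring q] (algebraMap (X.ring q) (B.carrier q) (X.res h r)) =
          (algebraMap (X.ring q) (A.carrier q) (X.res h r)) ⊗ₜ[X.ring q] (1 : B.carrier q)
        rw [Algebra.algebraMap_eq_smul_one, Algebra.algebraMap_eq_smul_one, smul_tmul] }
  (Algebra.TensorProduct.lift fa fb (fun _ _ => Commute.all _ _)).toRingHom

theorem tensorRes_tmul {p q : X.pt} (h : p ≤ q) (a : A.carrier p) (b : B.carrier p) :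
    tensorRes A B h (a ⊗ₜ b) = A.res h a ⊗ₜ B.res h b := by
  letI : Algebra (X.ring p) (A.carrier q ⊗[X.ring q] B.carrier q) :=
    ((algebraMap (X.ring q) (A.carrier q ⊗[X.ring q] B.carrier q)).comp (X.res h)).toAlgebra
  unfold tensorRes
  rw [AlgHom.toRingHom_eq_coe, RingHom.coe_coe, Algebra.TensorProduct.lift_tmul]
  show (A.res h a ⊗ₜ[X.ring q] (1 : B.carrier q)) * ((1 : A.carrier q) ⊗ₜ[X.ring q] B.res h b) = _
  rw [Algebra.TensorProduct.tmul_mul_tmul, mul_one, one_mul]

/-- The tensor product of two algebras over the structure sheaf. -/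
noncomputable def tensorAlg : Alg X where
  carrier p := A.carrier p ⊗[X.ring p] B.carrier p
  res {p q} h := tensorRes A B h
  res_algebraMap {p q} h r := by
    show tensorRes A B h ((algebraMap (X.ring p) (A.carrier p) r) ⊗ₜ (1 : B.carrier p)) =
      (algebraMap (X.ring q) (A.carrier q) (X.res h r)) ⊗ₜ (1 : B.carrier q)
    rw [tensorRes_tmul, A.res_algebraMap, map_one]
  res_self p t := by
    induction t using TensorProduct.induction_on with
    | zero => rw [map_zero]
    | tmul a b => rw [tensorRes_tmul, A.res_self, B.res_self]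
    | add x y hx hy => rw [map_add, hx, hy]
  res_comp {p q s} h h' t := by
    induction t using TensorProduct.induction_on with
    | zero => rw [map_zero, map_zero, map_zero]
    | tmul a b => rw [tensorRes_tmul, tensorRes_tmul, tensorRes_tmul, A.res_comp, B.res_comp]
    | add x y hx hy => rw [map_add, map_add, map_add, hx, hy]

theorem tensorAlg_isQcoh (hA : A.IsQcoh) (hB : B.IsQcoh) : (tensorAlg A B).IsQcoh := by
  intro p q h
  have hA' : IsBCAlong (X.res h) (semi (X.res h) (A.res h) (A.res_algebraMap h)) := hA p q h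
  have hB' : IsBCAlong (X.res h) (semi (X.res h) (B.res h) (B.res_algebraMap h)) := hB p q h
  show IsBCAlong (X.res h)
    (semi (X.res h) ((tensorAlg A B).res h) ((tensorAlg A B).res_algebraMap h))
  exact isBCAlong_tensor (X.res h) _ hA' _ hB' _ (fun a b => tensorRes_tmul A B h a b)

theorem tensorAlg_isEtCover (hA : A.IsEtCover) (hB : B.IsEtCover) : (tensorAlg A B).IsEtCover := by
  refine ⟨tensorAlg_isQcoh A B hA.1 hB.1, fun p => ?_⟩
  haveI : Module.Finite (X.ring p) (A.carrier p) := (hA.2 p).1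
  haveI : Algebra.Etale (X.ring p) (A.carrier p) := (hA.2 p).2
  haveI : Module.Finite (X.ring p) (B.carrier p) := (hB.2 p).1
  haveI : Algebra.Etale (X.ring p) (B.carrier p) := (hB.2 p).2
  refine ⟨(inferInstance : Module.Finite (X.ring p) (A.carrier p ⊗[X.ring p] B.carrier p)), ?_⟩
  haveI : Algebra.Etale (A.carrier p) (A.carrier p ⊗[X.ring p] B.carrier p) := inferInstance
  exact Algebra.Etale.comp (X.ring p) (A.carrier p) (A.carrier p ⊗[X.ring p] B.carrier p)

/-- The inclusion of the first factor. -/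
noncomputable def tensorInl : A ⟶ tensorAlg A B where
  app p := Algebra.TensorProduct.includeLeft
  compat {p q} h a := by
    show tensorRes A B h (a ⊗ₜ (1 : B.carrier p)) = (A.res h a) ⊗ₜ (1 : B.carrier q)
    rw [tensorRes_tmul, map_one]

/-- The inclusion of the second factor. -/
noncomputable def tensorInr : B ⟶ tensorAlg A B where
  app p := Algebra.TensorProduct.includeRight
  compat {p q} h b := by
    show tensorRes A B h ((1 : A.carrier p) ⊗ₜ b) = (1 : A.carrier q) ⊗ₜ (B.res h b)
    rw [tensorRes_tmul, map_one]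

variable {A B}

/-- The morphism out of the tensor product induced by two morphisms. -/
noncomputable def tensorLift {T : Alg X} (u : A ⟶ T) (v : B ⟶ T) : tensorAlg A B ⟶ T where
  app p := Algebra.TensorProduct.lift (u.app p) (v.app p) (fun _ _ => Commute.all _ _)
  compat {p q} h t := by
    have key : ((T.res h).comp (Algebra.TensorProduct.lift (u.app p) (v.app p)
        (fun _ _ => Commute.all _ _)).toRingHom) =
        ((Algebra.TensorProduct.lift (u.app q) (v.app q)
          (fun _ _ => Commute.all _ _)).toRingHom).comp (tensorRes A B h) := by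
      apply ringHom_ext_tensor
      intro a b
      show T.res h (Algebra.TensorProduct.lift (u.app p) (v.app p)
          (fun _ _ => Commute.all _ _) (a ⊗ₜ b)) =
        Algebra.TensorProduct.lift (u.app q) (v.app q) (fun _ _ => Commute.all _ _)
          (tensorRes A B h (a ⊗ₜ b))
      rw [tensorRes_tmul, Algebra.TensorProduct.lift_tmul, Algebra.TensorProduct.lift_tmul,
        map_mul, u.compat, v.compat]
    exact RingHom.congr_fun key t

/-- The ring map underlying `tensorLift` at a point, with source the tensor product. -/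
noncomputable def tensorLiftRing {T : Alg X} (u : A ⟶ T) (v : B ⟶ T) (p : X.pt) :
    (A.carrier p ⊗[X.ring p] B.carrier p) →+* T.carrier p :=
  (Algebra.TensorProduct.lift (u.app p) (v.app p) (fun _ _ => Commute.all _ _)).toRingHom

theorem tensorLift_app_eq {T : Alg X} (u : A ⟶ T) (v : B ⟶ T) (p : X.pt)
    (t : A.carrier p ⊗[X.ring p] B.carrier p) :
    (tensorLift u v).app p t = tensorLiftRing u v p t := rfl

theorem tensorLiftRing_tmul {T : Alg X} (u : A ⟶ T) (v : B ⟶ T) (p : X.pt) (a : A.carrier p)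
    (b : B.carrier p) : tensorLiftRing u v p (a ⊗ₜ b) = u.app p a * v.app p b :=
  Algebra.TensorProduct.lift_tmul (u.app p) (v.app p) (fun _ _ => Commute.all _ _) a b

theorem tensorLift_tmul {T : Alg X} (u : A ⟶ T) (v : B ⟶ T) (p : X.pt) (a : A.carrier p)
    (b : B.carrier p) : (tensorLift u v).app p (a ⊗ₜ b) = u.app p a * v.app p b :=
  Algebra.TensorProduct.lift_tmul (u.app p) (v.app p) (fun _ _ => Commute.all _ _) a b

end TensorAlg


/-- The defining ideal of `A' ⊗[C'] B'` inside `A' ⊗[S] B'` is generated by the images of the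
elements coming from a ring of which `C'` is a base change. -/
theorem span_delta_eq {R S : Type u} [CommRing R] [CommRing S] (ρ : R →+* S) {C C' A' B' : Type u}
    [CommRing C] [CommRing C'] [CommRing A'] [CommRing B'] [Algebra R C] [Algebra S C']
    [Algebra S A'] [Algebra S B'] (ρC : C →+* C')
    (hρC : ∀ r, ρC (algebraMap R C r) = algebraMap S C' (ρ r)) (bC : IsBCAlong ρ (semi ρ ρC hρC))
    (f' : C' →ₐ[S] A') (g' : C' →ₐ[S] B') :
    Ideal.span (Set.range fun c : C => (1 : A') ⊗ₜ[S] g' (ρC c) - f' (ρC c) ⊗ₜ[S] (1 : B')) =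
      Ideal.span (Set.range fun c' : C' => (1 : A') ⊗ₜ[S] g' c' - f' c' ⊗ₜ[S] (1 : B')) := by
  apply le_antisymm
  · apply Ideal.span_mono
    rintro _ ⟨c, rfl⟩
    exact ⟨ρC c, rfl⟩
  · rw [Ideal.span_le]
    rintro _ ⟨c', rfl⟩
    set J := Ideal.span (Set.range fun c : C => (1 : A') ⊗ₜ[S] g' (ρC c) - f' (ρC c) ⊗ₜ[S] (1 : B'))
      with hJ
    show (1 : A') ⊗ₜ[S] g' c' - f' c' ⊗ₜ[S] (1 : B') ∈ J
    unfold IsBCAlong at bC
    letI : Algebra R S := ρ.toAlgebra
    letI : Module R C' := Module.compHom C' ρ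
    haveI : IsScalarTower R S C' := IsScalarTower.of_algebraMap_smul fun _ _ => rfl
    refine IsBaseChange.inductionOn bC c'
      (fun c' => (1 : A') ⊗ₜ[S] g' c' - f' c' ⊗ₜ[S] (1 : B') ∈ J) ?_ ?_ ?_ ?_
    · simp
    · intro c
      exact Ideal.subset_span ⟨c, rfl⟩
    · intro s n hn
      have : (1 : A') ⊗ₜ[S] g' (s • n) - f' (s • n) ⊗ₜ[S] (1 : B') =
          s • ((1 : A') ⊗ₜ[S] g' n - f' n ⊗ₜ[S] (1 : B')) := by
        have e1 : (1 : A') ⊗ₜ[S] (s • g' n) = s • ((1 : A') ⊗ₜ[S] g' n) := tmul_smul s 1 (g' n)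
        have e2 : (s • f' n) ⊗ₜ[S] (1 : B') = s • (f' n ⊗ₜ[S] (1 : B')) :=
          (smul_tmul' s (f' n) 1).symm
        rw [map_smul, map_smul, e1, e2, smul_sub]
      rw [this]
      exact Submodule.smul_of_tower_mem J s hn
    · intro n n' hn hn'
      have : (1 : A') ⊗ₜ[S] g' (n + n') - f' (n + n') ⊗ₜ[S] (1 : B') =
          ((1 : A') ⊗ₜ[S] g' n - f' n ⊗ₜ[S] (1 : B')) +
            ((1 : A') ⊗ₜ[S] g' n' - f' n' ⊗ₜ[S] (1 : B')) := by
        rw [map_add, map_add, tmul_add, add_tmul]
        abel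
      rw [this]
      exact J.add_mem hn hn'

section Pushout

variable {X : RSpace.{u}} {C A B : FEt X} (f : C ⟶ A) (g : C ⟶ B)

/-- the defining ideal of the pushout at a point -/
def pushIdeal (p : X.pt) : Ideal (A.obj.carrier p ⊗[X.ring p] B.obj.carrier p) :=
  Ideal.span (Set.range fun c : C.obj.carrier p =>
    (1 : A.obj.carrier p) ⊗ₜ[X.ring p] g.hom.app p c - f.hom.app p c ⊗ₜ[X.ring p] (1 : B.obj.carrier p))

theorem exists_pushIdem (p : X.pt) :
    ∃ ε : A.obj.carrier p ⊗[X.ring p] B.obj.carrier p, IsIdempotentElem ε ∧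
      Ideal.span {ε} = pushIdeal f g p := by
  haveI : Algebra.Etale (X.ring p) (C.obj.carrier p) := (C.property.2 p).2
  exact exists_idem_delta (f.hom.app p) (g.hom.app p)

/-- the idempotent generating the defining ideal of the pushout at a point -/
noncomputable def pushIdem (p : X.pt) : A.obj.carrier p ⊗[X.ring p] B.obj.carrier p :=
  (exists_pushIdem f g p).choose

theorem pushIdem_idem (p : X.pt) : IsIdempotentElem (pushIdem f g p) :=
  (exists_pushIdem f g p).choose_spec.1

theorem span_pushIdem (p : X.pt) : Ideal.span {pushIdem f g p} = pushIdeal f g p :=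
  (exists_pushIdem f g p).choose_spec.2

theorem pushIdem_res {p q : X.pt} (h : p ≤ q) :
    tensorRes A.obj B.obj h (pushIdem f g p) = pushIdem f g q := by
  apply ProjIdem.idem_unique ((pushIdem_idem f g p).map (tensorRes A.obj B.obj h))
    (pushIdem_idem f g q)
  rw [span_pushIdem f g q]
  have h1 : Ideal.span {tensorRes A.obj B.obj h (pushIdem f g p)} =
      Ideal.map (tensorRes A.obj B.obj h) (Ideal.span {pushIdem f g p}) := by
    rw [Ideal.map_span, Set.image_singleton]
  rw [h1, span_pushIdem f g p]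
  unfold pushIdeal
  rw [Ideal.map_span, ← Set.range_comp]
  have hC : IsBCAlong (X.res h) (semi (X.res h) (C.obj.res h) (C.obj.res_algebraMap h)) :=
    C.property.1 p q h
  rw [← span_delta_eq (X.res h) (C.obj.res h) (C.obj.res_algebraMap h) hC (f.hom.app q)
    (g.hom.app q)]
  congr 1
  ext x
  constructor
  · rintro ⟨c, rfl⟩
    refine ⟨c, ?_⟩
    show _ = tensorRes A.obj B.obj h ((1 : A.obj.carrier p) ⊗ₜ[X.ring p] g.hom.app p c -
      f.hom.app p c ⊗ₜ[X.ring p] (1 : B.obj.carrier p))
    rw [map_sub, tensorRes_tmul, tensorRes_tmul, map_one, map_one, g.hom.compat, f.hom.compat]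
  · rintro ⟨c, rfl⟩
    refine ⟨c, ?_⟩
    show tensorRes A.obj B.obj h ((1 : A.obj.carrier p) ⊗ₜ[X.ring p] g.hom.app p c -
      f.hom.app p c ⊗ₜ[X.ring p] (1 : B.obj.carrier p)) = _
    rw [map_sub, tensorRes_tmul, tensorRes_tmul, map_one, map_one, g.hom.compat, f.hom.compat]

/-- The pushout of étale covers. -/
noncomputable def pushObj : FEt X :=
  ⟨quotAlg (tensorAlg A.obj B.obj) (pushIdem f g) (fun h => pushIdem_res f g h),
    quotAlg_isEtCover _ _ _ (tensorAlg_isEtCover A.obj B.obj A.property B.property)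
      (pushIdem_idem f g)⟩

noncomputable def pushInl : A ⟶ pushObj f g :=
  ObjectProperty.homMk (tensorInl A.obj B.obj ≫
    quotπ (tensorAlg A.obj B.obj) (pushIdem f g) (fun h => pushIdem_res f g h))

noncomputable def pushInr : B ⟶ pushObj f g :=
  ObjectProperty.homMk (tensorInr A.obj B.obj ≫
    quotπ (tensorAlg A.obj B.obj) (pushIdem f g) (fun h => pushIdem_res f g h))

theorem push_condition : f ≫ pushInl f g = g ≫ pushInr f g := by
  apply ObjectProperty.hom_ext
  apply Alg.hom_ext
  intro p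
  apply AlgHom.ext
  intro c
  show (Ideal.Quotient.mk (Ideal.span {pushIdem f g p})
      (f.hom.app p c ⊗ₜ[X.ring p] (1 : B.obj.carrier p)) :
      (A.obj.carrier p ⊗[X.ring p] B.obj.carrier p) ⧸ Ideal.span {pushIdem f g p}) =
    Ideal.Quotient.mk (Ideal.span {pushIdem f g p})
      ((1 : A.obj.carrier p) ⊗ₜ[X.ring p] g.hom.app p c)
  symm
  rw [Ideal.Quotient.eq, span_pushIdem]
  exact Ideal.subset_span ⟨c, rfl⟩

theorem tensorLift_kills {T : FEt X} (u : A ⟶ T) (v : B ⟶ T) (huv : f ≫ u = g ≫ v) (p : X.pt) :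
    (tensorLift u.hom v.hom).app p (pushIdem f g p) = 0 := by
  have hmem : pushIdem f g p ∈ pushIdeal f g p := by
    rw [← span_pushIdem]; exact Ideal.mem_span_singleton_self _
  have hle : pushIdeal f g p ≤ RingHom.ker ((tensorLift u.hom v.hom).app p) := by
    unfold pushIdeal
    rw [Ideal.span_le]
    rintro _ ⟨c, rfl⟩
    show tensorLiftRing u.hom v.hom p ((1 : A.obj.carrier p) ⊗ₜ[X.ring p] g.hom.app p c -
      f.hom.app p c ⊗ₜ[X.ring p] (1 : B.obj.carrier p)) = 0
    rw [map_sub, tensorLiftRing_tmul, tensorLiftRing_tmul, map_one, map_one, one_mul, mul_one,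
      sub_eq_zero]
    have := congrArg (fun k : C ⟶ T => k.hom.app p c) huv
    exact this.symm
  exact hle hmem

/-- The pushout cocone is a colimit. -/
noncomputable def pushIsColimit :
    Limits.IsColimit (Limits.PushoutCocone.mk (pushInl f g) (pushInr f g) (push_condition f g)) := by
  refine Limits.PushoutCocone.IsColimit.mk (push_condition f g)
    (fun s => ObjectProperty.homMk (quotLift (tensorAlg A.obj B.obj) (pushIdem f g)
      (fun h => pushIdem_res f g h) (tensorLift s.inl.hom s.inr.hom)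
      (tensorLift_kills f g s.inl s.inr s.condition))) ?_ ?_ ?_
  · intro s
    apply ObjectProperty.hom_ext
    apply Alg.hom_ext
    intro p
    apply AlgHom.ext
    intro a
    show (tensorLift s.inl.hom s.inr.hom).app p (a ⊗ₜ[X.ring p] (1 : B.obj.carrier p)) = _
    rw [tensorLift_tmul, map_one, mul_one]
  · intro s
    apply ObjectProperty.hom_ext
    apply Alg.hom_ext
    intro p
    apply AlgHom.ext
    intro b
    show (tensorLift s.inl.hom s.inr.hom).app p ((1 : A.obj.carrier p) ⊗ₜ[X.ring p] b) = _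
    rw [tensorLift_tmul, map_one, one_mul]
  · intro s m hm1 hm2
    apply ObjectProperty.hom_ext
    apply Alg.hom_ext
    intro p
    apply AlgHom.ext
    intro t
    obtain ⟨t, rfl⟩ := Ideal.Quotient.mk_surjective t
    have key : ((m.hom.app p : (pushObj f g).obj.carrier p →+* s.pt.obj.carrier p)).comp
        (Ideal.Quotient.mk (Ideal.span {pushIdem f g p})) =
        tensorLiftRing s.inl.hom s.inr.hom p := by
      apply ringHom_ext_tensor
      intro a b
      show m.hom.app p (Ideal.Quotient.mk _ (a ⊗ₜ[X.ring p] b)) =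
        tensorLiftRing s.inl.hom s.inr.hom p (a ⊗ₜ[X.ring p] b)
      rw [tensorLiftRing_tmul]
      have e1 : s.inl.hom.app p a = m.hom.app p (Ideal.Quotient.mk _
          (a ⊗ₜ[X.ring p] (1 : B.obj.carrier p))) := by
        rw [← hm1]; rfl
      have e2 : s.inr.hom.app p b = m.hom.app p (Ideal.Quotient.mk _
          ((1 : A.obj.carrier p) ⊗ₜ[X.ring p] b)) := by
        rw [← hm2]; rfl
      have e3 : (Ideal.Quotient.mk (Ideal.span {pushIdem f g p}) (a ⊗ₜ[X.ring p] b) :
          (A.obj.carrier p ⊗[X.ring p] B.obj.carrier p) ⧸ Ideal.span {pushIdem f g p}) =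
          Ideal.Quotient.mk (Ideal.span {pushIdem f g p}) (a ⊗ₜ[X.ring p] (1 : B.obj.carrier p)) *
          Ideal.Quotient.mk (Ideal.span {pushIdem f g p}) ((1 : A.obj.carrier p) ⊗ₜ[X.ring p] b) := by
        rw [← map_mul, Algebra.TensorProduct.tmul_mul_tmul, mul_one, one_mul]
      rw [e1, e2, ← map_mul]
      exact congrArg (m.hom.app p) e3
    exact RingHom.congr_fun key t

theorem hasPushouts (X : RSpace.{u}) : Limits.HasPushouts (FEt X) := by
  haveI : ∀ {C A B : FEt X} {f : C ⟶ A} {g : C ⟶ B}, Limits.HasColimit (Limits.span f g) :=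
    fun {C A B f g} => ⟨⟨⟨_, pushIsColimit f g⟩⟩⟩
  exact Limits.hasPushouts_of_hasColimit_span (FEt X)

/-- The structure algebra is initial. -/
theorem hasInitial (X : RSpace.{u}) : Limits.HasInitial (FEt X) := by
  let I : FEt X := ⟨Alg.str X, str_isEtCover X⟩
  have hI : ∀ A : FEt X, Nonempty (Unique (I ⟶ A)) := by
    intro A
    refine ⟨⟨⟨ObjectProperty.homMk
      { app := fun p => Algebra.ofId (X.ring p) (A.obj.carrier p)
        compat := fun {p q} h r => (A.obj.res_algebraMap h r) }⟩, ?_⟩⟩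
    intro m
    apply ObjectProperty.hom_ext
    apply Alg.hom_ext
    intro p
    apply AlgHom.ext
    intro r
    have := (m.hom.app p).commutes r
    exact this
  haveI : ∀ A : FEt X, Unique (I ⟶ A) := fun A => (hI A).some
  exact Limits.hasInitial_of_unique I

end Pushout

end Groth.Agent.Lib.helper10.SchFinTensor
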