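import Mathlib
import Groth.Prelude.Def_W4c6secantcecoversSchSt

set_option autoImplicit false
universe u v

namespace Groth.Agent.Lib.helper10.SchSt

open W4c6secantcecovers TensorProduct

variable (R : Type u) [CommRing R] (r : ℕ)

/-- a wedge of more than `r` vectors of `R^r` vanishes. -/
lemma ιMulti_eq_zero_of_lt {n : ℕ} (hn : r < n) (v : Fin n → (Fin r → R)) :
    ExteriorAlgebra.ιMulti R n v = 0 := by
  classical
  have hv : v = fun i => ∑ j : Fin r, (v i j) • (Pi.single j (1 : R) : Fin r → R) := by
    funext i
    conv_lhs => rw [← Finset.univ_sum_single (v i)]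
    apply Finset.sum_congr rfl
    intro j _
    funext l
    simp [Pi.single_apply]
  rw [hv]
  have := (ExteriorAlgebra.ιMulti R n (M := Fin r → R)).toMultilinearMap.map_sum
    (fun (i : Fin n) (j : Fin r) => (v i j) • (Pi.single j (1 : R) : Fin r → R))
  rw [AlternatingMap.coe_multilinearMap] at this
  rw [this]
  apply Finset.sum_eq_zero
  intro σ _
  rw [← AlternatingMap.coe_multilinearMap, MultilinearMap.map_smul_univ,
    AlternatingMap.coe_multilinearMap]
  have hσ : ¬ Function.Injective σ := by
    intro hinj
    have := Fintype.card_le_of_injective σ hinj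
    simp at this
    omega
  have : ExteriorAlgebra.ιMulti R n (fun i => (Pi.single (σ i) (1 : R) : Fin r → R)) = 0 := by
    apply ExteriorAlgebra.ιMulti_eq_zero_of_not_inj
    intro hinj
    apply hσ
    intro i i' h
    exact hinj (by
      show (Pi.single (σ i) (1 : R) : Fin r → R) = Pi.single (σ i') (1 : R)
      rw [h])
  rw [this, smul_zero]

/-- graded Leibniz rule for the contraction against a wedge of `p` vectors. -/
lemma contr_ιMulti_mul (j : Fin r) (p : ℕ) (e : Fin p → (Fin r → R)) (η : SSLam R r) :
    ssContr R r j (ExteriorAlgebra.ιMulti R p e * η) =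
      ssContr R r j (ExteriorAlgebra.ιMulti R p e) * η +
        (-1 : R) ^ p • (ExteriorAlgebra.ιMulti R p e * ssContr R r j η) := by
  induction p with
  | zero =>
    rw [ExteriorAlgebra.ιMulti_zero_apply, one_mul, one_mul, pow_zero, one_smul]
    have : ssContr R r j (1 : SSLam R r) = 0 := CliffordAlgebra.contractLeft_one _ _
    rw [this, zero_mul, zero_add]
  | succ p ih =>
    rw [ExteriorAlgebra.ιMulti_succ_apply, mul_assoc]
    have h1 : ∀ (x : Fin r → R) (b : SSLam R r),
        ssContr R r j (ExteriorAlgebra.ι R x * b) =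
          x j • b - ExteriorAlgebra.ι R x * ssContr R r j b := by
      intro x b
      exact CliffordAlgebra.contractLeft_ι_mul _ _ _
    rw [h1, ih, h1, pow_succ]
    simp only [mul_add, sub_mul, smul_mul_assoc, mul_smul_comm, mul_assoc, neg_smul, one_smul,
      mul_neg, mul_one, neg_mul, smul_neg]
    abel

end Groth.Agent.Lib.helper10.SchSt
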