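import Groth.Agent.Lib.helper10.SchStA

set_option autoImplicit false
universe u v

namespace Groth.Agent.Lib.helper10.SchSt

open W4c6secantcecovers TensorProduct

variable (R : Type u) [CommRing R] (r : ℕ) (N : Type v) [AddCommGroup N] [Module R N]

lemma pairAux_tmul (β : N →ₗ[R] N →ₗ[R] R) (b b' : SSB R r) (n m : N) :
    ssPairAux R r N β ((b ⊗ₜ[R] n) ⊗ₜ[R] (b' ⊗ₜ[R] m)) = β n m • (b * b') := by
  unfold ssPairAux
  simp only [LinearMap.coe_comp, LinearEquiv.coe_coe, Function.comp_apply,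
    TensorProduct.tensorTensorTensorComm_tmul, TensorProduct.map_tmul, LinearMap.mul'_apply,
    TensorProduct.lift.tmul, TensorProduct.rid_tmul]

lemma pair_tmul (β : N →ₗ[R] N →ₗ[R] R) (k : ℕ) (b b' : SSB R r) (n m : N) :
    ssPair R r N β k (b ⊗ₜ[R] n) (b' ⊗ₜ[R] m) = (-1 : R) ^ (k.choose 2) • (β n m • (b * b')) := by
  unfold ssPair
  rw [LinearMap.smul_apply, LinearMap.smul_apply, TensorProduct.curry_apply, pairAux_tmul]

lemma delta_tmul (φ : Fin r → (N →ₗ[R] N)) (ω : SSLam R r) (s : MvPolynomial (Fin r) R) (n : N) :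
    ssDelta R r N φ ((ω ⊗ₜ[R] s) ⊗ₜ[R] n) =
      ∑ j : Fin r, (((ssContr R r j ω) ⊗ₜ[R] (MvPolynomial.X j * s)) ⊗ₜ[R] n +
        (-1 : R) • (((ssContr R r j ω) ⊗ₜ[R] s) ⊗ₜ[R] (φ j n))) := by
  unfold ssDelta
  rw [LinearMap.sum_apply]
  apply Finset.sum_congr rfl
  intro j _
  rw [LinearMap.add_apply, LinearMap.smul_apply]
  unfold ssDKoszul ssDAct
  simp only [TensorProduct.map_tmul, LinearMap.mulLeft_apply, LinearMap.id_apply]

theorem main (φ : Fin r → (N →ₗ[R] N)) (β : N →ₗ[R] N →ₗ[R] R)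
    (hβ : ∀ (j : Fin r) (n m : N), β (φ j n) m = β n (φ j m))
    (k : ℕ) (hk : k < r)
    (e : Fin (k + 1) → (Fin r → R)) (f : Fin (r - k) → (Fin r → R))
    (s t : MvPolynomial (Fin r) R) (n m : N) :
    ssPair R r N β k
        (ssDelta R r N φ ((ExteriorAlgebra.ιMulti R (k + 1) e ⊗ₜ[R] s) ⊗ₜ[R] n))
        ((ExteriorAlgebra.ιMulti R (r - k) f ⊗ₜ[R] t) ⊗ₜ[R] m) =
      ssPair R r N β (k + 1)
        ((ExteriorAlgebra.ιMulti R (k + 1) e ⊗ₜ[R] s) ⊗ₜ[R] n)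
        (ssDelta R r N φ ((ExteriorAlgebra.ιMulti R (r - k) f ⊗ₜ[R] t) ⊗ₜ[R] m)) := by
  obtain ⟨ω, hω⟩ : ∃ ω, ω = ExteriorAlgebra.ιMulti R (k + 1) e := ⟨_, rfl⟩
  obtain ⟨η, hη⟩ : ∃ η, η = ExteriorAlgebra.ιMulti R (r - k) f := ⟨_, rfl⟩
  have hωη : ω * η = 0 := by
    rw [hω, hη, ExteriorAlgebra.ιMulti_mul_ιMulti]
    exact ιMulti_eq_zero_of_lt R r (by omega) _
  have key : ∀ j : Fin r, ssContr R r j ω * η = (-1 : R) ^ k • (ω * ssContr R r j η) := by
    intro j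
    have h1 := contr_ιMulti_mul R r j (k + 1) e η
    rw [← hω, hωη, map_zero] at h1
    have h2 : ssContr R r j ω * η = -((-1 : R) ^ (k + 1) • (ω * ssContr R r j η)) :=
      eq_neg_of_add_eq_zero_left h1.symm
    rw [h2, pow_succ]
    simp
  rw [← hω, ← hη, delta_tmul, delta_tmul, map_sum, LinearMap.sum_apply, map_sum]
  apply Finset.sum_congr rfl
  intro j _
  rw [map_add, LinearMap.add_apply, map_add, map_smul, LinearMap.smul_apply, map_smul,
    pair_tmul, pair_tmul, pair_tmul, pair_tmul]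
  rw [Algebra.TensorProduct.tmul_mul_tmul, Algebra.TensorProduct.tmul_mul_tmul,
    Algebra.TensorProduct.tmul_mul_tmul, Algebra.TensorProduct.tmul_mul_tmul, key j, hβ]
  have hc : (k + 1).choose 2 = k + k.choose 2 := by
    rw [Nat.choose_succ_succ, Nat.choose_one_right]
  rw [hc, pow_add]
  have hp : MvPolynomial.X j * s * t = s * (MvPolynomial.X j * t) := by ring
  rw [hp]
  simp only [← TensorProduct.smul_tmul']
  module

end Groth.Agent.Lib.helper10.SchSt
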