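import Groth.Agent.Lib.helper10.CompSerLoc

set_option maxHeartbeats 400000
set_option autoImplicit false
universe u

namespace Groth.Agent.Lib.helper10.SemiLocLen

variable (A : Type u) (B : Type u) [CommRing A] [CommRing B] [Algebra A B]

noncomputable def rhs (M : Type u) [AddCommGroup M] [Module B M] : ℕ∞ :=
  ∑ᶠ n : MaximalSpectrum B,
    (Module.finrank (A ⧸ n.asIdeal.comap (algebraMap A B)) (B ⧸ n.asIdeal) : ℕ∞) *
      Module.length (Localization.AtPrime n.asIdeal) (LocalizedModule n.asIdeal.primeCompl M)

section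
variable {N M Q : Type u} [AddCommGroup N] [Module B N] [AddCommGroup M] [Module B M]
  [AddCommGroup Q] [Module B Q]

lemma rhs_add [Finite (MaximalSpectrum B)] (f : N →ₗ[B] M) (g : M →ₗ[B] Q)
    (hf : Function.Injective f) (hg : Function.Surjective g) (ex : Function.Exact f g) :
    rhs A B M = rhs A B N + rhs A B Q := by
  unfold rhs
  rw [← finsum_add_distrib (Set.toFinite _) (Set.toFinite _)]
  congr 1
  funext n
  rw [← mul_add]
  congr 1
  exact Module.length_eq_add_of_exact (LocalizedModule.map n.asIdeal.primeCompl f)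
    (LocalizedModule.map n.asIdeal.primeCompl g)
    (LocalizedModule.map_injective _ f hf) (LocalizedModule.map_surjective _ g hg)
    (LocalizedModule.map_exact n.asIdeal.primeCompl f g ex)

lemma rhs_subsingleton [Subsingleton M] : rhs A B M = 0 := by
  unfold rhs
  have : ∀ n : MaximalSpectrum B,
      Module.length (Localization.AtPrime n.asIdeal) (LocalizedModule n.asIdeal.primeCompl M) = 0 := by
    intro n
    rw [Module.length_eq_zero_iff]
    infer_instance
  simp

lemma rhs_congr [Finite (MaximalSpectrum B)] (e : M ≃ₗ[B] Q) : rhs A B M = rhs A B Q := by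
  have := rhs_add A B (0 : PUnit.{u+1} →ₗ[B] M) e.toLinearMap
    (fun x y _ => Subsingleton.elim x y) e.surjective (by
      intro y
      constructor
      · intro h; exact ⟨0, by simpa using (e.injective (by simpa using h)).symm⟩
      · rintro ⟨x, rfl⟩; simp)
  rw [this, rhs_subsingleton, zero_add]

end


section simple
variable {A B}
variable (I : Ideal B)

instance [hI : I.IsMaximal] : IsSimpleModule B (B ⧸ I) :=
  isSimpleModule_iff_quot_maximal.mpr ⟨I, hI, ⟨LinearEquiv.refl _ _⟩⟩

lemma colon_bot_top : (⊥ : Submodule B (B ⧸ I)).colon ((⊤ : Submodule B (B ⧸ I)) : Set (B ⧸ I)) = I := by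
  ext r
  rw [Submodule.mem_colon]
  constructor
  · intro h
    have := h (Ideal.Quotient.mk I 1) trivial
    rw [Submodule.mem_bot, ← Ideal.Quotient.mk_eq_mk, ← Submodule.Quotient.mk_smul,
      smul_eq_mul, mul_one, Ideal.Quotient.mk_eq_mk, Ideal.Quotient.eq_zero_iff_mem] at this
    exact this
  · intro hr x _
    obtain ⟨y, rfl⟩ := Ideal.Quotient.mk_surjective x
    rw [Submodule.mem_bot, ← Ideal.Quotient.mk_eq_mk, ← Submodule.Quotient.mk_smul,
      Ideal.Quotient.mk_eq_mk, Ideal.Quotient.eq_zero_iff_mem, smul_eq_mul]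
    exact I.mul_mem_right _ hr

lemma length_loc_quot [hI : I.IsMaximal] (n : Ideal B) [hn : n.IsMaximal] :
    Module.length (Localization.AtPrime n) (LocalizedModule n.primeCompl (B ⧸ I)) =
      if I = n then 1 else 0 := by
  have hcov : (⊥ : Submodule B (B ⧸ I)) ⋖ ⊤ := bot_covBy_top
  have hb : H10S6329.L n (⊥ : Submodule B (B ⧸ I)) = ⊥ := Submodule.localized'_bot _ _ _
  have ht : H10S6329.L n (⊤ : Submodule B (B ⧸ I)) = ⊤ := Submodule.localized'_top _ _ _
  split_ifs with h
  · have := H10S6329.L_covBy_of_colon_eq n hcov (by rw [colon_bot_top, h])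
    rw [hb, ht] at this
    have h2 := H10S6329.length_succ_of_covBy this
    rw [Module.length_top, Module.length_bot, zero_add] at h2
    exact h2
  · have := H10S6329.L_eq_of_colon_ne n hcov (by rw [colon_bot_top]; exact h)
    rw [hb, ht] at this
    rw [Module.length_eq_zero_iff, ← Submodule.subsingleton_iff (Localization.AtPrime n)]
    exact subsingleton_iff_bot_eq_top.mp this

end simple


section main
variable {A B} [IsLocalRing A]

lemma length_A_quot (I : Ideal B)
    (hover : I.comap (algebraMap A B) = IsLocalRing.maximalIdeal A)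
    (hfin : Module.Finite (A ⧸ I.comap (algebraMap A B)) (B ⧸ I)) :
    Module.length A (B ⧸ I) =
      (Module.finrank (A ⧸ I.comap (algebraMap A B)) (B ⧸ I) : ℕ∞) := by
  have hmax : (I.comap (algebraMap A B)).IsMaximal := by rw [hover]; infer_instance
  let _ := Ideal.Quotient.field (I.comap (algebraMap A B))
  rw [Module.length_eq_of_surjective (S := A) (R := A ⧸ I.comap (algebraMap A B))
    Ideal.Quotient.mk_surjective]
  exact Module.length_eq_finrank _ _

omit [IsLocalRing A] in
lemma rhs_quot [Finite (MaximalSpectrum B)] (I : Ideal B) [hI : I.IsMaximal] :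
    rhs A B (B ⧸ I) = (Module.finrank (A ⧸ I.comap (algebraMap A B)) (B ⧸ I) : ℕ∞) := by
  unfold rhs
  rw [finsum_eq_single _ (⟨I, hI⟩ : MaximalSpectrum B)]
  · have := hI
    rw [length_loc_quot I I, if_pos rfl, mul_one]
  · intro n hn
    have := n.isMaximal
    rw [length_loc_quot I n.asIdeal, if_neg, mul_zero]
    intro h
    exact hn (MaximalSpectrum.ext h.symm)

theorem main [Finite (MaximalSpectrum B)]
    (hover : ∀ n : MaximalSpectrum B,
      n.asIdeal.comap (algebraMap A B) = IsLocalRing.maximalIdeal A)
    (hfin : ∀ n : MaximalSpectrum B,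
      Module.Finite (A ⧸ n.asIdeal.comap (algebraMap A B)) (B ⧸ n.asIdeal))
    (M : Type u) [AddCommGroup M] [Module B M] (hM : IsFiniteLength B M) :
    ∀ [Module A M] [IsScalarTower A B M], Module.length A M = rhs A B M := by
  induction hM with
  | of_subsingleton =>
    intro _ _
    rw [rhs_subsingleton, Module.length_eq_zero]
  | @of_simple_quotient M _ _ N hs hN ih =>
    intro _ _
    have h1 : Module.length A N = rhs A B N := ih
    obtain ⟨I, hI, ⟨e⟩⟩ := isSimpleModule_iff_quot_maximal.mp hs
    have h2 : Module.length A (M ⧸ N) = rhs A B (M ⧸ N) := by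
      rw [rhs_congr A B e, rhs_quot, (e.restrictScalars A).length_eq]
      exact length_A_quot I (hover ⟨I, hI⟩) (hfin ⟨I, hI⟩)
    rw [rhs_add A B N.subtype N.mkQ N.injective_subtype N.mkQ_surjective
      (LinearMap.exact_subtype_mkQ N), ← h1, ← h2]
    exact Module.length_eq_add_of_exact (N.subtype.restrictScalars A) (N.mkQ.restrictScalars A)
      N.injective_subtype N.mkQ_surjective (LinearMap.exact_subtype_mkQ N)

end main

end Groth.Agent.Lib.helper10.SemiLocLen
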