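import Mathlib

set_option maxHeartbeats 400000
set_option autoImplicit false
universe u

namespace H10S19182

open MvPolynomial

variable {R : Type u} [CommRing R] (a₁ a₂ : R)

section Chart2

/-- second chart equation -/
noncomputable abbrev g₂ : MvPolynomial (Fin 2) R := X 1 ^ 2 + C a₁ * X 1 - X 0 - C a₂

noncomputable abbrev B₂ : Type u :=
  MvPolynomial (Fin 2) R ⧸ Ideal.span ({g₂ a₁ a₂} : Set (MvPolynomial (Fin 2) R))

noncomputable def fwd₂₀ : MvPolynomial (Fin 2) R →ₐ[R] Polynomial R :=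
  aeval ![Polynomial.X ^ 2 + Polynomial.C a₁ * Polynomial.X - Polynomial.C a₂, Polynomial.X]

theorem fwd₂₀_g : fwd₂₀ a₁ a₂ (g₂ a₁ a₂) = 0 := by
  simp [fwd₂₀, g₂]

noncomputable def fwd₂ : B₂ a₁ a₂ →ₐ[R] Polynomial R :=
  Ideal.Quotient.liftₐ _ (fwd₂₀ a₁ a₂) (by
    intro x hx
    rw [Ideal.mem_span_singleton] at hx
    obtain ⟨t, rfl⟩ := hx
    rw [map_mul, fwd₂₀_g, zero_mul])

noncomputable def bwd₂ : Polynomial R →ₐ[R] B₂ a₁ a₂ :=
  Polynomial.aeval (Ideal.Quotient.mk _ (X 1))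

theorem rel₂ : (Ideal.Quotient.mk (Ideal.span ({g₂ a₁ a₂} : Set (MvPolynomial (Fin 2) R)))
    (g₂ a₁ a₂)) = 0 :=
  Ideal.Quotient.eq_zero_iff_mem.2 (Ideal.subset_span rfl)

noncomputable def equiv₂ : B₂ a₁ a₂ ≃ₐ[R] Polynomial R :=
  AlgEquiv.ofAlgHom (fwd₂ a₁ a₂) (bwd₂ a₁ a₂)
    (by
      apply Polynomial.algHom_ext
      simp [fwd₂, bwd₂, fwd₂₀])
    (by
      apply Ideal.Quotient.algHom_ext
      apply MvPolynomial.algHom_ext
      intro i
      fin_cases i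
      · have h := rel₂ a₁ a₂
        simp only [g₂, map_sub, map_add, map_mul, map_pow] at h
        simp only [fwd₂, bwd₂, fwd₂₀, Fin.zero_eta, Fin.isValue, AlgHom.coe_comp,
          Ideal.Quotient.mkₐ_eq_mk, Function.comp_apply, Ideal.Quotient.liftₐ_apply,
          Ideal.Quotient.lift_mk, AlgHom.coe_toRingHom, aeval_X, Matrix.cons_val_zero,
          map_sub, map_add, map_mul, map_pow, Polynomial.aeval_X, Polynomial.aeval_C,
          AlgHom.id_comp]
        have hC : ∀ a : R, (algebraMap R (B₂ a₁ a₂)) a =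
            Ideal.Quotient.mk (Ideal.span ({g₂ a₁ a₂} : Set (MvPolynomial (Fin 2) R))) (C a) :=
          fun a => rfl
        rw [← sub_eq_zero, ← h, hC, hC]
        ring
      · simp [fwd₂, bwd₂, fwd₂₀])

theorem smooth₂ : Algebra.Smooth R (B₂ a₁ a₂) :=
  have : Algebra.Smooth R (Polynomial R) := {}
  Algebra.Smooth.of_equiv (equiv₂ a₁ a₂).symm

end Chart2

section Chart1

/-- first chart equation -/
noncomputable abbrev g₁ : MvPolynomial (Fin 2) R :=
  1 + C a₁ * X 1 - X 0 * X 1 ^ 3 - C a₂ * X 1 ^ 2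

noncomputable abbrev B₁ : Type u :=
  MvPolynomial (Fin 2) R ⧸ Ideal.span ({g₁ a₁ a₂} : Set (MvPolynomial (Fin 2) R))

/-- Laurent polynomials -/
noncomputable abbrev Lau (R : Type u) [CommRing R] : Type u :=
  Localization.Away (Polynomial.X : Polynomial R)

/-- image of `X` in `Lau R` -/
noncomputable def xL : Lau R := algebraMap (Polynomial R) (Lau R) Polynomial.X

/-- inverse of `X` in `Lau R` -/
noncomputable def xLinv : Lau R :=
  ↑((IsLocalization.Away.algebraMap_isUnit (S := Lau R) (Polynomial.X : Polynomial R)).unit⁻¹)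

theorem xL_mul_inv : xL (R := R) * xLinv = 1 :=
  (IsLocalization.Away.algebraMap_isUnit (S := Lau R) (Polynomial.X : Polynomial R)).mul_val_inv

noncomputable def y₀ : Lau R :=
  (1 + algebraMap R (Lau R) a₁ * xL - algebraMap R (Lau R) a₂ * xL ^ 2) * xLinv ^ 3

noncomputable def fwd₁₀ : MvPolynomial (Fin 2) R →ₐ[R] Lau R :=
  aeval ![y₀ a₁ a₂, xL]

theorem fwd₁₀_g : fwd₁₀ a₁ a₂ (g₁ a₁ a₂) = 0 := by
  have h := xL_mul_inv (R := R)
  have h3 : xLinv (R := R) ^ 3 * xL ^ 3 = 1 := by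
    rw [← mul_pow, mul_comm, h, one_pow]
  simp only [fwd₁₀, g₁, map_sub, map_add, map_mul, map_pow, map_one, aeval_X, aeval_C,
    Matrix.cons_val_zero, Matrix.cons_val_one, y₀]
  rw [mul_assoc, h3]
  ring

noncomputable def fwd₁ : B₁ a₁ a₂ →ₐ[R] Lau R :=
  Ideal.Quotient.liftₐ _ (fwd₁₀ a₁ a₂) (by
    intro x hx
    rw [Ideal.mem_span_singleton] at hx
    obtain ⟨t, rfl⟩ := hx
    rw [map_mul, fwd₁₀_g, zero_mul])

theorem rel₁ : (Ideal.Quotient.mk (Ideal.span ({g₁ a₁ a₂} : Set (MvPolynomial (Fin 2) R)))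
    (g₁ a₁ a₂)) = 0 :=
  Ideal.Quotient.eq_zero_iff_mem.2 (Ideal.subset_span rfl)

/-- classes of the variables -/
noncomputable abbrev yb : B₁ a₁ a₂ := Ideal.Quotient.mk _ (X 0)
noncomputable abbrev ab : B₁ a₁ a₂ := Ideal.Quotient.mk _ (X 1)

theorem rel₁' : 1 + algebraMap R (B₁ a₁ a₂) a₁ * ab a₁ a₂ - yb a₁ a₂ * ab a₁ a₂ ^ 3 -
    algebraMap R (B₁ a₁ a₂) a₂ * ab a₁ a₂ ^ 2 = 0 := by
  have h := rel₁ a₁ a₂
  simp only [g₁, map_sub, map_add, map_mul, map_pow, map_one] at h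
  exact h

theorem ab_isUnit : IsUnit (ab a₁ a₂) := by
  refine IsUnit.of_mul_eq_one
    (-(algebraMap R (B₁ a₁ a₂) a₁ - yb a₁ a₂ * ab a₁ a₂ ^ 2 -
      algebraMap R (B₁ a₁ a₂) a₂ * ab a₁ a₂)) ?_
  have h := rel₁' a₁ a₂
  linear_combination (-1 : B₁ a₁ a₂) * h

noncomputable def bwd₁ : Lau R →ₐ[R] B₁ a₁ a₂ :=
  IsLocalization.liftAlgHom (M := Submonoid.powers (Polynomial.X : Polynomial R))
    (f := Polynomial.aeval (ab a₁ a₂)) (by
      rintro ⟨_, n, rfl⟩
      simp only [map_pow, Polynomial.aeval_X]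
      exact (ab_isUnit a₁ a₂).pow n)

theorem bwd₁_xL : bwd₁ a₁ a₂ xL = ab a₁ a₂ := by
  simp [bwd₁, xL, IsLocalization.lift_eq]

theorem bwd₁_xLinv_mul : bwd₁ a₁ a₂ xLinv * ab a₁ a₂ = 1 := by
  rw [← bwd₁_xL, ← map_mul, mul_comm, xL_mul_inv, map_one]

noncomputable def equiv₁ : B₁ a₁ a₂ ≃ₐ[R] Lau R :=
  AlgEquiv.ofAlgHom (fwd₁ a₁ a₂) (bwd₁ a₁ a₂)
    (by
      apply IsLocalization.algHom_ext (Submonoid.powers (Polynomial.X : Polynomial R))
      apply Polynomial.algHom_ext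
      simp only [AlgHom.coe_comp, Function.comp_apply, AlgHom.coe_id, id_eq]
      rw [show (Algebra.algHom R (Polynomial R) (Lau R)) Polynomial.X = xL from rfl, bwd₁_xL]
      simp [fwd₁, fwd₁₀])
    (by
      apply Ideal.Quotient.algHom_ext
      apply MvPolynomial.algHom_ext
      intro i
      fin_cases i
      · have h := rel₁' a₁ a₂
        have hu := bwd₁_xLinv_mul a₁ a₂
        simp only [fwd₁, fwd₁₀, Fin.zero_eta, Fin.isValue, AlgHom.coe_comp,
          Ideal.Quotient.mkₐ_eq_mk, Function.comp_apply, Ideal.Quotient.liftₐ_apply,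
          Ideal.Quotient.lift_mk, AlgHom.coe_toRingHom, aeval_X, Matrix.cons_val_zero,
          AlgHom.id_comp, y₀, map_mul, map_sub, map_add, map_pow, map_one, bwd₁_xL,
          AlgHom.commutes]
        apply (ab_isUnit a₁ a₂).pow 3 |>.mul_left_injective
        simp only
        rw [mul_assoc, ← mul_pow, hu, one_pow, mul_one]
        linear_combination h
      · simp only [fwd₁, fwd₁₀, Fin.mk_one, Fin.isValue, AlgHom.coe_comp,
          Ideal.Quotient.mkₐ_eq_mk, Function.comp_apply, Ideal.Quotient.liftₐ_apply,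
          Ideal.Quotient.lift_mk, AlgHom.coe_toRingHom, aeval_X, Matrix.cons_val_one,
          Matrix.cons_val_zero, AlgHom.id_comp, bwd₁_xL])

theorem smooth₁ : Algebra.Smooth R (B₁ a₁ a₂) :=
  have : Algebra.Smooth R (Polynomial R) := {}
  have : Algebra.Smooth (Polynomial R) (Lau R) :=
    Algebra.Smooth.of_isLocalization_Away (Polynomial.X : Polynomial R)
  have : Algebra.Smooth R (Lau R) := Algebra.Smooth.comp R (Polynomial R) (Lau R)
  Algebra.Smooth.of_equiv (equiv₁ a₁ a₂).symm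

end Chart1

theorem main :
    Algebra.Smooth R (MvPolynomial (Fin 2) R ⧸
      Ideal.span ({1 + C a₁ * X 1 - X 0 * X 1 ^ 3 - C a₂ * X 1 ^ 2} : Set (MvPolynomial (Fin 2) R))) ∧
    Algebra.Smooth R (MvPolynomial (Fin 2) R ⧸
      Ideal.span ({X 1 ^ 2 + C a₁ * X 1 - X 0 - C a₂} : Set (MvPolynomial (Fin 2) R))) :=
  ⟨smooth₁ a₁ a₂, smooth₂ a₁ a₂⟩

end H10S19182
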