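import Mathlib
import Groth.Agent.Lib.helper10.KaehlerSym

set_option autoImplicit false
universe u
open scoped TensorProduct

namespace H10S2094

section retract
variable {R : Type u} [CommRing R] {Q C : Type u} [CommRing Q] [CommRing C] [Algebra R Q] [Algebra R C]

/-- a retract of a finitely presented algebra is finitely presented -/
theorem fp_of_retract [Algebra.FinitePresentation R Q] (π : Q →ₐ[R] C) (σ : C →ₐ[R] Q)
    (h : π.comp σ = AlgHom.id R C) : Algebra.FinitePresentation R C := by
  classical
  have hπσ : ∀ c, π (σ c) = c := fun c => AlgHom.congr_fun h c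
  have hsurj : Function.Surjective π := fun c => ⟨σ c, hπσ c⟩
  obtain ⟨s, hs⟩ := (Algebra.FiniteType.out : (⊤ : Subalgebra R Q).FG)
  refine Algebra.FinitePresentation.of_surjective hsurj ?_
  let K : Ideal Q := Ideal.span ((fun t => t - σ (π t)) '' (s : Set Q))
  have hK : ∀ y : Q, y - σ (π y) ∈ K := by
    intro y
    have hy : y ∈ Algebra.adjoin R (s : Set Q) := by rw [hs]; trivial
    induction hy using Algebra.adjoin_induction with
    | mem x hx => exact Ideal.subset_span ⟨x, hx, rfl⟩
    | algebraMap a => simp
    | add x y _ _ hx hy =>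
      have : x + y - σ (π (x + y)) = (x - σ (π x)) + (y - σ (π y)) := by
        rw [map_add, map_add]; ring
      rw [this]
      exact K.add_mem hx hy
    | mul x y _ _ hx hy =>
      have : x * y - σ (π (x * y)) = (x - σ (π x)) * y + σ (π x) * (y - σ (π y)) := by
        rw [map_mul, map_mul]; ring
      rw [this]
      exact K.add_mem (K.mul_mem_right _ hx) (K.mul_mem_left _ hy)
  have hker : RingHom.ker π.toRingHom = K := by
    apply le_antisymm
    · intro y hy
      have hy0 : π y = 0 := hy
      have := hK y
      rwa [hy0, map_zero, sub_zero] at this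
    · rw [Ideal.span_le]
      rintro _ ⟨t, _, rfl⟩
      show π (t - σ (π t)) = 0
      rw [map_sub, hπσ, sub_self]
  rw [hker]
  exact ⟨s.image (fun t => t - σ (π t)), by rw [Finset.coe_image]⟩

end retract

variable {A M : Type u} [CommRing A] [AddCommGroup M] [Module A M]

theorem formallySmooth_of_projective [Module.Projective A M] :
    Algebra.FormallySmooth A (SymmetricAlgebra A M) := by
  apply Algebra.FormallySmooth.of_comp_surjective
  intro B _ _ I hI f
  let f₀ : M →ₗ[A] B ⧸ I := f.toLinearMap ∘ₗ SymmetricAlgebra.ι A M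
  obtain ⟨g₀, hg₀⟩ := Module.projective_lifting_property (Ideal.Quotient.mkₐ A I).toLinearMap f₀
    (Ideal.Quotient.mk_surjective)
  refine ⟨SymmetricAlgebra.lift g₀, ?_⟩
  apply SymmetricAlgebra.algHom_ext
  ext m
  have := LinearMap.congr_fun hg₀ m
  simpa [f₀] using this

theorem finitePresentation_of_finite_projective [Module.Finite A M] [Module.Projective A M] :
    Algebra.FinitePresentation A (SymmetricAlgebra A M) := by
  obtain ⟨n, p, hp⟩ := Module.Finite.exists_fin' A M
  obtain ⟨i, hi⟩ := Module.projective_lifting_property p LinearMap.id hp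
  have hfpQ : Algebra.FinitePresentation A (SymmetricAlgebra A (Fin n → A)) :=
    Algebra.FinitePresentation.equiv
      (SymmetricAlgebra.equivMvPolynomial (Pi.basisFun A (Fin n))).symm
  let π : SymmetricAlgebra A (Fin n → A) →ₐ[A] SymmetricAlgebra A M :=
    SymmetricAlgebra.lift (SymmetricAlgebra.ι A M ∘ₗ p)
  let σ : SymmetricAlgebra A M →ₐ[A] SymmetricAlgebra A (Fin n → A) :=
    SymmetricAlgebra.lift (SymmetricAlgebra.ι A (Fin n → A) ∘ₗ i)
  refine fp_of_retract π σ ?_
  apply SymmetricAlgebra.algHom_ext
  ext m
  have := LinearMap.congr_fun hi m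
  simp only [LinearMap.comp_apply, LinearMap.id_apply] at this
  simp [π, σ, SymmetricAlgebra.lift_ι_apply, this]

end H10S2094

namespace H10S2094

variable {A M : Type u} [CommRing A] [AddCommGroup M] [Module A M]

theorem finite_projective_of_smooth [Algebra.Smooth A (SymmetricAlgebra A M)] :
    Module.Finite A M ∧ Module.Projective A M := by
  set C := SymmetricAlgebra A M with hC
  have fs : Algebra.FormallySmooth A C := Algebra.Smooth.formallySmooth
  have fp : Algebra.FinitePresentation A C := Algebra.Smooth.finitePresentation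
  let Φ := LinearEquiv.ofBijective _ (H10S7237.main A M)
  have h1 : Module.Finite C (C ⊗[A] M) := Module.Finite.equiv Φ.symm
  have h2 : Module.Projective C (C ⊗[A] M) := Module.Projective.of_equiv Φ.symm
  let ε : C →ₐ[A] A := SymmetricAlgebra.algebraMapInv
  let _ : Algebra C A := ε.toRingHom.toAlgebra
  have _ : IsScalarTower A C A := IsScalarTower.of_algebraMap_eq (fun a => (ε.commutes a).symm)
  let e : A ⊗[C] (C ⊗[A] M) ≃ₗ[A] M :=
    (TensorProduct.AlgebraTensorModule.cancelBaseChange A C A A M).trans (TensorProduct.lid A M)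
  have h3 : Module.Finite A (A ⊗[C] (C ⊗[A] M)) := inferInstance
  have h4 : Module.Projective A (A ⊗[C] (C ⊗[A] M)) := inferInstance
  exact ⟨Module.Finite.equiv e, Module.Projective.of_equiv e⟩

theorem main : Algebra.Smooth A (SymmetricAlgebra A M) ↔ Module.Finite A M ∧ Module.Projective A M := by
  constructor
  · intro h
    exact finite_projective_of_smooth
  · rintro ⟨h1, h2⟩
    exact ⟨formallySmooth_of_projective, finitePresentation_of_finite_projective⟩

end H10S2094
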