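import Mathlib

/-!
# Retractions "up to a scalar"

For a linear map `d : N → L` the set `J d = {b | ∃ r : L → N, r ∘ d = b • id}` is an ideal. For `N`
finitely generated, `L` finite free and `C = coker d`, a prime `q` does not contain `J d` iff
`(ker d)_q = 0` and `C_q` is free.
-/

set_option autoImplicit false

namespace Groth.Agent.Lib.helper10.SplitUpTo

universe u v

variable {B : Type u} [CommRing B] {N L C : Type v} [AddCommGroup N] [Module B N]
  [AddCommGroup L] [Module B L] [AddCommGroup C] [Module B C]

/-- The ideal of scalars `b` such that `b • id_N` factors through `d`. -/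
def J (d : N →ₗ[B] L) : Ideal B where
  carrier := {b | ∃ r : L →ₗ[B] N, r ∘ₗ d = b • LinearMap.id}
  zero_mem' := ⟨0, by simp⟩
  add_mem' := by
    rintro a b ⟨r, hr⟩ ⟨s, hs⟩
    exact ⟨r + s, by rw [LinearMap.add_comp, hr, hs, add_smul]⟩
  smul_mem' := by
    rintro c a ⟨r, hr⟩
    exact ⟨c • r, by rw [LinearMap.smul_comp, hr, smul_eq_mul, mul_smul]⟩

lemma mem_J {d : N →ₗ[B] L} {b : B} :
    b ∈ J d ↔ ∃ r : L →ₗ[B] N, r ∘ₗ d = b • LinearMap.id := Iff.rfl

lemma mk_eq_zero_iff' {M : Type v} [AddCommGroup M] [Module B M] (S : Submonoid B) (x : M) (s : S) :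
    LocalizedModule.mk x s = 0 ↔ ∃ t : S, t • x = 0 := by
  rw [IsLocalizedModule.mk_eq_mk', IsLocalizedModule.mk'_eq_zero']

variable (d : N →ₗ[B] L) (π : L →ₗ[B] C) (hex : Function.Exact d π) (hπ : Function.Surjective π)

include hex hπ in
theorem not_le_of_local [Module.Finite B N] [Module.FinitePresentation B L]
    (q : PrimeSpectrum B)
    (h1 : q ∉ Module.support B (LinearMap.ker d)) (h2 : q ∈ Module.freeLocus B C) :
    ¬ J d ≤ q.asIdeal := by
  classical
  set S := q.asIdeal.primeCompl with hS
  let Bq := Localization.AtPrime q.asIdeal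
  let dq : LocalizedModule S N →ₗ[Bq] LocalizedModule S L := LocalizedModule.map S d
  let πq : LocalizedModule S L →ₗ[Bq] LocalizedModule S C := LocalizedModule.map S π
  have hexq : Function.Exact dq πq := LocalizedModule.map_exact S d π hex
  have hπq : Function.Surjective πq := LocalizedModule.map_surjective S π hπ
  have hinj : Function.Injective dq := by
    rw [← LinearMap.ker_eq_bot, LinearMap.ker_eq_bot']
    intro x hx
    induction x using LocalizedModule.induction_on with
    | h x s =>
      have hx' : LocalizedModule.mk (d x) s = 0 :=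
        (LocalizedModule.map_mk S d x s).symm.trans hx
      rw [mk_eq_zero_iff'] at hx'
      obtain ⟨t, ht⟩ := hx'
      have hker : (t : B) • x ∈ LinearMap.ker d := by
        rw [LinearMap.mem_ker, map_smul]; exact ht
      rw [Module.notMem_support_iff'] at h1
      obtain ⟨s', hs', hs'x⟩ := h1 ⟨_, hker⟩
      have : s' • ((t : B) • x) = 0 := congrArg Subtype.val hs'x
      rw [mk_eq_zero_iff']
      exact ⟨⟨s', hs'⟩ * t, by rw [Submonoid.smul_def]; simpa [mul_smul] using this⟩
  rw [Module.mem_freeLocus] at h2
  have hproj : Module.Projective Bq (LocalizedModule S C) := inferInstance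
  obtain ⟨l, hl⟩ := Module.projective_lifting_property πq LinearMap.id hπq
  obtain ⟨-, ρ, hρ⟩ := (hexq.split_tfae'.out 0 1 rfl rfl).mp ⟨hinj, l, hl⟩
  -- lift the retraction
  let g : L →ₗ[B] LocalizedModule S N :=
    (ρ.restrictScalars B) ∘ₗ LocalizedModule.mkLinearMap S L
  obtain ⟨h, s, hs⟩ := Module.FinitePresentation.exists_lift_of_isLocalizedModule S
    (LocalizedModule.mkLinearMap S N) g
  have hcomp : (LocalizedModule.mkLinearMap S N) ∘ₗ (h ∘ₗ d) =
      (LocalizedModule.mkLinearMap S N) ∘ₗ ((s : B) • LinearMap.id) := by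
    ext x
    have h1 : (LocalizedModule.mkLinearMap S N) (h (d x)) = s • g (d x) := by
      have := LinearMap.congr_fun hs (d x)
      simpa using this
    have h2 : g (d x) = LocalizedModule.mkLinearMap S N x := by
      have h3 : LocalizedModule.mkLinearMap S L (d x) = dq (LocalizedModule.mkLinearMap S N x) := by
        rw [LocalizedModule.mkLinearMap_apply, LocalizedModule.mkLinearMap_apply]
        exact (LocalizedModule.map_mk S d x 1).symm
      change ρ (LocalizedModule.mkLinearMap S L (d x)) = _
      rw [h3]
      exact LinearMap.congr_fun hρ _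
    simp only [LinearMap.coe_comp, Function.comp_apply, LinearMap.smul_apply, LinearMap.id_apply,
      map_smul]
    rw [h1, h2]
    rfl
  obtain ⟨t, ht⟩ := Module.Finite.exists_smul_of_comp_eq_of_isLocalizedModule S
    (LocalizedModule.mkLinearMap S N) _ _ hcomp
  intro hle
  have hmem : ((t : B) * (s : B)) ∈ J d := by
    refine ⟨(t : B) • h, ?_⟩
    rw [LinearMap.smul_comp, mul_smul]
    exact ht
  exact (t * s).2 (hle hmem)

include hex hπ in
theorem local_of_not_le [Module.Finite B L] [Module.Free B L]
    (q : PrimeSpectrum B) (hq : ¬ J d ≤ q.asIdeal) :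
    q ∉ Module.support B (LinearMap.ker d) ∧ q ∈ Module.freeLocus B C := by
  classical
  obtain ⟨b, ⟨r, hr⟩, hbq⟩ := Set.not_subset.mp hq
  constructor
  · rw [Module.notMem_support_iff']
    rintro ⟨x, hx⟩
    refine ⟨b, hbq, Subtype.ext ?_⟩
    have := LinearMap.congr_fun hr x
    simp only [LinearMap.coe_comp, Function.comp_apply, LinearMap.smul_apply,
      LinearMap.id_apply] at this
    rw [LinearMap.mem_ker] at hx
    rw [hx, map_zero] at this
    simpa using this.symm
  · rw [Module.mem_freeLocus]
    set S := q.asIdeal.primeCompl with hS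
    let Bq := Localization.AtPrime q.asIdeal
    let dq : LocalizedModule S N →ₗ[Bq] LocalizedModule S L := LocalizedModule.map S d
    let πq : LocalizedModule S L →ₗ[Bq] LocalizedModule S C := LocalizedModule.map S π
    let rq : LocalizedModule S L →ₗ[Bq] LocalizedModule S N := LocalizedModule.map S r
    have hexq : Function.Exact dq πq := LocalizedModule.map_exact S d π hex
    have hπq : Function.Surjective πq := LocalizedModule.map_surjective S π hπ
    have hbu : IsUnit (algebraMap B Bq b) := IsLocalization.map_units Bq (⟨b, hbq⟩ : S)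
    obtain ⟨c, hc⟩ := hbu.exists_left_inv
    have hrd : rq ∘ₗ dq = (algebraMap B Bq b) • LinearMap.id := by
      ext x
      induction x using LocalizedModule.induction_on with
      | h x s =>
        have := LinearMap.congr_fun hr x
        simp only [LinearMap.coe_comp, Function.comp_apply, LinearMap.smul_apply,
          LinearMap.id_apply] at this
        simp only [LinearMap.coe_comp, Function.comp_apply, LinearMap.smul_apply,
          LinearMap.id_apply]
        change LocalizedModule.map S r (LocalizedModule.map S d (LocalizedModule.mk x s)) = _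
        rw [LocalizedModule.map_mk, LocalizedModule.map_mk, this, algebraMap_smul,
          LocalizedModule.smul'_mk]
    have hret : (c • rq) ∘ₗ dq = LinearMap.id := by
      rw [LinearMap.smul_comp, hrd, smul_smul, hc, one_smul]
    obtain ⟨-, l, hl⟩ := (hexq.split_tfae'.out 1 0 rfl rfl).mp ⟨hπq, c • rq, hret⟩
    have hproj : Module.Projective Bq (LocalizedModule S C) :=
      Module.Projective.of_split l πq hl
    have : Module.Finite B C := Module.Finite.of_surjective π hπ
    exact Module.free_of_flat_of_isLocalRing

include hex hπ in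
/-- Main equivalence. -/
theorem forall_iff_exists_pow_mem [Module.Finite B N] [Module.Finite B L] [Module.Free B L]
    (u : B) :
    (∀ q : PrimeSpectrum B, u ∉ q.asIdeal →
        q ∉ Module.support B (LinearMap.ker d) ∧ q ∈ Module.freeLocus B C) ↔
      ∃ m : ℕ, u ^ m ∈ J d := by
  constructor
  · intro h
    have : u ∈ (J d).radical := by
      rw [Ideal.radical_eq_sInf, Ideal.mem_sInf]
      rintro q ⟨hJq, hqp⟩
      by_contra hu
      obtain ⟨h1, h2⟩ := h ⟨q, hqp⟩ hu
      have : Module.FinitePresentation B L := Module.finitePresentation_of_projective B L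
      exact not_le_of_local d π hex hπ ⟨q, hqp⟩ h1 h2 hJq
    exact this
  · rintro ⟨m, hm⟩ q hu
    apply local_of_not_le d π hex hπ q
    intro hle
    exact hu (q.2.mem_of_pow_mem m (hle hm))

end Groth.Agent.Lib.helper10.SplitUpTo
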