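import Groth.Agent.Lib.Helper5.Imperf218B
import Mathlib

set_option autoImplicit false
set_option linter.style.haveILetI false
set_option linter.unusedVariables false
set_option linter.unusedSectionVars false

universe u

namespace Groth.Agent.Lib.helper10.SubfieldInj

open TensorProduct KaehlerDifferential EGA41
open Groth.Agent.Lib.Helper5

section square

variable {Λ F k A K : Type u} [CommRing Λ] [CommRing F] [CommRing k] [CommRing A] [CommRing K]
  [Algebra Λ F] [Algebra Λ k] [Algebra F k] [Algebra k A] [Algebra Λ A] [Algebra F A]
  [Algebra A K] [Algebra k K]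
  [IsScalarTower Λ F k] [IsScalarTower Λ k A] [IsScalarTower F k A] [IsScalarTower Λ F A]
  [IsScalarTower k A K]

/-- the comparison square for changing the base of the differentials -/
lemma square (y : A ⊗[k] Ω[k⁄Λ]) :
    mapBaseChange F k A (((KaehlerDifferential.map Λ F k k).restrictScalars k).baseChange A y) =
      KaehlerDifferential.map Λ F A A (mapBaseChange Λ k A y) := by
  induction y using TensorProduct.induction_on with
  | zero => simp only [map_zero]
  | add a b ha hb => simp only [map_add, ha, hb]
  | tmul a ω =>
    rw [LinearMap.baseChange_tmul, mapBaseChange_tmul, mapBaseChange_tmul, map_smul]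
    congr 1
    have hω : ω ∈ Submodule.span k (Set.range (KaehlerDifferential.D Λ k)) := by
      rw [KaehlerDifferential.span_range_derivation]; trivial
    induction hω using Submodule.span_induction with
    | mem x hx =>
      obtain ⟨t, rfl⟩ := hx
      rw [LinearMap.restrictScalars_apply, KaehlerDifferential.map_D, KaehlerDifferential.map_D,
        KaehlerDifferential.map_D, KaehlerDifferential.map_D]
      rfl
    | zero => simp only [map_zero]
    | add x y _ _ hx hy => simp only [map_add, hx, hy]
    | smul c x _ hx =>
      rw [LinearMap.map_smul, LinearMap.map_smul, hx,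
        LinearMap.map_smul (KaehlerDifferential.map Λ Λ k A),
        algebra_compatible_smul A c ((KaehlerDifferential.map Λ Λ k A) x), LinearMap.map_smul,
        ← algebra_compatible_smul A c]

lemma lTensor_square (ξ : K ⊗[A] (A ⊗[k] Ω[k⁄Λ])) :
    (mapBaseChange F k A).lTensor K
      ((((KaehlerDifferential.map Λ F k k).restrictScalars k).baseChange A).lTensor K ξ) =
    (KaehlerDifferential.map Λ F A A).lTensor K ((mapBaseChange Λ k A).lTensor K ξ) := by
  have h : (mapBaseChange F k A) ∘ₗ
      (((KaehlerDifferential.map Λ F k k).restrictScalars k).baseChange A) =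
      (KaehlerDifferential.map Λ F A A) ∘ₗ (mapBaseChange Λ k A) := LinearMap.ext square
  rw [← LinearMap.comp_apply, ← LinearMap.lTensor_comp, h, LinearMap.lTensor_comp,
    LinearMap.comp_apply]

lemma cancel_nat (ξ : K ⊗[A] (A ⊗[k] Ω[k⁄Λ])) :
    AlgebraTensorModule.cancelBaseChange k A K K (Ω[k⁄F])
      ((((KaehlerDifferential.map Λ F k k).restrictScalars k).baseChange A).lTensor K ξ) =
    ((KaehlerDifferential.map Λ F k k).restrictScalars k).baseChange K
      (AlgebraTensorModule.cancelBaseChange k A K K (Ω[k⁄Λ]) ξ) := by
  induction ξ using TensorProduct.induction_on with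
  | zero => simp only [map_zero]
  | add a b ha hb => simp only [map_add, ha, hb]
  | tmul κ y =>
    induction y using TensorProduct.induction_on with
    | zero => simp only [map_zero, tmul_zero]
    | add a b ha hb => simp only [map_add, tmul_add, ha, hb]
    | tmul a ω =>
      rw [LinearMap.lTensor_tmul, LinearMap.baseChange_tmul,
        AlgebraTensorModule.cancelBaseChange_tmul, AlgebraTensorModule.cancelBaseChange_tmul,
        LinearMap.baseChange_tmul]

end square

section main

variable (p : ℕ) [hpF : Fact p.Prime] {k₀ k A K : Type u} [Field k₀] [Field k] [Algebra k₀ k]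
  [CharP k p] [CommRing A] [Algebra k A] [Algebra k₀ A] [IsScalarTower k₀ k A]
  [Field K] [Algebra A K] [Algebra k K] [IsScalarTower k A K]

/-- EGA 0_IV 22.x: injectivity over a filtered family of subfields with the right intersection
gives injectivity over the base -/
theorem injective_of_family {ι : Type u} [Preorder ι] [IsDirected ι (· ≤ ·)] [Nonempty ι]
    (E : ι → IntermediateField k₀ k) (hE : Antitone E)
    (heq : (⨅ i, E i ⊔ IntermediateField.adjoin k₀ (Set.range fun y : k => y ^ p)) =
      IntermediateField.adjoin k₀ (Set.range fun y : k => y ^ p))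
    (hinj : ∀ i, Function.Injective ((mapBaseChange (E i) k A).lTensor K)) :
    Function.Injective ((mapBaseChange k₀ k A).lTensor K) := by
  rw [injective_iff_map_eq_zero]
  intro ξ hξ
  set c := AlgebraTensorModule.cancelBaseChange k A K K (Ω[k⁄k₀]) with hc
  have hV : (Submodule.span K {c ξ}).FG := Submodule.fg_span_singleton _
  obtain ⟨T, _, x, hli, hle⟩ := Imperf218.exists_family_le_span (Submodule.span K {c ξ}) hV
  have hxfree : IsPIndependent p k₀ x := PBasis.isPIndependent_of_linearIndependent_D p x hli
  obtain ⟨i, hi⟩ := Imperf218.exists_isPIndependent_of_iInf_eq p E hE heq x hxfree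
  have hli_i := PBasis.linearIndependent_D_of_isPIndependent p x hi
  have hst : IsScalarTower k₀ (E i) A := IsScalarTower.of_algebraMap_eq (fun t => by
    rw [IsScalarTower.algebraMap_apply k₀ k A, IsScalarTower.algebraMap_apply (E i) k A]
    rfl)
  have h0 : ((KaehlerDifferential.map k₀ (E i) k k).restrictScalars k).baseChange K (c ξ) = 0 := by
    rw [hc, ← cancel_nat]
    have : (((KaehlerDifferential.map k₀ (E i) k k).restrictScalars k).baseChange A).lTensor K ξ
        = 0 := by
      apply hinj i
      rw [lTensor_square, hξ, map_zero, map_zero]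
    rw [this, map_zero]
  have h1 := Imperf218.eq_zero_of_map_eq_zero (E i) x hli_i (c ξ)
    (hle (Submodule.mem_span_singleton_self _)) h0
  exact c.injective (by rw [h1, map_zero])

end main

end Groth.Agent.Lib.helper10.SubfieldInj
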