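import Mathlib
import Groth.Agent.S5769

set_option maxHeartbeats 400000
set_option autoImplicit false
universe u

namespace H10S5770

open TensorProduct IsLocalRing

variable (A B : Type u) [CommRing A] [CommRing B] [IsLocalRing A]
    [IsLocalRing B] [IsNoetherianRing A] [IsNoetherianRing B] [Algebra A B]
    [IsLocalHom (algebraMap A B)]
    (M : Type u) [AddCommGroup M] [Module A M] [Module.Finite A M] (N : Type u)
    [AddCommGroup N] [Module B N] [Module A N] [IsScalarTower A B N] [Module.Finite B N]

omit [IsLocalRing A] [IsLocalRing B] [IsNoetherianRing A] [IsNoetherianRing B]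
  [IsLocalHom (algebraMap A B)] [Module.Finite A M] [Module.Finite B N] in
lemma le_annihilator :
    Module.annihilator B N ⊔ (Module.annihilator A M).map (algebraMap A B)
      ≤ Module.annihilator B (N ⊗[A] M) := by
  rw [sup_le_iff]
  constructor
  · intro b hb
    rw [Module.mem_annihilator] at hb ⊢
    intro t
    induction t using TensorProduct.induction_on with
    | zero => simp
    | tmul n m => rw [TensorProduct.smul_tmul', hb, TensorProduct.zero_tmul]
    | add x y hx hy => rw [smul_add, hx, hy, add_zero]
  · rw [Ideal.map_le_iff_le_comap]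
    intro a ha
    rw [Ideal.mem_comap, Module.mem_annihilator]
    rw [Module.mem_annihilator] at ha
    intro t
    induction t using TensorProduct.induction_on with
    | zero => simp
    | tmul n m =>
      rw [TensorProduct.smul_tmul', algebraMap_smul, TensorProduct.smul_tmul, ha,
        TensorProduct.tmul_zero]
    | add x y hx hy => rw [smul_add, hx, hy, add_zero]

theorem main :
    Module.supportDim B (N ⊗[A] M) ≤ Module.supportDim A M +
      Module.supportDim B (N ⧸ ((maximalIdeal A).map (algebraMap A B) • (⊤ : Submodule B N))) := by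
  classical
  set I := Module.annihilator A M with hI
  set J := Module.annihilator B N with hJ
  set K : Ideal B := J ⊔ I.map (algebraMap A B) with hK
  -- trivial cases
  rcases subsingleton_or_nontrivial M with hM | hM
  · have : Subsingleton (N ⊗[A] M) := by
      refine ⟨fun x y => ?_⟩
      have h0 : ∀ t : N ⊗[A] M, t = 0 := by
        intro t
        induction t using TensorProduct.induction_on with
        | zero => rfl
        | tmul n m => rw [Subsingleton.elim m 0, TensorProduct.tmul_zero]
        | add x y hx hy => rw [hx, hy, add_zero]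
      rw [h0 x, h0 y]
    rw [(Module.supportDim_eq_bot_iff_subsingleton B _).mpr this]
    exact bot_le
  rcases subsingleton_or_nontrivial N with hN | hN
  · have : Subsingleton (N ⊗[A] M) := by
      refine ⟨fun x y => ?_⟩
      have h0 : ∀ t : N ⊗[A] M, t = 0 := by
        intro t
        induction t using TensorProduct.induction_on with
        | zero => rfl
        | tmul n m => rw [Subsingleton.elim n 0, TensorProduct.zero_tmul]
        | add x y hx hy => rw [hx, hy, add_zero]
      rw [h0 x, h0 y]
    rw [(Module.supportDim_eq_bot_iff_subsingleton B _).mpr this]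
    exact bot_le
  -- properness
  have hIm : I ≤ maximalIdeal A := by
    apply IsLocalRing.le_maximalIdeal
    intro h
    have : (1 : A) ∈ Module.annihilator A M := by rw [← hI, h]; trivial
    rw [Module.mem_annihilator] at this
    obtain ⟨x, hx⟩ := exists_ne (0 : M)
    exact hx (by simpa using this x)
  have hJm : J ≤ maximalIdeal B := by
    apply IsLocalRing.le_maximalIdeal
    intro h
    have : (1 : B) ∈ Module.annihilator B N := by rw [← hJ, h]; trivial
    rw [Module.mem_annihilator] at this
    obtain ⟨x, hx⟩ := exists_ne (0 : N)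
    exact hx (by simpa using this x)
  have hmap : (maximalIdeal A).map (algebraMap A B) ≤ maximalIdeal B := by
    rw [Ideal.map_le_iff_le_comap]
    intro a ha
    rw [Ideal.mem_comap, mem_maximalIdeal, mem_nonunits_iff] at *
    exact fun h => ha (isUnit_of_map_unit (algebraMap A B) a h)
  have hKm : K ≤ maximalIdeal B :=
    sup_le hJm ((Ideal.map_mono hIm).trans hmap)
  -- step 1
  have step1 : Module.supportDim B (N ⊗[A] M) ≤ ringKrullDim (B ⧸ K) := by
    rw [ringKrullDim_quotient]
    refine Order.krullDim_le_of_strictMono
      (fun p => ⟨p.1, ?_⟩) (fun {_ _} h => h)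
    rw [PrimeSpectrum.mem_zeroLocus]
    exact (le_annihilator A B M N).trans (Module.annihilator_le_of_mem_support p.2)
  -- local structures
  have hIne : I ≠ ⊤ := fun h => (maximalIdeal.isMaximal A).ne_top (top_le_iff.mp (h ▸ hIm))
  have hKne : K ≠ ⊤ := fun h => (maximalIdeal.isMaximal B).ne_top (top_le_iff.mp (h ▸ hKm))
  have : Nontrivial (A ⧸ I) := Ideal.Quotient.nontrivial_iff.mpr hIne
  have : Nontrivial (B ⧸ K) := Ideal.Quotient.nontrivial_iff.mpr hKne
  have : IsLocalRing (A ⧸ I) := IsLocalRing.of_surjective' (Ideal.Quotient.mk I)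
    Ideal.Quotient.mk_surjective
  have : IsLocalRing (B ⧸ K) := IsLocalRing.of_surjective' (Ideal.Quotient.mk K)
    Ideal.Quotient.mk_surjective
  have hIK : I ≤ K.comap (algebraMap A B) := by
    rw [← Ideal.map_le_iff_le_comap]; exact le_sup_right
  let _ : Algebra (A ⧸ I) (B ⧸ K) := Ideal.Quotient.algebraQuotientOfLEComap hIK
  have halg : ∀ a : A, algebraMap (A ⧸ I) (B ⧸ K) (Ideal.Quotient.mk I a)
      = Ideal.Quotient.mk K (algebraMap A B a) := fun a => rfl
  have : IsLocalHom (algebraMap (A ⧸ I) (B ⧸ K)) := by
    constructor
    intro x hx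
    obtain ⟨a, rfl⟩ := Ideal.Quotient.mk_surjective x
    rw [halg] at hx
    by_contra hnu
    have ha : a ∈ maximalIdeal A := by
      rw [mem_maximalIdeal, mem_nonunits_iff]
      exact fun h => hnu (h.map _)
    have hb : algebraMap A B a ∈ maximalIdeal B := hmap (Ideal.mem_map_of_mem _ ha)
    have : Ideal.Quotient.mk K (algebraMap A B a) ∈ maximalIdeal (B ⧸ K) := by
      rw [mem_maximalIdeal, mem_nonunits_iff]
      intro hu
      obtain ⟨y, hy⟩ := hu.exists_right_inv
      obtain ⟨b, rfl⟩ := Ideal.Quotient.mk_surjective y
      rw [← map_mul, ← map_one (Ideal.Quotient.mk K), Ideal.Quotient.eq] at hy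
      have h1 : algebraMap A B a * b - 1 ∈ maximalIdeal B := hKm hy
      have h2 : algebraMap A B a * b ∈ maximalIdeal B := Ideal.mul_mem_right _ _ hb
      have h3 : (1 : B) ∈ maximalIdeal B := by
        have := Ideal.sub_mem _ h2 h1
        simp at this
      exact (maximalIdeal.isMaximal B).ne_top ((Ideal.eq_top_iff_one _).mpr h3)
    rw [mem_maximalIdeal, mem_nonunits_iff] at this
    exact this hx
  have step2 := Groth.Agent.S5769.result (A ⧸ I) (B ⧸ K)
  -- step 3: compare the fibre
  set 𝔫 : Ideal (B ⧸ K) := (maximalIdeal (A ⧸ I)).map (algebraMap (A ⧸ I) (B ⧸ K)) with h𝔫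
  set L : Ideal B := J ⊔ (maximalIdeal A).map (algebraMap A B) with hL
  have step3 : ringKrullDim ((B ⧸ K) ⧸ 𝔫) ≤ ringKrullDim (B ⧸ L) := by
    let g : B →+* (B ⧸ K) ⧸ 𝔫 := (Ideal.Quotient.mk 𝔫).comp (Ideal.Quotient.mk K)
    have hg : ∀ b ∈ L, g b = 0 := by
      intro b hb
      have : L ≤ RingHom.ker g := by
        rw [hL, sup_le_iff]
        constructor
        · intro x hx
          rw [RingHom.mem_ker]
          change Ideal.Quotient.mk 𝔫 (Ideal.Quotient.mk K x) = 0
          rw [Ideal.Quotient.eq_zero_iff_mem.mpr (show x ∈ K from le_sup_left (a := J) hx), map_zero]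
        · rw [Ideal.map_le_iff_le_comap]
          intro a ha
          rw [Ideal.mem_comap, RingHom.mem_ker]
          change Ideal.Quotient.mk 𝔫 (Ideal.Quotient.mk K (algebraMap A B a)) = 0
          rw [Ideal.Quotient.eq_zero_iff_mem, ← halg]
          apply Ideal.mem_map_of_mem
          rw [mem_maximalIdeal, mem_nonunits_iff]
          intro hu
          have : IsUnit a := by
            by_contra hnu
            have ha' : a ∈ maximalIdeal A := by rwa [mem_maximalIdeal, mem_nonunits_iff]
            obtain ⟨y, hy⟩ := hu.exists_right_inv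
            obtain ⟨c, rfl⟩ := Ideal.Quotient.mk_surjective y
            rw [← map_mul, ← map_one (Ideal.Quotient.mk I), Ideal.Quotient.eq] at hy
            have h1 : a * c - 1 ∈ maximalIdeal A := hIm hy
            have h2 : a * c ∈ maximalIdeal A := Ideal.mul_mem_right _ _ ha'
            have h3 : (1 : A) ∈ maximalIdeal A := by
              have := Ideal.sub_mem _ h2 h1
              simp at this
            exact (maximalIdeal.isMaximal A).ne_top ((Ideal.eq_top_iff_one _).mpr h3)
          rw [mem_maximalIdeal, mem_nonunits_iff] at ha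
          exact ha this
      exact this hb
    refine ringKrullDim_le_of_surjective (Ideal.Quotient.lift L g hg) ?_
    intro y
    obtain ⟨y', rfl⟩ := Ideal.Quotient.mk_surjective y
    obtain ⟨b, rfl⟩ := Ideal.Quotient.mk_surjective y'
    exact ⟨Ideal.Quotient.mk L b, rfl⟩
  -- step 4: identify the dims
  have step4 : Module.supportDim A M = ringKrullDim (A ⧸ I) :=
    Module.supportDim_eq_ringKrullDim_quotient_annihilator A M
  have step5 : Module.supportDim B
      (N ⧸ ((maximalIdeal A).map (algebraMap A B) • (⊤ : Submodule B N))) = ringKrullDim (B ⧸ L) := by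
    rw [Module.supportDim, Module.support_quotient, Module.support_eq_zeroLocus,
      ← PrimeSpectrum.zeroLocus_sup, ringKrullDim_quotient]
  rw [step4, step5]
  exact step1.trans (step2.trans (add_le_add_right step3 _))

end H10S5770
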