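import Mathlib

set_option autoImplicit false
open scoped Pointwise

namespace Groth.Agent.Lib.helper10.Tame

variable {B : Type*} [CommRing B] {G : Type*} [Group G] [MulSemiringAction G B]
variable (m : Ideal B)

/-- an automorphism preserving `m` preserves all powers of `m`. -/
theorem smul_mem_pow {σ : G} (hσ : ∀ x ∈ m, σ • x ∈ m) (k : ℕ) :
    ∀ x ∈ m ^ k, σ • x ∈ m ^ k := by
  induction k with
  | zero => intro x _; simp
  | succ k ih =>
    intro x hx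
    rw [pow_succ] at hx ⊢
    refine Submodule.mul_induction_on hx ?_ ?_
    · intro a ha b hb
      rw [smul_mul']
      exact Ideal.mul_mem_mul (ih a ha) (hσ b hb)
    · intro a b ha hb
      rw [smul_add]
      exact Ideal.add_mem _ ha hb

variable {m}

theorem smul_mem_of_mem_inertia {σ : G} (hσ : σ ∈ m.inertia G) : ∀ x ∈ m, σ • x ∈ m := by
  intro x hx
  have := hσ x
  have h2 : σ • x = (σ • x - x) + x := by ring
  rw [h2]
  exact Ideal.add_mem _ this hx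

theorem inertia_sq_le : (m ^ 2).inertia G ≤ m.inertia G := by
  intro σ hσ x
  exact Ideal.pow_le_self (by norm_num) (hσ x)

variable {π : B}

/-- `m^n ⊆ (π^n) + m^(n+1)` -/
theorem pow_le_span_sup (hπ : π ∈ m) (H1 : m ≤ Ideal.span {π} ⊔ m ^ 2) (n : ℕ) :
    m ^ n ≤ Ideal.span {π ^ n} ⊔ m ^ (n + 1) := by
  induction n with
  | zero => simp
  | succ n ih =>
    intro x hx
    rw [pow_succ] at hx
    refine Submodule.mul_induction_on hx ?_ ?_
    · intro b hb a ha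
      obtain ⟨c, z, hz, rfl⟩ := Ideal.mem_span_singleton_sup.mp (H1 ha)
      obtain ⟨d, w, hw, rfl⟩ := Ideal.mem_span_singleton_sup.mp (ih hb)
      refine Ideal.mem_span_singleton_sup.mpr ⟨d * c, d * π ^ n * z + w * (c * π + z), ?_, by ring⟩
      refine Ideal.add_mem _ ?_ ?_
      · have h1 : d * π ^ n ∈ m ^ n := Ideal.mul_mem_left _ _ (Ideal.pow_mem_pow hπ n)
        have := Ideal.mul_mem_mul h1 hz
        rwa [← pow_add] at this
      · have h1 : c * π + z ∈ m :=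
          Ideal.add_mem _ (Ideal.mul_mem_left _ _ hπ) (Ideal.pow_le_self (by norm_num) hz)
        have := Ideal.mul_mem_mul hw h1
        rwa [← pow_succ] at this
    · intro a b ha hb
      exact Ideal.add_mem _ ha hb

/-- cancelling a unit mod `m`. -/
theorem mem_pow_of_mul_mem [m.IsMaximal] {c x : B} (hc : c ∉ m) (n : ℕ) (hx : x ∈ m ^ n)
    (h : c * x ∈ m ^ (n + 1)) : x ∈ m ^ (n + 1) := by
  obtain ⟨y, i, hi, hy⟩ := Ideal.IsMaximal.exists_inv (I := m) inferInstance hc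
  have : x = y * (c * x) + i * x := by
    calc x = (y * c + i) * x := by rw [hy, one_mul]
      _ = _ := by ring
  rw [this]
  refine Ideal.add_mem _ (Ideal.mul_mem_left _ _ h) ?_
  have := Ideal.mul_mem_mul hi hx
  rwa [← pow_succ'] at this

theorem smul_pow_sub_pow_mem {σ : G} (hσ2 : σ ∈ (m ^ 2).inertia G) (hπ : π ∈ m) (k : ℕ) :
    (σ • π) ^ k - π ^ k ∈ m ^ (k + 1) := by
  have hσπ : σ • π ∈ m := smul_mem_of_mem_inertia (inertia_sq_le hσ2) π hπ
  induction k with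
  | zero => simp
  | succ k ih =>
    have e : (σ • π) ^ (k + 1) - π ^ (k + 1)
        = (σ • π) * ((σ • π) ^ k - π ^ k) + (σ • π - π) * π ^ k := by ring
    rw [e]
    refine Ideal.add_mem _ ?_ ?_
    · have := Ideal.mul_mem_mul hσπ ih
      rwa [← pow_succ'] at this
    · have := Ideal.mul_mem_mul (hσ2 π) (Ideal.pow_mem_pow hπ k)
      rw [← pow_add] at this
      convert this using 2
      ring

theorem smul_sub_mem_pow_succ {σ : G} (hσ2 : σ ∈ (m ^ 2).inertia G) (hπ : π ∈ m)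
    (H1 : m ≤ Ideal.span {π} ⊔ m ^ 2) (n : ℕ) (y : B) (hy : y ∈ m ^ n) :
    σ • y - y ∈ m ^ (n + 1) := by
  have hσm : ∀ x ∈ m, σ • x ∈ m := smul_mem_of_mem_inertia (inertia_sq_le hσ2)
  obtain ⟨b, z, hz, rfl⟩ := Ideal.mem_span_singleton_sup.mp (pow_le_span_sup hπ H1 n hy)
  have e : σ • (b * π ^ n + z) - (b * π ^ n + z)
      = (σ • b - b) * (σ • π) ^ n + b * ((σ • π) ^ n - π ^ n) + (σ • z - z) := by
    rw [smul_add, smul_mul', smul_pow']
    ring
  rw [e]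
  refine Ideal.add_mem _ (Ideal.add_mem _ ?_ ?_) (Ideal.sub_mem _ ?_ hz)
  · have h1 : σ • b - b ∈ m := inertia_sq_le hσ2 b
    have := Ideal.mul_mem_mul h1 (Ideal.pow_mem_pow (hσm π hπ) n)
    rwa [← pow_succ'] at this
  · exact Ideal.mul_mem_left _ _ (smul_pow_sub_pow_mem hσ2 hπ n)
  · exact smul_mem_pow m hσm (n + 1) z hz

theorem inertia_pow_succ [m.IsMaximal] {σ : G} (hσ2 : σ ∈ (m ^ 2).inertia G) (hπ : π ∈ m)
    (H1 : m ≤ Ideal.span {π} ⊔ m ^ 2) {ℓ : ℕ} (hℓ : σ ^ ℓ = 1) (hℓm : (ℓ : B) ∉ m) (n : ℕ)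
    (hn : ∀ x : B, σ • x - x ∈ m ^ n) : ∀ x : B, σ • x - x ∈ m ^ (n + 1) := by
  intro x
  have hσm : ∀ x ∈ m, σ • x ∈ m := smul_mem_of_mem_inertia (inertia_sq_le hσ2)
  set δ := σ • x - x with hδ
  have hδn : δ ∈ m ^ n := hn x
  have key : ∀ k : ℕ, σ ^ k • x - x - k • δ ∈ m ^ (n + 1) := by
    intro k
    induction k with
    | zero => simp
    | succ k ih =>
      have e : σ ^ (k + 1) • x - x - (k + 1) • δ
          = σ • (σ ^ k • x - x - k • δ) + k • (σ • δ - δ) := by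
        rw [pow_succ', mul_smul, smul_sub, smul_sub, smul_comm σ k δ, hδ]
        simp only [smul_sub, add_smul, one_smul]
        abel
      rw [e]
      refine Ideal.add_mem _ (smul_mem_pow m hσm (n + 1) _ ih) ?_
      rw [nsmul_eq_mul]
      exact Ideal.mul_mem_left _ _ (smul_sub_mem_pow_succ hσ2 hπ H1 n δ hδn)
  have h := key ℓ
  rw [hℓ, one_smul, sub_self, zero_sub, neg_mem_iff, nsmul_eq_mul] at h
  exact mem_pow_of_mul_mem hℓm n hδn h

theorem eq_one_of_pow_eq_one [m.IsMaximal] [FaithfulSMul G B] {σ : G}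
    (hσ2 : σ ∈ (m ^ 2).inertia G) (hπ : π ∈ m)
    (H1 : m ≤ Ideal.span {π} ⊔ m ^ 2) (hinf : ⨅ n : ℕ, m ^ n = ⊥)
    {ℓ : ℕ} (hℓ : σ ^ ℓ = 1) (hℓm : (ℓ : B) ∉ m) : σ = 1 := by
  have key : ∀ n : ℕ, ∀ x : B, σ • x - x ∈ m ^ n := by
    intro n
    induction n with
    | zero => intro x; simp
    | succ n ih => exact inertia_pow_succ hσ2 hπ H1 hℓ hℓm n ih
  apply FaithfulSMul.eq_of_smul_eq_smul (α := B)
  intro x
  rw [one_smul]
  have : σ • x - x ∈ ⨅ n : ℕ, m ^ n := by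
    rw [Ideal.mem_iInf]
    exact fun n => key n x
  rw [hinf, Ideal.mem_bot, sub_eq_zero] at this
  exact this

section Theta

variable [m.IsMaximal]

theorem exists_coeff (hπ : π ∈ m) (H1 : m ≤ Ideal.span {π} ⊔ m ^ 2) {σ : G}
    (hσ : σ ∈ m.inertia G) : ∃ b : B, σ • π - b * π ∈ m ^ 2 := by
  obtain ⟨b, z, hz, e⟩ := Ideal.mem_span_singleton_sup.mp (H1 (smul_mem_of_mem_inertia hσ π hπ))
  refine ⟨b, ?_⟩
  rw [← e]
  simpa using hz

theorem coeff_unique (hπ : π ∈ m) (hπ2 : π ∉ m ^ 2) {b : B} (h : b * π ∈ m ^ 2) : b ∈ m := by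
  by_contra hb
  exact hπ2 (mem_pow_of_mul_mem hb 1 (by simpa using hπ) h)

/-- the tame character as a function to the residue field. -/
noncomputable def thetaFun (hπ : π ∈ m) (H1 : m ≤ Ideal.span {π} ⊔ m ^ 2)
    (σ : m.inertia G) : B ⧸ m :=
  Ideal.Quotient.mk m (exists_coeff hπ H1 σ.2).choose

theorem thetaFun_eq (hπ : π ∈ m) (hπ2 : π ∉ m ^ 2) (H1 : m ≤ Ideal.span {π} ⊔ m ^ 2)
    {σ : m.inertia G} {b : B} (h : (σ : G) • π - b * π ∈ m ^ 2) :
    thetaFun hπ H1 σ = Ideal.Quotient.mk m b := by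
  unfold thetaFun
  have hc := (exists_coeff hπ H1 σ.2).choose_spec
  set c := (exists_coeff hπ H1 σ.2).choose
  rw [Ideal.Quotient.eq]
  apply coeff_unique hπ hπ2
  have e : (c - b) * π = ((σ : G) • π - b * π) - ((σ : G) • π - c * π) := by ring
  rw [e]
  exact Ideal.sub_mem _ h hc

theorem thetaFun_one (hπ : π ∈ m) (hπ2 : π ∉ m ^ 2) (H1 : m ≤ Ideal.span {π} ⊔ m ^ 2) :
    thetaFun (G := G) hπ H1 1 = 1 := by
  rw [thetaFun_eq hπ hπ2 H1 (b := 1)]
  · rfl
  · simp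

theorem thetaFun_mul (hπ : π ∈ m) (hπ2 : π ∉ m ^ 2) (H1 : m ≤ Ideal.span {π} ⊔ m ^ 2)
    (σ τ : m.inertia G) :
    thetaFun hπ H1 (σ * τ) = thetaFun hπ H1 σ * thetaFun hπ H1 τ := by
  have hc := (exists_coeff hπ H1 σ.2).choose_spec
  have hb := (exists_coeff hπ H1 τ.2).choose_spec
  have e1 : thetaFun hπ H1 σ = Ideal.Quotient.mk m (exists_coeff hπ H1 σ.2).choose := rfl
  have e2 : thetaFun hπ H1 τ = Ideal.Quotient.mk m (exists_coeff hπ H1 τ.2).choose := rfl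
  set c := (exists_coeff hπ H1 σ.2).choose
  set b := (exists_coeff hπ H1 τ.2).choose
  rw [e1, e2, ← map_mul]
  apply thetaFun_eq hπ hπ2 H1
  have hσm : ∀ x ∈ m, (σ : G) • x ∈ m := smul_mem_of_mem_inertia σ.2
  have e : ((σ * τ : m.inertia G) : G) • π - c * b * π
      = ((σ : G) • b - b) * ((σ : G) • π) + b * ((σ : G) • π - c * π)
        + (σ : G) • ((τ : G) • π - b * π) := by
    rw [Subgroup.coe_mul, mul_smul, smul_sub, smul_mul']
    ring
  rw [e]
  refine Ideal.add_mem _ (Ideal.add_mem _ ?_ ?_) ?_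
  · have := Ideal.mul_mem_mul (σ.2 b) (hσm π hπ)
    rwa [← pow_two] at this
  · exact Ideal.mul_mem_left _ _ hc
  · exact smul_mem_pow m hσm 2 _ hb

/-- the tame character as a monoid hom to the residue field. -/
noncomputable def thetaHom (hπ : π ∈ m) (hπ2 : π ∉ m ^ 2) (H1 : m ≤ Ideal.span {π} ⊔ m ^ 2) :
    m.inertia G →* (B ⧸ m) where
  toFun := thetaFun hπ H1
  map_one' := thetaFun_one hπ hπ2 H1
  map_mul' := thetaFun_mul hπ hπ2 H1

theorem thetaHom_eq_one_iff (hπ : π ∈ m) (hπ2 : π ∉ m ^ 2) (H1 : m ≤ Ideal.span {π} ⊔ m ^ 2)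
    (σ : m.inertia G) : thetaHom hπ hπ2 H1 σ = 1 ↔ (σ : G) • π - π ∈ m ^ 2 := by
  change thetaFun hπ H1 σ = 1 ↔ _
  constructor
  · intro h
    have hc := (exists_coeff hπ H1 σ.2).choose_spec
    have e1 : thetaFun hπ H1 σ = Ideal.Quotient.mk m (exists_coeff hπ H1 σ.2).choose := rfl
    set c := (exists_coeff hπ H1 σ.2).choose
    rw [e1, ← map_one (Ideal.Quotient.mk m), Ideal.Quotient.eq] at h
    have e : (σ : G) • π - π = ((σ : G) • π - c * π) + (c - 1) * π := by ring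
    rw [e]
    refine Ideal.add_mem _ hc ?_
    have := Ideal.mul_mem_mul h hπ
    rwa [← pow_two] at this
  · intro h
    rw [thetaFun_eq hπ hπ2 H1 (b := 1)]
    · rfl
    · simpa using h

theorem smul_sub_mem_sq_of_mem (hπ : π ∈ m) (H1 : m ≤ Ideal.span {π} ⊔ m ^ 2) {σ : G}
    (hσ : σ ∈ m.inertia G) (h : σ • π - π ∈ m ^ 2) (y : B) (hy : y ∈ m) :
    σ • y - y ∈ m ^ 2 := by
  have hσm : ∀ x ∈ m, σ • x ∈ m := smul_mem_of_mem_inertia hσ
  obtain ⟨b, z, hz, rfl⟩ := Ideal.mem_span_singleton_sup.mp (H1 hy)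
  have e : σ • (b * π + z) - (b * π + z)
      = (σ • b - b) * (σ • π) + b * (σ • π - π) + (σ • z - z) := by
    rw [smul_add, smul_mul']
    ring
  rw [e]
  refine Ideal.add_mem _ (Ideal.add_mem _ ?_ ?_) (Ideal.sub_mem _ ?_ hz)
  · have := Ideal.mul_mem_mul (hσ b) (hσm π hπ)
    rwa [← pow_two] at this
  · exact Ideal.mul_mem_left _ _ h
  · exact smul_mem_pow m hσm 2 z hz

open Polynomial in
theorem mem_inertia_sq_of (hπ : π ∈ m) (H1 : m ≤ Ideal.span {π} ⊔ m ^ 2) {σ : G}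
    (hσ : σ ∈ m.inertia G) (h : σ • π - π ∈ m ^ 2)
    (H3 : ∀ x : B, ∃ g : B[X], σ • g = g ∧ g.eval x ∈ m ∧ g.derivative.eval x ∉ m) :
    σ ∈ (m ^ 2).inertia G := by
  intro x
  obtain ⟨g, hg, hgx, hg'x⟩ := H3 x
  set δ := σ • x - x with hδ
  have hδm : δ ∈ m := hσ x
  obtain ⟨k, hk⟩ := Polynomial.binomExpansion g x δ
  have e1 : σ • (g.eval x) = g.eval (x + δ) := by
    rw [← Polynomial.smul_eval_smul, hg, hδ]
    congr 1
    ring
  have h2 := smul_sub_mem_sq_of_mem hπ H1 hσ h _ hgx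
  rw [e1, hk] at h2
  have e : g.derivative.eval x * δ
      = (g.eval x + g.derivative.eval x * δ + k * δ ^ 2 - g.eval x) - k * δ ^ 2 := by ring
  have h3 : g.derivative.eval x * δ ∈ m ^ 2 := by
    rw [e]
    exact Ideal.sub_mem _ h2 (Ideal.mul_mem_left _ _ (Ideal.pow_mem_pow hδm 2))
  exact mem_pow_of_mul_mem hg'x 1 (by simpa using hδm) h3

end Theta

end Groth.Agent.Lib.helper10.Tame
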