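import Groth.Agent.Lib.helper10.RamCard
import Groth.Agent.Lib.helper10.Tame

set_option autoImplicit false
open scoped Pointwise

namespace Groth.Agent.Lib.helper10.TameAKLB

universe u

open Polynomial in
theorem aklb_facts (A K L B : Type u) [CommRing A] [IsDomain A] [IsDiscreteValuationRing A]
    [CommRing B] [IsDomain B] [Field K] [Field L] [Algebra A K] [Algebra B L] [IsFractionRing A K]
    [IsFractionRing B L]
    [Algebra A B] [Algebra K L] [Algebra A L] [IsScalarTower A K L] [IsScalarTower A B L]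
    [IsIntegralClosure B A L]
    [FiniteDimensional K L] [IsGalois K L] (m : Ideal B) [m.IsMaximal]
    [hs : Algebra.IsSeparable (A ⧸ m.comap (algebraMap A B)) (B ⧸ m)] :
    letI := IsIntegralClosure.MulSemiringAction A K L B
    ∃ π : B, π ∈ m ∧ π ∉ m ^ 2 ∧ m ≤ Ideal.span {π} ⊔ m ^ 2 ∧ (⨅ n : ℕ, m ^ n = ⊥) ∧
      FaithfulSMul (L ≃ₐ[K] L) B ∧
      (∀ σ : L ≃ₐ[K] L, ∀ x : B, ∃ g : B[X], σ • g = g ∧ g.eval x ∈ m ∧
        g.derivative.eval x ∉ m) := by
  let _ := IsIntegralClosure.MulSemiringAction A K L B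
  have hD := IsIntegralClosure.isDedekindDomain A K L B
  have hfin : Module.Finite A B := IsIntegralClosure.finite A K L B
  have hG : IsGaloisGroup Gal(L/K) A B := IsGaloisGroup.of_isFractionRing _ _ _ K L
  have hcomm := hG.commutes
  have hinj : Function.Injective (algebraMap A B) := by
    have h1 : Function.Injective (algebraMap A L) := by
      rw [IsScalarTower.algebraMap_eq A K L]
      exact (algebraMap K L).injective.comp (IsFractionRing.injective A K)
    rw [IsScalarTower.algebraMap_eq A B L] at h1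
    exact Function.Injective.of_comp h1
  set p := m.comap (algebraMap A B) with hp
  have hlo : m.LiesOver p := ⟨rfl⟩
  have hpmax : p.IsMaximal := Ideal.isMaximal_comap_of_isIntegral_of_isMaximal m
  have hpeq : p = IsLocalRing.maximalIdeal A := IsLocalRing.eq_maximalIdeal hpmax
  have hp0 : p ≠ ⊥ := by
    rw [hpeq]; exact IsDiscreteValuationRing.not_a_field A
  have hm0 : m ≠ ⊥ := by
    intro h
    apply hp0
    rw [hp, h]
    exact Ideal.comap_bot_of_injective _ hinj
  have hmtop : m ≠ ⊤ := Ideal.IsPrime.ne_top inferInstance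
  obtain ⟨π, hπ1, hπ2⟩ := Ideal.exists_mem_pow_notMem_pow_succ m hm0 hmtop 1
  rw [pow_one] at hπ1
  have hπ2' : π ∉ m ^ 2 := hπ2
  refine ⟨π, hπ1, hπ2', ?_, Ideal.iInf_pow_eq_bot_of_isDomain m hmtop, hG.faithful, ?_⟩
  · have hle : Ideal.span {π} ⊔ m ^ 2 ≤ m ^ 1 := by
      rw [pow_one]
      exact sup_le ((Ideal.span_singleton_le_iff_mem _).mpr hπ1) (Ideal.pow_le_self (by norm_num))
    have hlt : m ^ (1 + 1) < Ideal.span {π} ⊔ m ^ 2 := by
      refine lt_of_le_of_ne le_sup_right ?_
      intro h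
      apply hπ2'
      have : π ∈ Ideal.span {π} ⊔ m ^ 2 :=
        Ideal.mem_sup_left (Ideal.mem_span_singleton_self π)
      rw [← h] at this
      exact this
    have := Ideal.eq_prime_pow_of_succ_lt_of_le hm0 hlt hle
    rw [this, pow_one]
  · intro σ x
    have hsepx : IsSeparable (A ⧸ p) (Ideal.Quotient.mk m x) :=
      Algebra.IsSeparable.isSeparable (A ⧸ p) _
    obtain ⟨g₀, hg₀⟩ := Polynomial.map_surjective (Ideal.Quotient.mk p)
      Ideal.Quotient.mk_surjective (minpoly (A ⧸ p) (Ideal.Quotient.mk m x))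
    have hcompat : (Ideal.Quotient.mk m).comp (algebraMap A B)
        = (algebraMap (A ⧸ p) (B ⧸ m)).comp (Ideal.Quotient.mk p) := by
      ext a
      rfl
    have hmap : (g₀.map (algebraMap A B)).map (Ideal.Quotient.mk m)
        = (minpoly (A ⧸ p) (Ideal.Quotient.mk m x)).map (algebraMap (A ⧸ p) (B ⧸ m)) := by
      rw [Polynomial.map_map, hcompat, ← Polynomial.map_map, hg₀]
    refine ⟨g₀.map (algebraMap A B), ?_, ?_, ?_⟩
    · rw [Polynomial.smul_eq_map, Polynomial.map_map]
      congr 1
      ext a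
      simp
    · rw [← Ideal.Quotient.eq_zero_iff_mem, ← Polynomial.eval₂_at_apply, ← Polynomial.eval_map,
        hmap, Polynomial.eval_map_algebraMap, minpoly.aeval]
    · rw [← Ideal.Quotient.eq_zero_iff_mem, ← Polynomial.eval₂_at_apply, ← Polynomial.eval_map,
        ← Polynomial.derivative_map, hmap, Polynomial.derivative_map,
        Polynomial.eval_map_algebraMap]
      exact hsepx.aeval_derivative_ne_zero (minpoly.aeval _ _)

end Groth.Agent.Lib.helper10.TameAKLB
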