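import Mathlib

set_option autoImplicit false

namespace Groth.Agent.Lib.helper10.TameFinish

variable {Γ : Type*} [Group Γ] [Finite Γ] {κ : Type*} [CommRing κ] [IsDomain κ]

theorem isCyclic_of_inj (φ : Γ →* κˣ) (hφ : Function.Injective φ) : IsCyclic Γ :=
  isCyclic_of_injective_ringHom ((Units.coeHom κ).comp φ)
    (fun _ _ h => hφ (Units.ext h))

theorem not_dvd_card (φ : Γ →* κˣ) (hφ : Function.Injective φ) (p : ℕ) [hp : Fact p.Prime]
    [CharP κ p] : ¬ p ∣ Nat.card Γ := by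
  intro h
  obtain ⟨γ, hγ⟩ := exists_prime_orderOf_dvd_card' p h
  have h1 : γ ^ p = 1 := by rw [← hγ]; exact pow_orderOf_eq_one γ
  have h2 : ((φ γ : κˣ) : κ) ^ p = 1 := by
    rw [← Units.val_pow_eq_pow_val, ← map_pow, h1, map_one, Units.val_one]
  have h3 : (((φ γ : κˣ) : κ) - 1) ^ p = 0 := by rw [sub_pow_char, h2, one_pow, sub_self]
  have h4 : ((φ γ : κˣ) : κ) = 1 := sub_eq_zero.mp (pow_eq_zero_iff hp.out.ne_zero |>.mp h3)
  have h5 : γ = 1 := hφ (by rw [map_one]; exact Units.ext h4)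
  rw [h5, orderOf_one] at hγ
  exact hp.out.one_lt.ne hγ

theorem nonempty_equiv (φ : Γ →* κˣ) (hφ : Function.Injective φ) (e : ℕ) [NeZero e]
    (hcard : Nat.card Γ ∣ e)
    (hle : Nat.card (rootsOfUnity e κ) ≤ Nat.card Γ) : Nonempty (Γ ≃* rootsOfUnity e κ) := by
  have hmem : ∀ γ : Γ, φ γ ∈ rootsOfUnity e κ := by
    intro γ
    rw [mem_rootsOfUnity, ← map_pow]
    obtain ⟨d, hd⟩ := hcard
    rw [hd, pow_mul, pow_card_eq_one', one_pow, map_one]
  let φ' : Γ →* rootsOfUnity e κ := φ.codRestrict _ hmem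
  have hinj : Function.Injective φ' := by
    intro a b h
    apply hφ
    exact congrArg Subtype.val h
  have hbij : Function.Bijective φ' := hinj.bijective_of_nat_card_le hle
  exact ⟨MulEquiv.ofBijective φ' hbij⟩

theorem card_rootsOfUnity_le_of_charP (p : ℕ) [hp : Fact p.Prime] [CharP κ p] (a c : ℕ)
    [NeZero c] : Nat.card (rootsOfUnity (p ^ a * c) κ) ≤ c := by
  have hle : rootsOfUnity (p ^ a * c) κ ≤ rootsOfUnity c κ := by
    intro u hu
    rw [mem_rootsOfUnity'] at hu ⊢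
    rw [mul_comm, pow_mul] at hu
    have h3 : (((u : κ) ^ c) - 1) ^ p ^ a = 0 := by rw [sub_pow_char_pow, hu, one_pow, sub_self]
    exact sub_eq_zero.mp (pow_eq_zero_iff (pow_ne_zero _ hp.out.ne_zero) |>.mp h3)
  calc Nat.card (rootsOfUnity (p ^ a * c) κ) ≤ Nat.card (rootsOfUnity c κ) :=
        Subgroup.card_le_of_le hle
    _ ≤ c := card_rootsOfUnity κ c

end Groth.Agent.Lib.helper10.TameFinish
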