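import Mathlib

set_option maxHeartbeats 400000
set_option autoImplicit false
universe u v

namespace Groth.Agent.Lib.helper10.TameInertia

open IsLocalRing

variable {B : Type u} [CommRing B] [IsLocalRing B]
    {Γ : Type v} [Group Γ] [MulSemiringAction Γ B]

/-- the "wild" condition -/
def Sp (γ : Γ) : Prop := ∀ b : B, ∃ x ∈ maximalIdeal B, γ • b = b + b * x

section
variable (hin : ∀ (γ : Γ) (b : B), γ • b - b ∈ maximalIdeal B)
include hin

lemma smul_mem_max (γ : Γ) {y : B} (hy : y ∈ maximalIdeal B) : γ • y ∈ maximalIdeal B := by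
  have : γ • y = (γ • y - y) + y := by abel
  rw [this]
  exact (maximalIdeal B).add_mem (hin γ y) hy

omit hin in
lemma Sp_one : Sp (1 : Γ) (B := B) := fun b => ⟨0, (maximalIdeal B).zero_mem, by simp⟩

lemma Sp_mul {γ δ : Γ} (hγ : Sp γ (B := B)) (hδ : Sp δ (B := B)) : Sp (γ * δ) (B := B) := by
  intro b
  obtain ⟨x, hx, hxe⟩ := hδ b
  obtain ⟨y, hy, hye⟩ := hγ b
  refine ⟨y + γ • x + y * γ • x, ?_, ?_⟩
  · exact (maximalIdeal B).add_mem ((maximalIdeal B).add_mem hy (smul_mem_max hin γ hx))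
      ((maximalIdeal B).mul_mem_left _ (smul_mem_max hin γ hx))
  · rw [mul_smul, hxe, smul_add, smul_mul', hye]
    ring

lemma Sp_pow {γ : Γ} (hγ : Sp γ (B := B)) (i : ℕ) : Sp (γ ^ i) (B := B) := by
  induction i with
  | zero => rw [pow_zero]; exact Sp_one
  | succ i ih => rw [pow_succ]; exact Sp_mul hin ih hγ

omit hin in
lemma one_add_isUnit {y : B} (hy : y ∈ maximalIdeal B) : IsUnit (1 + y) := by
  rw [← IsLocalRing.notMem_maximalIdeal]
  intro h
  have : (1 : B) ∈ maximalIdeal B := by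
    have h1 : (1 : B) = (1 + y) - y := by abel
    rw [h1]; exact (maximalIdeal B).sub_mem h hy
  exact (Ideal.ne_top_iff_one _).1 (IsLocalRing.maximalIdeal.isMaximal B).ne_top this

omit hin in
lemma Sp_inv {γ : Γ} (hγ : Sp γ (B := B)) : Sp γ⁻¹ (B := B) := by
  intro b
  obtain ⟨x, hx, hxe⟩ := hγ (γ⁻¹ • b)
  -- b = γ⁻¹ b + γ⁻¹ b * x  after applying ...
  rw [smul_inv_smul] at hxe
  -- b = (γ⁻¹ • b) * (1 + x)
  obtain ⟨w, hw⟩ := (one_add_isUnit hx).exists_left_inv
  -- w * (1 + x) = 1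
  have hw1 : w - 1 ∈ maximalIdeal B := by
    have : w - 1 = -(w * x) := by
      have : w * (1 + x) = 1 := hw
      linear_combination this
    rw [this]
    exact (maximalIdeal B).neg_mem ((maximalIdeal B).mul_mem_left _ hx)
  refine ⟨w - 1, hw1, ?_⟩
  have : γ⁻¹ • b = b * w := by
    have h1 : b = (γ⁻¹ • b) * (1 + x) := by linear_combination hxe
    calc γ⁻¹ • b = (γ⁻¹ • b) * ((1 + x) * w) := by rw [mul_comm (1 + x) w, hw, mul_one]
      _ = ((γ⁻¹ • b) * (1 + x)) * w := by ring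
      _ = b * w := by rw [← h1]
  rw [this]; ring

/-- power formula -/
lemma pow_formula (γ : Γ) (b u : B) (hu : γ • b = b * u) (i : ℕ) :
    ∃ y ∈ maximalIdeal B, γ ^ i • b = b * (u ^ i + y) := by
  induction i with
  | zero => exact ⟨0, (maximalIdeal B).zero_mem, by simp⟩
  | succ i ih =>
    obtain ⟨y, hy, hye⟩ := ih
    refine ⟨u * (y + (γ • (u ^ i + y) - (u ^ i + y))), ?_, ?_⟩
    · exact (maximalIdeal B).mul_mem_left _ ((maximalIdeal B).add_mem hy (hin γ _))
    · rw [pow_succ', mul_smul, hye, smul_mul', hu]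
      ring

/-- trace trick: a wild element of order invertible in `B` acts trivially. -/
lemma smul_eq_of_pow_eq_one {γ : Γ} (hγ : Sp γ (B := B)) (l : ℕ) (hl : γ ^ l = 1)
    (hlu : IsUnit (l : B)) (b : B) : γ • b = b := by
  classical
  -- for every y, trace y = y * unit
  have key : ∀ y : B, ∃ z ∈ maximalIdeal B,
      ∑ i ∈ Finset.range l, γ ^ i • y = y * ((l : B) + z) := by
    intro y
    have hch : ∀ i : ℕ, ∃ x ∈ maximalIdeal B, γ ^ i • y = y + y * x := fun i => Sp_pow hin hγ i y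
    choose x hx hxe using hch
    refine ⟨∑ i ∈ Finset.range l, x i, (maximalIdeal B).sum_mem fun i _ => hx i, ?_⟩
    rw [Finset.sum_congr rfl (fun i _ => hxe i), Finset.sum_add_distrib, Finset.sum_const,
      Finset.card_range, ← Finset.mul_sum, nsmul_eq_mul]
    ring
  obtain ⟨z, hz, hze⟩ := key (γ • b - b)
  have htel : ∑ i ∈ Finset.range l, γ ^ i • (γ • b - b) = 0 := by
    have : ∀ i, γ ^ i • (γ • b - b) = γ ^ (i + 1) • b - γ ^ i • b := by
      intro i
      rw [smul_sub, ← mul_smul, ← pow_succ]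
    rw [Finset.sum_congr rfl (fun i _ => this i), Finset.sum_range_sub (fun i => γ ^ i • b), hl,
      pow_zero, sub_self]
  rw [htel] at hze
  have hunit : IsUnit ((l : B) + z) := by
    rw [← IsLocalRing.notMem_maximalIdeal]
    intro h
    have : (l : B) ∈ maximalIdeal B := by
      have h1 : (l : B) = ((l : B) + z) - z := by abel
      rw [h1]; exact (maximalIdeal B).sub_mem h hz
    exact (IsLocalRing.notMem_maximalIdeal.2 hlu) this
  have := hunit.mul_left_eq_zero.1 hze.symm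
  exact sub_eq_zero.1 this

omit hin in
lemma natCast_isUnit (l : ℕ) (hl : (l : ResidueField B) ≠ 0) : IsUnit (l : B) := by
  rw [← IsLocalRing.notMem_maximalIdeal]
  intro h
  apply hl
  have := (IsLocalRing.residue_eq_zero_iff (l : B)).2 h
  simpa using this

variable (hst : ∀ (γ : Γ) (b : B), ∃ u : B, γ • b = b * u)
include hst

lemma Sp_comm (γ δ : Γ) : Sp (γ * δ * γ⁻¹ * δ⁻¹) (B := B) := by
  intro b
  -- b' = γ⁻¹ δ⁻¹ b = b * r
  obtain ⟨r₁, hr₁⟩ := hst δ⁻¹ b
  obtain ⟨r₂, hr₂⟩ := hst γ⁻¹ (δ⁻¹ • b)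
  set b' := γ⁻¹ • δ⁻¹ • b with hb'
  have hb'r : b' = b * (r₁ * r₂) := by rw [hr₂, hr₁]; ring
  obtain ⟨u, hu⟩ := hst γ b'
  obtain ⟨v, hv⟩ := hst δ b'
  have h1 : γ • δ • b' = b' * (u * γ • v) := by rw [hv, smul_mul', hu]; ring
  have h2 : δ • γ • b' = b' * (v * δ • u) := by rw [hu, smul_mul', hv]; ring
  have h3 : δ • γ • b' = b := by rw [hb', smul_inv_smul, smul_inv_smul]
  have h4 : (γ * δ * γ⁻¹ * δ⁻¹) • b = γ • δ • b' := by
    rw [hb', mul_smul, mul_smul, mul_smul]
  refine ⟨(r₁ * r₂) * (u * (γ • v - v) - v * (δ • u - u)), ?_, ?_⟩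
  · exact (maximalIdeal B).mul_mem_left _ ((maximalIdeal B).sub_mem
      ((maximalIdeal B).mul_mem_left _ (hin γ v)) ((maximalIdeal B).mul_mem_left _ (hin δ u)))
  · rw [h4, h1]
    have : b' * (u * γ • v) = δ • γ • b' + b' * (u * (γ • v - v) - v * (δ • u - u)) := by
      rw [h2]; ring
    rw [this, h3, hb'r]
    ring

/-- if `ū ^ N = 1` forces `ū ^ M = 1` in the residue field, wildness of `γ^N` on `b` gives
wildness of `γ ^ M` on `b`. -/
lemma wild_transfer (γ : Γ) (N M : ℕ)
    (hNM : ∀ ζ : ResidueField B, ζ ^ N = 1 → ζ ^ M = 1) (b : B)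
    (hN : ∃ x ∈ maximalIdeal B, γ ^ N • b = b + b * x) :
    ∃ x ∈ maximalIdeal B, γ ^ M • b = b + b * x := by
  obtain ⟨u, hu⟩ := hst γ b
  obtain ⟨x, hx, hxe⟩ := hN
  obtain ⟨y, hy, hye⟩ := pow_formula hin γ b u hu N
  obtain ⟨y', hy', hye'⟩ := pow_formula hin γ b u hu M
  -- b * (u^N + y - 1 - x) = 0
  have h0 : b * (u ^ N + y - 1 - x) = 0 := by
    have : b * (u ^ N + y) = b + b * x := by rw [← hye, hxe]
    linear_combination this
  by_cases hw : u ^ N + y - 1 - x ∈ maximalIdeal B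
  · -- residue of u
    have hres : (residue B u) ^ N = 1 := by
      have h1 : residue B (u ^ N + y - 1 - x) = 0 := (residue_eq_zero_iff _).2 hw
      have h2 : residue B y = 0 := (residue_eq_zero_iff _).2 hy
      have h3 : residue B x = 0 := (residue_eq_zero_iff _).2 hx
      rw [map_sub, map_sub, map_add, map_pow, map_one, h2, h3, add_zero, sub_zero] at h1
      exact sub_eq_zero.1 h1
    have hres' := hNM _ hres
    have hmem : u ^ M - 1 ∈ maximalIdeal B := by
      rw [← residue_eq_zero_iff, map_sub, map_pow, map_one, hres', sub_self]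
    refine ⟨u ^ M - 1 + y', (maximalIdeal B).add_mem hmem hy', ?_⟩
    rw [hye']; ring
  · have hunit : IsUnit (u ^ N + y - 1 - x) := IsLocalRing.notMem_maximalIdeal.1 hw
    have hb0 : b = 0 := hunit.mul_left_eq_zero.1 h0
    exact ⟨0, (maximalIdeal B).zero_mem, by rw [hb0]; simp⟩

end

theorem main [Finite Γ] [FaithfulSMul Γ B]
    (hin : ∀ (γ : Γ) (b : B), γ • b - b ∈ IsLocalRing.maximalIdeal B)
    (hst : ∀ (γ : Γ) (b : B), ∃ u : B, γ • b = b * u)
    (S : Set Γ)
    (hS : ∀ γ : Γ, γ ∈ S ↔ ∀ b : B, ∃ x ∈ IsLocalRing.maximalIdeal B, γ • b = b + b * x) :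
    (ringChar (IsLocalRing.ResidueField B) = 0 → S = {1}) ∧
      (∀ (p : ℕ) [Fact p.Prime], ringChar (IsLocalRing.ResidueField B) = p →
        ∃ Q : Sylow p Γ, (Q : Set Γ) = S) ∧
      (∀ γ δ : Γ, γ * δ * γ⁻¹ * δ⁻¹ ∈ S) ∧
      (∀ (γ : Γ) (n : ℕ), 0 < n → γ ^ n ∈ S → (∀ i : ℕ, 0 < i → i < n → γ ^ i ∉ S) →
        ∃ ζ : IsLocalRing.ResidueField B, IsPrimitiveRoot ζ n) := by
  have hS' : ∀ γ, γ ∈ S ↔ Sp γ (B := B) := hS
  have htriv : ∀ γ : Γ, (∀ b : B, γ • b = b) → γ = 1 := by
    intro γ h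
    apply FaithfulSMul.eq_of_smul_eq_smul (α := B)
    intro b
    rw [h b, one_smul]
  refine ⟨?_, ?_, ?_, ?_⟩
  · intro hchar
    have hcp : CharP (ResidueField B) 0 := by
      have := ringChar.charP (ResidueField B)
      rwa [hchar] at this
    ext γ
    simp only [Set.mem_singleton_iff]
    constructor
    · intro hγ
      have hγ' := (hS' γ).1 hγ
      apply htriv
      intro b
      refine smul_eq_of_pow_eq_one hin hγ' (orderOf γ) (pow_orderOf_eq_one γ) ?_ b
      apply natCast_isUnit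
      rw [Ne, CharP.cast_eq_zero_iff (ResidueField B) 0, zero_dvd_iff]
      exact (orderOf_pos γ).ne'
    · rintro rfl
      exact (hS' 1).2 Sp_one
  · intro p hp hchar
    have hcp : CharP (ResidueField B) p := by
      have := ringChar.charP (ResidueField B)
      rwa [hchar] at this
    let S' : Subgroup Γ :=
      { carrier := S
        mul_mem' := fun {a b} ha hb => (hS' _).2 (Sp_mul hin ((hS' a).1 ha) ((hS' b).1 hb))
        one_mem' := (hS' 1).2 Sp_one
        inv_mem' := fun {a} ha => (hS' _).2 (Sp_inv ((hS' a).1 ha)) }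
    have hpg : IsPGroup p S' := by
      rintro ⟨γ, hγ⟩
      have hγ' : Sp γ (B := B) := (hS' γ).1 hγ
      obtain ⟨a, l, hl, hal⟩ := Nat.exists_eq_pow_mul_and_not_dvd (orderOf_pos γ).ne' p
        hp.out.ne_one
      refine ⟨a, ?_⟩
      apply Subtype.ext
      show γ ^ p ^ a = 1
      apply htriv
      intro b
      refine smul_eq_of_pow_eq_one hin (Sp_pow hin hγ' _) l ?_ ?_ b
      · rw [← pow_mul, ← hal, pow_orderOf_eq_one]
      · apply natCast_isUnit
        rw [Ne, CharP.cast_eq_zero_iff (ResidueField B) p]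
        exact hl
    refine ⟨⟨S', hpg, ?_⟩, rfl⟩
    intro Q hQ hle
    apply le_antisymm _ hle
    intro γ hγQ
    obtain ⟨a, ha⟩ := hQ ⟨γ, hγQ⟩
    have ha' : γ ^ p ^ a = 1 := congrArg Subtype.val ha
    show γ ∈ S
    rw [hS' γ]
    intro b
    have := wild_transfer hin hst γ (p ^ a) 1 ?_ b ⟨0, (maximalIdeal B).zero_mem, by
      rw [ha']; simp⟩
    · simpa using this
    · intro ζ hζ
      rw [pow_one]
      have : (ζ - 1) ^ p ^ a = 0 := by
        rw [sub_pow_char_pow, hζ, one_pow, sub_self]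
      exact sub_eq_zero.1 (pow_eq_zero_iff (pow_pos hp.out.pos a).ne' |>.1 this)
  · intro γ δ
    exact (hS' _).2 (Sp_comm hin hst γ δ)
  · intro γ n hn hγn hmin
    have : NeZero n := ⟨hn.ne'⟩
    set e := Nat.card (rootsOfUnity n (ResidueField B)) with he
    have hepos : 0 < e := Nat.card_pos
    have hele : e ≤ n := card_rootsOfUnity (ResidueField B) n
    have hγe : γ ^ e ∈ S := by
      rw [hS' _]
      intro b
      refine wild_transfer hin hst γ n e ?_ b ((hS' _).1 hγn b)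
      intro ζ hζ
      have hu : IsUnit ζ := IsUnit.of_pow_eq_one hζ hn.ne'
      obtain ⟨ζ', rfl⟩ := hu
      have hmem : ζ' ∈ rootsOfUnity n (ResidueField B) := by
        rw [mem_rootsOfUnity]; exact Units.ext (by simpa using hζ)
      have h3 : ((⟨ζ', hmem⟩ : rootsOfUnity n (ResidueField B)) ^ e :
          rootsOfUnity n (ResidueField B)) = 1 := pow_card_eq_one'
      have h4 := congrArg (fun z : rootsOfUnity n (ResidueField B) =>
        ((z : (ResidueField B)ˣ) : ResidueField B)) h3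
      simp only [SubmonoidClass.coe_pow, Units.val_pow_eq_pow_val, OneMemClass.coe_one,
        Units.val_one] at h4
      exact h4
    have hen : e = n := by
      by_contra hne
      exact hmin e hepos (lt_of_le_of_ne hele hne) hγe
    obtain ⟨g, hg⟩ := IsCyclic.exists_generator (α := rootsOfUnity n (ResidueField B))
    have hord : orderOf g = n := by
      rw [orderOf_eq_card_of_forall_mem_zpowers hg, ← he, hen]
    refine ⟨((g : (ResidueField B)ˣ) : ResidueField B), ?_⟩
    have h1 : orderOf (((g : (ResidueField B)ˣ) : ResidueField B)) = n := by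
      rw [orderOf_units, Subgroup.orderOf_coe, hord]
    have h5 := IsPrimitiveRoot.orderOf (((g : (ResidueField B)ˣ) : ResidueField B))
    rwa [h1] at h5

end Groth.Agent.Lib.helper10.TameInertia
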