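import Mathlib

/-!
# The diagonal of a polynomial algebra quotient: `ker (P ⊗ B → B)` and the derivation `∂_k ⊗ 1`
-/

set_option autoImplicit false
universe u
open TensorProduct

namespace Groth.Agent.Lib.helper10.TateDiag

variable {A : Type u} [CommRing A] {n : ℕ} {B : Type u} [CommRing B] [Algebra A B]
  (q : MvPolynomial (Fin n) A →ₐ[A] B)

/-- `x_j ⊗ 1 - 1 ⊗ x̄_j` -/
noncomputable def gdiag (j : Fin n) : MvPolynomial (Fin n) A ⊗[A] B :=
  (MvPolynomial.X j) ⊗ₜ[A] 1 - 1 ⊗ₜ[A] (q (MvPolynomial.X j))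

/-- the multiplication map `P ⊗ B → B` -/
noncomputable abbrev pm : MvPolynomial (Fin n) A ⊗[A] B →ₐ[A] B :=
  Algebra.TensorProduct.productMap q (AlgHom.id A B)

theorem pm_tmul (p : MvPolynomial (Fin n) A) (b : B) :
    pm q (p ⊗ₜ[A] b) = q p * b := by
  simp [pm]

theorem pm_gdiag (j : Fin n) : pm q (gdiag q j) = 0 := by
  rw [gdiag, map_sub, pm_tmul, pm_tmul]
  simp

theorem sub_mem_span (p : MvPolynomial (Fin n) A) :
    p ⊗ₜ[A] (1 : B) - 1 ⊗ₜ[A] (q p) ∈ Ideal.span (Set.range (gdiag q)) := by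
  induction p using MvPolynomial.induction_on with
  | C a =>
    have : (MvPolynomial.C a : MvPolynomial (Fin n) A) ⊗ₜ[A] (1 : B) =
        1 ⊗ₜ[A] (q (MvPolynomial.C a)) := by
      rw [← MvPolynomial.algebraMap_eq, Algebra.algebraMap_eq_smul_one, TensorProduct.smul_tmul,
        map_smul, map_one]
    rw [this, sub_self]
    exact Ideal.zero_mem _
  | add p p' hp hq =>
    have : (p + p') ⊗ₜ[A] (1 : B) - 1 ⊗ₜ[A] (q (p + p')) =
        (p ⊗ₜ[A] (1 : B) - 1 ⊗ₜ[A] (q p)) + (p' ⊗ₜ[A] (1 : B) - 1 ⊗ₜ[A] (q p')) := by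
      rw [TensorProduct.add_tmul, map_add, TensorProduct.tmul_add]
      abel
    rw [this]
    exact Ideal.add_mem _ hp hq
  | mul_X p j hp =>
    have : (p * MvPolynomial.X j) ⊗ₜ[A] (1 : B) - 1 ⊗ₜ[A] (q (p * MvPolynomial.X j)) =
        (p ⊗ₜ[A] (1 : B)) * gdiag q j +
        (p ⊗ₜ[A] (1 : B) - 1 ⊗ₜ[A] (q p)) *
          ((1 : MvPolynomial (Fin n) A) ⊗ₜ[A] (q (MvPolynomial.X j))) := by
      rw [gdiag, mul_sub, sub_mul]
      simp only [Algebra.TensorProduct.tmul_mul_tmul, mul_one, one_mul, map_mul]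
      abel
    rw [this]
    exact Ideal.add_mem _ (Ideal.mul_mem_left _ _ (Ideal.subset_span ⟨j, rfl⟩))
      (Ideal.mul_mem_right _ _ hp)

/-- the kernel of `P ⊗ B → B` is generated by the `x_j ⊗ 1 - 1 ⊗ x̄_j`. -/
theorem span_gdiag_eq_ker : Ideal.span (Set.range (gdiag q)) = RingHom.ker (pm q) := by
  apply le_antisymm
  · rw [Ideal.span_le]
    rintro _ ⟨j, rfl⟩
    exact pm_gdiag q j
  · intro z hz
    have hz' : pm q z = 0 := hz
    have key : ∀ z : MvPolynomial (Fin n) A ⊗[A] B,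
        z - 1 ⊗ₜ[A] (pm q z) ∈ Ideal.span (Set.range (gdiag q)) := by
      intro z
      induction z using TensorProduct.induction_on with
      | zero => simp
      | tmul p b =>
        rw [pm_tmul]
        have : p ⊗ₜ[A] b - (1 : MvPolynomial (Fin n) A) ⊗ₜ[A] (q p * b) =
            (p ⊗ₜ[A] (1 : B) - 1 ⊗ₜ[A] (q p)) * ((1 : MvPolynomial (Fin n) A) ⊗ₜ[A] b) := by
          rw [sub_mul]
          simp only [Algebra.TensorProduct.tmul_mul_tmul, mul_one, one_mul]
        rw [this]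
        exact Ideal.mul_mem_right _ _ (sub_mem_span q p)
      | add x y hx hy =>
        have : x + y - (1 : MvPolynomial (Fin n) A) ⊗ₜ[A] (pm q (x + y)) =
            (x - 1 ⊗ₜ[A] (pm q x)) + (y - 1 ⊗ₜ[A] (pm q y)) := by
          rw [map_add, TensorProduct.tmul_add]
          abel
        rw [this]
        exact Ideal.add_mem _ hx hy
    have h := key z
    rwa [hz', TensorProduct.tmul_zero, sub_zero] at h

/-- `∂_k ⊗ 1` -/
noncomputable def Dk (B : Type u) [CommRing B] [Algebra A B] (k : Fin n) :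
    MvPolynomial (Fin n) A ⊗[A] B →ₗ[A] MvPolynomial (Fin n) A ⊗[A] B :=
  LinearMap.rTensor B ((MvPolynomial.pderiv k : Derivation A (MvPolynomial (Fin n) A)
    (MvPolynomial (Fin n) A)).toLinearMap)

theorem Dk_tmul (k : Fin n) (p : MvPolynomial (Fin n) A) (b : B) :
    Dk B k (p ⊗ₜ[A] b) = (MvPolynomial.pderiv k p) ⊗ₜ[A] b := rfl

theorem Dk_mul_right (k : Fin n) (z : MvPolynomial (Fin n) A ⊗[A] B) (b : B) :
    Dk B k (z * ((1 : MvPolynomial (Fin n) A) ⊗ₜ[A] b)) = Dk B k z * (1 ⊗ₜ[A] b) := by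
  induction z using TensorProduct.induction_on with
  | zero => simp
  | tmul p b' =>
    simp only [Algebra.TensorProduct.tmul_mul_tmul, mul_one, Dk_tmul]
  | add x y hx hy => rw [add_mul, map_add, hx, hy, map_add, add_mul]

theorem Dk_mul_X (k j : Fin n) (z : MvPolynomial (Fin n) A ⊗[A] B) :
    Dk B k (z * ((MvPolynomial.X j : MvPolynomial (Fin n) A) ⊗ₜ[A] (1 : B))) =
      Dk B k z * ((MvPolynomial.X j : MvPolynomial (Fin n) A) ⊗ₜ[A] (1 : B)) +
        (if j = k then z else 0) := by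
  induction z using TensorProduct.induction_on with
  | zero => simp
  | tmul p b =>
    simp only [Algebra.TensorProduct.tmul_mul_tmul, mul_one, Dk_tmul, Derivation.leibniz,
      MvPolynomial.pderiv_X, smul_eq_mul]
    rw [TensorProduct.add_tmul]
    by_cases h : j = k
    · subst h
      simp [add_comm, mul_comm]
    · have h' : (Pi.single j (1 : MvPolynomial (Fin n) A) : Fin n → MvPolynomial (Fin n) A) k = 0 :=
        Pi.single_eq_of_ne (Ne.symm h) _
      simp [h, mul_comm]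
  | add x y hx hy =>
    rw [add_mul, map_add, hx, hy, map_add, add_mul]
    by_cases h : j = k
    · simp only [h, if_true]; abel
    · simp only [h, if_false]; abel

theorem Dk_mul_gdiag (k j : Fin n) (z : MvPolynomial (Fin n) A ⊗[A] B) :
    Dk B k (z * gdiag q j) = Dk B k z * gdiag q j + (if j = k then z else 0) := by
  rw [gdiag, mul_sub, map_sub, Dk_mul_X, Dk_mul_right, mul_sub]
  abel

/-- if `f ⊗ 1 = ∑ c_j g_j` then the image of `c_k` in `B` is the image of `∂_k f`. -/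
theorem pm_coeff_eq (f : MvPolynomial (Fin n) A)
    (c : Fin n → MvPolynomial (Fin n) A ⊗[A] B)
    (hc : f ⊗ₜ[A] (1 : B) = ∑ j, c j * gdiag q j) (k : Fin n) :
    pm q (c k) = q (MvPolynomial.pderiv k f) := by
  have h1 := congrArg (fun z => pm q (Dk B k z)) hc
  simp only [Dk_tmul, pm_tmul, mul_one, map_sum, Dk_mul_gdiag, map_add, map_mul, pm_gdiag,
    mul_zero, zero_add] at h1
  rw [h1, Finset.sum_eq_single k]
  · simp
  · intro j _ hjk
    simp [hjk]
  · intro h
    exact absurd (Finset.mem_univ k) h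

end Groth.Agent.Lib.helper10.TateDiag
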