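import Groth.Agent.S2215
import Groth.Agent.S2228

/-!
# If `Ann(ker(B ⊗ B → B))` is principal and `ω_{B/A}` is invertible then `ω_{B/A} ≅ B`
with the trace corresponding to the image of the generator.
-/

set_option autoImplicit false
universe u
open TensorProduct

namespace Groth.Agent.Lib.helper10.TateOmega

open Groth.Agent.S2215

variable {A B : Type u} [CommRing A] [CommRing B] [Algebra A B]

/-- pairing with `z * Δ` for `Δ` in the annihilator of the diagonal ideal -/
theorem P_mul_of_mem_ann (Δ : B ⊗[A] B)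
    (hΔ : Δ ∈ Submodule.annihilator (RingHom.ker (Algebra.TensorProduct.lmul' (S := B) A)))
    (z : B ⊗[A] B) (l : Disc.Omega A B) :
    P (z * Δ) l = Algebra.TensorProduct.lmul' (S := B) A z * P Δ l := by
  rw [mem_ann_iff] at hΔ
  induction z using TensorProduct.induction_on with
  | zero => simp [P_zero]
  | tmul b c =>
    have h1 : (b ⊗ₜ[A] c) * Δ = (Δ * ((1 : B) ⊗ₜ[A] (b * c))) := by
      have : (b ⊗ₜ[A] c : B ⊗[A] B) = (b ⊗ₜ[A] (1 : B)) * ((1 : B) ⊗ₜ[A] c) := by
        rw [Algebra.TensorProduct.tmul_mul_tmul, mul_one, one_mul]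
      rw [this, mul_comm, ← mul_assoc, ← hΔ b, mul_assoc, Algebra.TensorProduct.tmul_mul_tmul,
        one_mul]
    rw [h1, P_mul_right, Algebra.TensorProduct.lmul'_apply_tmul]
  | add x y hx hy => rw [add_mul, P_add, hx, hy, map_add, add_mul]

variable [IsNoetherianRing A] [Module.Finite A B] [Module.Free A B]

theorem exists_equiv (Δ : B ⊗[A] B)
    (hΔ : Submodule.annihilator (RingHom.ker (Algebra.TensorProduct.lmul' (S := B) A)) =
      Ideal.span {Δ}) [Module.Invertible B (Disc.Omega A B)] :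
    ∃ e : B ≃ₗ[B] Disc.Omega A B,
      e (Algebra.TensorProduct.lmul' (S := B) A Δ) = Disc.Omega.trace A B := by
  classical
  have hΔmem : Δ ∈ Submodule.annihilator
      (RingHom.ker (Algebra.TensorProduct.lmul' (S := B) A)) := by
    rw [hΔ]; exact Ideal.mem_span_singleton_self Δ
  have hΔ' := (mem_ann_iff Δ).mp hΔmem
  let φ₀ : Disc.Omega A B →ₗ[B] B :=
    { toFun := fun l => P Δ l
      map_add' := fun l l' => P_add_right Δ l l'
      map_smul' := fun b l => by
        rw [RingHom.id_apply, ← P_mul_left, ← hΔ' b, P_mul_right, smul_eq_mul] }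
  have hφ₀τ : φ₀ (Disc.Omega.trace A B) = Algebra.TensorProduct.lmul' (S := B) A Δ :=
    apply_trace (Module.Free.chooseBasis A B) φ₀ Δ fun l => rfl
  -- every functional is a multiple of `φ₀`
  have hgen : ∀ Φ : Disc.Omega A B →ₗ[B] B, ∃ b : B, ∀ l, Φ l = b * φ₀ l := by
    intro Φ
    obtain ⟨ξ, ⟨hξ, hΦ⟩, -⟩ := Groth.Agent.S2228.result Φ
    rw [hΔ, Ideal.mem_span_singleton'] at hξ
    obtain ⟨z, rfl⟩ := hξ
    refine ⟨Algebra.TensorProduct.lmul' (S := B) A z, fun l => ?_⟩
    rw [hΦ l]
    exact P_mul_of_mem_ann Δ hΔmem z l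
  -- surjectivity
  have hsurj : Function.Surjective φ₀ := by
    have hrange : ∀ t : Module.Dual B (Disc.Omega A B) ⊗[B] Disc.Omega A B,
        contractLeft B (Disc.Omega A B) t ∈ LinearMap.range φ₀ := by
      intro t
      induction t using TensorProduct.induction_on with
      | zero => simp
      | tmul ψ m =>
        obtain ⟨b, hb⟩ := hgen ψ
        rw [contractLeft_apply, hb m]
        exact ⟨b • m, by rw [map_smul, smul_eq_mul]⟩
      | add x y hx hy => rw [map_add]; exact Submodule.add_mem _ hx hy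
    obtain ⟨t, ht⟩ := (Module.Invertible.bijective (R := B) (M := Disc.Omega A B)).2 1
    have h1 : (1 : B) ∈ LinearMap.range φ₀ := ht ▸ hrange t
    rw [← LinearMap.range_eq_top]
    exact (Ideal.eq_top_iff_one (LinearMap.range φ₀)).mpr h1
  have hbij : Function.Bijective φ₀ := Module.Invertible.bijective_of_surjective hsurj
  refine ⟨(LinearEquiv.ofBijective φ₀ hbij).symm, ?_⟩
  rw [← hφ₀τ]
  exact (LinearEquiv.ofBijective φ₀ hbij).symm_apply_apply _

end Groth.Agent.Lib.helper10.TateOmega
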