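import Mathlib

set_option autoImplicit false

/-!
# Theta groups (finite Heisenberg groups), part A: the commutator pairing and duality.
-/

namespace Groth.Agent.Lib.helper10.Theta

open scoped commutatorElement

/-- data of a non-degenerate theta group on `Γ` with centre `kˣ` -/
structure Data (k Γ : Type*) [Field k] [Group Γ] where
  ι : kˣ →* Γ
  inj : Function.Injective ι
  cent : ι.range = Subgroup.center Γ
  comm : commutator Γ ≤ ι.range

variable {k Γ : Type*} [Field k] [Group Γ] (T : Data k Γ)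

namespace Data

lemma ι_comm (z : kˣ) (g : Γ) : T.ι z * g = g * T.ι z := by
  have : T.ι z ∈ Subgroup.center Γ := T.cent ▸ ⟨z, rfl⟩
  exact (Subgroup.mem_center_iff.1 this g).symm

lemma comm_mem (x y : Γ) : ⁅x, y⁆ ∈ T.ι.range :=
  T.comm (Subgroup.commutator_mem_commutator (Subgroup.mem_top x) (Subgroup.mem_top y))

/-- the commutator pairing -/
noncomputable def e (x y : Γ) : kˣ := (T.comm_mem x y).choose

lemma ι_e (x y : Γ) : T.ι (T.e x y) = ⁅x, y⁆ := (T.comm_mem x y).choose_spec

lemma mul_eq (x y : Γ) : x * y = T.ι (T.e x y) * (y * x) := by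
  rw [ι_e, commutatorElement_def]; group

lemma e_unique {x y : Γ} {a : kˣ} (h : x * y = T.ι a * (y * x)) : T.e x y = a := by
  apply T.inj
  have := T.mul_eq x y
  rw [h] at this
  exact (mul_right_cancel this).symm

lemma e_mul_left (x x' y : Γ) : T.e (x * x') y = T.e x y * T.e x' y := by
  apply T.e_unique
  calc x * x' * y = x * (x' * y) := mul_assoc _ _ _
    _ = x * (T.ι (T.e x' y) * (y * x')) := by rw [← T.mul_eq]
    _ = T.ι (T.e x' y) * (x * (y * x')) := by rw [← mul_assoc, ← T.ι_comm, mul_assoc]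
    _ = T.ι (T.e x' y) * ((x * y) * x') := by rw [mul_assoc]
    _ = T.ι (T.e x' y) * ((T.ι (T.e x y) * (y * x)) * x') := by rw [← T.mul_eq]
    _ = T.ι (T.e x y * T.e x' y) * (y * (x * x')) := by
      rw [mul_comm (T.e x y), map_mul]
      simp only [mul_assoc]

lemma e_symm (x y : Γ) : T.e y x = (T.e x y)⁻¹ := by
  apply T.e_unique
  rw [map_inv]
  have := T.mul_eq x y
  rw [this, ← mul_assoc, inv_mul_cancel, one_mul]

lemma e_mul_right (x y y' : Γ) : T.e x (y * y') = T.e x y * T.e x y' := by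
  rw [← inv_inj, ← T.e_symm, T.e_mul_left, mul_inv, ← T.e_symm, ← T.e_symm]

lemma e_ι_left (z : kˣ) (y : Γ) : T.e (T.ι z) y = 1 := by
  apply T.e_unique
  rw [map_one, one_mul, T.ι_comm]

lemma e_ι_right (x : Γ) (z : kˣ) : T.e x (T.ι z) = 1 := by
  rw [T.e_symm, T.e_ι_left, inv_one]

lemma e_one_left (y : Γ) : T.e 1 y = 1 := by
  have := T.e_ι_left 1 y
  rwa [map_one] at this

lemma e_one_right (x : Γ) : T.e x 1 = 1 := by
  have := T.e_ι_right x 1
  rwa [map_one] at this

lemma e_eq_one_iff (x y : Γ) : T.e x y = 1 ↔ x * y = y * x := by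
  constructor
  · intro h
    have := T.mul_eq x y
    rwa [h, map_one, one_mul] at this
  · intro h
    apply T.e_unique
    rw [map_one, one_mul, h]

lemma e_self (x : Γ) : T.e x x = 1 := (T.e_eq_one_iff x x).2 rfl

lemma e_inv_left (x y : Γ) : T.e x⁻¹ y = (T.e x y)⁻¹ := by
  rw [eq_inv_iff_mul_eq_one, ← T.e_mul_left, inv_mul_cancel, T.e_one_left]

lemma e_inv_right (x y : Γ) : T.e x y⁻¹ = (T.e x y)⁻¹ := by
  rw [eq_inv_iff_mul_eq_one, ← T.e_mul_right, inv_mul_cancel, T.e_one_right]

lemma mem_range_of_forall {x : Γ} (h : ∀ y, T.e x y = 1) : x ∈ T.ι.range := by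
  rw [T.cent, Subgroup.mem_center_iff]
  intro g
  exact ((T.e_eq_one_iff x g).1 (h g)).symm

/-- the pairing as a homomorphism -/
noncomputable def eHom : Γ →* (Γ →* kˣ) where
  toFun x := { toFun := T.e x, map_one' := T.e_one_right x, map_mul' := T.e_mul_right x }
  map_one' := by
    ext y
    simp [T.e_one_left]
  map_mul' x x' := by
    ext y
    simp [T.e_mul_left]

@[simp] lemma eHom_apply (x y : Γ) : T.eHom x y = T.e x y := rfl

/-- restriction of the pairing to a subgroup in the second variable -/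
noncomputable def Ψ (H : Subgroup Γ) : Γ →* (H →* kˣ) :=
  (MonoidHom.compHom' H.subtype).comp T.eHom

@[simp] lemma Ψ_apply (H : Subgroup Γ) (x : Γ) (h : H) : T.Ψ H x h = T.e x h := rfl

lemma ker_Ψ (H : Subgroup Γ) : (T.Ψ H).ker = Subgroup.centralizer (H : Set Γ) := by
  ext x
  rw [MonoidHom.mem_ker, Subgroup.mem_centralizer_iff]
  constructor
  · intro h y hy
    have := DFunLike.congr_fun h ⟨y, hy⟩
    simp only [Ψ_apply, MonoidHom.one_apply] at this
    exact ((T.e_eq_one_iff x y).1 this).symm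
  · intro h
    ext y
    simp only [Ψ_apply, MonoidHom.one_apply]
    rw [(T.e_eq_one_iff x y).2 (h y y.2).symm]

instance normal_range : T.ι.range.Normal := by
  rw [T.cent]
  infer_instance

end Data

section sep

/-- a point-separating family of characters of a finite abelian group is everything -/
lemma surjective_of_sep {G : Type*} [Group G] [Finite G] (hG : ∀ a b : G, a * b = b * a)
    {k : Type*} [Field k] [IsAlgClosed k] (hN : (Nat.card G : k) ≠ 0)
    {Γ : Type*} [Group Γ] (Ψ : Γ →* (G →* kˣ)) (hsep : ∀ g : G, (∀ x, Ψ x g = 1) → g = 1) :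
    Function.Surjective Ψ := by
  letI : CommGroup G := { (inferInstance : Group G) with mul_comm := hG }
  have hne : NeZero ((Monoid.exponent G : ℕ) : k) := by
    refine ⟨fun h0 => hN ?_⟩
    obtain ⟨m, hm⟩ := Group.exponent_dvd_nat_card (G := G)
    rw [hm, Nat.cast_mul, h0, zero_mul]
  set I := CommGroup.subgroupOrderIsoSubgroupMonoidHom G k with hI
  have h1 : I.symm (OrderDual.toDual Ψ.range) = ⊥ := by
    rw [eq_bot_iff]
    intro g hg
    rw [CommGroup.mem_subgroupOrderIsoSubgroupMonoidHom_symm_iff] at hg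
    rw [Subgroup.mem_bot]
    exact hsep g fun x => hg (Ψ x) ⟨x, rfl⟩
  have h2 : OrderDual.toDual Ψ.range = I ⊥ := by
    rw [← h1, OrderIso.apply_symm_apply]
  have h3 : Ψ.range = ⊤ := by
    rw [OrderIso.map_bot] at h2
    exact congrArg OrderDual.ofDual h2
  exact MonoidHom.range_eq_top.1 h3

lemma card_monoidHom {G : Type*} [Group G] [Finite G] (hG : ∀ a b : G, a * b = b * a)
    {k : Type*} [Field k] [IsAlgClosed k] (hN : (Nat.card G : k) ≠ 0) :
    Nat.card (G →* kˣ) = Nat.card G := by
  letI : CommGroup G := { (inferInstance : Group G) with mul_comm := hG }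
  have hne : NeZero ((Monoid.exponent G : ℕ) : k) := by
    refine ⟨fun h0 => hN ?_⟩
    obtain ⟨m, hm⟩ := Group.exponent_dvd_nat_card (G := G)
    rw [hm, Nat.cast_mul, h0, zero_mul]
  exact CommGroup.card_monoidHom_of_hasEnoughRootsOfUnity G k

end sep

end Groth.Agent.Lib.helper10.Theta
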