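import Groth.Agent.Lib.helper10.ThetaA

set_option autoImplicit false

/-!
# Theta groups, part B: index duality for subgroups containing the centre; the Lagrangian TFAE.
-/

namespace Groth.Agent.Lib.helper10.Theta

open scoped commutatorElement

lemma natCast_ne_zero_of_coprime {k : Type*} [Field k] {N : ℕ} (hN : 0 < N)
    (h : N.Coprime (ringExpChar k)) : (N : k) ≠ 0 := by
  intro h0
  have hd : ringChar k ∣ N := (ringChar.spec k N).1 h0
  by_cases hp : ringChar k = 0
  · rw [hp, zero_dvd_iff] at hd
    omega
  · have h1 : ringExpChar k = ringChar k := by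
      unfold ringExpChar
      exact max_eq_left (Nat.one_le_iff_ne_zero.2 hp)
    rw [h1] at h
    have h2 : ringChar k ∣ 1 := by
      rw [← h.gcd_eq_one]
      exact Nat.dvd_gcd hd dvd_rfl
    exact CharP.ringChar_ne_one (Nat.dvd_one.1 h2)

variable {k Γ : Type*} [Field k] [Group Γ] (T : Data k Γ)

namespace Data

/-- the quotient `H/Z` -/
abbrev Q (H : Subgroup Γ) := H ⧸ (T.ι.range.subgroupOf H)

/-- the pairing `Γ → (H/Z)^` -/
noncomputable def Ψbar (H : Subgroup Γ) : Γ →* (T.Q H →* kˣ) where
  toFun x := QuotientGroup.lift _ (T.Ψ H x) (by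
    intro h hh
    rw [Subgroup.mem_subgroupOf] at hh
    obtain ⟨z, hz⟩ := hh
    rw [MonoidHom.mem_ker, Ψ_apply, ← hz, T.e_ι_right])
  map_one' := by
    ext h
    simp [T.e_one_left]
  map_mul' x x' := by
    ext h
    simp [T.e_mul_left]

@[simp] lemma Ψbar_mk (H : Subgroup Γ) (x : Γ) (h : H) :
    T.Ψbar H x (QuotientGroup.mk h) = T.e x h := rfl

lemma ker_Ψbar (H : Subgroup Γ) : (T.Ψbar H).ker = Subgroup.centralizer (H : Set Γ) := by
  rw [← T.ker_Ψ]
  ext x
  rw [MonoidHom.mem_ker, MonoidHom.mem_ker]
  constructor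
  · intro h
    ext y
    have := DFunLike.congr_fun h (QuotientGroup.mk y)
    simpa using this
  · intro h
    ext y
    have := DFunLike.congr_fun h y
    simpa using this

lemma Q_comm (H : Subgroup Γ) (a b : T.Q H) : a * b = b * a := by
  induction a using QuotientGroup.induction_on with
  | H x =>
    induction b using QuotientGroup.induction_on with
    | H y =>
      rw [← QuotientGroup.mk_mul, ← QuotientGroup.mk_mul, QuotientGroup.eq,
        Subgroup.mem_subgroupOf]
      have := T.comm_mem (y : Γ)⁻¹ (x : Γ)⁻¹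
      rw [commutatorElement_def] at this
      simpa [mul_assoc] using this

variable [Finite (Γ ⧸ T.ι.range)]

instance finiteIndex_range : T.ι.range.FiniteIndex := Subgroup.finiteIndex_of_finite_quotient

lemma card_Q (H : Subgroup Γ) : Nat.card (T.Q H) = T.ι.range.relIndex H := rfl

variable [IsAlgClosed k]

/-- index duality -/
lemma index_centralizer (hN : (Nat.card (Γ ⧸ T.ι.range) : k) ≠ 0) (H : Subgroup Γ) :
    (Subgroup.centralizer (H : Set Γ)).index = T.ι.range.relIndex H := by
  have hQ : (Nat.card (T.Q H) : k) ≠ 0 := by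
    rw [card_Q]
    obtain ⟨m, hm⟩ := Subgroup.relIndex_dvd_index_of_normal T.ι.range H
    intro h0
    apply hN
    change ((T.ι.range.index : ℕ) : k) = 0
    rw [hm, Nat.cast_mul, h0, zero_mul]
  have hsurj : Function.Surjective (T.Ψbar H) := by
    apply surjective_of_sep (T.Q_comm H) hQ
    intro q hq
    induction q using QuotientGroup.induction_on with
    | H y =>
      rw [QuotientGroup.eq_one_iff, Subgroup.mem_subgroupOf]
      apply T.mem_range_of_forall
      intro x
      have := hq x
      rw [Ψbar_mk] at this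
      rw [T.e_symm, this, inv_one]
  rw [← T.ker_Ψbar, Subgroup.index_ker, MonoidHom.range_eq_top.2 hsurj, Subgroup.card_top,
    card_monoidHom (T.Q_comm H) hQ, card_Q]

lemma range_le_centralizer (H : Subgroup Γ) : T.ι.range ≤ Subgroup.centralizer (H : Set Γ) := by
  rintro _ ⟨z, rfl⟩
  rw [Subgroup.mem_centralizer_iff]
  intro h _
  exact (T.ι_comm z h).symm

lemma relIndex_mul_relIndex (hN : (Nat.card (Γ ⧸ T.ι.range) : k) ≠ 0) (H : Subgroup Γ) :
    T.ι.range.relIndex (Subgroup.centralizer (H : Set Γ)) * T.ι.range.relIndex H =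
      T.ι.range.index := by
  rw [← T.index_centralizer hN H]
  exact Subgroup.relIndex_mul_index (T.range_le_centralizer H)

theorem tfae (hN : (Nat.card (Γ ⧸ T.ι.range) : k) ≠ 0) (H : Subgroup Γ)
    (hH : T.ι.range ≤ H) :
    List.TFAE [
      IsMulCommutative H ∧ ∀ H' : Subgroup Γ, IsMulCommutative H' → H ≤ H' → H' = H,
      IsMulCommutative H ∧ (T.ι.range.relIndex H) ^ 2 = T.ι.range.index,
      H = Subgroup.centralizer (H : Set Γ)] := by
  have hD := T.relIndex_mul_relIndex hN H
  have hcomm_of : H = Subgroup.centralizer (H : Set Γ) → IsMulCommutative H := fun h =>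
    Subgroup.le_centralizer_iff_isMulCommutative.1 h.le
  tfae_have 1 → 3 := by
    rintro ⟨hc, hmax⟩
    apply le_antisymm (Subgroup.le_centralizer_iff_isMulCommutative.2 hc)
    intro x hx
    have hc' : IsMulCommutative (Subgroup.closure ((H : Set Γ) ∪ {x})) := by
      apply Subgroup.isMulCommutative_closure
      rintro a (ha | ha) b (hb | hb)
      · have := hc.is_comm.comm (⟨a, ha⟩ : H) ⟨b, hb⟩
        exact congrArg Subtype.val this
      · rw [Set.mem_singleton_iff] at hb
        subst hb
        exact (Subgroup.mem_centralizer_iff.1 hx a ha)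
      · rw [Set.mem_singleton_iff] at ha
        subst ha
        exact (Subgroup.mem_centralizer_iff.1 hx b hb).symm
      · rw [Set.mem_singleton_iff] at ha hb
        rw [ha, hb]
    have hle : H ≤ Subgroup.closure ((H : Set Γ) ∪ {x}) := fun h hh =>
      Subgroup.subset_closure (Or.inl hh)
    have := hmax _ hc' hle
    rw [← this]
    exact Subgroup.subset_closure (Or.inr rfl)
  tfae_have 3 → 1 := by
    intro h
    refine ⟨hcomm_of h, fun H' hc' hle => le_antisymm ?_ hle⟩
    calc H' ≤ Subgroup.centralizer (H' : Set Γ) :=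
          Subgroup.le_centralizer_iff_isMulCommutative.2 hc'
      _ ≤ Subgroup.centralizer (H : Set Γ) := Subgroup.centralizer_le hle
      _ = H := h.symm
  tfae_have 3 → 2 := by
    intro h
    refine ⟨hcomm_of h, ?_⟩
    rw [← h] at hD
    rw [sq]
    exact hD
  tfae_have 2 → 3 := by
    rintro ⟨hc, hsq⟩
    have hle : H ≤ Subgroup.centralizer (H : Set Γ) :=
      Subgroup.le_centralizer_iff_isMulCommutative.2 hc
    apply le_antisymm hle
    rw [← Subgroup.relIndex_eq_one]
    have h1 := Subgroup.relIndex_mul_relIndex _ _ _ hH hle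
    rw [← h1] at hD
    have hne : T.ι.range.relIndex H ≠ 0 := by
      intro h0
      rw [h0, zero_mul, zero_mul] at hD
      exact Subgroup.FiniteIndex.index_ne_zero hD.symm
    have h2 : T.ι.range.relIndex H * H.relIndex (Subgroup.centralizer (H : Set Γ)) *
        T.ι.range.relIndex H = T.ι.range.relIndex H * 1 * T.ι.range.relIndex H := by
      rw [hD, mul_one, ← sq, hsq]
    exact mul_left_cancel₀ hne (mul_right_cancel₀ hne h2)
  tfae_finish

end Data

end Groth.Agent.Lib.helper10.Theta
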