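import Groth.Agent.Lib.helper10.ThetaB

set_option autoImplicit false

/-!
# Theta groups, part C: level subgroups.
-/

namespace Groth.Agent.Lib.helper10.Theta

open scoped commutatorElement Pointwise

variable {k Γ : Type*} [Field k] [Group Γ] (T : Data k Γ)

namespace Data

/-- level subgroups: those meeting the centre trivially -/
def IsLevel (H : Subgroup Γ) : Prop := H ⊓ T.ι.range = ⊥

variable {T}

lemma IsLevel.eq_one {H : Subgroup Γ} (hH : T.IsLevel H) {g : Γ} (h1 : g ∈ H)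
    (h2 : g ∈ T.ι.range) : g = 1 := by
  have : g ∈ H ⊓ T.ι.range := ⟨h1, h2⟩
  rw [hH] at this
  exact Subgroup.mem_bot.1 this

lemma IsLevel.e_eq_one {H : Subgroup Γ} (hH : T.IsLevel H) {a b : Γ} (ha : a ∈ H) (hb : b ∈ H) :
    T.e a b = 1 := by
  apply T.inj
  rw [map_one, T.ι_e]
  apply hH.eq_one
  · rw [commutatorElement_def]
    exact mul_mem (mul_mem (mul_mem ha hb) (inv_mem ha)) (inv_mem hb)
  · exact T.comm_mem a b

lemma IsLevel.comm {H : Subgroup Γ} (hH : T.IsLevel H) (a b : H) : a * b = b * a := by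
  apply Subtype.ext
  exact (T.e_eq_one_iff a b).1 (hH.e_eq_one a.2 b.2)

lemma IsLevel.le_centralizer {H : Subgroup Γ} (hH : T.IsLevel H) :
    H ≤ Subgroup.centralizer (H : Set Γ) := by
  intro a ha
  rw [Subgroup.mem_centralizer_iff]
  intro b hb
  exact (T.e_eq_one_iff b a).1 (hH.e_eq_one hb ha)

lemma IsLevel.injective_mk {H : Subgroup Γ} (hH : T.IsLevel H) :
    Function.Injective (fun h : H => (QuotientGroup.mk (h : Γ) : Γ ⧸ T.ι.range)) := by
  intro a b hab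
  simp only at hab
  rw [QuotientGroup.eq] at hab
  have := hH.eq_one (mul_mem (inv_mem a.2) b.2) hab
  apply Subtype.ext
  exact inv_mul_eq_one.1 this

variable [Finite (Γ ⧸ T.ι.range)]

lemma IsLevel.finite {H : Subgroup Γ} (hH : T.IsLevel H) : Finite H :=
  Finite.of_injective _ hH.injective_mk

lemma IsLevel.card_eq {H : Subgroup Γ} (hH : T.IsLevel H) :
    Nat.card H = T.ι.range.relIndex H := by
  rw [← Subgroup.inf_relIndex_right, inf_comm, hH, Subgroup.relIndex_bot_left]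

lemma IsLevel.card_dvd {H : Subgroup Γ} (hH : T.IsLevel H) :
    Nat.card H ∣ Nat.card (Γ ⧸ T.ι.range) := by
  rw [hH.card_eq]
  exact Subgroup.relIndex_dvd_index_of_normal T.ι.range H

lemma IsLevel.card_ne_zero {H : Subgroup Γ} (hH : T.IsLevel H)
    (hN : (Nat.card (Γ ⧸ T.ι.range) : k) ≠ 0) : (Nat.card H : k) ≠ 0 := by
  obtain ⟨m, hm⟩ := hH.card_dvd
  intro h0
  apply hN
  rw [hm, Nat.cast_mul, h0, zero_mul]

variable [IsAlgClosed k]

lemma IsLevel.Ψ_surjective {H : Subgroup Γ} (hH : T.IsLevel H)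
    (hN : (Nat.card (Γ ⧸ T.ι.range) : k) ≠ 0) : Function.Surjective (T.Ψ H) := by
  haveI := hH.finite
  apply surjective_of_sep hH.comm (hH.card_ne_zero hN)
  intro g hg
  apply Subtype.ext
  apply hH.eq_one g.2
  apply T.mem_range_of_forall
  intro x
  have := hg x
  rw [Ψ_apply] at this
  rw [T.e_symm, this, inv_one]

/-- a level subgroup is maximal when no level subgroup is strictly bigger -/
def IsMaxLevel (T : Data k Γ) (H : Subgroup Γ) : Prop :=
  T.IsLevel H ∧ ∀ H' : Subgroup Γ, T.IsLevel H' → H ≤ H' → H' = H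

lemma exists_isMaxLevel : ∃ H, T.IsMaxLevel H := by
  classical
  set N := Nat.card (Γ ⧸ T.ι.range) with hNdef
  have hNpos : 0 < N := Nat.card_pos
  let P : ℕ → Prop := fun n => ∃ H : Subgroup Γ, T.IsLevel H ∧ Nat.card H = n
  have hbot : T.IsLevel ⊥ := by
    unfold IsLevel
    exact bot_inf_eq _
  have hP1 : P 1 := ⟨⊥, hbot, Subgroup.card_bot⟩
  have hle : ∀ H : Subgroup Γ, T.IsLevel H → Nat.card H ≤ N := fun H hH =>
    Nat.le_of_dvd hNpos hH.card_dvd
  obtain ⟨H, hH, hcard⟩ := Nat.findGreatest_spec (P := P) (Nat.succ_le_of_lt hNpos) hP1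
  refine ⟨H, hH, fun H' hH' hHH' => ?_⟩
  haveI := hH'.finite
  have h1 : Nat.card H' ≤ Nat.findGreatest P N :=
    Nat.le_findGreatest (hle H' hH') ⟨H', hH', rfl⟩
  rw [← hcard] at h1
  exact (Subgroup.eq_of_le_of_card_ge hHH' h1).symm

lemma pow_card_mem (x : Γ) : x ^ Nat.card (Γ ⧸ T.ι.range) ∈ T.ι.range := by
  rw [← QuotientGroup.eq_one_iff, QuotientGroup.mk_pow]
  exact pow_card_eq_one'

/-- for a maximal level subgroup, the centralizer is `H · Z` -/
lemma IsMaxLevel.centralizer_le {H : Subgroup Γ} (hH : T.IsMaxLevel H) :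
    Subgroup.centralizer (H : Set Γ) ≤ H ⊔ T.ι.range := by
  classical
  intro x hx
  have hpow : ∃ r : ℕ, 0 < r ∧ x ^ r ∈ H ⊔ T.ι.range :=
    ⟨_, Nat.card_pos, (le_sup_right : T.ι.range ≤ H ⊔ T.ι.range) (pow_card_mem x)⟩
  obtain ⟨hr0, hr⟩ := Nat.find_spec hpow
  set r := Nat.find hpow with hrdef
  have hmem : x ^ r ∈ ((H ⊔ T.ι.range : Subgroup Γ) : Set Γ) := hr
  rw [Subgroup.mul_normal, Set.mem_mul] at hmem
  obtain ⟨h, hh, _, ⟨a, rfl⟩, hha⟩ := hmem
  obtain ⟨b0, hb0⟩ := IsAlgClosed.exists_pow_nat_eq (a : k) hr0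
  have hb0ne : b0 ≠ 0 := by
    rintro rfl
    rw [zero_pow hr0.ne'] at hb0
    exact a.ne_zero hb0.symm
  set b : kˣ := Units.mk0 b0 hb0ne with hb
  have hbr : b ^ r = a := by
    apply Units.ext
    simp [hb, hb0]
  set x' := x * (T.ι b)⁻¹ with hx'
  have hxx' : x = x' * T.ι b := by rw [hx', inv_mul_cancel_right]
  have hcomm' : Commute x' (T.ι b) := (T.ι_comm b x').symm
  have hx'r : x' ^ r = h := by
    have h1 : Commute x (T.ι b)⁻¹ := by
      have : (T.ι b)⁻¹ = T.ι b⁻¹ := (map_inv _ _).symm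
      rw [this]
      exact (T.ι_comm b⁻¹ x).symm
    rw [hx', h1.mul_pow, ← hha, inv_pow, ← map_pow, hbr, mul_inv_cancel_right]
  have hx'c : ∀ g ∈ H, Commute x' g := by
    intro g hg
    have h1 : Commute x g := (Subgroup.mem_centralizer_iff.1 hx g hg).symm
    have h2 : Commute (T.ι b)⁻¹ g := by
      have : (T.ι b)⁻¹ = T.ι b⁻¹ := (map_inv _ _).symm
      rw [this]
      exact T.ι_comm b⁻¹ g
    exact h1.mul_left h2
  -- the subgroup generated by H and x'
  let H' : Subgroup Γ :=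
    { carrier := {g | ∃ h₁ ∈ H, ∃ j : ℤ, g = h₁ * x' ^ j}
      mul_mem' := by
        rintro _ _ ⟨h₁, hh₁, j₁, rfl⟩ ⟨h₂, hh₂, j₂, rfl⟩
        refine ⟨h₁ * h₂, mul_mem hh₁ hh₂, j₁ + j₂, ?_⟩
        have := ((hx'c h₂ hh₂).zpow_left j₁).eq
        rw [zpow_add, mul_assoc, ← mul_assoc (x' ^ j₁), this]
        simp only [mul_assoc]
      one_mem' := ⟨1, one_mem _, 0, by simp⟩
      inv_mem' := by
        rintro _ ⟨h₁, hh₁, j, rfl⟩
        refine ⟨h₁⁻¹, inv_mem hh₁, -j, ?_⟩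
        have := ((hx'c h₁⁻¹ (inv_mem hh₁)).zpow_left (-j)).eq
        rw [mul_inv_rev, ← zpow_neg, this] }
  have hHH' : H ≤ H' := fun g hg => ⟨g, hg, 0, by simp⟩
  have hx'H' : x' ∈ H' := ⟨1, one_mem _, 1, by simp⟩
  have hlevel : T.IsLevel H' := by
    unfold IsLevel
    rw [eq_bot_iff]
    rintro g ⟨⟨h₁, hh₁, j, rfl⟩, hgZ⟩
    rw [Subgroup.mem_bot]
    -- x^j ∈ H ⊔ Z
    have h1 : x' ^ j ∈ H ⊔ T.ι.range := by
      have : x' ^ j = h₁⁻¹ * (h₁ * x' ^ j) := by rw [inv_mul_cancel_left]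
      rw [this]
      exact mul_mem ((le_sup_left : H ≤ H ⊔ T.ι.range) (inv_mem hh₁))
        ((le_sup_right : T.ι.range ≤ H ⊔ T.ι.range) hgZ)
    have h2 : x ^ j ∈ H ⊔ T.ι.range := by
      rw [hxx', hcomm'.mul_zpow]
      refine mul_mem h1 ((le_sup_right : T.ι.range ≤ H ⊔ T.ι.range) ?_)
      exact zpow_mem (⟨b, rfl⟩ : T.ι b ∈ T.ι.range) j
    -- r ∣ j
    have hrj : (r : ℤ) ∣ j := by
      have hr0' : (0 : ℤ) < r := by exact_mod_cast hr0
      have h3 : x ^ (j % r) ∈ H ⊔ T.ι.range := by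
        have : j % r = j - r * (j / r) := by
          have := Int.emod_add_mul_ediv j r
          linarith
        rw [this, zpow_sub, zpow_mul, zpow_natCast]
        exact mul_mem h2 (inv_mem (zpow_mem hr _))
      have h4 : 0 ≤ j % r := Int.emod_nonneg j hr0'.ne'
      have h5 : j % r < r := Int.emod_lt_of_pos j hr0'
      by_contra hnd
      have h6 : j % r ≠ 0 := fun h => hnd (Int.dvd_of_emod_eq_zero h)
      have h7 : 0 < (j % r).toNat := by omega
      have h8 : (j % r).toNat < r := by omega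
      apply Nat.find_min hpow h8
      refine ⟨h7, ?_⟩
      have : x ^ ((j % r).toNat) = x ^ (j % r) := by
        rw [← zpow_natCast, Int.toNat_of_nonneg h4]
      rw [this]
      exact h3
    obtain ⟨q, rfl⟩ := hrj
    have h9 : x' ^ ((r : ℤ) * q) = h ^ q := by
      rw [zpow_mul, zpow_natCast, hx'r]
    rw [h9] at hgZ ⊢
    exact hH.1.eq_one (mul_mem hh₁ (zpow_mem hh q)) hgZ
  have := hH.2 H' hlevel hHH'
  rw [hxx']
  exact mul_mem ((le_sup_left : H ≤ H ⊔ T.ι.range) (this ▸ hx'H'))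
    ((le_sup_right : T.ι.range ≤ H ⊔ T.ι.range) ⟨b, rfl⟩)

lemma IsMaxLevel.centralizer_eq {H : Subgroup Γ} (hH : T.IsMaxLevel H) :
    Subgroup.centralizer (H : Set Γ) = H ⊔ T.ι.range :=
  le_antisymm hH.centralizer_le (sup_le hH.1.le_centralizer (T.range_le_centralizer H))

lemma IsMaxLevel.card_sq {H : Subgroup Γ} (hH : T.IsMaxLevel H)
    (hN : (Nat.card (Γ ⧸ T.ι.range) : k) ≠ 0) :
    Nat.card H ^ 2 = Nat.card (Γ ⧸ T.ι.range) := by
  have h1 := T.relIndex_mul_relIndex hN H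
  rw [hH.centralizer_eq, Subgroup.relIndex_sup_right, ← hH.1.card_eq] at h1
  rw [sq]
  exact h1

/-- decomposition of elements of the kernel of `Ψ H` -/
lemma IsMaxLevel.exists_of_Ψ_eq_one {H : Subgroup Γ} (hH : T.IsMaxLevel H) {x : Γ}
    (hx : T.Ψ H x = 1) : ∃ h ∈ H, ∃ z : kˣ, x = h * T.ι z := by
  have h1 : x ∈ (T.Ψ H).ker := hx
  rw [T.ker_Ψ, hH.centralizer_eq] at h1
  have h2 : x ∈ ((H ⊔ T.ι.range : Subgroup Γ) : Set Γ) := h1
  rw [Subgroup.mul_normal, Set.mem_mul] at h2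
  obtain ⟨h, hh, _, ⟨z, rfl⟩, hhz⟩ := h2
  exact ⟨h, hh, z, hhz.symm⟩

end Data

end Groth.Agent.Lib.helper10.Theta
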