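import Groth.Agent.Lib.helper10.ThetaC

set_option autoImplicit false

/-!
# Theta groups, part D: weight-one representations; averaging and Maschke.
-/

namespace Groth.Agent.Lib.helper10.Theta

open scoped commutatorElement

variable {k Γ : Type*} [Field k] [Group Γ] (T : Data k Γ)
variable {W : Type*} [AddCommGroup W] [Module k W] (ρ : Representation k Γ W)
variable {W' : Type*} [AddCommGroup W'] [Module k W'] (ρ' : Representation k Γ W')

/-- weight one: the centre `kˣ` acts by the tautological character -/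
def IsWt1 : Prop := ∀ (z : kˣ) (w : W), ρ (T.ι z) w = (z : k) • w

variable {T ρ ρ'}

lemma IsWt1.comm_apply (hρ : IsWt1 T ρ) (x y : Γ) (w : W) :
    ρ x (ρ y w) = (T.e x y : k) • ρ y (ρ x w) := by
  have h1 : ρ (x * y) w = ρ (T.ι (T.e x y) * (y * x)) w := by rw [← T.mul_eq]
  rw [map_mul, map_mul, map_mul] at h1
  simp only [Module.End.mul_apply] at h1
  rw [h1, hρ]

lemma apply_inv_apply (x : Γ) (w : W) : ρ x (ρ x⁻¹ w) = w := by
  rw [← Module.End.mul_apply, ← map_mul, mul_inv_cancel, map_one, Module.End.one_apply]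

lemma inv_apply_apply (x : Γ) (w : W) : ρ x⁻¹ (ρ x w) = w := by
  rw [← Module.End.mul_apply, ← map_mul, inv_mul_cancel, map_one, Module.End.one_apply]

lemma apply_injective (x : Γ) : Function.Injective (ρ x) := fun a b h => by
  have := congrArg (ρ x⁻¹) h
  rwa [inv_apply_apply, inv_apply_apply] at this

section avg

variable (ρ ρ')

/-- conjugate of a linear map -/
def conj (T₀ : W →ₗ[k] W') (x : Γ) : W →ₗ[k] W' := ρ' x ∘ₗ T₀ ∘ₗ ρ x⁻¹

variable {ρ ρ'}

lemma conj_apply (T₀ : W →ₗ[k] W') (x : Γ) (w : W) :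
    conj ρ ρ' T₀ x w = ρ' x (T₀ (ρ x⁻¹ w)) := rfl

lemma conj_mul_ι (hρ : IsWt1 T ρ) (hρ' : IsWt1 T ρ') (T₀ : W →ₗ[k] W') (x : Γ) (z : kˣ) :
    conj ρ ρ' T₀ (x * T.ι z) = conj ρ ρ' T₀ x := by
  ext w
  have h1 : ρ (x * T.ι z)⁻¹ w = ((z⁻¹ : kˣ) : k) • ρ x⁻¹ w := by
    rw [mul_inv_rev, map_mul, Module.End.mul_apply, ← map_inv, hρ]
  have h2 : ∀ v, ρ' (x * T.ι z) v = ρ' x ((z : k) • v) := by
    intro v
    rw [map_mul, Module.End.mul_apply, hρ']
  rw [conj_apply, conj_apply, h1, h2]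
  simp only [map_smul, smul_smul]
  simp

lemma conj_equivariant (T₀ : W →ₗ[k] W') (g x : Γ) (w : W) :
    ρ' g (conj ρ ρ' T₀ x w) = conj ρ ρ' T₀ (g * x) (ρ g w) := by
  rw [conj_apply, conj_apply, mul_inv_rev, map_mul, map_mul, Module.End.mul_apply,
    Module.End.mul_apply, inv_apply_apply]

variable [Finite (Γ ⧸ T.ι.range)]

lemma conj_out (hρ : IsWt1 T ρ) (hρ' : IsWt1 T ρ') (T₀ : W →ₗ[k] W') (x : Γ) :
    conj ρ ρ' T₀ (QuotientGroup.mk x : Γ ⧸ T.ι.range).out = conj ρ ρ' T₀ x := by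
  obtain ⟨⟨_, z, rfl⟩, hz⟩ := QuotientGroup.mk_out_eq_mul T.ι.range x
  rw [hz, conj_mul_ι hρ hρ']

variable (T ρ ρ')

/-- the average over `Γ/Z` of the conjugates -/
noncomputable def avg (T₀ : W →ₗ[k] W') : W →ₗ[k] W' :=
  ∑ᶠ q : Γ ⧸ T.ι.range, conj ρ ρ' T₀ q.out

variable {T ρ ρ'}

lemma avg_apply (T₀ : W →ₗ[k] W') (w : W) :
    avg T ρ ρ' T₀ w = ∑ᶠ q : Γ ⧸ T.ι.range, conj ρ ρ' T₀ q.out w := by
  haveI := Fintype.ofFinite (Γ ⧸ T.ι.range)
  unfold avg
  rw [finsum_eq_sum_of_fintype, finsum_eq_sum_of_fintype, LinearMap.sum_apply]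

lemma avg_equivariant (hρ : IsWt1 T ρ) (hρ' : IsWt1 T ρ') (T₀ : W →ₗ[k] W') (g : Γ) (w : W) :
    ρ' g (avg T ρ ρ' T₀ w) = avg T ρ ρ' T₀ (ρ g w) := by
  haveI := Fintype.ofFinite (Γ ⧸ T.ι.range)
  rw [avg_apply, avg_apply, finsum_eq_sum_of_fintype, finsum_eq_sum_of_fintype, map_sum]
  rw [← Equiv.sum_comp (Equiv.mulLeft (QuotientGroup.mk g : Γ ⧸ T.ι.range))
    (fun q => conj ρ ρ' T₀ q.out (ρ g w))]
  refine Finset.sum_congr rfl fun q _ => ?_
  rw [conj_equivariant]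
  have : (Equiv.mulLeft (QuotientGroup.mk g : Γ ⧸ T.ι.range)) q =
      QuotientGroup.mk (g * q.out) := by
    rw [Equiv.coe_mulLeft, QuotientGroup.mk_mul, QuotientGroup.out_eq']
  rw [this, conj_out hρ hρ']

end avg

section maschke

variable [Finite (Γ ⧸ T.ι.range)]

theorem isSemisimple (hρ : IsWt1 T ρ) (hN : (Nat.card (Γ ⧸ T.ι.range) : k) ≠ 0) :
    Representation.IsSemisimpleRepresentation ρ := by
  haveI := Fintype.ofFinite (Γ ⧸ T.ι.range)
  refine ⟨fun U => ?_⟩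
  obtain ⟨P₀, hP₀⟩ := U.toSubmodule.subtype.exists_leftInverse_of_injective
    (LinearMap.ker_eq_bot.2 U.toSubmodule.injective_subtype)
  set T₀ : W →ₗ[k] W := U.toSubmodule.subtype ∘ₗ P₀ with hT₀
  have hT₀mem : ∀ w, T₀ w ∈ U.toSubmodule := fun w => (P₀ w).2
  have hT₀id : ∀ u ∈ U.toSubmodule, T₀ u = u := by
    intro u hu
    have := LinearMap.congr_fun hP₀ ⟨u, hu⟩
    simp only [LinearMap.comp_apply, Submodule.subtype_apply, LinearMap.id_apply] at this
    rw [hT₀, LinearMap.comp_apply, Submodule.subtype_apply, this]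
  set A : W →ₗ[k] W := (Nat.card (Γ ⧸ T.ι.range) : k)⁻¹ • avg T ρ ρ T₀ with hA
  have hAmem : ∀ w, A w ∈ U.toSubmodule := by
    intro w
    rw [hA, LinearMap.smul_apply, avg_apply, finsum_eq_sum_of_fintype]
    refine U.toSubmodule.smul_mem _ (U.toSubmodule.sum_mem fun q _ => ?_)
    rw [conj_apply]
    exact U.apply_mem_toSubmodule _ (hT₀mem _)
  have hAid : ∀ u ∈ U.toSubmodule, A u = u := by
    intro u hu
    rw [hA, LinearMap.smul_apply, avg_apply, finsum_eq_sum_of_fintype]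
    have : ∀ q : Γ ⧸ T.ι.range, conj ρ ρ T₀ q.out u = u := by
      intro q
      rw [conj_apply, hT₀id _ (U.apply_mem_toSubmodule _ hu), apply_inv_apply]
    rw [Finset.sum_congr rfl fun q _ => this q, Finset.sum_const, Finset.card_univ,
      ← Nat.card_eq_fintype_card, ← Nat.cast_smul_eq_nsmul k, smul_smul, inv_mul_cancel₀ hN,
      one_smul]
  have hAeq : ∀ g w, ρ g (A w) = A (ρ g w) := by
    intro g w
    rw [hA, LinearMap.smul_apply, LinearMap.smul_apply, map_smul, avg_equivariant hρ hρ]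
  let U' : Subrepresentation ρ :=
    { toSubmodule := LinearMap.ker A
      apply_mem_toSubmodule := by
        intro g v hv
        rw [LinearMap.mem_ker] at hv ⊢
        rw [← hAeq, hv, map_zero] }
  refine ⟨U', ?_, ?_⟩
  · rw [disjoint_iff]
    apply Subrepresentation.toSubmodule_injective
    rw [Subrepresentation.toSubmodule_inf]
    change U.toSubmodule ⊓ LinearMap.ker A = ⊥
    rw [eq_bot_iff]
    rintro u ⟨hu1, hu2⟩
    rw [SetLike.mem_coe, LinearMap.mem_ker, hAid u hu1] at hu2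
    rw [hu2]
    exact Submodule.zero_mem _
  · rw [codisjoint_iff]
    apply Subrepresentation.toSubmodule_injective
    rw [Subrepresentation.toSubmodule_sup]
    change U.toSubmodule ⊔ LinearMap.ker A = ⊤
    rw [eq_top_iff]
    intro w _
    rw [Submodule.mem_sup]
    refine ⟨A w, hAmem w, w - A w, ?_, by abel⟩
    rw [LinearMap.mem_ker, map_sub, hAid _ (hAmem w), sub_self]

end maschke

end Groth.Agent.Lib.helper10.Theta
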