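import Groth.Agent.Lib.helper10.ThetaD

set_option autoImplicit false

/-!
# Theta groups, part E: isotypic decomposition of a weight-one representation under a level subgroup.
-/

namespace Groth.Agent.Lib.helper10.Theta

open scoped commutatorElement

variable {k Γ : Type*} [Field k] [Group Γ] {T : Data k Γ}
variable {W : Type*} [AddCommGroup W] [Module k W] (ρ : Representation k Γ W)
variable (H : Subgroup Γ)

/-- the `χ`-eigenspace of `H` -/
def eig (χ : H →* kˣ) : Submodule k W where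
  carrier := {w | ∀ h : H, ρ h w = (χ h : k) • w}
  zero_mem' := fun h => by simp
  add_mem' := fun {a b} ha hb h => by
    simp only [Set.mem_setOf_eq] at ha hb
    rw [map_add, ha h, hb h, smul_add]
  smul_mem' := fun c a ha h => by
    simp only [Set.mem_setOf_eq] at ha
    rw [map_smul, ha h, smul_comm]

variable {ρ H}

lemma mem_eig {χ : H →* kˣ} {w : W} : w ∈ eig ρ H χ ↔ ∀ h : H, ρ h w = (χ h : k) • w := Iff.rfl

lemma eig_one_eq_invariants : eig ρ H 1 = Representation.invariants (ρ.comp H.subtype) := by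
  ext w
  rw [mem_eig, Representation.mem_invariants]
  simp

lemma apply_mem_eig (hρ : IsWt1 T ρ) (x : Γ) {χ : H →* kˣ} {w : W} (hw : w ∈ eig ρ H χ) :
    ρ x w ∈ eig ρ H (χ * (T.Ψ H x)⁻¹) := by
  intro h
  rw [hρ.comm_apply, hw h, map_smul, smul_smul]
  congr 1
  simp only [MonoidHom.mul_apply, MonoidHom.inv_apply, Data.Ψ_apply, Units.val_mul]
  rw [← T.e_symm, mul_comm]

lemma map_eig_one (hρ : IsWt1 T ρ) (x : Γ) :
    (eig ρ H 1).map (ρ x) = eig ρ H (T.Ψ H x)⁻¹ := by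
  apply le_antisymm
  · rintro _ ⟨w, hw, rfl⟩
    have := apply_mem_eig hρ x hw
    have e1 : (1 : H →* kˣ) * (T.Ψ H x)⁻¹ = (T.Ψ H x)⁻¹ := by
      ext h
      simp
    rwa [e1] at this
  · intro w hw
    refine ⟨ρ x⁻¹ w, ?_, apply_inv_apply x w⟩
    have := apply_mem_eig hρ x⁻¹ hw
    have e1 : (T.Ψ H x)⁻¹ * (T.Ψ H x⁻¹)⁻¹ = 1 := by
      ext h
      simp
    rwa [e1] at this

lemma finrank_eig (hρ : IsWt1 T ρ) (hsurj : Function.Surjective (T.Ψ H)) (χ : H →* kˣ) :
    Module.finrank k (eig ρ H χ) = Module.finrank k (eig ρ H 1) := by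
  obtain ⟨x, hx⟩ := hsurj χ⁻¹
  have h1 := map_eig_one (ρ := ρ) (H := H) hρ x
  have e1 : (χ⁻¹)⁻¹ = χ := by
    ext h
    simp
  rw [hx, e1] at h1
  rw [← h1]
  exact (LinearEquiv.finrank_eq
    (Submodule.equivMapOfInjective (ρ x) (apply_injective x) (eig ρ H 1))).symm

section proj

variable [Fintype H]

lemma sum_char_eq_zero {φ : H →* kˣ} (hφ : φ ≠ 1) : ∑ h : H, (φ h : k) = 0 := by
  obtain ⟨h₀, hh₀⟩ : ∃ h₀, φ h₀ ≠ 1 := by
    by_contra hcon
    push Not at hcon
    exact hφ (MonoidHom.ext fun h => by simpa using hcon h)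
  have h1 : ∑ h : H, (φ h : k) = (φ h₀ : k) * ∑ h : H, (φ h : k) := by
    rw [Finset.mul_sum, ← Equiv.sum_comp (Equiv.mulLeft h₀)]
    refine Finset.sum_congr rfl fun h _ => ?_
    rw [Equiv.coe_mulLeft, map_mul, Units.val_mul]
  have h2 : ((φ h₀ : k) - 1) * ∑ h : H, (φ h : k) = 0 := by
    rw [sub_mul, one_mul, ← h1, sub_self]
  rcases mul_eq_zero.1 h2 with h | h
  · exfalso
    apply hh₀
    apply Units.ext
    rw [Units.val_one]
    exact sub_eq_zero.1 h
  · exact h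

lemma sum_dual_eq_zero [Fintype (H →* kˣ)] {h : H} (hh : ∃ χ₀ : H →* kˣ, χ₀ h ≠ 1) :
    ∑ χ : H →* kˣ, (χ h : k) = 0 := by
  obtain ⟨χ₀, hχ₀⟩ := hh
  have h1 : ∑ χ : H →* kˣ, (χ h : k) = (χ₀ h : k) * ∑ χ : H →* kˣ, (χ h : k) := by
    rw [Finset.mul_sum, ← Equiv.sum_comp (Equiv.mulLeft χ₀)]
    refine Finset.sum_congr rfl fun χ _ => ?_
    rw [Equiv.coe_mulLeft, MonoidHom.mul_apply, Units.val_mul]
  have h2 : ((χ₀ h : k) - 1) * ∑ χ : H →* kˣ, (χ h : k) = 0 := by
    rw [sub_mul, one_mul, ← h1, sub_self]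
  rcases mul_eq_zero.1 h2 with h' | h'
  · exfalso
    apply hχ₀
    apply Units.ext
    rw [Units.val_one]
    exact sub_eq_zero.1 h'
  · exact h'

variable (ρ H)

/-- the projector onto the `χ`-eigenspace -/
noncomputable def proj (χ : H →* kˣ) : W →ₗ[k] W :=
  (Fintype.card H : k)⁻¹ • ∑ h : H, (((χ h)⁻¹ : kˣ) : k) • ρ (h : Γ)

variable {ρ H}

lemma proj_apply (χ : H →* kˣ) (w : W) :
    proj ρ H χ w = (Fintype.card H : k)⁻¹ • ∑ h : H, (((χ h)⁻¹ : kˣ) : k) • ρ (h : Γ) w := by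
  unfold proj
  rw [LinearMap.smul_apply, LinearMap.sum_apply]
  rfl

lemma proj_mem_eig (χ : H →* kˣ) (w : W) : proj ρ H χ w ∈ eig ρ H χ := by
  intro h'
  rw [proj_apply, map_smul, map_sum, smul_comm]
  congr 1
  rw [Finset.smul_sum, ← Equiv.sum_comp (Equiv.mulLeft h')
    (fun h => (χ h' : k) • (((χ h)⁻¹ : kˣ) : k) • ρ (h : Γ) w)]
  refine Finset.sum_congr rfl fun h _ => ?_
  rw [map_smul, Equiv.coe_mulLeft, smul_smul, ← Module.End.mul_apply, ← map_mul]
  congr 1
  rw [map_mul, mul_inv, ← Units.val_mul, mul_inv_cancel_left]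

lemma proj_of_mem_eig (hcard : (Fintype.card H : k) ≠ 0) {χ ψ : H →* kˣ} {w : W}
    (hw : w ∈ eig ρ H ψ) [Decidable (χ = ψ)] :
    proj ρ H χ w = if χ = ψ then w else 0 := by
  rw [proj_apply]
  have h1 : ∀ h : H, (((χ h)⁻¹ : kˣ) : k) • ρ (h : Γ) w = (((χ⁻¹ * ψ) h : kˣ) : k) • w := by
    intro h
    rw [hw h, smul_smul, MonoidHom.mul_apply, MonoidHom.inv_apply, Units.val_mul]
  rw [Finset.sum_congr rfl fun h _ => h1 h, ← Finset.sum_smul]
  split_ifs with hχ
  · subst hχ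
    have e1 : χ⁻¹ * χ = 1 := by
      ext h
      simp
    rw [e1]
    simp only [MonoidHom.one_apply, Units.val_one, Finset.sum_const, Finset.card_univ,
      nsmul_eq_mul, mul_one]
    rw [smul_smul, inv_mul_cancel₀ hcard, one_smul]
  · rw [sum_char_eq_zero, zero_smul, smul_zero]
    intro h
    apply hχ
    ext g
    have := DFunLike.congr_fun h g
    simp only [MonoidHom.mul_apply, MonoidHom.inv_apply, MonoidHom.one_apply,
      inv_mul_eq_one] at this
    rw [this]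

lemma sum_proj [Fintype (H →* kˣ)] [DecidableEq H] (hcard : (Fintype.card H : k) ≠ 0)
    (hsep : ∀ h : H, h ≠ 1 → ∃ χ₀ : H →* kˣ, χ₀ h ≠ 1)
    (hdual : Fintype.card (H →* kˣ) = Fintype.card H) (w : W) :
    ∑ χ : H →* kˣ, proj ρ H χ w = w := by
  simp only [proj_apply]
  rw [← Finset.smul_sum, Finset.sum_comm]
  have h1 : ∀ h : H, ∑ χ : H →* kˣ, (((χ h)⁻¹ : kˣ) : k) • ρ (h : Γ) w =
      if h = 1 then (Fintype.card H : k) • w else 0 := by
    intro h
    rw [← Finset.sum_smul]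
    split_ifs with hh
    · subst hh
      simp only [map_one, inv_one, Units.val_one, Finset.sum_const, Finset.card_univ,
        nsmul_eq_mul, mul_one, OneMemClass.coe_one, Module.End.one_apply]
      rw [hdual]
    · have : ∑ χ : H →* kˣ, (((χ h)⁻¹ : kˣ) : k) = ∑ χ : H →* kˣ, ((χ h⁻¹ : kˣ) : k) :=
        Finset.sum_congr rfl fun χ _ => by rw [map_inv]
      rw [this, sum_dual_eq_zero, zero_smul]
      obtain ⟨χ₀, hχ₀⟩ := hsep h hh
      refine ⟨χ₀, fun h0 => hχ₀ ?_⟩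
      rw [map_inv, inv_eq_one] at h0
      exact h0
  rw [Finset.sum_congr rfl fun h _ => h1 h, Finset.sum_ite_eq' Finset.univ 1]
  simp only [Finset.mem_univ, if_true]
  rw [smul_smul, inv_mul_cancel₀ hcard, one_smul]

/-- the isotypic decomposition -/
noncomputable def decomp [Fintype (H →* kˣ)] [DecidableEq H] [DecidableEq (H →* kˣ)]
    (hcard : (Fintype.card H : k) ≠ 0)
    (hsep : ∀ h : H, h ≠ 1 → ∃ χ₀ : H →* kˣ, χ₀ h ≠ 1)
    (hdual : Fintype.card (H →* kˣ) = Fintype.card H) :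
    W ≃ₗ[k] ((χ : H →* kˣ) → eig ρ H χ) where
  toFun w χ := ⟨proj ρ H χ w, proj_mem_eig χ w⟩
  map_add' a b := by
    funext χ
    apply Subtype.ext
    simp
  map_smul' c a := by
    funext χ
    apply Subtype.ext
    simp
  invFun f := ∑ χ, (f χ : W)
  left_inv w := sum_proj hcard hsep hdual w
  right_inv f := by
    funext χ
    apply Subtype.ext
    simp only [map_sum]
    rw [Finset.sum_congr rfl fun ψ _ => proj_of_mem_eig hcard (f ψ).2, Finset.sum_ite_eq]
    simp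

theorem finrank_eq_card_mul [FiniteDimensional k W] [Fintype (H →* kˣ)] (hρ : IsWt1 T ρ)
    (hcard : (Fintype.card H : k) ≠ 0)
    (hsurj : Function.Surjective (T.Ψ H))
    (hsep : ∀ h : H, h ≠ 1 → ∃ χ₀ : H →* kˣ, χ₀ h ≠ 1)
    (hdual : Fintype.card (H →* kˣ) = Fintype.card H) :
    Module.finrank k W = Fintype.card H * Module.finrank k (eig ρ H 1) := by
  classical
  rw [LinearEquiv.finrank_eq (decomp (ρ := ρ) hcard hsep hdual), Module.finrank_pi_fintype,
    Finset.sum_congr rfl fun χ _ => finrank_eig hρ hsurj χ, Finset.sum_const, Finset.card_univ,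
    hdual, smul_eq_mul]

end proj

end Groth.Agent.Lib.helper10.Theta
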