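import Groth.Agent.Lib.helper10.ThetaE

set_option autoImplicit false

/-!
# Theta groups, part F: dimension formula, irreducible weight-one representations, uniqueness.
-/

namespace Groth.Agent.Lib.helper10.Theta

open scoped commutatorElement

variable {k Γ : Type*} [Field k] [Group Γ] {T : Data k Γ}
variable {W : Type*} [AddCommGroup W] [Module k W] {ρ : Representation k Γ W}
variable {W' : Type*} [AddCommGroup W'] [Module k W'] {ρ' : Representation k Γ W'}
variable {H : Subgroup Γ}
variable [IsAlgClosed k] [Finite (Γ ⧸ T.ι.range)]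

lemma Data.IsLevel.exists_sep (hH : T.IsLevel H) (h : H) (hh : h ≠ 1) :
    ∃ χ₀ : H →* kˣ, χ₀ h ≠ 1 := by
  by_contra hcon
  push Not at hcon
  apply hh
  apply Subtype.ext
  apply hH.eq_one h.2
  apply T.mem_range_of_forall
  intro x
  have := hcon (T.Ψ H x)
  rw [Data.Ψ_apply] at this
  rw [T.e_symm, this, inv_one]

/-- the dimension formula for a level subgroup -/
theorem finrank_eq_card_mul_invariants (hH : T.IsLevel H)
    (hN : (Nat.card (Γ ⧸ T.ι.range) : k) ≠ 0) [FiniteDimensional k W] (hρ : IsWt1 T ρ) :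
    Module.finrank k W = Nat.card H * Module.finrank k (eig ρ H 1) := by
  haveI := hH.finite
  haveI : Fintype H := Fintype.ofFinite H
  have hdualN : Nat.card (H →* kˣ) = Nat.card H := card_monoidHom hH.comm (hH.card_ne_zero hN)
  haveI : Finite (H →* kˣ) := by
    apply Nat.finite_of_card_ne_zero
    rw [hdualN]
    exact Nat.card_pos.ne'
  haveI : Fintype (H →* kˣ) := Fintype.ofFinite _
  have hcard : (Fintype.card H : k) ≠ 0 := by
    rw [← Nat.card_eq_fintype_card]
    exact hH.card_ne_zero hN
  have hdual : Fintype.card (H →* kˣ) = Fintype.card H := by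
    rw [← Nat.card_eq_fintype_card, ← Nat.card_eq_fintype_card, hdualN]
  rw [finrank_eq_card_mul hρ hcard (hH.Ψ_surjective hN) hH.exists_sep hdual,
    Nat.card_eq_fintype_card]

lemma exists_invariant_ne_zero (hH : T.IsLevel H)
    (hN : (Nat.card (Γ ⧸ T.ι.range) : k) ≠ 0) [FiniteDimensional k W] [Nontrivial W]
    (hρ : IsWt1 T ρ) : ∃ v ∈ eig ρ H 1, v ≠ 0 := by
  have h1 := finrank_eq_card_mul_invariants hH hN hρ
  have h2 : 0 < Module.finrank k W := Module.finrank_pos
  have h3 : 0 < Module.finrank k (eig ρ H 1) := by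
    rcases Nat.eq_zero_or_pos (Module.finrank k (eig ρ H 1)) with h | h
    · rw [h, mul_zero] at h1
      omega
    · exact h
  obtain ⟨⟨v, hv⟩, hne⟩ := Module.finrank_pos_iff_exists_ne_zero.1 h3
  exact ⟨v, hv, fun h0 => hne (Subtype.ext h0)⟩

lemma nontrivial_of_irreducible (hirr : ρ.IsIrreducible) : Nontrivial W := by
  by_contra hcon
  rw [not_nontrivial_iff_subsingleton] at hcon
  haveI := hirr
  have : (⊥ : Subrepresentation ρ) ≠ ⊤ := bot_ne_top
  apply this
  apply Subrepresentation.toSubmodule_injective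
  exact Subsingleton.elim _ _

/-- action of `x * (h * ι z)` on an `H`-invariant vector -/
lemma apply_mul_of_invariant (hρ : IsWt1 T ρ) {v : W} (hv : v ∈ eig ρ H 1) (x : Γ) {h : Γ}
    (hh : h ∈ H) (z : kˣ) : ρ (x * (h * T.ι z)) v = (z : k) • ρ x v := by
  rw [map_mul, map_mul, Module.End.mul_apply, Module.End.mul_apply, hρ, map_smul, map_smul]
  have := hv ⟨h, hh⟩
  simp only [MonoidHom.one_apply, Units.val_one, one_smul] at this
  rw [this]

theorem finrank_irreducible (hH : T.IsMaxLevel H)
    (hN : (Nat.card (Γ ⧸ T.ι.range) : k) ≠ 0) [FiniteDimensional k W] (hρ : IsWt1 T ρ)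
    (hirr : ρ.IsIrreducible) :
    Module.finrank k W = Nat.card H ∧ Module.finrank k (eig ρ H 1) = 1 := by
  classical
  haveI := nontrivial_of_irreducible hirr
  haveI := hH.1.finite
  have hform := finrank_eq_card_mul_invariants hH.1 hN hρ
  obtain ⟨v, hv, hv0⟩ := exists_invariant_ne_zero hH.1 hN hρ
  have hsurj := hH.1.Ψ_surjective hN
  choose xs hxs using hsurj
  have hdualN : Nat.card (H →* kˣ) = Nat.card H :=
    card_monoidHom hH.1.comm (hH.1.card_ne_zero hN)
  haveI : Finite (H →* kˣ) := by
    apply Nat.finite_of_card_ne_zero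
    rw [hdualN]
    exact Nat.card_pos.ne'
  haveI : Fintype (H →* kˣ) := Fintype.ofFinite _
  set S : Submodule k W := Submodule.span k (Set.range fun χ : H →* kˣ => ρ (xs χ) v) with hS
  have hstab : ∀ (g : Γ) ⦃u : W⦄, u ∈ S → ρ g u ∈ S := by
    intro g u hu
    induction hu using Submodule.span_induction with
    | mem u hu =>
      obtain ⟨χ, rfl⟩ := hu
      set χ' := T.Ψ H (g * xs χ) with hχ'
      have hy : T.Ψ H ((xs χ')⁻¹ * (g * xs χ)) = 1 := by
        rw [map_mul, map_inv, hxs, ← hχ']
        ext h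
        simp
      obtain ⟨h, hh, z, hz⟩ := hH.exists_of_Ψ_eq_one hy
      have h1 : g * xs χ = xs χ' * (h * T.ι z) := by
        rw [← hz, mul_inv_cancel_left]
      rw [← Module.End.mul_apply, ← map_mul, h1, apply_mul_of_invariant hρ hv _ hh]
      exact S.smul_mem _ (Submodule.subset_span ⟨χ', rfl⟩)
    | zero => rw [map_zero]; exact S.zero_mem
    | add a b _ _ ha hb => rw [map_add]; exact S.add_mem ha hb
    | smul c a _ ha => rw [map_smul]; exact S.smul_mem c ha
  let U : Subrepresentation ρ := ⟨S, hstab⟩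
  haveI := hirr
  have hU : U = ⊤ := by
    rcases eq_bot_or_eq_top U with h | h
    · exfalso
      have h1 : ρ (xs 1) v ∈ U.toSubmodule := Submodule.subset_span ⟨1, rfl⟩
      rw [h] at h1
      have h2 : ρ (xs 1) v = 0 := (Submodule.mem_bot k).1 h1
      apply hv0
      apply apply_injective (ρ := ρ) (xs 1)
      rw [h2, map_zero]
    · exact h
  have hStop : S = ⊤ := congrArg Subrepresentation.toSubmodule hU
  have hle : Module.finrank k W ≤ Nat.card H := by
    have h1 : Module.finrank k S ≤ Fintype.card (H →* kˣ) := finrank_range_le_card _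
    rw [hStop, finrank_top, ← Nat.card_eq_fintype_card, hdualN] at h1
    exact h1
  have hpos : 0 < Nat.card H := Nat.card_pos
  have h3 : 0 < Module.finrank k (eig ρ H 1) := by
    apply Module.finrank_pos_iff_exists_ne_zero.2
    exact ⟨⟨v, hv⟩, fun h0 => hv0 (congrArg Subtype.val h0)⟩
  have h4 : Module.finrank k (eig ρ H 1) = 1 := by
    rw [hform] at hle
    have : Nat.card H * Module.finrank k (eig ρ H 1) ≤ Nat.card H * 1 := by rwa [mul_one]
    have := Nat.le_of_mul_le_mul_left this hpos
    omega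
  exact ⟨by rw [hform, h4, mul_one], h4⟩

end Groth.Agent.Lib.helper10.Theta
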