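import Groth.Agent.Lib.helper10.ThetaF

set_option autoImplicit false

/-!
# Theta groups, part G: uniqueness of the irreducible weight-one representation.
-/

namespace Groth.Agent.Lib.helper10.Theta

open scoped commutatorElement

variable {k Γ : Type*} [Field k] [Group Γ] {T : Data k Γ}
variable {W : Type*} [AddCommGroup W] [Module k W] {ρ : Representation k Γ W}
variable {W' : Type*} [AddCommGroup W'] [Module k W'] {ρ' : Representation k Γ W'}
variable {H : Subgroup Γ}
variable [IsAlgClosed k] [Finite (Γ ⧸ T.ι.range)]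

/-- the pairing with `H`, descended to `Γ/Z` -/
noncomputable def ΨK (T : Data k Γ) (H : Subgroup Γ) : (Γ ⧸ T.ι.range) →* (H →* kˣ) :=
  QuotientGroup.lift T.ι.range (T.Ψ H) (by
    rintro _ ⟨z, rfl⟩
    rw [MonoidHom.mem_ker]
    ext h
    simp [T.e_ι_left])

lemma ΨK_out (q : Γ ⧸ T.ι.range) : T.Ψ H q.out = ΨK T H q := by
  conv_rhs => rw [← QuotientGroup.out_eq' q]
  rfl

theorem nonempty_equiv (hH : T.IsMaxLevel H)
    (hN : (Nat.card (Γ ⧸ T.ι.range) : k) ≠ 0) [FiniteDimensional k W] [FiniteDimensional k W']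
    (hρ : IsWt1 T ρ) (hρ' : IsWt1 T ρ') (hirr : ρ.IsIrreducible) (hirr' : ρ'.IsIrreducible) :
    Nonempty (Representation.Equiv ρ ρ') := by
  classical
  haveI := nontrivial_of_irreducible hirr
  haveI := nontrivial_of_irreducible hirr'
  haveI := hH.1.finite
  haveI : Fintype H := Fintype.ofFinite H
  haveI : Fintype (Γ ⧸ T.ι.range) := Fintype.ofFinite _
  have hcard : (Fintype.card H : k) ≠ 0 := by
    rw [← Nat.card_eq_fintype_card]
    exact hH.1.card_ne_zero hN
  obtain ⟨v, hv, hv0⟩ := exists_invariant_ne_zero hH.1 hN hρ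
  obtain ⟨v', hv', hv'0⟩ := exists_invariant_ne_zero hH.1 hN hρ'
  obtain ⟨μ, hμ⟩ := Module.Projective.exists_dual_eq_one k hv0
  set lam : W →ₗ[k] k := μ ∘ₗ proj ρ H 1 with hlam
  set T₀ : W →ₗ[k] W' := lam.smulRight v' with hT₀
  set A : W →ₗ[k] W' := avg T ρ ρ' T₀ with hA
  -- the terms
  have hterm : ∀ x : Γ, conj ρ ρ' T₀ x v = if T.Ψ H x = 1 then v' else 0 := by
    intro x
    rw [conj_apply, hT₀, LinearMap.smulRight_apply, hlam, LinearMap.comp_apply]
    split_ifs with hx
    · obtain ⟨h, hh, z, rfl⟩ := hH.exists_of_Ψ_eq_one hx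
      have h1 : ρ (h * T.ι z)⁻¹ v = ((z⁻¹ : kˣ) : k) • v := by
        have : (h * T.ι z)⁻¹ = 1 * (h⁻¹ * T.ι z⁻¹) := by
          rw [one_mul, mul_inv_rev, ← map_inv]
          exact (T.ι_comm z⁻¹ h⁻¹)
        rw [this, apply_mul_of_invariant hρ hv 1 (inv_mem hh), map_one, Module.End.one_apply]
      have h2 : proj ρ H 1 v = v := by
        rw [proj_of_mem_eig hcard hv, if_pos rfl]
      have h3 : ρ' (h * T.ι z) v' = (z : k) • v' := by
        have : h * T.ι z = 1 * (h * T.ι z) := (one_mul _).symm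
        rw [this, apply_mul_of_invariant hρ' hv' 1 hh, map_one, Module.End.one_apply]
      rw [h1]
      simp only [map_smul, h2, hμ, h3, smul_smul, smul_eq_mul, mul_one]
      simp
    · have h1 : ρ x⁻¹ v ∈ eig ρ H (T.Ψ H x) := by
        have := apply_mem_eig hρ x⁻¹ hv
        have e1 : (1 : H →* kˣ) * (T.Ψ H x⁻¹)⁻¹ = T.Ψ H x := by
          ext h
          simp
        rwa [e1] at this
      have h2 : proj ρ H 1 (ρ x⁻¹ v) = 0 := by
        rw [proj_of_mem_eig hcard h1, if_neg (fun h => hx h.symm)]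
      rw [h2, map_zero, zero_smul, map_zero]
  have hAv : A v = (Nat.card (ΨK T H).ker : k) • v' := by
    rw [hA, avg_apply, finsum_eq_sum_of_fintype]
    rw [Finset.sum_congr rfl fun q _ => hterm q.out]
    simp only [ΨK_out]
    rw [← Finset.sum_filter, Finset.sum_const, ← Nat.cast_smul_eq_nsmul k]
    congr 2
    rw [Nat.card_eq_fintype_card, Fintype.card_subtype]
    refine congrArg Finset.card (Finset.filter_congr fun q _ => ?_)
    rw [MonoidHom.mem_ker]
  have hm : (Nat.card (ΨK T H).ker : k) ≠ 0 := by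
    obtain ⟨m, hm⟩ := Subgroup.card_subgroup_dvd_card (ΨK T H).ker
    intro h0
    apply hN
    rw [hm, Nat.cast_mul, h0, zero_mul]
  have hAne : A v ≠ 0 := by
    rw [hAv]
    exact smul_ne_zero hm hv'0
  let F : Representation.IntertwiningMap ρ ρ' :=
    LinearMap.intertwiningMap_of_isIntertwiningMap ρ ρ' A
      (fun g w => (avg_equivariant hρ hρ' T₀ g w).symm)
  haveI := hirr
  haveI := hirr'
  rcases Representation.IsIrreducible.bijective_or_eq_zero F with h | h
  · exact ⟨Representation.IntertwiningMap.ofBijective F h⟩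
  · exfalso
    apply hAne
    have : F v = 0 := by rw [h]; rfl
    exact this

end Groth.Agent.Lib.helper10.Theta
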