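import Groth.Agent.Lib.helper10.ThetaG

set_option autoImplicit false

/-!
# Theta groups, part H: existence of an irreducible weight-one representation.
-/

namespace Groth.Agent.Lib.helper10.Theta

open scoped commutatorElement

universe u v w

variable {k : Type u} {Γ : Type v} [Field k] [Group Γ] (T : Data k Γ)

/-- functions on `Γ` which are `kˣ`-equivariant on the left -/
def regSub : Submodule k (Γ → k) where
  carrier := {f | ∀ (z : kˣ) (g : Γ), f (T.ι z * g) = (z : k) * f g}
  zero_mem' := fun z g => by simp
  add_mem' := fun {a b} ha hb z g => by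
    simp only [Set.mem_setOf_eq] at ha hb
    simp only [Pi.add_apply, ha z g, hb z g, mul_add]
  smul_mem' := fun c a ha z g => by
    simp only [Set.mem_setOf_eq] at ha
    simp only [Pi.smul_apply, ha z g, smul_eq_mul]
    ring

/-- right translation -/
def regRep : Representation k Γ (regSub T) where
  toFun γ :=
    { toFun := fun f => ⟨fun g => f.1 (g * γ), fun z g => by
        have := f.2 z (g * γ)
        rw [← mul_assoc] at this
        exact this⟩
      map_add' := fun a b => rfl
      map_smul' := fun c a => rfl }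
  map_one' := by
    ext f g
    simp
  map_mul' γ γ' := by
    ext f g
    simp [mul_assoc]

lemma regRep_apply (γ : Γ) (f : regSub T) (g : Γ) : (regRep T γ f).1 g = f.1 (g * γ) := rfl

lemma regRep_wt1 : IsWt1 T (regRep T) := by
  intro z f
  apply Subtype.ext
  funext g
  rw [regRep_apply, ← T.ι_comm, f.2 z g]
  rfl

instance regSub_finite [Finite (Γ ⧸ T.ι.range)] : FiniteDimensional k (regSub T) := by
  haveI := Fintype.ofFinite (Γ ⧸ T.ι.range)
  let L : regSub T →ₗ[k] ((Γ ⧸ T.ι.range) → k) :=
    { toFun := fun f q => f.1 q.out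
      map_add' := fun a b => rfl
      map_smul' := fun c a => rfl }
  apply Module.Finite.of_injective L
  intro a b hab
  apply Subtype.ext
  funext g
  obtain ⟨⟨_, z, rfl⟩, hz⟩ := QuotientGroup.mk_out_eq_mul T.ι.range g
  have h1 := congrFun hab (QuotientGroup.mk g)
  simp only [L, LinearMap.coe_mk, AddHom.coe_mk] at h1
  rw [hz, ← T.ι_comm, a.2 z g, b.2 z g] at h1
  exact mul_left_cancel₀ z.ne_zero h1

instance regSub_nontrivial : Nontrivial (regSub T) := by
  classical
  let e := MonoidHom.ofInjective T.inj
  let f₀ : Γ → k := fun g => if hg : g ∈ T.ι.range then ((e.symm ⟨g, hg⟩ : kˣ) : k) else 0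
  have hf₀ : f₀ ∈ regSub T := by
    intro z g
    by_cases hg : g ∈ T.ι.range
    · have hg' : T.ι z * g ∈ T.ι.range := mul_mem ⟨z, rfl⟩ hg
      simp only [f₀, dif_pos hg, dif_pos hg']
      have : (⟨T.ι z * g, hg'⟩ : T.ι.range) = e z * ⟨g, hg⟩ := by
        apply Subtype.ext
        rfl
      rw [this, map_mul, MulEquiv.symm_apply_apply, Units.val_mul]
    · have hg' : T.ι z * g ∉ T.ι.range := by
        intro h
        apply hg
        have : g = (T.ι z)⁻¹ * (T.ι z * g) := by rw [inv_mul_cancel_left]
        rw [this]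
        exact mul_mem (inv_mem ⟨z, rfl⟩) h
      simp only [f₀, dif_neg hg, dif_neg hg', mul_zero]
  refine ⟨⟨⟨f₀, hf₀⟩, 0, fun h => ?_⟩⟩
  have h1 := congrFun (congrArg Subtype.val h) 1
  simp only [f₀, dif_pos (one_mem T.ι.range)] at h1
  have : (⟨1, one_mem _⟩ : T.ι.range) = 1 := rfl
  rw [this, map_one] at h1
  simp at h1

variable {T}

lemma wt1_sub {W : Type w} [AddCommGroup W] [Module k W] {ρ : Representation k Γ W}
    (hρ : IsWt1 T ρ) (U : Subrepresentation ρ) : IsWt1 T U.toRepresentation := by
  intro z w
  apply Subtype.ext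
  exact hρ z w.1

theorem exists_irreducible_aux (n : ℕ) : ∀ (W : Type w) [AddCommGroup W] [Module k W]
    [FiniteDimensional k W] [Nontrivial W] (ρ : Representation k Γ W), IsWt1 T ρ →
    Module.finrank k W = n →
    ∃ (V : Type w) (_ : AddCommGroup V) (_ : Module k V) (_ : FiniteDimensional k V)
      (σ : Representation k Γ V), σ.IsIrreducible ∧ IsWt1 T σ := by
  induction n using Nat.strong_induction_on with
  | _ n ih =>
    intro W _ _ _ _ ρ hρ hn
    by_cases hirr : ρ.IsIrreducible
    · exact ⟨W, inferInstance, inferInstance, inferInstance, ρ, hirr, hρ⟩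
    · have hnt : Nontrivial (Subrepresentation ρ) := by
        refine ⟨⟨⊥, ⊤, fun h => ?_⟩⟩
        have h1 : (⊥ : Submodule k W) = ⊤ := congrArg Subrepresentation.toSubmodule h
        exact bot_ne_top h1
      have hex : ∃ U : Subrepresentation ρ, U ≠ ⊥ ∧ U ≠ ⊤ := by
        by_contra hcon
        push Not at hcon
        apply hirr
        exact ⟨fun U => by
          by_cases hU : U = ⊥
          · exact Or.inl hU
          · exact Or.inr (hcon U hU)⟩
      obtain ⟨U, hU0, hU1⟩ := hex
      have hU0' : U.toSubmodule ≠ ⊥ := fun h => hU0 (Subrepresentation.toSubmodule_injective h)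
      have hU1' : U.toSubmodule ≠ ⊤ := fun h => hU1 (Subrepresentation.toSubmodule_injective h)
      haveI : Nontrivial U.toSubmodule := Submodule.nontrivial_iff_ne_bot.2 hU0'
      have hlt : Module.finrank k U.toSubmodule < n := by
        rw [← hn]
        exact Submodule.finrank_lt hU1'
      exact ih _ hlt U.toSubmodule U.toRepresentation (wt1_sub hρ U) rfl

theorem exists_irreducible [Finite (Γ ⧸ T.ι.range)] :
    ∃ (V : Type (max u v)) (_ : AddCommGroup V) (_ : Module k V) (_ : FiniteDimensional k V)
      (σ : Representation k Γ V), σ.IsIrreducible ∧ IsWt1 T σ :=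
  exists_irreducible_aux _ (regSub T) (regRep T) (regRep_wt1 T) rfl

end Groth.Agent.Lib.helper10.Theta
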