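import Mathlib
import Groth.Prelude.Def_Omega3

set_option autoImplicit false
universe u

namespace H10S9463

theorem main (A B B' : Type u) [CommRing A] [CommRing B]
    [CommRing B'] [Algebra A B] [Algebra A B'] (π : B' →ₐ[A] B)
    (hπ : OmegaSh.IsUnivThickeningRing A B B' π) (S : Submonoid A)
    (AS BS B'S : Type u) [CommRing AS] [CommRing BS] [CommRing B'S]
    [Algebra A AS] [IsLocalization S AS]
    [Algebra B BS] [IsLocalization (Algebra.algebraMapSubmonoid B S) BS]
    [Algebra B' B'S] [IsLocalization (Algebra.algebraMapSubmonoid B' S) B'S]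
    [Algebra AS BS] [Algebra A BS] [IsScalarTower A AS BS] [IsScalarTower A B BS]
    [Algebra AS B'S] [Algebra A B'S] [IsScalarTower A AS B'S] [IsScalarTower A B' B'S]
    (πS : B'S →ₐ[AS] BS) (hπS : ∀ x : B', πS (algebraMap B' B'S x) = algebraMap B BS (π x)) :
    OmegaSh.IsUnivThickeningRing AS BS B'S πS := by
  obtain ⟨hsurj, hker, huniv⟩ := hπ
  -- units
  have hunitB : ∀ t ∈ S, IsUnit (algebraMap B BS (algebraMap A B t)) := fun t ht =>
    IsLocalization.map_units BS (⟨algebraMap A B t, ⟨t, ht, rfl⟩⟩ : Algebra.algebraMapSubmonoid B S)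
  have hunitB' : ∀ t ∈ S, IsUnit (algebraMap B' B'S (algebraMap A B' t)) := fun t ht =>
    IsLocalization.map_units B'S (⟨algebraMap A B' t, ⟨t, ht, rfl⟩⟩ : Algebra.algebraMapSubmonoid B' S)
  -- every element of B'S is x'/t
  have hrep : ∀ x : B'S, ∃ (x' : B') (t : A), t ∈ S ∧
      x * algebraMap B' B'S (algebraMap A B' t) = algebraMap B' B'S x' := by
    intro x
    obtain ⟨⟨x', ⟨_, t, ht, rfl⟩⟩, h⟩ := IsLocalization.surj (Algebra.algebraMapSubmonoid B' S) x
    exact ⟨x', t, ht, h⟩
  refine ⟨?_, ?_, ?_⟩
  · intro y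
    obtain ⟨⟨b, ⟨_, t, ht, rfl⟩⟩, h⟩ := IsLocalization.surj (Algebra.algebraMapSubmonoid B S) y
    obtain ⟨b', rfl⟩ := hsurj b
    obtain ⟨u, hu⟩ := hunitB' t ht
    refine ⟨algebraMap B' B'S b' * ↑u⁻¹, ?_⟩
    have h1 : πS (algebraMap B' B'S b' * ↑u⁻¹) * algebraMap B BS (algebraMap A B t) =
        y * algebraMap B BS (algebraMap A B t) := by
      rw [h]
      have : algebraMap B BS (algebraMap A B t) = πS (algebraMap B' B'S (algebraMap A B' t)) := by
        rw [hπS, AlgHom.commutes]
      rw [this, ← map_mul, ← hu, mul_assoc, Units.inv_mul, mul_one, hπS]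
    exact (hunitB t ht).mul_left_injective h1
  · rw [eq_bot_iff, sq, Ideal.mul_le]
    intro x hx y hy
    rw [RingHom.mem_ker] at hx hy
    obtain ⟨x', t, ht, hx'⟩ := hrep x
    obtain ⟨y', s, hs, hy'⟩ := hrep y
    -- π x' becomes zero in BS
    have hx0 : algebraMap B BS (π x') = 0 := by
      rw [← hπS, ← hx', map_mul]
      have : πS x = 0 := hx
      rw [this, zero_mul]
    have hy0 : algebraMap B BS (π y') = 0 := by
      rw [← hπS, ← hy', map_mul]
      have : πS y = 0 := hy
      rw [this, zero_mul]
    obtain ⟨⟨_, t1, ht1, rfl⟩, h1⟩ := (IsLocalization.map_eq_zero_iff (Algebra.algebraMapSubmonoid B S) BS _).1 hx0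
    obtain ⟨⟨_, s1, hs1, rfl⟩, h2⟩ := (IsLocalization.map_eq_zero_iff (Algebra.algebraMapSubmonoid B S) BS _).1 hy0
    have k1 : algebraMap A B' t1 * x' ∈ RingHom.ker π.toRingHom := by
      rw [RingHom.mem_ker]
      show π (algebraMap A B' t1 * x') = 0
      rw [map_mul, AlgHom.commutes]
      exact h1
    have k2 : algebraMap A B' s1 * y' ∈ RingHom.ker π.toRingHom := by
      rw [RingHom.mem_ker]
      show π (algebraMap A B' s1 * y') = 0
      rw [map_mul, AlgHom.commutes]
      exact h2
    have k3 : (algebraMap A B' t1 * x') * (algebraMap A B' s1 * y') = 0 := by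
      have : (algebraMap A B' t1 * x') * (algebraMap A B' s1 * y') ∈ RingHom.ker π.toRingHom ^ 2 := by
        rw [sq]
        exact Ideal.mul_mem_mul k1 k2
      rw [hker] at this
      exact this
    rw [Ideal.mem_bot]
    -- x*y * (units) = 0
    have k4 : (x * y) * (algebraMap B' B'S (algebraMap A B' t) * algebraMap B' B'S (algebraMap A B' s) *
        algebraMap B' B'S (algebraMap A B' t1) * algebraMap B' B'S (algebraMap A B' s1)) = 0 := by
      have : (x * y) * (algebraMap B' B'S (algebraMap A B' t) * algebraMap B' B'S (algebraMap A B' s) *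
        algebraMap B' B'S (algebraMap A B' t1) * algebraMap B' B'S (algebraMap A B' s1)) =
          algebraMap B' B'S ((algebraMap A B' t1 * x') * (algebraMap A B' s1 * y')) := by
        simp only [map_mul, ← hx', ← hy']
        ring
      rw [this, k3, map_zero]
    have hu : IsUnit (algebraMap B' B'S (algebraMap A B' t) * algebraMap B' B'S (algebraMap A B' s) *
        algebraMap B' B'S (algebraMap A B' t1) * algebraMap B' B'S (algebraMap A B' s1)) :=
      (((hunitB' t ht).mul (hunitB' s hs)).mul (hunitB' t1 ht1)).mul (hunitB' s1 hs1)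
    exact (hu.mul_left_eq_zero).1 k4
  · intro T _ _ J hJ a
    let _ : Algebra A T := Algebra.compHom T (algebraMap A AS)
    have _ : IsScalarTower A AS T := IsScalarTower.of_algebraMap_eq (fun _ => rfl)
    let a₀ : B →ₐ[A] T ⧸ J := (a.restrictScalars A).comp (IsScalarTower.toAlgHom A B BS)
    obtain ⟨a₀', ha₀', huniq⟩ := huniv T J hJ a₀
    have hg : ∀ y : Algebra.algebraMapSubmonoid B' S, IsUnit (a₀'.toRingHom y) := by
      rintro ⟨_, t, ht, rfl⟩
      show IsUnit (a₀' (algebraMap A B' t))
      rw [AlgHom.commutes]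
      show IsUnit (algebraMap AS T (algebraMap A AS t))
      exact (IsLocalization.map_units AS (⟨t, ht⟩ : S)).map _
    let φ : B'S →+* T := IsLocalization.lift hg
    have hφ : ∀ x' : B', φ (algebraMap B' B'S x') = a₀' x' := fun x' => IsLocalization.lift_eq hg x'
    have hcomm : ∀ r : AS, φ (algebraMap AS B'S r) = algebraMap AS T r := by
      have : φ.comp (algebraMap AS B'S) = algebraMap AS T := by
        apply IsLocalization.ringHom_ext S
        ext t
        show φ (algebraMap AS B'S (algebraMap A AS t)) = algebraMap AS T (algebraMap A AS t)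
        rw [← IsScalarTower.algebraMap_apply A AS B'S, IsScalarTower.algebraMap_apply A B' B'S, hφ,
          AlgHom.commutes]
        rfl
      exact fun r => RingHom.congr_fun this r
    let a' : B'S →ₐ[AS] T := { φ with commutes' := hcomm }
    have ha'φ : ∀ x, a' x = φ x := fun _ => rfl
    have hprop : ∀ x' : B', (Ideal.Quotient.mk J) (a₀' x') = a (algebraMap B BS (π x')) := by
      intro x'
      have := AlgHom.congr_fun ha₀' x'
      exact this
    refine ⟨a', ?_, ?_⟩
    · apply AlgHom.coe_ringHom_injective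
      apply IsLocalization.ringHom_ext (Algebra.algebraMapSubmonoid B' S)
      ext x'
      show (Ideal.Quotient.mk J) (a' (algebraMap B' B'S x')) = a (πS (algebraMap B' B'S x'))
      rw [ha'φ, hφ, hπS, hprop]
    · intro a'' ha''
      let c : B' →ₐ[A] T := (a''.restrictScalars A).comp (IsScalarTower.toAlgHom A B' B'S)
      have hc : (Ideal.Quotient.mkₐ A J).comp c = a₀.comp π := by
        ext x'
        have := AlgHom.congr_fun ha'' (algebraMap B' B'S x')
        show (Ideal.Quotient.mk J) (a'' (algebraMap B' B'S x')) = a (algebraMap B BS (π x'))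
        rw [← hπS]
        exact this
      have hc' := huniq c hc
      apply AlgHom.coe_ringHom_injective
      apply IsLocalization.ringHom_ext (Algebra.algebraMapSubmonoid B' S)
      ext x'
      show a'' (algebraMap B' B'S x') = a' (algebraMap B' B'S x')
      rw [ha'φ, hφ, ← hc']
      rfl

end H10S9463
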