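import Mathlib
import Groth.Prelude.Def_Omega3

set_option autoImplicit false
universe u

namespace H10S9464

theorem main (A B B' : Type u) [CommRing A] [CommRing B]
    [CommRing B'] [Algebra A B] [Algebra A B'] (π : B' →ₐ[A] B)
    (hπ : OmegaSh.IsUnivThickeningRing A B B' π) (S : Submonoid B)
    (BS B'S : Type u) [CommRing BS] [CommRing B'S]
    [Algebra B BS] [IsLocalization S BS]
    [Algebra B' B'S] [IsLocalization (S.comap π.toRingHom.toMonoidHom) B'S]
    [Algebra A BS] [IsScalarTower A B BS] [Algebra A B'S] [IsScalarTower A B' B'S]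
    (πS : B'S →ₐ[A] BS) (hπS : ∀ x : B', πS (algebraMap B' B'S x) = algebraMap B BS (π x)) :
    OmegaSh.IsUnivThickeningRing A BS B'S πS := by
  obtain ⟨hsurj, hker, huniv⟩ := hπ
  set S' : Submonoid B' := S.comap π.toRingHom.toMonoidHom with hS'
  have hmemS' : ∀ s' : B', s' ∈ S' ↔ π s' ∈ S := fun s' => Iff.rfl
  have hunitB : ∀ s ∈ S, IsUnit (algebraMap B BS s) := fun s hs =>
    IsLocalization.map_units BS (⟨s, hs⟩ : S)
  have hunitB' : ∀ s' ∈ S', IsUnit (algebraMap B' B'S s') := fun s' hs' =>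
    IsLocalization.map_units B'S (⟨s', hs'⟩ : S')
  have hrep : ∀ x : B'S, ∃ (x' : B') (t : B'), t ∈ S' ∧
      x * algebraMap B' B'S t = algebraMap B' B'S x' := by
    intro x
    obtain ⟨⟨x', ⟨t, ht⟩⟩, h⟩ := IsLocalization.surj S' x
    exact ⟨x', t, ht, h⟩
  refine ⟨?_, ?_, ?_⟩
  · intro y
    obtain ⟨⟨b, ⟨s, hs⟩⟩, h⟩ := IsLocalization.surj S y
    obtain ⟨b', rfl⟩ := hsurj b
    obtain ⟨s', rfl⟩ := hsurj s
    have hs' : s' ∈ S' := hs
    obtain ⟨u, hu⟩ := hunitB' s' hs'
    refine ⟨algebraMap B' B'S b' * ↑u⁻¹, ?_⟩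
    have h1 : πS (algebraMap B' B'S b' * ↑u⁻¹) * algebraMap B BS (π s') =
        y * algebraMap B BS (π s') := by
      rw [h]
      rw [← hπS s', ← map_mul, ← hu, mul_assoc, Units.inv_mul, mul_one, hπS]
    exact (hunitB _ hs).mul_left_injective h1
  · rw [eq_bot_iff, sq, Ideal.mul_le]
    intro x hx y hy
    rw [RingHom.mem_ker] at hx hy
    obtain ⟨x', t, ht, hx'⟩ := hrep x
    obtain ⟨y', s, hs, hy'⟩ := hrep y
    have hx0 : algebraMap B BS (π x') = 0 := by
      rw [← hπS, ← hx', map_mul]
      have : πS x = 0 := hx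
      rw [this, zero_mul]
    have hy0 : algebraMap B BS (π y') = 0 := by
      rw [← hπS, ← hy', map_mul]
      have : πS y = 0 := hy
      rw [this, zero_mul]
    obtain ⟨⟨t1, ht1⟩, h1⟩ := (IsLocalization.map_eq_zero_iff S BS _).1 hx0
    obtain ⟨⟨s1, hs1⟩, h2⟩ := (IsLocalization.map_eq_zero_iff S BS _).1 hy0
    obtain ⟨t1', rfl⟩ := hsurj t1
    obtain ⟨s1', rfl⟩ := hsurj s1
    have ht1' : t1' ∈ S' := ht1
    have hs1' : s1' ∈ S' := hs1
    have k1 : t1' * x' ∈ RingHom.ker π.toRingHom := by
      rw [RingHom.mem_ker]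
      show π (t1' * x') = 0
      rw [map_mul]
      exact h1
    have k2 : s1' * y' ∈ RingHom.ker π.toRingHom := by
      rw [RingHom.mem_ker]
      show π (s1' * y') = 0
      rw [map_mul]
      exact h2
    have k3 : (t1' * x') * (s1' * y') = 0 := by
      have : (t1' * x') * (s1' * y') ∈ RingHom.ker π.toRingHom ^ 2 := by
        rw [sq]
        exact Ideal.mul_mem_mul k1 k2
      rw [hker] at this
      exact this
    rw [Ideal.mem_bot]
    have k4 : (x * y) * (algebraMap B' B'S t * algebraMap B' B'S s *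
        algebraMap B' B'S t1' * algebraMap B' B'S s1') = 0 := by
      have : (x * y) * (algebraMap B' B'S t * algebraMap B' B'S s *
        algebraMap B' B'S t1' * algebraMap B' B'S s1') =
          algebraMap B' B'S ((t1' * x') * (s1' * y')) := by
        simp only [map_mul, ← hx', ← hy']
        ring
      rw [this, k3, map_zero]
    have hu : IsUnit (algebraMap B' B'S t * algebraMap B' B'S s *
        algebraMap B' B'S t1' * algebraMap B' B'S s1') :=
      (((hunitB' t ht).mul (hunitB' s hs)).mul (hunitB' t1' ht1')).mul (hunitB' s1' hs1')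
    exact (hu.mul_left_eq_zero).1 k4
  · intro T _ _ J hJ a
    let a₀ : B →ₐ[A] T ⧸ J := a.comp (IsScalarTower.toAlgHom A B BS)
    obtain ⟨a₀', ha₀', huniq⟩ := huniv T J hJ a₀
    have hprop : ∀ x' : B', (Ideal.Quotient.mk J) (a₀' x') = a (algebraMap B BS (π x')) := by
      intro x'
      have := AlgHom.congr_fun ha₀' x'
      exact this
    have hg : ∀ y : S', IsUnit (a₀'.toRingHom y) := by
      rintro ⟨s', hs'⟩
      show IsUnit (a₀' s')
      rw [← IsNilpotent.isUnit_quotient_mk_iff (I := J) ⟨2, hJ⟩, hprop]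
      exact (hunitB _ hs').map a
    let φ : B'S →+* T := IsLocalization.lift hg
    have hφ : ∀ x' : B', φ (algebraMap B' B'S x') = a₀' x' := fun x' => IsLocalization.lift_eq hg x'
    have hcomm : ∀ r : A, φ (algebraMap A B'S r) = algebraMap A T r := by
      intro r
      rw [IsScalarTower.algebraMap_apply A B' B'S, hφ, AlgHom.commutes]
    let a' : B'S →ₐ[A] T := { φ with commutes' := hcomm }
    have ha'φ : ∀ x, a' x = φ x := fun _ => rfl
    refine ⟨a', ?_, ?_⟩
    · apply AlgHom.coe_ringHom_injective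
      apply IsLocalization.ringHom_ext S'
      ext x'
      show (Ideal.Quotient.mk J) (a' (algebraMap B' B'S x')) = a (πS (algebraMap B' B'S x'))
      rw [ha'φ, hφ, hπS, hprop]
    · intro a'' ha''
      let c : B' →ₐ[A] T := a''.comp (IsScalarTower.toAlgHom A B' B'S)
      have hc : (Ideal.Quotient.mkₐ A J).comp c = a₀.comp π := by
        ext x'
        have := AlgHom.congr_fun ha'' (algebraMap B' B'S x')
        show (Ideal.Quotient.mk J) (a'' (algebraMap B' B'S x')) = a (algebraMap B BS (π x'))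
        rw [← hπS]
        exact this
      have hc' := huniq c hc
      apply AlgHom.coe_ringHom_injective
      apply IsLocalization.ringHom_ext S'
      ext x'
      show a'' (algebraMap B' B'S x') = a' (algebraMap B' B'S x')
      rw [ha'φ, hφ, ← hc']
      rfl

end H10S9464
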