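import Mathlib.LinearAlgebra.Determinant
import Mathlib.LinearAlgebra.Trace
import Mathlib.RingTheory.Trace.Basic
import Mathlib.RingTheory.Length
import Mathlib.RingTheory.FiniteLength
import Mathlib.RingTheory.LocalRing.ResidueField.Basic
import Mathlib.RingTheory.SimpleModule.Basic

set_option maxHeartbeats 400000
set_option autoImplicit false
universe u

namespace Groth.Agent.Lib.helper10.TraceLen

section additivity
variable {R V : Type*} [CommRing R] [AddCommGroup V]
    [Module R V] [Module.Finite R V]
    (W : Submodule R V) [Module.Free R W] [Module.Finite R W] [Module.Free R (V ⧸ W)]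

open Module.Basis in
theorem trace_eq_trace_add_trace (e : V →ₗ[R] V) (he : W ≤ W.comap e) :
    LinearMap.trace R V e =
      LinearMap.trace R W (e.restrict he) + LinearMap.trace R (V ⧸ W) (W.mapQ W e he) := by
  classical
  let m := Module.Free.ChooseBasisIndex R W
  let bW : Module.Basis m R W := Module.Free.chooseBasis R W
  let n := Module.Free.ChooseBasisIndex R (V ⧸ W)
  let bQ : Module.Basis n R (V ⧸ W) := Module.Free.chooseBasis R (V ⧸ W)
  let b := sumQuot bW bQ
  let A : Matrix m m R := LinearMap.toMatrix bW bW (e.restrict he)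
  let B : Matrix m n R := Matrix.of fun i l ↦
    ((sumQuot bW bQ).repr (e ((sumQuot bW bQ) (Sum.inr l)))) (Sum.inl i)
  let D : Matrix n n R := LinearMap.toMatrix bQ bQ (W.mapQ W e he)
  suffices LinearMap.toMatrix b b e = Matrix.fromBlocks A B 0 D by
    rw [LinearMap.trace_eq_matrix_trace R b, this, LinearMap.trace_eq_matrix_trace R bW,
      LinearMap.trace_eq_matrix_trace R bQ]
    simp [Matrix.trace, Fintype.sum_sum_type, A, D]
  ext u v
  cases u with
  | inl i =>
    cases v with
    | inl k =>
      simp only [b, sumQuot_inl, Matrix.fromBlocks_apply₁₁, A, LinearMap.toMatrix_apply]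
      apply sumQuot_repr_inl_of_mem
    | inr l => simp [b, LinearMap.toMatrix_apply, Matrix.fromBlocks_apply₁₂, B]
  | inr j =>
    cases v with
    | inl k =>
      suffices W.mkQ (e (bW k)) = 0 by simp [LinearMap.toMatrix_apply, b, this]
      rw [← LinearMap.mem_ker, Submodule.ker_mkQ]
      exact he (Submodule.coe_mem (bW k))
    | inr l =>
      simp only [LinearMap.toMatrix_apply, sumQuot_repr_inr,
        Matrix.fromBlocks_apply₂₂, b, D]
      rw [← sumQuot_inr bW bQ l, W.mapQ_apply]
      simp

end additivity


section exactseq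
variable {k : Type*} [Field k] {N M Q : Type*} [AddCommGroup N] [Module k N]
  [AddCommGroup M] [Module k M] [AddCommGroup Q] [Module k Q] [Module.Finite k M]

theorem trace_of_exact (i : N →ₗ[k] M) (p : M →ₗ[k] Q) (hi : Function.Injective i)
    (hp : Function.Surjective p) (hex : Function.Exact i p)
    (φN : N →ₗ[k] N) (φM : M →ₗ[k] M) (φQ : Q →ₗ[k] Q)
    (h1 : ∀ n, φM (i n) = i (φN n)) (h2 : ∀ x, φQ (p x) = p (φM x)) :
    LinearMap.trace k M φM = LinearMap.trace k N φN + LinearMap.trace k Q φQ := by
  have hW : LinearMap.range i = LinearMap.ker p := (LinearMap.exact_iff.mp hex).symm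
  have he : LinearMap.range i ≤ (LinearMap.range i).comap φM := by
    rintro _ ⟨n, rfl⟩
    exact ⟨φN n, (h1 n).symm⟩
  let eN : N ≃ₗ[k] LinearMap.range i := LinearEquiv.ofInjective i hi
  let eQ : (M ⧸ LinearMap.range i) ≃ₗ[k] Q :=
    (Submodule.quotEquivOfEq _ _ hW).trans (p.quotKerEquivOfSurjective hp)
  have heQ : ∀ x : M, eQ (Submodule.Quotient.mk x) = p x := fun x => by
    simp [eQ]
  have e1 : φM.restrict he = eN.conj φN := by
    ext w
    obtain ⟨n, rfl⟩ := eN.surjective w
    rw [LinearEquiv.conj_apply_apply, LinearEquiv.symm_apply_apply, LinearMap.coe_restrict_apply]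
    exact h1 n
  have e2 : (LinearMap.range i).mapQ (LinearMap.range i) φM he = eQ.symm.conj φQ := by
    apply LinearMap.ext
    intro y
    obtain ⟨x, rfl⟩ := Submodule.Quotient.mk_surjective _ y
    apply eQ.injective
    rw [LinearEquiv.conj_apply_apply, LinearEquiv.symm_symm, LinearEquiv.apply_symm_apply,
      Submodule.mapQ_apply, heQ, heQ, h2]
  rw [trace_eq_trace_add_trace (LinearMap.range i) φM he, e1, e2, LinearMap.trace_conj',
    LinearMap.trace_conj']

end exactseq


section main
variable (k : Type u) [Field k] (C : Type u) [CommRing C] [Algebra k C] [IsLocalRing C]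
  [Module.Finite k C]

/-- multiplication by `c` as a `k`-linear endomorphism -/
noncomputable abbrev mu (M : Type u) [AddCommGroup M] [Module C M] [Module k M]
    [IsScalarTower k C M] (c : C) : M →ₗ[k] M :=
  DistribSMul.toLinearMap k M c

theorem trace_mu (M : Type u) [AddCommGroup M] [Module C M] (hM : IsFiniteLength C M) :
    ∀ [Module k M] [IsScalarTower k C M] (c : C),
      LinearMap.trace k M (mu k C M c) =
        ((Module.length C M).toNat : k) *
          Algebra.trace k (IsLocalRing.ResidueField C) (IsLocalRing.residue C c) := by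
  induction hM with
  | @of_subsingleton M _ _ _ =>
    intro _ _ c
    have : mu k C M c = 0 := LinearMap.ext fun x => Subsingleton.elim _ _
    rw [this, map_zero, Module.length_eq_zero]
    simp
  | @of_simple_quotient M _ _ N hs hN ih =>
    intro _ _ c
    have hfl : IsFiniteLength C M := IsFiniteLength.of_simple_quotient hN
    have hnoeth : IsNoetherian C M := (isFiniteLength_iff_isNoetherian_isArtinian.mp hfl).1
    have hfinC : Module.Finite C M := inferInstance
    have hfin : Module.Finite k M := Module.Finite.trans C M
    have h1 := ih c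
    -- the simple quotient
    obtain ⟨I, hI, ⟨e⟩⟩ := isSimpleModule_iff_quot_maximal.mp hs
    have hIm : I = IsLocalRing.maximalIdeal C := IsLocalRing.eq_maximalIdeal hI
    subst hIm
    have h2 : LinearMap.trace k (M ⧸ N) (mu k C (M ⧸ N) c) =
        Algebra.trace k (IsLocalRing.ResidueField C) (IsLocalRing.residue C c) := by
      have hconj : (e.restrictScalars k).conj (mu k C (M ⧸ N) c) =
          LinearMap.mulLeft k (IsLocalRing.residue C c) := by
        apply LinearMap.ext
        intro y
        rw [LinearEquiv.conj_apply_apply]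
        obtain ⟨y, rfl⟩ := Ideal.Quotient.mk_surjective y
        change e (c • e.symm _) = _
        rw [map_smul, LinearEquiv.apply_symm_apply]
        rfl
      rw [← LinearMap.trace_conj' _ (e.restrictScalars k), hconj]
      rfl
    have hlen : Module.length C M = Module.length C N + 1 := by
      rw [Module.length_eq_add_of_exact N.subtype N.mkQ N.injective_subtype N.mkQ_surjective
        (LinearMap.exact_subtype_mkQ N), Module.length_eq_one (R := C) (M := M ⧸ N)]
    have hNfin : Module.length C N ≠ ⊤ := Module.length_ne_top_iff.mpr hN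
    rw [trace_of_exact (N.subtype.restrictScalars k) (N.mkQ.restrictScalars k)
      N.injective_subtype N.mkQ_surjective (LinearMap.exact_subtype_mkQ N)
      (mu k C N c) (mu k C M c) (mu k C (M ⧸ N) c) (fun n => rfl) (fun x => rfl), h1, h2, hlen,
      ENat.toNat_add hNfin (by simp)]
    simp only [ENat.toNat_one, Nat.cast_add, Nat.cast_one]
    ring

theorem trace_eq (c : C) :
    Algebra.trace k C c = ((Module.length C C).toNat : k) *
      Algebra.trace k (IsLocalRing.ResidueField C) (IsLocalRing.residue C c) := by
  have hn : IsNoetherian C C := isNoetherian_of_tower k (inferInstance : IsNoetherian k C)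
  have ha : IsArtinian C C := isArtinian_of_tower k (inferInstance : IsArtinian k C)
  have hfl : IsFiniteLength C C :=
    isFiniteLength_iff_isNoetherian_isArtinian.mpr ⟨hn, ha⟩
  rw [← trace_mu k C C hfl c, Algebra.trace_apply]
  rfl

theorem main : Function.Surjective (Algebra.trace k C) ↔
    (Algebra.IsSeparable k (IsLocalRing.ResidueField C) ∧
      ((Module.length C C).toNat : k) ≠ 0) := by
  have hfd : Module.Finite k (IsLocalRing.ResidueField C) :=
    Module.Finite.of_surjective (IsScalarTower.toAlgHom k C (IsLocalRing.ResidueField C)).toLinearMap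
      IsLocalRing.residue_surjective
  constructor
  · intro h
    obtain ⟨c, hc⟩ := h 1
    rw [trace_eq] at hc
    have hl : ((Module.length C C).toNat : k) ≠ 0 := left_ne_zero_of_mul_eq_one hc
    have ht : Algebra.trace k (IsLocalRing.ResidueField C) ≠ 0 := by
      intro h0
      rw [h0, LinearMap.zero_apply, mul_zero] at hc
      exact zero_ne_one hc
    exact ⟨((traceForm_nondegenerate_tfae k (IsLocalRing.ResidueField C)).out 0 1).mpr ht, hl⟩
  · rintro ⟨hsep, hl⟩ y
    obtain ⟨z, hz⟩ := Algebra.trace_surjective k (IsLocalRing.ResidueField C)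
      (y / ((Module.length C C).toNat : k))
    obtain ⟨c, rfl⟩ := IsLocalRing.residue_surjective z
    exact ⟨c, by rw [trace_eq, hz, mul_div_cancel₀ _ hl]⟩

end main

end Groth.Agent.Lib.helper10.TraceLen
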