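import Groth.Agent.Lib.helper10.TraceLen
import Mathlib.Algebra.CharP.Basic
import Mathlib.Algebra.CharP.Lemmas

set_option maxHeartbeats 400000
set_option autoImplicit false
universe u

namespace Groth.Agent.Lib.helper10.TraceLen

theorem main2 (k A : Type u) [Field k] [CommRing A]
    [Algebra k A] [FiniteDimensional k A] [IsLocalRing A] :
    Algebra.trace k A ≠ 0 ↔
      (Algebra.IsSeparable k (IsLocalRing.ResidueField A) ∧
        ∀ p : ℕ, p.Prime → CharP k p → ¬ p ∣ (Module.length A A).toNat) := by
  have hn : IsNoetherian A A := isNoetherian_of_tower k (inferInstance : IsNoetherian k A)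
  have ha : IsArtinian A A := isArtinian_of_tower k (inferInstance : IsArtinian k A)
  have hfl : IsFiniteLength A A :=
    isFiniteLength_iff_isNoetherian_isArtinian.mpr ⟨hn, ha⟩
  have hne : (Module.length A A).toNat ≠ 0 := by
    intro h0
    rw [ENat.toNat_eq_zero] at h0
    rcases h0 with h0 | h0
    · rw [Module.length_eq_zero_iff] at h0
      exact not_subsingleton A h0
    · exact (Module.length_ne_top_iff.mpr hfl) h0
  have h1 : Algebra.trace k A ≠ 0 ↔ Function.Surjective (Algebra.trace k A) := by
    constructor
    · intro h c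
      obtain ⟨a, ha⟩ : ∃ a, Algebra.trace k A a ≠ 0 := by
        by_contra hcon
        push Not at hcon
        exact h (LinearMap.ext hcon)
      refine ⟨(c / Algebra.trace k A a) • a, ?_⟩
      rw [map_smul, smul_eq_mul, div_mul_cancel₀ _ ha]
    · intro h h0
      obtain ⟨a, ha⟩ := h 1
      rw [h0, LinearMap.zero_apply] at ha
      exact zero_ne_one ha
  have h2 : ((Module.length A A).toNat : k) ≠ 0 ↔
      ∀ p : ℕ, p.Prime → CharP k p → ¬ p ∣ (Module.length A A).toNat := by
    constructor
    · intro h p _ hp hdvd
      exact h ((CharP.cast_eq_zero_iff k p _).2 hdvd)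
    · intro h h0
      obtain ⟨p, hp⟩ := CharP.exists k
      rcases CharP.char_is_prime_or_zero k p with hpp | hp0
      · exact h p hpp hp ((CharP.cast_eq_zero_iff k p _).1 h0)
      · subst hp0
        have : CharZero k := CharP.charP_to_charZero k
        exact hne (by exact_mod_cast h0)
  rw [h1, main k A, h2]

end Groth.Agent.Lib.helper10.TraceLen
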