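import Mathlib

/-!
# A deformation with a section is trivial (nilpotent Nakayama, elementary form)
-/

set_option autoImplicit false

namespace Groth.Agent.Lib.helper10.TrivDef

open TensorProduct

universe u

variable {k Λ N B₀ Bbar : Type u} [Field k] [CommRing Λ] [Algebra k Λ] [CommRing N] [Algebra Λ N]
  [Algebra k N] [IsScalarTower k Λ N] [CommRing B₀] [Algebra k B₀] [CommRing Bbar]
  (θ : Λ) (n : ℕ) (hn : 1 ≤ n) (hθ : θ ^ n = 0)
  (hΛ : ∀ a : Λ, ∃ c : k, ∃ a' : Λ, a = algebraMap k Λ c + θ * a')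
  (s : B₀ →ₐ[k] N) (ρ : N →+* Bbar)
  (hρ : ∀ y : N, ρ y = 0 ↔ ∃ c : N, y = algebraMap Λ N θ * c)
  (hρs : Function.Bijective (ρ.comp (s : B₀ →+* N)))
  (hreg : ∀ y : N, algebraMap Λ N θ * y = 0 → ∃ z : N, y = algebraMap Λ N θ ^ (n - 1) * z)

/-- The comparison map `Λ ⊗ B₀ → N`. -/
noncomputable def Φ : Λ ⊗[k] B₀ →ₐ[Λ] N :=
  Algebra.TensorProduct.lift (Algebra.ofId Λ N) s (fun _ _ => Commute.all _ _)

lemma Φ_tmul (a : Λ) (b : B₀) : Φ s (a ⊗ₜ b) = algebraMap Λ N a * s b := by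
  simp [Φ, Algebra.ofId_apply]

include hΛ in
lemma exists_decomp (x : Λ ⊗[k] B₀) : ∃ b₀ : B₀, ∃ x' : Λ ⊗[k] B₀, x = 1 ⊗ₜ b₀ + θ • x' := by
  induction x using TensorProduct.induction_on with
  | zero => exact ⟨0, 0, by simp⟩
  | tmul a b =>
    obtain ⟨c, a', rfl⟩ := hΛ a
    refine ⟨c • b, a' ⊗ₜ b, ?_⟩
    rw [add_tmul, TensorProduct.smul_tmul', smul_eq_mul, Algebra.algebraMap_eq_smul_one,
      TensorProduct.smul_tmul]
  | add x y hx hy =>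
    obtain ⟨b₁, x₁, rfl⟩ := hx
    obtain ⟨b₂, x₂, rfl⟩ := hy
    exact ⟨b₁ + b₂, x₁ + x₂, by rw [tmul_add, smul_add]; abel⟩

include hρ hρs in
lemma exists_step (y : N) : ∃ b₀ : B₀, ∃ y' : N,
    y = Φ (Λ := Λ) s ((1 : Λ) ⊗ₜ b₀) + algebraMap Λ N θ * y' := by
  obtain ⟨b₀, hb₀⟩ := hρs.2 (ρ y)
  have h0 : ρ (y - s b₀) = 0 := by
    rw [map_sub, ← hb₀]
    simp
  obtain ⟨c, hc⟩ := (hρ _).mp h0
  refine ⟨b₀, c, ?_⟩
  rw [Φ_tmul, map_one, one_mul, ← hc]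
  ring

include hθ hρ hρs in
theorem Φ_surjective : Function.Surjective (Φ (Λ := Λ) s) := by
  have key : ∀ j : ℕ, ∀ y : N, ∃ x : Λ ⊗[k] B₀, ∃ y' : N,
      y = Φ s x + algebraMap Λ N θ ^ j * y' := by
    intro j
    induction j with
    | zero => intro y; exact ⟨0, y, by simp⟩
    | succ j ih =>
      intro y
      obtain ⟨x, y', rfl⟩ := ih y
      obtain ⟨b₀, y'', rfl⟩ := exists_step θ s ρ hρ hρs y'
      refine ⟨x + θ ^ j • (1 ⊗ₜ b₀), y'', ?_⟩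
      rw [map_add, map_smul, Algebra.smul_def, map_pow, pow_succ]
      ring
  intro y
  obtain ⟨x, y', rfl⟩ := key n y
  refine ⟨x, ?_⟩
  rw [← map_pow, hθ, map_zero, zero_mul, add_zero]

include hn hθ hΛ hρ hρs hreg in
theorem Φ_injective : Function.Injective (Φ (Λ := Λ) s) := by
  have hsurj := Φ_surjective θ n hθ s ρ hρ hρs
  -- step (i)+(ii)
  have step : ∀ x : Λ ⊗[k] B₀, Φ s x = 0 → ∃ y : Λ ⊗[k] B₀, Φ s y = 0 ∧ x = θ • y := by
    intro x hx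
    obtain ⟨b₀, x', rfl⟩ := exists_decomp θ hΛ x
    have h1 : ρ (s b₀) = 0 := by
      have h2 : s b₀ = - (algebraMap Λ N θ * Φ s x') := by
        rw [map_add, Φ_tmul, map_one, one_mul, map_smul, Algebra.smul_def] at hx
        exact eq_neg_of_add_eq_zero_left hx
      rw [h2, map_neg, neg_eq_zero, hρ]
      exact ⟨_, rfl⟩
    have hb₀ : b₀ = 0 := hρs.1 (by simpa using h1)
    subst hb₀
    rw [tmul_zero, zero_add] at hx ⊢
    rw [map_smul, Algebra.smul_def] at hx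
    obtain ⟨z, hz⟩ := hreg _ hx
    obtain ⟨w, rfl⟩ := hsurj z
    refine ⟨x' - θ ^ (n - 1) • w, ?_, ?_⟩
    · rw [map_sub, map_smul, Algebra.smul_def, map_pow, hz, sub_self]
    · rw [smul_sub, smul_smul, ← pow_succ', Nat.sub_add_cancel hn, hθ, zero_smul, sub_zero]
  have key : ∀ j : ℕ, ∀ x : Λ ⊗[k] B₀, Φ s x = 0 → ∃ y : Λ ⊗[k] B₀, Φ s y = 0 ∧ x = θ ^ j • y := by
    intro j
    induction j with
    | zero => intro x hx; exact ⟨x, hx, by simp⟩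
    | succ j ih =>
      intro x hx
      obtain ⟨y, hy, rfl⟩ := ih x hx
      obtain ⟨y', hy', rfl⟩ := step y hy
      exact ⟨y', hy', by rw [smul_smul, pow_succ]⟩
  rw [injective_iff_map_eq_zero]
  intro x hx
  obtain ⟨y, -, rfl⟩ := key n x hx
  rw [hθ, zero_smul]

end Groth.Agent.Lib.helper10.TrivDef
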