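import Mathlib
import Groth.Prelude
import Groth.Agent.Lib.helper10.RigidFT
import Groth.Agent.Lib.helper10.TrivDef

set_option autoImplicit false

namespace Groth.Agent.Lib.helper10.TrivConcrete

open TensorProduct

universe u

variable {k A B B₀ : Type u} [Field k] [CommRing A] [Algebra k A] [CommRing B] [Algebra A B]
  [Algebra k B] [IsScalarTower k A B] [CommRing B₀] [Algebra k B₀] (t : A)

instance tower (I : Ideal A) : IsScalarTower k (A ⧸ I) (B ⧸ I.map (algebraMap A B)) :=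
  IsScalarTower.of_algebraMap_eq fun c => by
    rw [IsScalarTower.algebraMap_apply k A (A ⧸ I), IsScalarTower.algebraMap_apply k B (B ⧸ _),
      IsScalarTower.algebraMap_apply k A B]
    rfl

local notation "τ" => algebraMap A B t

theorem exists_section_and_retract
    (n : ℕ) (hn : 1 ≤ n)
    (hk : Function.Surjective (algebraMap k (A ⧸ Ideal.span {t})))
    (hτ : IsSMulRegular B (algebraMap A B t))
    (e : (B ⧸ Ideal.span {algebraMap A B t}) ≃ₐ[k] B₀)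
    (s₁ : B₀ →ₐ[k] B ⧸ Ideal.span {algebraMap A B t ^ n})
    (hs₁ : ∀ b₀, RigidFT.red (k := k) (algebraMap A B t) n hn (s₁ b₀) = e.symm b₀) :
    ∃ (s₃ : B₀ →ₐ[k] (A ⧸ Ideal.span {t ^ n}) ⊗[A] B)
      (Ψ : (A ⧸ Ideal.span {t ^ n}) ⊗[A] B →ₐ[A ⧸ Ideal.span {t ^ n}]
        (A ⧸ Ideal.span {t ^ n}) ⊗[k] B₀),
      ∀ b, Ψ (s₃ b) = 1 ⊗ₜ b := by
  set I : Ideal A := Ideal.span {t ^ n} with hI
  set J : Ideal B := I.map (algebraMap A B) with hJdef
  have hJ : Ideal.span {τ ^ n} = J := by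
    rw [hJdef, hI, Ideal.map_span, Set.image_singleton, map_pow]
  let j : (B ⧸ Ideal.span {τ ^ n}) ≃ₐ[k] (B ⧸ J) := Ideal.quotientEquivAlgOfEq k hJ
  let s₂ : B₀ →ₐ[k] (B ⧸ J) := j.toAlgHom.comp s₁
  have hJle : J ≤ Ideal.span {τ} := by
    rw [← hJ]; exact RigidFT.span_pow_le τ n hn
  let ρ : (B ⧸ J) →+* (B ⧸ Ideal.span {τ}) := Ideal.Quotient.factor hJle
  let θ : A ⧸ I := Ideal.Quotient.mk I t
  have hθ : θ ^ n = 0 := by
    rw [← map_pow, Ideal.Quotient.eq_zero_iff_mem]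
    exact Ideal.mem_span_singleton_self _
  have hθN : algebraMap (A ⧸ I) (B ⧸ J) θ = Ideal.Quotient.mk J τ := rfl
  have hΛ : ∀ a : A ⧸ I, ∃ c : k, ∃ a' : A ⧸ I, a = algebraMap k (A ⧸ I) c + θ * a' := by
    intro a
    obtain ⟨a₀, rfl⟩ := Ideal.Quotient.mk_surjective a
    obtain ⟨c, hc⟩ := hk (Ideal.Quotient.mk _ a₀)
    have : a₀ - algebraMap k A c ∈ Ideal.span {t} := by
      rw [← Ideal.Quotient.eq_zero_iff_mem, map_sub, ← hc]
      rw [IsScalarTower.algebraMap_apply k A (A ⧸ Ideal.span {t})]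
      exact sub_self _
    obtain ⟨a'', ha''⟩ := Ideal.mem_span_singleton'.mp this
    refine ⟨c, Ideal.Quotient.mk I a'', ?_⟩
    rw [IsScalarTower.algebraMap_apply k A (A ⧸ I), ← map_mul]
    change _ = Ideal.Quotient.mk I _ + _
    rw [← map_add]
    congr 1
    rw [mul_comm, ha'']; ring
  have hρ : ∀ y : B ⧸ J, ρ y = 0 ↔ ∃ c : B ⧸ J, y = algebraMap (A ⧸ I) (B ⧸ J) θ * c := by
    intro y
    obtain ⟨y₀, rfl⟩ := Ideal.Quotient.mk_surjective y
    rw [hθN]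
    constructor
    · intro h
      have : y₀ ∈ Ideal.span {τ} := by
        rw [← Ideal.Quotient.eq_zero_iff_mem]; exact h
      obtain ⟨c, rfl⟩ := Ideal.mem_span_singleton'.mp this
      exact ⟨Ideal.Quotient.mk J c, by rw [← map_mul, mul_comm]⟩
    · rintro ⟨c, hc⟩
      rw [hc, map_mul]
      have : ρ (Ideal.Quotient.mk J τ) = 0 := by
        change Ideal.Quotient.mk _ τ = 0
        rw [Ideal.Quotient.eq_zero_iff_mem]
        exact Ideal.mem_span_singleton_self _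
      rw [this, zero_mul]
  have hρs : Function.Bijective (ρ.comp (s₂ : B₀ →+* (B ⧸ J))) := by
    have : ⇑(ρ.comp (s₂ : B₀ →+* (B ⧸ J))) = ⇑e.symm := by
      funext b₀
      rw [← hs₁ b₀]
      change ρ (j (s₁ b₀)) = _
      obtain ⟨w, hw⟩ := Ideal.Quotient.mk_surjective (s₁ b₀)
      rw [← hw]
      rfl
    rw [this]
    exact e.symm.bijective
  have hreg : ∀ y : B ⧸ J, algebraMap (A ⧸ I) (B ⧸ J) θ * y = 0 →
      ∃ z : B ⧸ J, y = algebraMap (A ⧸ I) (B ⧸ J) θ ^ (n - 1) * z := by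
    intro y hy
    obtain ⟨y₀, rfl⟩ := Ideal.Quotient.mk_surjective y
    rw [hθN, ← map_mul, Ideal.Quotient.eq_zero_iff_mem, ← hJ] at hy
    obtain ⟨c, hc⟩ := Ideal.mem_span_singleton'.mp hy
    refine ⟨Ideal.Quotient.mk J c, ?_⟩
    rw [hθN, ← map_pow, ← map_mul]
    congr 1
    apply hτ
    simp only [smul_eq_mul]
    rw [← hc]
    obtain ⟨m, rfl⟩ := Nat.exists_eq_add_of_le hn
    rw [Nat.add_sub_cancel_left, pow_add, pow_one]
    ring
  have hinj := TrivDef.Φ_injective θ n hn hθ hΛ s₂ ρ hρ hρs hreg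
  have hsurj := TrivDef.Φ_surjective θ n hθ s₂ ρ hρ hρs
  let Φe : (A ⧸ I) ⊗[k] B₀ ≃ₐ[A ⧸ I] (B ⧸ J) := AlgEquiv.ofBijective (TrivDef.Φ s₂) ⟨hinj, hsurj⟩
  let q : (B ⧸ J) ≃ₐ[A ⧸ I] (A ⧸ I) ⊗[A] B := Algebra.TensorProduct.quotIdealMapEquivQuotTensor B I
  refine ⟨(q.toAlgHom.restrictScalars k).comp s₂, Φe.symm.toAlgHom.comp q.symm.toAlgHom, ?_⟩
  intro b
  change Φe.symm (q.symm (q (s₂ b))) = _
  rw [AlgEquiv.symm_apply_apply, AlgEquiv.symm_apply_eq]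
  have h1 : Φe ((1 : A ⧸ I) ⊗ₜ[k] b) = TrivDef.Φ s₂ ((1 : A ⧸ I) ⊗ₜ[k] b) := rfl
  rw [h1, TrivDef.Φ_tmul, map_one, one_mul]

end Groth.Agent.Lib.helper10.TrivConcrete
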