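import Mathlib

set_option maxHeartbeats 400000
set_option autoImplicit false

namespace Groth.Agent.Lib.helper10.TruncSub

universe u
open Polynomial

variable (k : Type u) [Field k] (N : ℕ)

abbrev TR := AdjoinRoot ((X : k[X]) ^ (N + 1))
noncomputable abbrev tu : TR k N := AdjoinRoot.root ((X : k[X]) ^ (N + 1))

theorem u_pow_succ : (tu k N) ^ (N + 1) = 0 := by
  have := AdjoinRoot.eval₂_root ((X : k[X]) ^ (N + 1))
  simpa using this

theorem F0 (g : TR k N) : ∃ (c : k) (g' : TR k N), g = algebraMap k _ c + tu k N * g' := by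
  obtain ⟨p, rfl⟩ := AdjoinRoot.mk_surjective g
  refine ⟨p.coeff 0, AdjoinRoot.mk _ p.divX, ?_⟩
  conv_lhs => rw [← Polynomial.divX_mul_X_add p]
  rw [map_add, map_mul, AdjoinRoot.mk_X, AdjoinRoot.mk_C, AdjoinRoot.algebraMap_eq]
  ring

theorem u_pow_N_ne_zero : (tu k N) ^ N ≠ 0 := by
  change (AdjoinRoot.root ((X : k[X]) ^ (N + 1))) ^ N ≠ 0
  rw [← AdjoinRoot.mk_X, ← map_pow, Ne, AdjoinRoot.mk_eq_zero]
  intro h
  have := (pow_dvd_pow_iff X_ne_zero not_isUnit_X).1 h
  omega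

/-- leading form -/
def P (m : ℕ) (c : k) (f : TR k N) : Prop :=
  ∃ g : TR k N, f = algebraMap k _ c * tu k N ^ m + tu k N ^ (m + 1) * g

variable {k N}

theorem L1 {m : ℕ} {f : TR k N} (hf : f ∈ Ideal.span {tu k N ^ m}) : ∃ c, P k N m c f := by
  obtain ⟨h, rfl⟩ := Ideal.mem_span_singleton'.1 hf
  obtain ⟨c, h', rfl⟩ := F0 k N h
  exact ⟨c, h', by ring⟩

theorem L2 {m : ℕ} {c : k} {f : TR k N} (hm : m ≤ N) (hP : P k N m c f)
    (hf : f ∈ Ideal.span {tu k N ^ (m + 1)}) : c = 0 := by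
  obtain ⟨g, rfl⟩ := hP
  obtain ⟨h, hh⟩ := Ideal.mem_span_singleton'.1 hf
  by_contra hc
  have h1 : algebraMap k (TR k N) c * tu k N ^ N = 0 := by
    have h2 : algebraMap k (TR k N) c * tu k N ^ m = tu k N ^ (m + 1) * (h - g) := by
      linear_combination -hh
    calc algebraMap k (TR k N) c * tu k N ^ N
        = (algebraMap k (TR k N) c * tu k N ^ m) * tu k N ^ (N - m) := by
          rw [mul_assoc, ← pow_add, Nat.add_sub_cancel' hm]
      _ = tu k N ^ (m + 1) * (h - g) * tu k N ^ (N - m) := by rw [h2]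
      _ = tu k N ^ (N + 1) * (h - g) := by
          have hp : tu k N ^ (N + 1) = tu k N ^ (m + 1) * tu k N ^ (N - m) := by
            rw [← pow_add]; congr 1; omega
          rw [hp]; ring
      _ = 0 := by rw [u_pow_succ, zero_mul]
  have hu : IsUnit (algebraMap k (TR k N) c) := (Ne.isUnit hc).map _
  exact u_pow_N_ne_zero k N (hu.mul_left_cancel (by rw [h1, mul_zero]))

theorem exists_v : ∃ v : TR k N, v * (1 + tu k N) = 1 := by
  have : IsUnit (1 + tu k N) := IsNilpotent.isUnit_one_add ⟨N + 1, u_pow_succ k N⟩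
  obtain ⟨w, hw⟩ := this.exists_left_inv
  exact ⟨w, hw⟩

theorem v_pow {v : TR k N} (hv : v * (1 + tu k N) = 1) (m : ℕ) :
    ∃ w : TR k N, v ^ m = 1 - (m : TR k N) * tu k N + tu k N ^ 2 * w := by
  have hv2 : v = 1 - tu k N + tu k N ^ 2 * v := by
    linear_combination (1 - tu k N) * hv
  induction m with
  | zero => exact ⟨0, by simp⟩
  | succ m ih =>
    obtain ⟨w, hw⟩ := ih
    refine ⟨v + m - m * tu k N * v + w - tu k N * w + tu k N ^ 2 * w * v, ?_⟩
    rw [pow_succ]
    push_cast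
    linear_combination v * hw + (1 - (m : TR k N) * tu k N + tu k N ^ 2 * w) * hv2

theorem sigma_mod {v : TR k N} (σ : TR k N →ₐ[k] TR k N) (hσ : σ (tu k N) = tu k N * v)
    (g : TR k N) : ∃ h : TR k N, σ g = g + tu k N * h := by
  obtain ⟨c, g', rfl⟩ := F0 k N g
  refine ⟨v * σ g' - g', ?_⟩
  rw [map_add, map_mul, σ.commutes, hσ]
  ring

theorem L3 {v : TR k N} (hv : v * (1 + tu k N) = 1) (σ : TR k N →ₐ[k] TR k N)
    (hσ : σ (tu k N) = tu k N * v) {m : ℕ} {c : k} {f : TR k N} (hP : P k N m c f) :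
    P k N (m + 1) (-(m : k) * c) (σ f - f) := by
  obtain ⟨g, rfl⟩ := hP
  obtain ⟨w, hw⟩ := v_pow hv m
  obtain ⟨w₂, hw₂⟩ := v_pow hv (m + 1)
  obtain ⟨h, hh⟩ := sigma_mod σ hσ g
  refine ⟨algebraMap k _ c * w + h - ((m : TR k N) + 1) * (g + tu k N * h)
    + tu k N * w₂ * (g + tu k N * h), ?_⟩
  rw [map_add, map_mul, map_mul, map_pow, map_pow, σ.commutes, hσ, mul_pow, mul_pow,
    map_mul, map_neg, map_natCast]
  push_cast at hw₂
  linear_combination (algebraMap k (TR k N) c * tu k N ^ m) * hw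
    + (tu k N ^ (m + 1) * σ g) * hw₂
    + (tu k N ^ (m + 1) * (1 - ((m : TR k N) + 1) * tu k N + tu k N ^ 2 * w₂)) * hh


theorem main [CharZero k] (A : Subalgebra k (TR k N))
    (hA : ∀ (a : k) (σ : TR k N →ₐ[k] TR k N),
      σ (tu k N) * (1 + algebraMap k (TR k N) a * tu k N) = tu k N → A.map σ ≤ A) :
    ∃ n : ℕ, 1 ≤ n ∧ n ≤ N + 1 ∧ Subalgebra.toSubmodule A =
      Submodule.span k {1} ⊔ (Ideal.span {tu k N ^ n}).restrictScalars k := by
  obtain ⟨v, hv⟩ := exists_v (k := k) (N := N)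
  have hroot : ((X : k[X]) ^ (N + 1)).eval₂ (Algebra.ofId k (TR k N)) (tu k N * v) = 0 := by
    rw [eval₂_X_pow, mul_pow, u_pow_succ, zero_mul]
  let σ : TR k N →ₐ[k] TR k N :=
    AdjoinRoot.liftAlgHom _ (Algebra.ofId k (TR k N)) (tu k N * v) hroot
  have hσ : σ (tu k N) = tu k N * v := AdjoinRoot.liftAlgHom_root _ _ _ _
  have hσA : ∀ f ∈ A, σ f ∈ A := by
    intro f hf
    refine hA 1 σ ?_ ⟨f, hf, rfl⟩
    rw [hσ, map_one, one_mul]
    linear_combination tu k N * hv
  classical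
  let S : ℕ → Prop := fun m => 1 ≤ m ∧ m ≤ N ∧ ∃ f ∈ A, ∃ c : k, c ≠ 0 ∧ P k N m c f
  obtain ⟨n, hn1, hnN, hnmin, hnS⟩ :
      ∃ n, 1 ≤ n ∧ n ≤ N + 1 ∧ (∀ m, S m → n ≤ m) ∧ (n ≤ N → S n) := by
    by_cases hS : ∃ m, S m
    · exact ⟨Nat.find hS, (Nat.find_spec hS).1,
        le_trans (Nat.find_spec hS).2.1 (Nat.le_succ _), fun m hm => Nat.find_min' hS hm,
        fun _ => Nat.find_spec hS⟩
    · push Not at hS
      exact ⟨N + 1, by omega, le_refl _, fun m hm => absurd hm (hS m), fun h => by omega⟩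
  refine ⟨n, hn1, hnN, ?_⟩
  have M1 : ∀ m, n ≤ m → m ≤ N → ∃ f ∈ A, ∃ c : k, c ≠ 0 ∧ P k N m c f := by
    intro m hm
    induction m, hm using Nat.le_induction with
    | base => intro h; exact (hnS h).2.2
    | succ m hm ih =>
      intro h
      obtain ⟨f, hf, c, hc, hP⟩ := ih (by omega)
      refine ⟨σ f - f, A.sub_mem (hσA f hf) hf, -(m : k) * c, ?_, L3 hv σ hσ hP⟩
      apply mul_ne_zero _ hc
      rw [neg_ne_zero, Nat.cast_ne_zero]
      omega
  have M2 : ∀ d m, m + d = N + 1 → n ≤ m → ∀ x ∈ Ideal.span {tu k N ^ m}, x ∈ A := by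
    intro d
    induction d with
    | zero =>
      intro m hm _ x hx
      rw [add_zero] at hm
      subst hm
      rw [u_pow_succ, Ideal.span_singleton_eq_bot.2 rfl] at hx
      rw [Ideal.mem_bot.1 hx]
      exact A.zero_mem
    | succ d ih =>
      intro m hm hnm x hx
      have hmN : m ≤ N := by omega
      have ih' := ih (m + 1) (by omega) (by omega)
      obtain ⟨f, hf, c, hc, g, hg⟩ := M1 m hnm hmN
      have hum : tu k N ^ m ∈ A := by
        have h1 : tu k N ^ (m + 1) * g ∈ A :=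
          ih' _ (Ideal.mem_span_singleton'.2 ⟨g, by ring⟩)
        have h2 : algebraMap k (TR k N) c * tu k N ^ m ∈ A := by
          have : algebraMap k (TR k N) c * tu k N ^ m = f - tu k N ^ (m + 1) * g := by
            rw [hg]; ring
          rw [this]
          exact A.sub_mem hf h1
        have h3 : tu k N ^ m
            = algebraMap k (TR k N) c⁻¹ * (algebraMap k (TR k N) c * tu k N ^ m) := by
          rw [← mul_assoc, ← map_mul, inv_mul_cancel₀ hc, map_one, one_mul]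
        rw [h3]
        exact A.mul_mem (A.algebraMap_mem _) h2
      obtain ⟨h, rfl⟩ := Ideal.mem_span_singleton'.1 hx
      obtain ⟨h0, h', rfl⟩ := F0 k N h
      have : (algebraMap k (TR k N) h0 + tu k N * h') * tu k N ^ m
          = algebraMap k (TR k N) h0 * tu k N ^ m + tu k N ^ (m + 1) * h' := by ring
      rw [this]
      exact A.add_mem (A.mul_mem (A.algebraMap_mem _) hum)
        (ih' _ (Ideal.mem_span_singleton'.2 ⟨h', by ring⟩))
  have M3 : ∀ f ∈ A, f ∈ Ideal.span {tu k N ^ 1} → f ∈ Ideal.span {tu k N ^ n} := by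
    intro f hf hf1
    by_contra hfn
    have hex : ∃ m, f ∉ Ideal.span {tu k N ^ m} := ⟨n, hfn⟩
    obtain ⟨m0, hm0, hm0min⟩ : ∃ m0, f ∉ Ideal.span {tu k N ^ m0} ∧
        ∀ m, f ∉ Ideal.span {tu k N ^ m} → m0 ≤ m :=
      ⟨Nat.find hex, Nat.find_spec hex, fun m hm => Nat.find_min' hex hm⟩
    have hm0n : m0 ≤ n := hm0min n hfn
    have hm02 : 2 ≤ m0 := by
      by_contra hlt
      have h01 : m0 = 0 ∨ m0 = 1 := by omega
      rcases h01 with h | h
      · apply hm0
        rw [h, pow_zero, Ideal.span_singleton_one]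
        trivial
      · apply hm0
        rw [h]
        exact hf1
    have hmem : f ∈ Ideal.span {tu k N ^ (m0 - 1)} := by
      by_contra h
      have := hm0min _ h
      omega
    obtain ⟨c, hP⟩ := L1 hmem
    have hc : c ≠ 0 := by
      rintro rfl
      obtain ⟨g, hg⟩ := hP
      apply hm0
      rw [hg, map_zero, zero_mul, zero_add, show m0 - 1 + 1 = m0 by omega]
      exact Ideal.mem_span_singleton'.2 ⟨g, by ring⟩
    have hS : S (m0 - 1) := ⟨by omega, by omega, f, hf, c, hc, hP⟩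
    have := hnmin _ hS
    omega
  apply le_antisymm
  · intro f hf
    have hf' : f ∈ A := hf
    obtain ⟨c0, g', hfg⟩ := F0 k N f
    have hf1 : tu k N * g' ∈ A := by
      have : tu k N * g' = f - algebraMap k (TR k N) c0 := by rw [hfg]; ring
      rw [this]
      exact A.sub_mem hf' (A.algebraMap_mem _)
    have h1 : tu k N * g' ∈ Ideal.span {tu k N ^ n} :=
      M3 _ hf1 (Ideal.mem_span_singleton'.2 ⟨g', by ring⟩)
    rw [hfg]
    apply Submodule.add_mem_sup
    · rw [Algebra.algebraMap_eq_smul_one]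
      exact Submodule.smul_mem _ _ (Submodule.mem_span_singleton_self 1)
    · exact h1
  · apply sup_le
    · rw [Submodule.span_le]
      rintro _ rfl
      exact A.one_mem
    · intro x hx
      exact M2 (N + 1 - n) n (by omega) le_rfl x hx

end Groth.Agent.Lib.helper10.TruncSub
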