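import Mathlib

set_option maxHeartbeats 400000
set_option autoImplicit false

namespace Groth.Agent.Lib.helper10.TwSh

universe u v

theorem exists_generator (A : Type u) [Ring A] [IsSimpleRing (A ⧸ Ring.jacobson A)]
    (P : Type v) [AddCommGroup P] [Module A P] [Module.Finite A P] [Module.Projective A P]
    [Nontrivial P] :
    ∃ (n : ℕ) (f : Fin n → (P →ₗ[A] A)) (p : Fin n → P), ∑ i, f i (p i) = 1 := by
  set S0 : Set A := {a | ∃ (f : P →ₗ[A] A) (p : P), f p = a} with hS0
  set T : Ideal A := Submodule.span A S0 with hT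
  have hTr : ∀ t ∈ T, ∀ b : A, t * b ∈ T := by
    intro t ht b
    induction ht using Submodule.span_induction with
    | mem x hx =>
      obtain ⟨f, p, rfl⟩ := hx
      apply Submodule.subset_span
      exact ⟨(LinearMap.toSpanSingleton A A b) ∘ₗ f, p, by simp⟩
    | zero => rw [zero_mul]; exact T.zero_mem
    | add x y _ _ hx hy => rw [add_mul]; exact T.add_mem hx hy
    | smul c x _ hx =>
      rw [smul_eq_mul, mul_assoc]
      exact T.mul_mem_left c hx
  -- two-sided ideal of the quotient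
  let π := Ideal.Quotient.mk (Ring.jacobson A)
  let I : TwoSidedIdeal (A ⧸ Ring.jacobson A) := TwoSidedIdeal.mk' {x | ∃ t ∈ T, π t = x}
    ⟨0, T.zero_mem, map_zero _⟩
    (by rintro _ _ ⟨t, ht, rfl⟩ ⟨s, hs, rfl⟩; exact ⟨t + s, T.add_mem ht hs, map_add _ _ _⟩)
    (by rintro _ ⟨t, ht, rfl⟩; exact ⟨-t, T.neg_mem ht, map_neg _ _⟩)
    (by
      rintro y _ ⟨t, ht, rfl⟩
      obtain ⟨y, rfl⟩ := Ideal.Quotient.mk_surjective y
      exact ⟨y * t, T.mul_mem_left y ht, map_mul _ _ _⟩)
    (by
      rintro _ y ⟨t, ht, rfl⟩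
      obtain ⟨y, rfl⟩ := Ideal.Quotient.mk_surjective y
      exact ⟨t * y, hTr t ht y, map_mul _ _ _⟩)
  have hImem : ∀ x, x ∈ I ↔ ∃ t ∈ T, π t = x := fun x => TwoSidedIdeal.mem_mk' _ _ _ _ _ _ _
  have hTtop : T = ⊤ := by
    rcases eq_bot_or_eq_top I with hI | hI
    · exfalso
      have hTJ : T ≤ Ring.jacobson A := by
        intro t ht
        have : π t ∈ I := (hImem _).2 ⟨t, ht, rfl⟩
        rw [hI, TwoSidedIdeal.mem_bot] at this
        exact Ideal.Quotient.eq_zero_iff_mem.1 this
      obtain ⟨n, F, G, -, -, hFG⟩ := Module.Finite.exists_comp_eq_id_of_projective A P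
      have hle : (⊤ : Submodule A P) ≤ Ring.jacobson A • (⊤ : Submodule A P) := by
        intro x _
        have hx : x = F (G x) := by
          have := congrArg (fun φ : P →ₗ[A] P => φ x) hFG
          simpa using this.symm
        rw [hx, LinearMap.pi_apply_eq_sum_univ F (G x)]
        refine Submodule.sum_mem _ (fun i _ => ?_)
        refine Submodule.smul_mem_smul (hTJ ?_) Submodule.mem_top
        apply Submodule.subset_span
        exact ⟨(LinearMap.proj i) ∘ₗ G, x, rfl⟩
      have := (Module.Finite.fg_top (R := A) (M := P)).eq_bot_of_le_jacobson_smul hle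
      exact top_ne_bot this
    · have h1 : (1 : A ⧸ Ring.jacobson A) ∈ I := by rw [hI]; trivial
      obtain ⟨t, ht, ht1⟩ := (hImem _).1 h1
      have hJ : 1 - t ∈ Ring.jacobson A := by
        rw [← Ideal.Quotient.eq_zero_iff_mem, map_sub, map_one]
        exact sub_eq_zero.2 ht1.symm
      by_contra hT'
      obtain ⟨m, hm, hTm⟩ := Ideal.exists_le_maximal T hT'
      have hJm := Ring.jacobson_le_of_isMaximal m
      have : (1 : A) ∈ m := by
        have h2 : (1 : A) = t + (1 - t) := by abel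
        rw [h2]
        exact m.add_mem (hTm ht) (hJm hJ)
      exact hm.ne_top ((Ideal.eq_top_iff_one m).2 this)
  have h1T : (1 : A) ∈ Submodule.span A S0 := by rw [← hT, hTtop]; trivial
  obtain ⟨n, c, g, hsum⟩ := Submodule.mem_span_set'.1 h1T
  have hg : ∀ i, ∃ (f : P →ₗ[A] A) (p : P), f p = (g i : A) := fun i => (g i).2
  choose f p hfp using hg
  refine ⟨n, f, fun i => c i • p i, ?_⟩
  rw [← hsum]
  refine Finset.sum_congr rfl (fun i _ => ?_)
  rw [map_smul, hfp]

theorem main13848 (A : Type u) [Ring A] [IsSimpleRing (A ⧸ Ring.jacobson A)]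
    (P : Type v) [AddCommGroup P] [Module A P] [Module.Finite A P] [Module.Projective A P]
    [Nontrivial P] (u : P ≃ₗ[A] P)
    (hu : ∀ f : Module.End A P, (u : P →ₗ[A] P) ∘ₗ f = f ∘ₗ (u : P →ₗ[A] P)) :
    ∃! a : A, (∀ b : A, a * b = b * a) ∧ ∀ x : P, u x = a • x := by
  obtain ⟨n, f, p, hfp⟩ := exists_generator A P
  have hfaith : ∀ c : A, (∀ x : P, c • x = 0) → c = 0 := by
    intro c hc
    calc c = c * 1 := (mul_one c).symm
      _ = c * ∑ i, f i (p i) := by rw [hfp]
      _ = ∑ i, f i (c • p i) := by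
          rw [Finset.mul_sum]
          refine Finset.sum_congr rfl (fun i _ => ?_)
          rw [map_smul, smul_eq_mul]
      _ = 0 := by simp [hc]
  have key : ∀ (g : P →ₗ[A] A) (y x : P), g y • u x = g (u y) • x := by
    intro g y x
    have := congrArg (fun φ : P →ₗ[A] P => φ y) (hu ((LinearMap.toSpanSingleton A P x) ∘ₗ g))
    simpa using this
  have hux : ∀ x, u x = (∑ i, f i (u (p i))) • x := by
    intro x
    calc u x = (1 : A) • u x := (one_smul _ _).symm
      _ = (∑ i, f i (p i)) • u x := by rw [hfp]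
      _ = ∑ i, f i (p i) • u x := Finset.sum_smul ..
      _ = ∑ i, f i (u (p i)) • x := by simp_rw [key]
      _ = (∑ i, f i (u (p i))) • x := (Finset.sum_smul ..).symm
  refine ⟨∑ i, f i (u (p i)), ⟨fun b => ?_, hux⟩, ?_⟩
  · have : ∀ x : P, ((∑ i, f i (u (p i))) * b - b * (∑ i, f i (u (p i)))) • x = 0 := by
      intro x
      rw [sub_smul, mul_smul, mul_smul, ← hux, ← hux, map_smul, sub_self]
    exact sub_eq_zero.1 (hfaith _ this)
  · rintro a' ⟨_, ha'⟩
    have : ∀ x : P, (a' - ∑ i, f i (u (p i))) • x = 0 := fun x => by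
      rw [sub_smul, ← ha', ← hux, sub_self]
    exact sub_eq_zero.1 (hfaith _ this)

end Groth.Agent.Lib.helper10.TwSh
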