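import Mathlib

set_option autoImplicit false

namespace Groth.Agent.Lib.helper10.UnitSecSmooth

universe u

section ExtLemma

/-- extension of a linear map from a submodule with projective quotient -/
theorem exists_extension_of_projective_quotient {R M K : Type*} [CommRing R] [AddCommGroup M]
    [Module R M] [AddCommGroup K] [Module R K] (N : Submodule R M) [Module.Projective R (M ⧸ N)]
    (f : ↥N →ₗ[R] K) : ∃ g : M →ₗ[R] K, ∀ n : ↥N, g n = f n := by
  obtain ⟨s, hs⟩ := Module.projective_lifting_property N.mkQ LinearMap.id N.mkQ_surjective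
  have hmem : ∀ x : M, x - s (N.mkQ x) ∈ N := by
    intro x
    rw [← Submodule.Quotient.mk_eq_zero, Submodule.Quotient.mk_sub, sub_eq_zero]
    have := LinearMap.congr_fun hs (N.mkQ x)
    simp only [LinearMap.comp_apply, LinearMap.id_apply] at this
    exact this.symm
  let ρ : M →ₗ[R] ↥N := LinearMap.codRestrict N (LinearMap.id - s ∘ₗ N.mkQ) (fun x => by
    simpa using hmem x)
  refine ⟨f ∘ₗ ρ, fun n => ?_⟩
  have : ρ n = n := by
    apply Subtype.ext
    have h0 : N.mkQ (n : M) = 0 := by simp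
    simp [ρ, h0]
  rw [LinearMap.comp_apply, this]

end ExtLemma

section Deriv

variable {R A : Type u} [CommRing R] [CommRing A] [Algebra R A] (ε : A →ₐ[R] R) (J : Ideal A)

theorem exists_derivation_extending
    (hJI : J ≤ RingHom.ker ε)
    (h2 : J ⊓ RingHom.ker ε ^ 2 = RingHom.ker ε * J)
    (h3 : Module.Projective R (↥(RingHom.ker ε) ⧸
      Submodule.comap (RingHom.ker ε).subtype (J ⊔ RingHom.ker ε ^ 2)))
    {K : Type*} [AddCommGroup K] [Module R K] [Module A K] [IsScalarTower R A K]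
    (hK : ∀ a ∈ RingHom.ker ε, ∀ k : K, a • k = 0)
    (φ₀ : ↥J →ₗ[A] K) :
    ∃ D : Derivation R A K, ∀ j : ↥J, D j = φ₀ j := by
  set I : Ideal A := RingHom.ker ε with hI
  -- φ₀ kills I * J
  have hφ₀ : ∀ x : A, x ∈ I * J → ∃ hx : x ∈ J, φ₀ ⟨x, hx⟩ = 0 := by
    intro x hx
    refine Submodule.mul_induction_on hx ?_ ?_
    · intro a ha j hj
      refine ⟨J.mul_mem_left _ hj, ?_⟩
      have : (⟨a * j, J.mul_mem_left _ hj⟩ : ↥J) = a • (⟨j, hj⟩ : ↥J) := rfl
      rw [this, map_smul, hK a ha]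
    · intro x y hx hy
      obtain ⟨hx1, hx2⟩ := hx
      obtain ⟨hy1, hy2⟩ := hy
      refine ⟨J.add_mem hx1 hy1, ?_⟩
      have : (⟨x + y, J.add_mem hx1 hy1⟩ : ↥J) = ⟨x, hx1⟩ + ⟨y, hy1⟩ := rfl
      rw [this, map_add, hx2, hy2, add_zero]
  let φbar : (↥J ⧸ (Submodule.comap J.subtype J ⊓ Submodule.comap J.subtype (I ^ 2))) →ₗ[A] K :=
    Submodule.liftQ _ φ₀ (by
      intro x hx
      rw [LinearMap.mem_ker]
      have hx' : (x : A) ∈ J ⊓ I ^ 2 := ⟨x.2, hx.2⟩
      rw [h2] at hx'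
      obtain ⟨_, h⟩ := hφ₀ x hx'
      exact h)
  let ΛE : ↥(J ⊔ I ^ 2) →ₗ[A] K :=
    φbar ∘ₗ (LinearMap.quotientInfEquivSupQuotient J (I ^ 2)).symm.toLinearMap ∘ₗ
      (Submodule.mkQ _)
  have hΛE_J : ∀ (x : A) (hx : x ∈ J) (hx' : x ∈ J ⊔ I ^ 2), ΛE ⟨x, hx'⟩ = φ₀ ⟨x, hx⟩ := by
    intro x hx hx'
    simp only [ΛE, LinearMap.comp_apply, Submodule.mkQ_apply, LinearEquiv.coe_coe]
    rw [LinearMap.quotientInfEquivSupQuotient_symm_apply_left J (I ^ 2) ⟨x, hx'⟩ hx]
    rfl
  have hΛE_sq : ∀ (x : A) (hx : x ∈ I ^ 2) (hx' : x ∈ J ⊔ I ^ 2), ΛE ⟨x, hx'⟩ = 0 := by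
    intro x hx hx'
    simp only [ΛE, LinearMap.comp_apply, Submodule.mkQ_apply, LinearEquiv.coe_coe]
    rw [LinearMap.quotientInfEquivSupQuotient_symm_apply_right J (I ^ 2) hx, map_zero]
  -- the R-submodule N of I
  let N : Submodule R ↥I := (Submodule.comap I.subtype (J ⊔ I ^ 2)).restrictScalars R
  haveI : Module.Projective R (↥I ⧸ N) :=
    Module.Projective.of_equiv
      (Submodule.Quotient.restrictScalarsEquiv R (Submodule.comap I.subtype (J ⊔ I ^ 2))).symm
  let lN : ↥N →ₗ[R] K :=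
    { toFun := fun n => ΛE ⟨((n : ↥I) : A), n.2⟩
      map_add' := fun a b => by rw [← map_add]; rfl
      map_smul' := fun r a => by
        rw [RingHom.id_apply, ← LinearMap.map_smul_of_tower]; rfl }
  obtain ⟨Λ, hΛ⟩ := exists_extension_of_projective_quotient N lN
  have hΛ' : ∀ (x : A) (hxI : x ∈ I) (hx : x ∈ J ⊔ I ^ 2), Λ ⟨x, hxI⟩ = ΛE ⟨x, hx⟩ := by
    intro x hxI hx
    exact hΛ ⟨⟨x, hxI⟩, hx⟩
  let xI : A →ₗ[R] ↥I :=
    { toFun := fun a => ⟨a - algebraMap R A (ε a), by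
        rw [hI, RingHom.mem_ker, map_sub, AlgHom.commutes]; simp⟩
      map_add' := fun a b => by
        apply Subtype.ext
        simp only [map_add, Submodule.coe_add]
        ring
      map_smul' := fun r a => by
        apply Subtype.ext
        show r • a - algebraMap R A (ε (r • a)) = r • (a - algebraMap R A (ε a))
        rw [map_smul, smul_eq_mul, map_mul, Algebra.smul_def, Algebra.smul_def]
        ring }
  have hsmul : ∀ (a : A) (k : K), a • k = ε a • k := by
    intro a k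
    have h1 : (a - algebraMap R A (ε a)) • k = 0 := hK _ (xI a).2 k
    rw [sub_smul, sub_eq_zero, algebraMap_smul] at h1
    exact h1
  refine ⟨Derivation.mk' (Λ ∘ₗ xI) ?_, ?_⟩
  · intro a b
    have hy : (xI a : A) * (xI b : A) ∈ I ^ 2 := by
      rw [pow_two]; exact Ideal.mul_mem_mul (xI a).2 (xI b).2
    have hyI : (xI a : A) * (xI b : A) ∈ I := I.mul_mem_left _ (xI b).2
    have hdec : xI (a * b) = ⟨(xI a : A) * (xI b : A), hyI⟩ + ε a • xI b + ε b • xI a := by
      apply Subtype.ext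
      show a * b - algebraMap R A (ε (a * b)) =
        (a - algebraMap R A (ε a)) * (b - algebraMap R A (ε b)) +
          ε a • (b - algebraMap R A (ε b)) + ε b • (a - algebraMap R A (ε a))
      rw [map_mul, map_mul, Algebra.smul_def, Algebra.smul_def]
      ring
    rw [LinearMap.comp_apply, hdec, map_add, map_add, map_smul, map_smul,
      hΛ' _ hyI (Submodule.mem_sup_right hy), hΛE_sq _ hy, zero_add, hsmul a, hsmul b]
    rfl
  · intro j
    have hj : xI (j : A) = ⟨(j : A), hJI j.2⟩ := by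
      apply Subtype.ext
      have : ε (j : A) = 0 := hJI j.2
      simp [xI, this]
    show Λ (xI (j : A)) = φ₀ j
    rw [hj, hΛ' _ _ (Submodule.mem_sup_left j.2), hΛE_J _ j.2]

end Deriv

end Groth.Agent.Lib.helper10.UnitSecSmooth
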