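import Mathlib
import Groth.Agent.Lib.helper10.UnitSecSmoothA

set_option autoImplicit false
set_option maxHeartbeats 1600000
set_option synthInstance.maxHeartbeats 200000

open TensorProduct KaehlerDifferential IsLocalRing

namespace Groth.Agent.Lib.helper10.UnitSecSmooth

universe u

variable {R A : Type u} [CommRing R] [CommRing A] [Algebra R A] [Algebra.Smooth R A]
    (ε : A →ₐ[R] R) (J : Ideal A) (Pt : Ideal A) [Pt.IsPrime]

local notation "Q" => Localization.AtPrime Pt
local notation "S'" => Localization.AtPrime Pt ⧸ J.map (algebraMap A (Localization.AtPrime Pt))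

theorem formallySmooth_quot
    (hJI : J ≤ RingHom.ker ε) (h1 : J.FG)
    (h2 : J ⊓ RingHom.ker ε ^ 2 = RingHom.ker ε * J)
    (h3 : Module.Projective R (↥(RingHom.ker ε) ⧸
      Submodule.comap (RingHom.ker ε).subtype (J ⊔ RingHom.ker ε ^ 2)))
    (hIP : RingHom.ker ε ≤ Pt) :
    Algebra.FormallySmooth R S' := by
  have hJP : J ≤ Pt := hJI.trans hIP
  have hmax : J.map (algebraMap A Q) ≤ maximalIdeal Q := by
    rw [← Localization.AtPrime.map_eq_maximalIdeal]
    exact Ideal.map_mono hJP
  haveI : Nontrivial S' := by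
    apply Ideal.Quotient.nontrivial_iff.mpr
    intro h
    rw [h] at hmax
    exact (maximalIdeal.isMaximal Q).ne_top (top_le_iff.mp hmax)
  haveI : IsLocalRing S' :=
    IsLocalRing.of_surjective' (Ideal.Quotient.mk _) Ideal.Quotient.mk_surjective
  haveI : Algebra.FormallySmooth A Q := Algebra.FormallySmooth.of_isLocalization Pt.primeCompl
  haveI : Algebra.FormallySmooth R Q := Algebra.FormallySmooth.comp R A Q
  haveI : Module.Free Q Ω[Q⁄R] := Module.free_of_flat_of_isLocalRing
  have hker : RingHom.ker (algebraMap Q S') = J.map (algebraMap A Q) := by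
    rw [Ideal.Quotient.algebraMap_eq, Ideal.mk_ker]
  rw [Algebra.FormallySmooth.iff_injective_cotangentComplexBaseChange_residueField
    (R := R) (S := S') (P := Q) Ideal.Quotient.mk_surjective (by rw [hker]; exact h1.map _)]
  rw [← LinearMap.dualMap_surjective_iff]
  intro φ
  have hmemJ : ∀ j ∈ J, algebraMap A Q j ∈ RingHom.ker (algebraMap Q S') := by
    intro j hj
    rw [hker]
    exact Ideal.mem_map_of_mem _ hj
  -- vanishing of the structure map on the maximal ideal
  have hKQ : ∀ q ∈ maximalIdeal Q, algebraMap Q (ResidueField S') q = 0 := by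
    intro q hq
    rw [IsScalarTower.algebraMap_apply Q S' (ResidueField S'), ResidueField.algebraMap_eq,
      residue_eq_zero_iff]
    intro hu
    obtain ⟨y, hy⟩ := hu.exists_right_inv
    obtain ⟨y, rfl⟩ := Ideal.Quotient.mk_surjective y
    rw [Ideal.Quotient.algebraMap_eq, ← map_mul, ← map_one (Ideal.Quotient.mk _),
      Ideal.Quotient.eq] at hy
    have h1' : q * y - 1 ∈ maximalIdeal Q := hmax hy
    have h2' : q * y ∈ maximalIdeal Q := Ideal.mul_mem_right _ _ hq
    have : (1 : Q) ∈ maximalIdeal Q := by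
      have := Ideal.sub_mem _ h2' h1'
      simpa using this
    exact (maximalIdeal.isMaximal Q).ne_top ((Ideal.eq_top_iff_one _).mpr this)
  -- the linear map on `J`
  let φ₀ : ↥J →ₗ[A] ResidueField S' :=
    { toFun := fun j => φ ((1 : ResidueField S') ⊗ₜ[Q]
        (⟨algebraMap A Q j, hmemJ j j.2⟩ : ↥(RingHom.ker (algebraMap Q S'))))
      map_add' := fun a b => by
        rw [← map_add, ← TensorProduct.tmul_add]
        congr 2
        apply Subtype.ext
        simp
      map_smul' := fun a j => by
        have e1 : (⟨algebraMap A Q ((a • j : ↥J) : A), hmemJ _ (a • j).2⟩ :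
            ↥(RingHom.ker (algebraMap Q S'))) =
            (algebraMap A Q a) • ⟨algebraMap A Q j, hmemJ j j.2⟩ := by
          apply Subtype.ext
          show algebraMap A Q (a * j) = algebraMap A Q a * algebraMap A Q j
          exact map_mul _ _ _
        have e2 : (algebraMap A Q a • (1 : ResidueField S')) =
            (algebraMap A (ResidueField S') a) • (1 : ResidueField S') := by
          rw [algebraMap_smul, algebraMap_smul]
        rw [e1, RingHom.id_apply, ← TensorProduct.smul_tmul, e2, ← TensorProduct.smul_tmul',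
          map_smul, algebraMap_smul] }
  have hK : ∀ a ∈ RingHom.ker ε, ∀ k : ResidueField S', a • k = 0 := by
    intro a ha k
    rw [← algebraMap_smul Q a k, ← algebraMap_smul (ResidueField S') (algebraMap A Q a) k,
      hKQ _ ((IsLocalization.AtPrime.to_map_mem_maximal_iff Q Pt a).mpr (hIP ha)), zero_smul]
  obtain ⟨D, hD⟩ := exists_derivation_extending ε J hJI h2 h3 hK φ₀
  let ψ₀ : Ω[Q⁄R] →ₗ[Q] ResidueField S' :=
    (LinearMap.liftBaseChange Q D.liftKaehlerDifferential) ∘ₗ
      (tensorKaehlerEquivOfFormallyEtale R A Q).symm.toLinearMap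
  have hψ₀ : ∀ a : A, ψ₀ (KaehlerDifferential.D R Q (algebraMap A Q a)) = D a := by
    intro a
    simp only [ψ₀, LinearMap.comp_apply, LinearEquiv.coe_coe]
    rw [tensorKaehlerEquivOfFormallyEtale_symm_D_algebraMap, LinearMap.liftBaseChange_tmul,
      one_smul, Derivation.liftKaehlerDifferential_comp_D]
  have hspan_le : Submodule.span Q (algebraMap A Q '' (J : Set A)) ≤
      RingHom.ker (algebraMap Q S') := by
    rw [hker]; exact le_of_eq rfl
  have hkill : ∀ x ∈ RingHom.ker (algebraMap Q S'), ∀ k : ResidueField S', x • k = 0 := by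
    intro x hx k
    rw [← algebraMap_smul (ResidueField S') x k,
      IsScalarTower.algebraMap_apply Q S' (ResidueField S'), (RingHom.mem_ker).mp hx, map_zero,
      zero_smul]
  have claim : ∀ n (_ : n ∈ Submodule.span Q (algebraMap A Q '' (J : Set A)))
      (hn : n ∈ RingHom.ker (algebraMap Q S')),
      ψ₀ (KaehlerDifferential.D R Q n) = φ ((1 : ResidueField S') ⊗ₜ[Q] ⟨n, hn⟩) := by
    intro n hs
    induction hs using Submodule.span_induction with
    | mem x hx =>
      obtain ⟨j, hj, rfl⟩ := hx
      intro hn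
      rw [hψ₀, hD ⟨j, hj⟩]
      rfl
    | zero =>
      intro hn
      have : (⟨0, hn⟩ : ↥(RingHom.ker (algebraMap Q S'))) = 0 := rfl
      rw [this, TensorProduct.tmul_zero, map_zero, map_zero, map_zero]
    | add x y hx hy ihx ihy =>
      intro hn
      have hxk := hspan_le hx
      have hyk := hspan_le hy
      have : (⟨x + y, hn⟩ : ↥(RingHom.ker (algebraMap Q S'))) = ⟨x, hxk⟩ + ⟨y, hyk⟩ := rfl
      rw [this, TensorProduct.tmul_add, map_add, map_add, map_add, ihx hxk, ihy hyk]
    | smul q x hx ihx =>
      intro hn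
      have hxk := hspan_le hx
      have : (⟨q • x, hn⟩ : ↥(RingHom.ker (algebraMap Q S'))) = q • ⟨x, hxk⟩ := rfl
      rw [this, TensorProduct.tmul_smul, LinearMap.map_smul_of_tower, smul_eq_mul,
        Derivation.leibniz, map_add, map_smul, map_smul, ihx hxk, hkill x hxk, add_zero]
  refine ⟨LinearMap.liftBaseChange (ResidueField S') ψ₀, ?_⟩
  apply LinearMap.ext
  intro t
  induction t using TensorProduct.induction_on with
  | zero => simp
  | add x y hx hy => rw [map_add, map_add, hx, hy]
  | tmul k n =>
    rw [LinearMap.dualMap_apply, cotangentComplexBaseChange_tmul, map_smul, kerToTensor_apply,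
      LinearMap.liftBaseChange_tmul, one_smul]
    have : k ⊗ₜ[Q] n = k • ((1 : ResidueField S') ⊗ₜ[Q] n) := by
      rw [TensorProduct.smul_tmul', smul_eq_mul, mul_one]
    rw [this, map_smul]
    congr 1
    obtain ⟨n, hn⟩ := n
    exact claim n (by rw [hker] at hn; exact hn) hn

theorem isSmoothAt_of_conditions
    (hJI : J ≤ RingHom.ker ε) (h1 : J.FG)
    (h2 : J ⊓ RingHom.ker ε ^ 2 = RingHom.ker ε * J)
    (h3 : Module.Projective R (↥(RingHom.ker ε) ⧸
      Submodule.comap (RingHom.ker ε).subtype (J ⊔ RingHom.ker ε ^ 2)))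
    (P : Ideal (A ⧸ J)) [P.IsPrime] (hP : (RingHom.ker ε).map (Ideal.Quotient.mk J) ≤ P) :
    Algebra.IsSmoothAt R P := by
  haveI hPt : (P.comap (Ideal.Quotient.mk J)).IsPrime := Ideal.comap_isPrime _ _
  have hIP : RingHom.ker ε ≤ P.comap (Ideal.Quotient.mk J) := Ideal.map_le_iff_le_comap.mp hP
  have hsm := formallySmooth_quot ε J (P.comap (Ideal.Quotient.mk J)) hJI h1 h2 h3 hIP
  have hM : Algebra.algebraMapSubmonoid (A ⧸ J) (P.comap (Ideal.Quotient.mk J)).primeCompl =
      P.primeCompl := by
    ext x
    constructor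
    · rintro ⟨a, ha, rfl⟩
      exact ha
    · intro hx
      obtain ⟨a, rfl⟩ := Ideal.Quotient.mk_surjective x
      exact ⟨a, hx, rfl⟩
  haveI : IsLocalization.AtPrime (Localization.AtPrime (P.comap (Ideal.Quotient.mk J)) ⧸
      J.map (algebraMap A (Localization.AtPrime (P.comap (Ideal.Quotient.mk J))))) P := by
    have : IsLocalization (Algebra.algebraMapSubmonoid (A ⧸ J)
      (P.comap (Ideal.Quotient.mk J)).primeCompl)
      (Localization.AtPrime (P.comap (Ideal.Quotient.mk J)) ⧸
        J.map (algebraMap A (Localization.AtPrime (P.comap (Ideal.Quotient.mk J))))) :=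
      inferInstance
    rwa [hM] at this
  haveI : IsScalarTower R (A ⧸ J) (Localization.AtPrime (P.comap (Ideal.Quotient.mk J)) ⧸
      J.map (algebraMap A (Localization.AtPrime (P.comap (Ideal.Quotient.mk J))))) :=
    IsScalarTower.of_algebraMap_eq (fun r => rfl)
  let e : (Localization.AtPrime (P.comap (Ideal.Quotient.mk J)) ⧸
      J.map (algebraMap A (Localization.AtPrime (P.comap (Ideal.Quotient.mk J))))) ≃ₐ[A ⧸ J]
      Localization.AtPrime P :=
    IsLocalization.algEquiv P.primeCompl _ _
  exact Algebra.FormallySmooth.of_equiv (e.restrictScalars R)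

end Groth.Agent.Lib.helper10.UnitSecSmooth
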