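import Groth.Prelude.Def_Disp2

/-! Twisted linear maps `P → B ⊗_{τ} P` as a semigroup (helper10); iterates of `V^#`. -/

set_option autoImplicit false
universe u v

namespace Groth.Agent.Lib.helper10.VSharp

open Dieu

section General

variable {A : Type u} [CommRing A] {P : Type v} [AddCommGroup P] [Module A P]

theorem castHom_castHom {g g' g'' : A →+* A} (e : g = g') (e' : g' = g'') (z : BC g P) :
    BC.castHom e' (BC.castHom e z) = BC.castHom (e.trans e') z := by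
  subst e e'
  rfl

theorem castHom_self {g : A →+* A} (e : g = g) (z : BC g P) : BC.castHom e z = z := by
  induction z using BC.induction_on with
  | zero => rw [map_zero]
  | tmul b x => rw [BC.castHom_tmul]
  | add z₁ z₂ h₁ h₂ => rw [map_add, h₁, h₂]

/-- `w ⊗ y ↦ w • (τ₁-push of g y)`. -/
noncomputable def C (τ₁ τ₂ : A →+* A) (g : P →ₗ[A] BC τ₂ P) : BC τ₁ P →ₗ[A] BC (τ₁.comp τ₂) P :=
  (BC.lift τ₁ (BC.push τ₂ τ₁)).comp (BC.map τ₁ g)

theorem C_tmul (τ₁ τ₂ : A →+* A) (g : P →ₗ[A] BC τ₂ P) (w : A) (y : P) :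
    C τ₁ τ₂ g (BC.tmul τ₁ w y) = w • BC.push τ₂ τ₁ (g y) := by
  rw [C, LinearMap.comp_apply, BC.map_tmul, BC.lift_tmul]

variable (A P) in
/-- A twisted map: a ring endomorphism `τ` with a linear map `P → A ⊗_τ P`. -/
structure Tw where
  τ : A →+* A
  g : P →ₗ[A] BC τ P

theorem Tw.ext' {X Y : Tw A P} (e : X.τ = Y.τ) (h : ∀ x, BC.castHom e (X.g x) = Y.g x) : X = Y := by
  obtain ⟨τ, g⟩ := X
  obtain ⟨τ', g'⟩ := Y
  dsimp only at e
  subst e
  have : g = g' := LinearMap.ext h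
  rw [this]

/-- Composition `(1 ⊗ Y) ∘ X`. -/
noncomputable def Tw.mul (X Y : Tw A P) : Tw A P :=
  ⟨X.τ.comp Y.τ, (C X.τ Y.τ Y.g).comp X.g⟩

theorem Tw.mul_τ (X Y : Tw A P) : (X.mul Y).τ = X.τ.comp Y.τ := rfl

theorem Tw.mul_g_apply (X Y : Tw A P) (x : P) : (X.mul Y).g x = C X.τ Y.τ Y.g (X.g x) := rfl

theorem push_push (τ₁ τ₂ τ₃ : A →+* A) (z : BC τ₃ P) :
    BC.castHom (RingHom.comp_assoc τ₃ τ₂ τ₁) (BC.push τ₃ (τ₁.comp τ₂) z) =
      BC.push (τ₂.comp τ₃) τ₁ (BC.push τ₃ τ₂ z) := by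
  induction z using BC.induction_on with
  | zero => simp only [map_zero]
  | tmul v y => rw [BC.push_tmul, BC.castHom_tmul, BC.push_tmul, BC.push_tmul]; rfl
  | add z₁ z₂ h₁ h₂ => simp only [map_add, h₁, h₂]

theorem C_push (τ₁ τ₂ τ₃ : A →+* A) (g₃ : P →ₗ[A] BC τ₃ P) (z : BC τ₂ P) :
    BC.castHom (RingHom.comp_assoc τ₃ τ₂ τ₁) (C (τ₁.comp τ₂) τ₃ g₃ (BC.push τ₂ τ₁ z)) =
      BC.push (τ₂.comp τ₃) τ₁ (C τ₂ τ₃ g₃ z) := by
  induction z using BC.induction_on with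
  | zero => simp only [map_zero]
  | tmul u y =>
    rw [BC.push_tmul, C_tmul, C_tmul, map_smul, map_smulₛₗ, push_push]
  | add z₁ z₂ h₁ h₂ => simp only [map_add, h₁, h₂]

theorem Tw.mul_assoc (X Y Z : Tw A P) : (X.mul Y).mul Z = X.mul (Y.mul Z) := by
  refine Tw.ext' (RingHom.comp_assoc Z.τ Y.τ X.τ) (fun x => ?_)
  rw [Tw.mul_g_apply, Tw.mul_g_apply, Tw.mul_g_apply]
  change BC.castHom _ (C (X.τ.comp Y.τ) Z.τ Z.g (C X.τ Y.τ Y.g (X.g x))) =
    C X.τ (Y.τ.comp Z.τ) ((C Y.τ Z.τ Z.g).comp Y.g) (X.g x)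
  generalize X.g x = z
  induction z using BC.induction_on with
  | zero => simp only [map_zero]
  | tmul w y =>
    rw [C_tmul, C_tmul, map_smul, map_smul, C_push, LinearMap.comp_apply]
  | add z₁ z₂ h₁ h₂ => simp only [map_add, h₁, h₂]

/-- `ppow X n = X^(n+1)`. -/
noncomputable def Tw.ppow (X : Tw A P) : ℕ → Tw A P
  | 0 => X
  | n + 1 => X.mul (Tw.ppow X n)

theorem Tw.ppow_zero (X : Tw A P) : X.ppow 0 = X := rfl

theorem Tw.ppow_succ (X : Tw A P) (n : ℕ) : X.ppow (n + 1) = X.mul (X.ppow n) := rfl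

theorem Tw.ppow_add (X : Tw A P) (a b : ℕ) : X.ppow (a + b + 1) = (X.ppow a).mul (X.ppow b) := by
  induction a with
  | zero => rw [Nat.zero_add, Tw.ppow_succ, Tw.ppow_zero]
  | succ a ih =>
    have : a + 1 + b + 1 = (a + b + 1) + 1 := by omega
    rw [this, Tw.ppow_succ, ih, Tw.ppow_succ, Tw.mul_assoc]

/-- Blocks: `(X^(m+1))^(k+1) = X^((m+1)(k+1))`. -/
theorem Tw.ppow_ppow (X : Tw A P) (m k : ℕ) :
    (X.ppow m).ppow k = X.ppow ((m + 1) * (k + 1) - 1) := by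
  induction k with
  | zero => simp [Tw.ppow_zero]
  | succ k ih =>
    rw [Tw.ppow_succ, ih]
    have : (m + 1) * (k + 1 + 1) - 1 = m + ((m + 1) * (k + 1) - 1) + 1 := by
      have : 1 ≤ (m + 1) * (k + 1) := Nat.succ_le_of_lt (Nat.mul_pos (Nat.succ_pos _) (Nat.succ_pos _))
      rw [Nat.mul_succ]
      omega
    rw [this, Tw.ppow_add]

/-- The image of `X.g` lies in `𝔞 • ⊤`. -/
def Tw.Lands (X : Tw A P) (𝔞 : Ideal A) : Prop :=
  ∀ x : P, X.g x ∈ 𝔞 • (⊤ : Submodule A (BC X.τ P))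

theorem Tw.Lands.mono {X : Tw A P} {𝔞 𝔟 : Ideal A} (h : X.Lands 𝔞) (hle : 𝔞 ≤ 𝔟) : X.Lands 𝔟 :=
  fun x => Submodule.smul_mono_left hle (h x)

theorem push_mem (τ₁ τ₂ : A →+* A) (𝔟 : Ideal A) (z : BC τ₂ P)
    (hz : z ∈ 𝔟 • (⊤ : Submodule A (BC τ₂ P))) :
    BC.push τ₂ τ₁ z ∈ (𝔟.map τ₁) • (⊤ : Submodule A (BC (τ₁.comp τ₂) P)) := by
  refine Submodule.smul_induction_on hz ?_ ?_
  · intro b hb z _
    rw [map_smulₛₗ]
    exact Submodule.smul_mem_smul (Ideal.mem_map_of_mem τ₁ hb) Submodule.mem_top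
  · intro a b ha hb
    rw [map_add]
    exact Submodule.add_mem _ ha hb

theorem C_mem (τ₁ τ₂ : A →+* A) (g : P →ₗ[A] BC τ₂ P) (𝔟 : Ideal A)
    (hg : ∀ y, g y ∈ 𝔟 • (⊤ : Submodule A (BC τ₂ P))) (z : BC τ₁ P) :
    C τ₁ τ₂ g z ∈ (𝔟.map τ₁) • (⊤ : Submodule A (BC (τ₁.comp τ₂) P)) := by
  induction z using BC.induction_on with
  | zero => rw [map_zero]; exact Submodule.zero_mem _
  | tmul w y => rw [C_tmul]; exact Submodule.smul_mem _ _ (push_mem τ₁ τ₂ 𝔟 _ (hg y))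
  | add z₁ z₂ h₁ h₂ => rw [map_add]; exact Submodule.add_mem _ h₁ h₂

theorem Tw.Lands.mul {X Y : Tw A P} {𝔞 𝔟 : Ideal A} (hX : X.Lands 𝔞) (hY : Y.Lands 𝔟) :
    (X.mul Y).Lands (𝔞 * 𝔟.map X.τ) := by
  intro x
  rw [Tw.mul_g_apply]
  change _ ∈ (𝔞 * 𝔟.map X.τ) • (⊤ : Submodule A (BC (X.τ.comp Y.τ) P))
  rw [Submodule.mul_smul]
  refine Submodule.smul_induction_on (hX x) ?_ ?_
  · intro a ha z _
    rw [map_smul]
    exact Submodule.smul_mem_smul ha (C_mem X.τ Y.τ Y.g 𝔟 hY z)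
  · intro a b ha hb
    rw [map_add]
    exact Submodule.add_mem _ ha hb

end General

section Witt

variable {p : ℕ} [Fact p.Prime] {R : Type u} [CommRing R]
variable {P : Type v} [AddCommGroup P] [Module (WittVector p R) P]

/-- The iterate `V^{(n+1)#}` as a twisted map. -/
noncomputable def vTw
    (Vs : P →ₗ[WittVector p R] BC (WittVector.frobenius : WittVector p R →+* WittVector p R) P)
    (n : ℕ) : Tw (WittVector p R) P :=
  ⟨(WittVector.frobenius : WittVector p R →+* WittVector p R) ^ (n + 1), vSharpPow Vs n⟩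

theorem vTw_eq_ppow
    (Vs : P →ₗ[WittVector p R] BC (WittVector.frobenius : WittVector p R →+* WittVector p R) P)
    (n : ℕ) : vTw Vs n = (⟨WittVector.frobenius, Vs⟩ : Tw (WittVector p R) P).ppow n := by
  induction n with
  | zero =>
    refine Tw.ext' (pow_one _) (fun x => ?_)
    change BC.castHom (pow_one (WittVector.frobenius : WittVector p R →+* WittVector p R))
      (vSharpPow Vs 0 x) = Vs x
    rw [vSharpPow_zero_apply, castHom_castHom, castHom_self]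
  | succ n ih =>
    rw [Tw.ppow_succ, ← ih]
    refine Tw.ext' (comp_pow_eq_pow_succ _ (n + 1)).symm (fun x => ?_)
    change BC.castHom (comp_pow_eq_pow_succ
        (WittVector.frobenius : WittVector p R →+* WittVector p R) (n + 1)).symm
      (vSharpPow Vs (n + 1) x) = C _ _ (vSharpPow Vs n) (Vs x)
    rw [vSharpPow_succ_apply, castHom_castHom, castHom_self]
    rfl

end Witt

end Groth.Agent.Lib.helper10.VSharp
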