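import Groth.Agent.Lib.helper10.VSharp
import Mathlib.LinearAlgebra.Basis.Defs
import Mathlib.LinearAlgebra.Basis.Basic
import Mathlib.Data.Matrix.Mul

/-! Matrices of twisted maps with respect to a finite basis (helper10). -/

set_option autoImplicit false
set_option linter.unusedSectionVars false
universe u v w

namespace Groth.Agent.Lib.helper10.VSharp

open Dieu

section Mat

variable {A : Type u} [CommRing A] {P : Type v} [AddCommGroup P] [Module A P]
variable {ι : Type w} [Fintype ι] [DecidableEq ι] (b : Module.Basis ι A P)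

/-- `x ↦ τ (j-th coordinate of x)`. -/
noncomputable def coordSL (τ : A →+* A) (j : ι) : P →ₛₗ[τ] A where
  toFun x := τ (b.repr x j)
  map_add' x y := by rw [map_add, Finsupp.add_apply, map_add]
  map_smul' a x := by rw [map_smul, Finsupp.smul_apply, smul_eq_mul, map_mul, smul_eq_mul]

/-- The `j`-th coordinate functional on `A ⊗_τ P`. -/
noncomputable def coordBC (τ : A →+* A) (j : ι) : BC τ P →ₗ[A] A := BC.lift τ (coordSL b τ j)

theorem coordBC_tmul (τ : A →+* A) (j : ι) (w : A) (x : P) :
    coordBC b τ j (BC.tmul τ w x) = w * τ (b.repr x j) := by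
  rw [coordBC, BC.lift_tmul]
  rfl

theorem coordBC_castHom {τ τ' : A →+* A} (e : τ = τ') (j : ι) (z : BC τ P) :
    coordBC b τ' j (BC.castHom e z) = coordBC b τ j z := by
  subst e
  rfl

theorem coordBC_push (τ₁ τ₂ : A →+* A) (j : ι) (z : BC τ₂ P) :
    coordBC b (τ₁.comp τ₂) j (BC.push τ₂ τ₁ z) = τ₁ (coordBC b τ₂ j z) := by
  induction z using BC.induction_on with
  | zero => simp only [map_zero]
  | tmul w x => rw [BC.push_tmul, coordBC_tmul, coordBC_tmul, map_mul]; rfl
  | add z₁ z₂ h₁ h₂ => simp only [map_add, h₁, h₂]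

theorem tmul_eq_smul_ι (τ : A →+* A) (w : A) (x : P) : BC.tmul τ w x = w • BC.ι τ P x := by
  rw [BC.ι_apply, BC.smul_tmul, mul_one]

theorem expand (τ : A →+* A) (z : BC τ P) : z = ∑ j, coordBC b τ j z • BC.tmul τ 1 (b j) := by
  induction z using BC.induction_on with
  | zero => simp only [map_zero, zero_smul, Finset.sum_const_zero]
  | tmul w x =>
    conv_lhs => rw [← b.sum_repr x, tmul_eq_smul_ι, map_sum, Finset.smul_sum]
    refine Finset.sum_congr rfl fun j _ => ?_
    rw [map_smulₛₗ, smul_smul, coordBC_tmul, BC.ι_apply]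
  | add z₁ z₂ h₁ h₂ =>
    simp only [map_add, add_smul, Finset.sum_add_distrib]
    rw [← h₁, ← h₂]

theorem mem_smul_top_iff (τ : A →+* A) (𝔞 : Ideal A) (z : BC τ P) :
    z ∈ 𝔞 • (⊤ : Submodule A (BC τ P)) ↔ ∀ j, coordBC b τ j z ∈ 𝔞 := by
  constructor
  · intro hz j
    refine Submodule.smul_induction_on hz ?_ ?_
    · intro a ha z' _
      rw [map_smul, smul_eq_mul]
      exact Ideal.mul_mem_right _ _ ha
    · intro x y hx hy
      rw [map_add]
      exact Ideal.add_mem _ hx hy
  · intro h
    rw [expand b τ z]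
    exact Submodule.sum_mem _ fun j _ => Submodule.smul_mem_smul (h j) Submodule.mem_top

/-- The matrix of a twisted map in the basis `b`. -/
noncomputable def mat (X : Tw A P) : Matrix ι ι A := fun j i => coordBC b X.τ j (X.g (b i))

theorem mat_apply (X : Tw A P) (j i : ι) : mat b X j i = coordBC b X.τ j (X.g (b i)) := rfl

theorem g_basis (X : Tw A P) (i : ι) : X.g (b i) = ∑ l, mat b X l i • BC.tmul X.τ 1 (b l) :=
  expand b X.τ (X.g (b i))

theorem mat_mul (X Y : Tw A P) : mat b (X.mul Y) = ((mat b Y).map X.τ) * mat b X := by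
  ext j i
  rw [mat_apply, Tw.mul_g_apply, g_basis b X i, map_sum, Matrix.mul_apply]
  change coordBC b (X.τ.comp Y.τ) j _ = _
  rw [map_sum]
  refine Finset.sum_congr rfl fun l _ => ?_
  rw [map_smul, map_smul, C_tmul, one_smul, coordBC_push, smul_eq_mul, Matrix.map_apply, mat_apply,
    mat_apply, mul_comm]

theorem lands_iff (X : Tw A P) (𝔞 : Ideal A) : X.Lands 𝔞 ↔ ∀ j i, mat b X j i ∈ 𝔞 := by
  constructor
  · intro h j i
    exact (mem_smul_top_iff b X.τ 𝔞 _).1 (h (b i)) j
  · intro h x
    rw [← b.sum_repr x, map_sum]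
    refine Submodule.sum_mem _ fun i _ => ?_
    rw [map_smul]
    exact Submodule.smul_mem _ _ ((mem_smul_top_iff b X.τ 𝔞 _).2 fun j => h j i)

theorem mat_of_basis (X : Tw A P) (M : Matrix ι ι A)
    (h : ∀ i, X.g (b i) = ∑ l, M l i • BC.tmul X.τ 1 (b l)) : mat b X = M := by
  ext j i
  rw [mat_apply, h i, map_sum]
  have : ∀ l, coordBC b X.τ j (M l i • BC.tmul X.τ 1 (b l)) = if l = j then M l i else 0 := by
    intro l
    rw [map_smul, coordBC_tmul, b.repr_self, Finsupp.single_apply, one_mul, smul_eq_mul]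
    split_ifs with hlj
    · rw [map_one, mul_one]
    · rw [map_zero, mul_zero]
  simp only [this, Finset.sum_ite_eq', Finset.mem_univ, if_true]

end Mat

end Groth.Agent.Lib.helper10.VSharp
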