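import Groth.Agent.Lib.helper10.WeaklyEtaleField

open TensorProduct

namespace Groth.Agent.Lib.helper10.WEField

universe u

section Loc

variable {S S' : Type u} [CommRing S] [CommRing S'] [Algebra S S'] (M : Submonoid S)
  [IsLocalization M S']

include M in
lemma includeLeft_surjective_of_isLocalization :
    Function.Surjective (Algebra.TensorProduct.includeLeft : S' →ₐ[S] S' ⊗[S] S') := by
  intro z
  induction z using TensorProduct.induction_on with
  | zero => exact ⟨0, map_zero _⟩
  | add x y hx hy =>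
    obtain ⟨a, rfl⟩ := hx
    obtain ⟨b, rfl⟩ := hy
    exact ⟨a + b, map_add _ _ _⟩
  | tmul x y =>
    obtain ⟨a, s, rfl⟩ := IsLocalization.exists_mk'_eq M y
    refine ⟨x * IsLocalization.mk' S' a s, ?_⟩
    have hs : IsUnit (algebraMap S S' s) := IsLocalization.map_units S' s
    obtain ⟨u, hu⟩ := hs
    have h1 : x = (s : S) • (x * ↑u⁻¹) := by
      rw [Algebra.smul_def, ← hu, mul_comm x, ← mul_assoc, Units.mul_inv, one_mul]
    have h2 : (s : S) • IsLocalization.mk' S' a s = algebraMap S S' a := by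
      rw [Algebra.smul_def, IsLocalization.mk'_spec']
    have h3 : IsLocalization.mk' S' a s = algebraMap S S' a * ↑u⁻¹ := by
      rw [IsLocalization.mk'_eq_iff_eq_mul, mul_assoc, ← hu, Units.inv_mul, mul_one]
    show (x * IsLocalization.mk' S' a s) ⊗ₜ[S] (1 : S') = x ⊗ₜ[S] IsLocalization.mk' S' a s
    conv_rhs => rw [h1, TensorProduct.smul_tmul, h2, Algebra.algebraMap_eq_smul_one,
      ← TensorProduct.smul_tmul, ]
    congr 1
    rw [h3, Algebra.smul_def]
    ring

include M in
theorem weaklyEtale_of_isLocalization : Algebra.WeaklyEtale S S' := by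
  have : Module.Flat S S' := IsLocalization.flat S' M
  refine ⟨inferInstance, RingHom.Flat.of_bijective ⟨?_, ?_⟩⟩
  · intro z w hzw
    obtain ⟨a, rfl⟩ := includeLeft_surjective_of_isLocalization M z
    obtain ⟨b, rfl⟩ := includeLeft_surjective_of_isLocalization M w
    have : a = b := by simpa using hzw
    rw [this]
  · intro x
    exact ⟨x ⊗ₜ 1, by simp⟩

end Loc

section Pure

variable (R S : Type u) [CommRing R] [CommRing S] [Algebra R S]

/-- the kernel of a flat diagonal is a pure ideal: elementwise form -/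
lemma exists_eq_mul_of_flat_lmul' (h : (Algebra.TensorProduct.lmul' R (S := S)).Flat)
    {z : S ⊗[R] S} (hz : Algebra.TensorProduct.lmul' R (S := S) z = 0) :
    ∃ y : S ⊗[R] S, Algebra.TensorProduct.lmul' R (S := S) y = 0 ∧ z = z * y := by
  algebraize [(Algebra.TensorProduct.lmul' R (S := S)).toRingHom]
  have hsurj : Function.Surjective (Algebra.ofId (S ⊗[R] S) S) := by
    intro s
    exact ⟨s ⊗ₜ 1, by
      show Algebra.TensorProduct.lmul' R (S := S) (s ⊗ₜ 1) = s
      simp⟩
  let e := Ideal.quotientKerAlgEquivOfSurjective hsurj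
  have hp : (RingHom.ker (Algebra.ofId (S ⊗[R] S) S)).Pure :=
    Module.Flat.of_linearEquiv e.toLinearEquiv
  have hzI : z ∈ RingHom.ker (Algebra.ofId (S ⊗[R] S) S) := hz
  obtain ⟨y, hy, hzy⟩ := Ideal.exists_eq_mul_of_pure hzI
  exact ⟨y, hy, hzy⟩

end Pure

section Field

variable {K B : Type u} [Field K] [CommRing B] [Algebra K B]

/-- key lemma: annihilators of elements of the kernel of a field-valued point. -/
theorem exists_mul_eq_zero_of_flat_lmul' (h : (Algebra.TensorProduct.lmul' K (S := B)).Flat)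
    {L : Type u} [Field L] [Algebra K L] (φ : B →ₐ[K] L) {x : B} (hx : φ x = 0) :
    ∃ s : B, φ s ≠ 0 ∧ s * x = 0 := by
  classical
  have hz : Algebra.TensorProduct.lmul' K (S := B) (x ⊗ₜ[K] (1 : B) - (1 : B) ⊗ₜ[K] x) = 0 := by
    simp
  obtain ⟨y, hy, hzy⟩ := exists_eq_mul_of_flat_lmul' K B h hz
  let ψ : B ⊗[K] B →ₐ[K] L ⊗[K] B := Algebra.TensorProduct.map φ (AlgHom.id K B)
  let μ' : L ⊗[K] B →ₐ[K] L := Algebra.TensorProduct.productMap (AlgHom.id K L) φ
  have hμψ : ∀ t, μ' (ψ t) = φ (Algebra.TensorProduct.lmul' K (S := B) t) := by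
    intro t
    have : μ'.comp ψ = φ.comp (Algebra.TensorProduct.lmul' K (S := B)) := by
      ext <;> simp [μ', ψ]
    exact congrArg (fun f => f t) this
  have hψz : ψ (x ⊗ₜ[K] (1 : B) - (1 : B) ⊗ₜ[K] x) = -((1 : L) ⊗ₜ[K] x) := by
    simp [ψ, hx]
  set w : L ⊗[K] B := 1 - ψ y with hw
  have hμw : μ' w = 1 := by
    rw [hw, map_sub, map_one, hμψ, hy, map_zero, sub_zero]
  have hxw : ((1 : L) ⊗ₜ[K] x) * w = 0 := by
    have h1 := congrArg ψ hzy
    rw [map_mul, hψz] at h1
    rw [hw, mul_sub, mul_one]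
    linear_combination (-1 : L ⊗[K] B) * h1
  let ℬ := Module.Free.chooseBasis K L
  obtain ⟨c, hc⟩ := TensorProduct.eq_repr_basis_left ℬ w
  have hxc : ∀ i, x * c i = 0 := by
    have h2 : (c.mapRange (fun n => x * n) (mul_zero x)).sum (fun i n => ℬ i ⊗ₜ[K] n) = 0 := by
      rw [Finsupp.sum_mapRange_index (by simp)]
      rw [← hxw, ← hc, Finsupp.sum, Finsupp.sum, Finset.mul_sum]
      refine Finset.sum_congr rfl (fun i _ => ?_)
      simp
    have h3 := TensorProduct.sum_tmul_basis_left_eq_zero ℬ _ h2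
    intro i
    have := congrArg (fun f => f i) h3
    simpa using this
  have hμc : μ' w = c.sum (fun i n => ℬ i * φ n) := by
    rw [← hc, Finsupp.sum, map_sum]
    refine Finset.sum_congr rfl (fun i _ => ?_)
    simp [μ']
  by_contra hcon
  push Not at hcon
  have : μ' w = 0 := by
    rw [hμc]
    refine Finset.sum_eq_zero (fun i _ => ?_)
    have : φ (c i) = 0 := by
      by_contra hne
      exact hcon (c i) hne (by rw [mul_comm]; exact hxc i)
    show ℬ i * φ (c i) = 0
    rw [this, mul_zero]
  rw [hμw] at this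
  exact one_ne_zero this

theorem isField_localization_atPrime (h : (Algebra.TensorProduct.lmul' K (S := B)).Flat)
    (q : Ideal B) [q.IsPrime] : IsField (Localization.AtPrime q) := by
  rw [IsLocalRing.isField_iff_maximalIdeal_eq, eq_bot_iff]
  intro z hz
  obtain ⟨x, s, rfl⟩ := IsLocalization.exists_mk'_eq q.primeCompl z
  have hxq : x ∈ q := (IsLocalization.AtPrime.mk'_mem_maximal_iff (Localization.AtPrime q) q x s).mp hz
  obtain ⟨t, ht, htx⟩ := exists_mul_eq_zero_of_flat_lmul' h
    (IsScalarTower.toAlgHom K B q.ResidueField) (x := x)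
    (by
      show algebraMap B q.ResidueField x = 0
      rwa [Ideal.algebraMap_residueField_eq_zero])
  have htq : t ∉ q := fun h' => ht (by
    show algebraMap B q.ResidueField t = 0
    rwa [Ideal.algebraMap_residueField_eq_zero])
  rw [Ideal.mem_bot, IsLocalization.mk'_eq_zero_iff]
  exact ⟨⟨t, htq⟩, htx⟩

open Polynomial in
theorem exists_sep_annihilated [Algebra.WeaklyEtale K B] (q : Ideal B) [q.IsPrime] (b : B) :
    ∃ f : K[X], f.Monic ∧ Irreducible f ∧ f.Separable ∧ ∃ s : B, s ∉ q ∧ s * aeval b f = 0 := by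
  have hfl := Algebra.WeaklyEtale.flat_lmul' K B
  let _ : Field (Localization.AtPrime q) := (isField_localization_atPrime hfl q).toField
  have h1 : Algebra.WeaklyEtale B (Localization.AtPrime q) :=
    weaklyEtale_of_isLocalization q.primeCompl
  have h2 : Algebra.WeaklyEtale K (Localization.AtPrime q) :=
    Algebra.WeaklyEtale.trans K B (Localization.AtPrime q)
  have h3 : Algebra.IsSeparable K (Localization.AtPrime q) :=
    Groth.Agent.Lib.helper10.WeaklyEtaleField.isSeparable_of_weaklyEtale
  set c := algebraMap B (Localization.AtPrime q) b with hc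
  have hint : IsIntegral K c := (Algebra.IsSeparable.isSeparable K c).isIntegral
  refine ⟨minpoly K c, minpoly.monic hint, minpoly.irreducible hint,
    Algebra.IsSeparable.isSeparable K c, ?_⟩
  have h0 : algebraMap B (Localization.AtPrime q) (aeval b (minpoly K c)) = 0 := by
    rw [← aeval_algebraMap_apply, ← hc, minpoly.aeval]
  obtain ⟨s, hs⟩ := (IsLocalization.map_eq_zero_iff q.primeCompl _ _).mp h0
  exact ⟨s, s.2, hs⟩

/-- an element of a `K`-algebra is a root of a separable polynomial -/
def IsSepElem (K : Type u) [Field K] {B : Type u} [CommRing B] [Algebra K B] (b : B) : Prop :=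
  ∃ F : Polynomial K, F.Separable ∧ Polynomial.aeval b F = 0

open Polynomial in
lemma separable_prod_of_monic_irreducible (T : Finset K[X])
    (hT : ∀ f ∈ T, f.Monic ∧ Irreducible f ∧ f.Separable) : (∏ f ∈ T, f).Separable := by
  apply separable_prod'
  · intro f hf g hg hfg
    rw [(hT f hf).2.1.coprime_iff_not_dvd]
    intro hdvd
    have hass : Associated f g :=
      (hT f hf).2.1.associated_of_dvd (hT g hg).2.1 hdvd
    exact hfg (eq_of_monic_of_associated (hT f hf).1 (hT g hg).1 hass)
  · intro f hf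
    exact (hT f hf).2.2

open Polynomial in
theorem isSepElem_of_weaklyEtale [Algebra.WeaklyEtale K B] (b : B) : IsSepElem K b := by
  classical
  let I : Ideal B :=
    { carrier := {s | ∃ T : Finset K[X], (∀ f ∈ T, f.Monic ∧ Irreducible f ∧ f.Separable) ∧
        s * aeval b (∏ f ∈ T, f) = 0}
      zero_mem' := ⟨∅, by simp, by simp⟩
      add_mem' := by
        rintro s s' ⟨T, hT, hs⟩ ⟨T', hT', hs'⟩
        refine ⟨T ∪ T', ?_, ?_⟩
        · intro f hf
          rcases Finset.mem_union.mp hf with h | h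
          · exact hT f h
          · exact hT' f h
        · obtain ⟨g, hg⟩ := Finset.prod_dvd_prod_of_subset T (T ∪ T') (fun f => f)
            Finset.subset_union_left
          obtain ⟨g', hg'⟩ := Finset.prod_dvd_prod_of_subset T' (T ∪ T') (fun f => f)
            Finset.subset_union_right
          rw [add_mul]
          nth_rewrite 1 [hg]
          rw [hg', map_mul, map_mul, ← mul_assoc, ← mul_assoc, hs, hs', zero_mul, zero_mul, add_zero]
      smul_mem' := by
        rintro r s ⟨T, hT, hs⟩
        exact ⟨T, hT, by rw [smul_eq_mul, mul_assoc, hs, mul_zero]⟩ }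
  have hI : I = ⊤ := by
    by_contra hne
    obtain ⟨m, hm, hIm⟩ := Ideal.exists_le_maximal I hne
    obtain ⟨f, hf1, hf2, hf3, s, hsm, hs⟩ := exists_sep_annihilated (K := K) m b
    apply hsm
    apply hIm
    exact ⟨{f}, by simpa using ⟨hf1, hf2, hf3⟩, by simpa using hs⟩
  have h1 : (1 : B) ∈ I := hI ▸ Submodule.mem_top
  obtain ⟨T, hT, h1T⟩ := h1
  rw [one_mul] at h1T
  exact ⟨∏ f ∈ T, f, separable_prod_of_monic_irreducible T hT, h1T⟩

end Field

end Groth.Agent.Lib.helper10.WEField
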