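import Groth.Agent.Lib.helper10.WEField

open TensorProduct Polynomial

namespace Groth.Agent.Lib.helper10.WEField

universe u

section Conv

variable {K S : Type u} [Field K] [CommRing S] [Algebra K S]

/-- a subalgebra generated by a set of separable elements is formally unramified -/
theorem formallyUnramified_adjoin (T : Set S) (hT : ∀ t ∈ T, IsSepElem K t) :
    Algebra.FormallyUnramified K (Algebra.adjoin K T) := by
  have hD : KaehlerDifferential.D K (Algebra.adjoin K T) = 0 := by
    apply Derivation.ext_of_adjoin_eq_top _ Algebra.adjoin_adjoin_coe_preimage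
    intro a ha
    obtain ⟨F, hF, hFa⟩ := hT _ ha
    have hFa' : aeval a F = 0 := by
      apply Subtype.ext
      rw [← Subalgebra.aeval_coe, hFa]
      rfl
    obtain ⟨u, v, huv⟩ := hF
    have h1 := (KaehlerDifferential.D K (Algebra.adjoin K T)).map_aeval F a
    rw [hFa', map_zero] at h1
    have h2 : aeval a v * aeval a (derivative F) = 1 := by
      have := congrArg (aeval a) huv
      simpa [hFa'] using this
    show KaehlerDifferential.D K (Algebra.adjoin K T) a = 0
    calc KaehlerDifferential.D K (Algebra.adjoin K T) a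
        = (aeval a v * aeval a (derivative F)) • KaehlerDifferential.D K (Algebra.adjoin K T) a := by
          rw [h2, one_smul]
      _ = 0 := by rw [mul_smul, ← h1, smul_zero]
  have hsub : Subsingleton (Ω[Algebra.adjoin K T⁄K]) := by
    have htop := KaehlerDifferential.span_range_derivation K (Algebra.adjoin K T)
    rw [hD] at htop
    have hbot : (⊤ : Submodule (Algebra.adjoin K T) (Ω[Algebra.adjoin K T⁄K])) = ⊥ := by
      rw [← htop, Submodule.span_eq_bot]
      rintro _ ⟨a, rfl⟩
      rfl
    refine ⟨fun x y => ?_⟩
    have hx : x ∈ (⊤ : Submodule (Algebra.adjoin K T) (Ω[Algebra.adjoin K T⁄K])) := trivial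
    have hy : y ∈ (⊤ : Submodule (Algebra.adjoin K T) (Ω[Algebra.adjoin K T⁄K])) := trivial
    rw [hbot, Submodule.mem_bot] at hx hy
    rw [hx, hy]
  exact ⟨hsub⟩

theorem etale_adjoin (T : Set S) (hfin : T.Finite) (hT : ∀ t ∈ T, IsSepElem K t) :
    Algebra.Etale K (Algebra.adjoin K T) := by
  have h1 := formallyUnramified_adjoin T hT
  have h2 : Algebra.FiniteType K (Algebra.adjoin K T) := Algebra.FiniteType.adjoin_of_finite hfin
  have h3 : Algebra.FinitePresentation K (Algebra.adjoin K T) :=
    Algebra.FinitePresentation.of_finiteType.mp h2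
  have h4 : Algebra.FormallyEtale K (Algebra.adjoin K T) :=
    Algebra.FormallyEtale.iff_formallyUnramified_of_field.mpr h1
  exact ⟨h4, h3⟩

theorem flat_lmul'_adjoin (T : Set S) (hfin : T.Finite) (hT : ∀ t ∈ T, IsSepElem K t) :
    (Algebra.TensorProduct.lmul' K (S := Algebra.adjoin K T)).Flat := by
  have := etale_adjoin T hfin hT
  exact Algebra.WeaklyEtale.flat_lmul' K (Algebra.adjoin K T)

end Conv

end Groth.Agent.Lib.helper10.WEField
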