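import Groth.Agent.Lib.helper10.WEField2

open TensorProduct Polynomial

namespace Groth.Agent.Lib.helper10.WEField

universe u

section DU

variable {R S : Type u} [CommRing R] [CommRing S] [Algebra R S]

/-- converse of `exists_eq_mul_of_flat_lmul'`. -/
theorem flat_lmul'_of_forall_exists_eq_mul
    (h : ∀ z : S ⊗[R] S, Algebra.TensorProduct.lmul' R (S := S) z = 0 →
      ∃ y : S ⊗[R] S, Algebra.TensorProduct.lmul' R (S := S) y = 0 ∧ z = z * y) :
    (Algebra.TensorProduct.lmul' R (S := S)).Flat := by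
  show (Algebra.TensorProduct.lmul' R (S := S)).toRingHom.Flat
  algebraize [(Algebra.TensorProduct.lmul' R (S := S)).toRingHom]
  have hsurj : Function.Surjective (Algebra.ofId (S ⊗[R] S) S) := by
    intro s
    exact ⟨s ⊗ₜ 1, by
      show Algebra.TensorProduct.lmul' R (S := S) (s ⊗ₜ 1) = s
      simp⟩
  let e := Ideal.quotientKerAlgEquivOfSurjective hsurj
  have hp : (RingHom.ker (Algebra.ofId (S ⊗[R] S) S)).Pure := by
    apply Ideal.Pure.of_inf_eq_mul
    intro J _
    apply le_antisymm
    · rintro x ⟨hxI, hxJ⟩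
      obtain ⟨y, hy, hxy⟩ := h x hxI
      rw [hxy, mul_comm x y]
      exact Ideal.mul_mem_mul (show y ∈ RingHom.ker (Algebra.ofId (S ⊗[R] S) S) from hy) hxJ
    · exact Ideal.mul_le_inf
  exact Module.Flat.of_linearEquiv e.symm.toLinearEquiv

lemma exists_finite_mem_range (z : S ⊗[R] S) :
    ∃ T : Set S, T.Finite ∧ ∀ S₀ : Subalgebra R S, T ⊆ S₀ →
      z ∈ (Algebra.TensorProduct.map S₀.val S₀.val).range := by
  induction z using TensorProduct.induction_on with
  | zero => exact ⟨∅, Set.finite_empty, fun S₀ _ => zero_mem _⟩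
  | tmul a b =>
    refine ⟨{a, b}, by simp, fun S₀ hT => ?_⟩
    have ha : a ∈ S₀ := hT (by simp)
    have hb : b ∈ S₀ := hT (by simp)
    exact ⟨(⟨a, ha⟩ : S₀) ⊗ₜ[R] (⟨b, hb⟩ : S₀), by simp⟩
  | add x y hx hy =>
    obtain ⟨T, hT, hxT⟩ := hx
    obtain ⟨T', hT', hyT⟩ := hy
    refine ⟨T ∪ T', hT.union hT', fun S₀ hS₀ => ?_⟩
    exact add_mem (hxT S₀ (Set.subset_union_left.trans hS₀))
      (hyT S₀ (Set.subset_union_right.trans hS₀))

/-- directed union: if all finitely generated subalgebras have flat diagonal, so has `S`. -/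
theorem flat_lmul'_of_adjoin_finite
    (h : ∀ T : Set S, T.Finite →
      (Algebra.TensorProduct.lmul' R (S := Algebra.adjoin R T)).Flat) :
    (Algebra.TensorProduct.lmul' R (S := S)).Flat := by
  apply flat_lmul'_of_forall_exists_eq_mul
  intro z hz
  obtain ⟨T, hT, hzT⟩ := exists_finite_mem_range z
  obtain ⟨z₀, rfl⟩ := hzT (Algebra.adjoin R T) Algebra.subset_adjoin
  have hcomm : ∀ w : (Algebra.adjoin R T) ⊗[R] (Algebra.adjoin R T),
      Algebra.TensorProduct.lmul' R (S := S)
        (Algebra.TensorProduct.map (Algebra.adjoin R T).val (Algebra.adjoin R T).val w) =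
      ((Algebra.TensorProduct.lmul' R (S := Algebra.adjoin R T) w : Algebra.adjoin R T) : S) := by
    intro w
    have : (Algebra.TensorProduct.lmul' R (S := S)).comp
        (Algebra.TensorProduct.map (Algebra.adjoin R T).val (Algebra.adjoin R T).val) =
        (Algebra.adjoin R T).val.comp (Algebra.TensorProduct.lmul' R (S := Algebra.adjoin R T)) := by
      ext <;> simp
    exact congrArg (fun f => f w) this
  have hz₀ : Algebra.TensorProduct.lmul' R (S := Algebra.adjoin R T) z₀ = 0 := by
    apply Subtype.ext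
    rw [← hcomm]
    exact hz
  obtain ⟨y₀, hy₀, hzy⟩ := exists_eq_mul_of_flat_lmul' R (Algebra.adjoin R T) (h T hT) hz₀
  refine ⟨Algebra.TensorProduct.map (Algebra.adjoin R T).val (Algebra.adjoin R T).val y₀, ?_, ?_⟩
  · rw [hcomm, hy₀]
    rfl
  · show (Algebra.TensorProduct.map (Algebra.adjoin R T).val (Algebra.adjoin R T).val) z₀ =
      (Algebra.TensorProduct.map (Algebra.adjoin R T).val (Algebra.adjoin R T).val) z₀ *
      (Algebra.TensorProduct.map (Algebra.adjoin R T).val (Algebra.adjoin R T).val) y₀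
    rw [← map_mul, ← hzy]

end DU

section Conv2

variable {K S : Type u} [Field K] [CommRing S] [Algebra K S]

theorem weaklyEtale_of_forall_isSepElem (h : ∀ s : S, IsSepElem K s) :
    Algebra.WeaklyEtale K S := by
  refine ⟨inferInstance, ?_⟩
  apply flat_lmul'_of_adjoin_finite
  intro T hT
  exact flat_lmul'_adjoin T hT (fun t _ => h t)

theorem weaklyEtale_iff_forall_isSepElem :
    Algebra.WeaklyEtale K S ↔ ∀ s : S, IsSepElem K s :=
  ⟨fun _ s => isSepElem_of_weaklyEtale s, weaklyEtale_of_forall_isSepElem⟩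

end Conv2

end Groth.Agent.Lib.helper10.WEField
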