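import Groth.Agent.Lib.helper10.WEField3
import Groth.Prelude.Def_EtAlgD
import Mathlib.Dynamics.Newton

open TensorProduct Polynomial

namespace Groth.Agent.Lib.helper10.WEField

universe u

section Basic

variable {K A C : Type u} [Field K] [CommRing A] [Algebra K A] [CommRing C] [Algebra K C]

lemma IsSepElem.map (φ : A →ₐ[K] C) {a : A} (h : IsSepElem K a) : IsSepElem K (φ a) := by
  obtain ⟨F, hF, hFa⟩ := h
  exact ⟨F, hF, by rw [Polynomial.aeval_algHom_apply, hFa, map_zero]⟩

lemma IsSepElem.of_map_injective (φ : A →ₐ[K] C) (hφ : Function.Injective φ) {a : A}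
    (h : IsSepElem K (φ a)) : IsSepElem K a := by
  obtain ⟨F, hF, hFa⟩ := h
  refine ⟨F, hF, hφ ?_⟩
  rw [← Polynomial.aeval_algHom_apply, hFa, map_zero]

lemma isSepElem_coe_iff (S : Subalgebra K A) (s : S) : IsSepElem K (s : A) ↔ IsSepElem K s :=
  ⟨fun h => IsSepElem.of_map_injective S.val Subtype.val_injective h,
   fun h => IsSepElem.map S.val h⟩

lemma isSepElem_algebraMap (r : K) : IsSepElem K (algebraMap K A r) :=
  ⟨X - C r, separable_X_sub_C, by simp⟩

/-- every element of the subalgebra generated by separable elements is separable. -/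
lemma isSepElem_of_mem_adjoin (T : Set A) (hfin : T.Finite) (hT : ∀ t ∈ T, IsSepElem K t)
    {a : A} (ha : a ∈ Algebra.adjoin K T) : IsSepElem K a := by
  have h1 : Algebra.Etale K (Algebra.adjoin K T) := etale_adjoin T hfin hT
  have h2 : IsSepElem K (⟨a, ha⟩ : Algebra.adjoin K T) := isSepElem_of_weaklyEtale _
  exact IsSepElem.map (Algebra.adjoin K T).val h2

variable (K A) in
/-- the subalgebra of separable elements. -/
def sepSubalgebra : Subalgebra K A where
  carrier := {a | IsSepElem K a}
  mul_mem' := by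
    intro a b ha hb
    refine isSepElem_of_mem_adjoin {a, b} (by simp) ?_
      (mul_mem (Algebra.subset_adjoin (by simp)) (Algebra.subset_adjoin (by simp)))
    rintro t (rfl | rfl)
    · exact ha
    · exact hb
  add_mem' := by
    intro a b ha hb
    refine isSepElem_of_mem_adjoin {a, b} (by simp) ?_
      (add_mem (Algebra.subset_adjoin (by simp)) (Algebra.subset_adjoin (by simp)))
    rintro t (rfl | rfl)
    · exact ha
    · exact hb
  algebraMap_mem' := isSepElem_algebraMap

lemma mem_sepSubalgebra {a : A} : a ∈ sepSubalgebra K A ↔ IsSepElem K a := Iff.rfl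

lemma weaklyEtale_sepSubalgebra : Algebra.WeaklyEtale K (sepSubalgebra K A) :=
  weaklyEtale_of_forall_isSepElem fun s => (isSepElem_coe_iff _ s).mp s.2

lemma maxWeaklyEtale_eq : EtAlgD.maxWeaklyEtale K A = sepSubalgebra K A := by
  apply le_antisymm
  · apply sSup_le
    intro S hS a ha
    have : Algebra.WeaklyEtale K S := hS
    exact (isSepElem_coe_iff S ⟨a, ha⟩).mpr (isSepElem_of_weaklyEtale _)
  · exact le_sSup (weaklyEtale_sepSubalgebra (K := K) (A := A))

lemma mem_maxWeaklyEtale_iff {a : A} : a ∈ EtAlgD.maxWeaklyEtale K A ↔ IsSepElem K a := by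
  rw [maxWeaklyEtale_eq]
  rfl

theorem weaklyEtale_maxWeaklyEtale : Algebra.WeaklyEtale K (EtAlgD.maxWeaklyEtale K A) :=
  weaklyEtale_of_forall_isSepElem fun s =>
    (isSepElem_coe_iff _ s).mp (mem_maxWeaklyEtale_iff.mp s.2)

/-- Key lemma: a separable element `b` admits `c ∈ K[b]` with `b (1 - c b) = 0`. -/
lemma IsSepElem.exists_mul_one_sub {b : A} (h : IsSepElem K b) :
    ∃ u : K[X], b * (1 - aeval b u * b) = 0 := by
  obtain ⟨F, hF, hFb⟩ := h
  have hdec : F = F.divX * X + C (F.coeff 0) := (divX_mul_X_add F).symm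
  by_cases hc : F.coeff 0 = 0
  · rw [hc, map_zero, add_zero] at hdec
    have hcop : IsCoprime F.divX X := by
      rw [hdec] at hF
      exact hF.isCoprime
    obtain ⟨v, u, huv⟩ := hcop
    refine ⟨u, ?_⟩
    have h1 := congrArg (aeval b) huv
    simp only [map_add, map_mul, aeval_X, map_one] at h1
    have h2 : aeval b F.divX * b = 0 := by
      have := hFb
      rw [hdec] at this
      simpa using this
    have : 1 - aeval b u * b = aeval b v * aeval b F.divX := by
      rw [← h1]; ring
    rw [this]
    linear_combination (aeval b v) * h2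
  · refine ⟨C (-(F.coeff 0)⁻¹) * F.divX, ?_⟩
    have h2 : aeval b F.divX * b + algebraMap K A (F.coeff 0) = 0 := by
      have := hFb
      rw [hdec] at this
      simpa using this
    have h3 : algebraMap K A (F.coeff 0)⁻¹ * algebraMap K A (F.coeff 0) = 1 := by
      rw [← map_mul, inv_mul_cancel₀ hc, map_one]
    simp only [map_mul, aeval_C, map_neg]
    linear_combination (b * algebraMap K A (F.coeff 0)⁻¹) * h2 - b * h3

lemma IsSepElem.eq_zero_of_isNilpotent {b : A} (h : IsSepElem K b) (hn : IsNilpotent b) :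
    b = 0 := by
  obtain ⟨u, hu⟩ := h.exists_mul_one_sub
  have hunit : IsUnit (1 - aeval b u * b) :=
    IsNilpotent.isUnit_one_sub ((Commute.all _ _).isNilpotent_mul_left hn)
  exact (hunit.mul_left_eq_zero).mp hu

/-- Hensel/Newton lifting of separable elements through nilpotents. -/
lemma IsSepElem.exists_lift {c : A ⧸ nilradical A}
    (h : IsSepElem K c) : ∃ a : A, IsSepElem K a ∧ Ideal.Quotient.mk (nilradical A) a = c := by
  obtain ⟨F, hF, hFc⟩ := h
  obtain ⟨a, rfl⟩ := Ideal.Quotient.mk_surjective c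
  have hFa : aeval a F ∈ nilradical A := by
    rw [← Ideal.Quotient.eq_zero_iff_mem]
    have := Polynomial.aeval_algHom_apply (Ideal.Quotient.mkₐ K (nilradical A)) a F
    rw [Ideal.Quotient.mkₐ_eq_mk] at this
    rw [← this]
    exact hFc
  have hnil : IsNilpotent (aeval a F) := (mem_nilradical).mp hFa
  obtain ⟨u, v, huv⟩ := hF
  have h1 := congrArg (aeval a) huv
  simp only [map_add, map_mul, map_one] at h1
  have hunit : IsUnit (aeval a (derivative F)) := by
    have h2 : aeval a v * aeval a (derivative F) = 1 - aeval a u * aeval a F := by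
      rw [← h1]; ring
    have h3 : IsUnit (1 - aeval a u * aeval a F) :=
      IsNilpotent.isUnit_one_sub ((Commute.all _ _).isNilpotent_mul_left hnil)
    rw [← h2] at h3
    exact isUnit_of_mul_isUnit_right h3
  obtain ⟨r, ⟨hr1, hr2⟩, -⟩ := existsUnique_nilpotent_sub_and_aeval_eq_zero hnil hunit
  refine ⟨r, ⟨F, ⟨u, v, huv⟩, hr2⟩, ?_⟩
  symm
  rw [Ideal.Quotient.eq, mem_nilradical]
  exact hr1

end Basic

end Groth.Agent.Lib.helper10.WEField
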