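import Groth.Agent.Lib.helper10.WEField4
import Mathlib.FieldTheory.SeparableClosure

open TensorProduct Polynomial

namespace Groth.Agent.Lib.helper10.WEField

universe u

section Conn

variable {K A : Type u} [Field K] [CommRing A] [Algebra K A]

lemma IsSepElem.isSeparable {b : A} (h : IsSepElem K b) : IsSeparable K b := by
  obtain ⟨F, hF, hFb⟩ := h
  exact hF.of_dvd (minpoly.dvd K b hFb)

theorem isSeparable_maxWeaklyEtale : Algebra.IsSeparable K (EtAlgD.maxWeaklyEtale K A) :=
  ⟨fun x => ((isSepElem_coe_iff _ x).mp (mem_maxWeaklyEtale_iff.mp x.2)).isSeparable⟩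

theorem isField_maxWeaklyEtale_of_connected
    (hconn : ∀ e : A, IsIdempotentElem e → e = 0 ∨ e = 1) [Nontrivial A] :
    IsField (EtAlgD.maxWeaklyEtale K A) := by
  refine ⟨⟨0, 1, fun h => zero_ne_one (α := A) (congrArg Subtype.val h)⟩, mul_comm, ?_⟩
  intro a ha
  have hb : IsSepElem K (a : A) := mem_maxWeaklyEtale_iff.mp a.2
  obtain ⟨u, hu⟩ := hb.exists_mul_one_sub
  have hidem : IsIdempotentElem (aeval (a : A) u * (a : A)) := by
    show aeval (a : A) u * (a : A) * (aeval (a : A) u * (a : A)) = aeval (a : A) u * (a : A)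
    linear_combination (-(aeval (a : A) u)) * hu
  rcases hconn _ hidem with h0 | h1
  · exfalso
    apply ha
    apply Subtype.ext
    rw [h0, sub_zero, mul_one] at hu
    exact hu
  · refine ⟨aeval a u, ?_⟩
    apply Subtype.ext
    show (a : A) * ((aeval a u : EtAlgD.maxWeaklyEtale K A) : A) = 1
    rw [← Subalgebra.aeval_coe, mul_comm]
    exact h1

end Conn

section Residue

variable (A B : Type u) [CommRing A] [CommRing B] [Algebra A B]
    [Algebra.WeaklyEtale A B] (p : Ideal A) [p.IsPrime] (q : Ideal B) [q.IsPrime] [q.LiesOver p]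
    [Algebra (Localization.AtPrime p) (Localization.AtPrime q)]
    [Localization.AtPrime.IsLiesOverAlgebra p q]

theorem isSeparable_residueField : Algebra.IsSeparable p.ResidueField q.ResidueField := by
  let φ : p.ResidueField ⊗[A] B →ₐ[p.ResidueField] q.ResidueField :=
    Algebra.TensorProduct.lift (Algebra.ofId p.ResidueField q.ResidueField)
      (IsScalarTower.toAlgHom A B q.ResidueField) (fun _ _ => Commute.all _ _)
  have H1 : ∀ b : B, IsSeparable p.ResidueField (algebraMap B q.ResidueField b) := by
    intro b
    have h1 : IsSepElem p.ResidueField ((1 : p.ResidueField) ⊗ₜ[A] b) :=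
      isSepElem_of_weaklyEtale _
    have h2 := (h1.map φ).isSeparable
    have h3 : φ ((1 : p.ResidueField) ⊗ₜ[A] b) = algebraMap B q.ResidueField b := by
      simp [φ]
    rwa [h3] at h2
  rw [← separableClosure.eq_top_iff, eq_top_iff]
  rintro x -
  obtain ⟨y, rfl⟩ := IsLocalRing.residue_surjective x
  obtain ⟨b, s, rfl⟩ := IsLocalization.exists_mk'_eq q.primeCompl y
  have hs : algebraMap B q.ResidueField s ≠ 0 := by
    rw [Ne, Ideal.algebraMap_residueField_eq_zero]
    exact s.2
  have hspec : IsLocalRing.residue (Localization.AtPrime q) (IsLocalization.mk' _ b s) *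
      algebraMap B q.ResidueField s = algebraMap B q.ResidueField b := by
    rw [IsScalarTower.algebraMap_apply B (Localization.AtPrime q) q.ResidueField,
      IsScalarTower.algebraMap_apply B (Localization.AtPrime q) q.ResidueField,
      IsLocalRing.ResidueField.algebraMap_eq, ← map_mul, IsLocalization.mk'_spec]
  have : IsLocalRing.residue (Localization.AtPrime q) (IsLocalization.mk' _ b s) =
      algebraMap B q.ResidueField b / algebraMap B q.ResidueField s := by
    rw [eq_div_iff hs, hspec]
  rw [this]
  exact div_mem (H1 b) (H1 s)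

end Residue

end Groth.Agent.Lib.helper10.WEField
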