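import Groth.Agent.Lib.helper10.WEField5
import Groth.Prelude.Def_PBC

open TensorProduct Polynomial CategoryTheory CategoryTheory.Limits

namespace Groth.Agent.Lib.helper10.WEField

universe u

section Ind

variable (K B : Type u) [Field K] [CommRing B] [Algebra K B]

/-- finitely generated subalgebras -/
abbrev FGSub : Type u := {S : Subalgebra K B // S.FG}

instance : Nonempty (FGSub K B) := ⟨⟨⊥, Subalgebra.fg_bot⟩⟩

instance : IsDirected (FGSub K B) (· ≤ ·) :=
  ⟨fun S T => ⟨⟨S.1 ⊔ T.1, S.2.sup T.2⟩, le_sup_left (a := S.1), le_sup_right (a := S.1)⟩⟩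

/-- the diagram of f.g. subalgebras in `CommRingCat` -/
noncomputable def fgDiag : FGSub K B ⥤ CommRingCat.{u} where
  obj S := CommRingCat.of S.1
  map {S T} h := CommRingCat.ofHom (Subalgebra.inclusion (show S.1 ≤ T.1 from leOfHom h)).toRingHom
  map_id S := by ext x; rfl
  map_comp f g := by ext x; rfl

noncomputable def fgCocone : Cocone (fgDiag K B) where
  pt := CommRingCat.of B
  ι := { app := fun S => CommRingCat.ofHom S.1.val.toRingHom
         naturality := fun S T h => by ext x; rfl }

variable {K B}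

/-- the f.g. subalgebra generated by a finite set -/
noncomputable def adj (T : Finset B) : FGSub K B := ⟨Algebra.adjoin K (T : Set B), ⟨T, rfl⟩⟩

lemma cocone_app_eq (t : Cocone (fgDiag K B)) {S T : FGSub K B} (h : S ≤ T) (x : S.1) :
    (t.ι.app T).hom (Subalgebra.inclusion (show S.1 ≤ T.1 from h) x) = (t.ι.app S).hom x := by
  have := t.w (homOfLE h)
  rw [← this]
  rfl

lemma cocone_app_eq' (t : Cocone (fgDiag K B)) {S T : FGSub K B} (b : B) (hS : b ∈ S.1)
    (hT : b ∈ T.1) : (t.ι.app S).hom ⟨b, hS⟩ = (t.ι.app T).hom ⟨b, hT⟩ := by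
  have h1 : S ≤ (⟨S.1 ⊔ T.1, S.2.sup T.2⟩ : FGSub K B) := le_sup_left (a := S.1)
  have h2 : T ≤ (⟨S.1 ⊔ T.1, S.2.sup T.2⟩ : FGSub K B) := le_sup_right (a := S.1)
  rw [← cocone_app_eq t h1, ← cocone_app_eq t h2]
  rfl

/-- the descent map -/
noncomputable def descFun (t : Cocone (fgDiag K B)) (b : B) : t.pt :=
  (t.ι.app (adj {b})).hom ⟨b, Algebra.subset_adjoin (by simp)⟩

lemma descFun_eq (t : Cocone (fgDiag K B)) (S : FGSub K B) (b : B) (hb : b ∈ S.1) :
    descFun t b = (t.ι.app S).hom ⟨b, hb⟩ :=
  cocone_app_eq' t b _ hb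

noncomputable def descHom (t : Cocone (fgDiag K B)) : B →+* t.pt where
  toFun := descFun t
  map_one' := by
    rw [descFun_eq t (adj ∅) 1 (one_mem _)]
    exact map_one (t.ι.app (adj ∅)).hom
  map_zero' := by
    rw [descFun_eq t (adj ∅) 0 (zero_mem _)]
    exact map_zero (t.ι.app (adj ∅)).hom
  map_mul' a b := by
    classical
    have ha : a ∈ (adj (K := K) {a, b}).1 := Algebra.subset_adjoin (by simp)
    have hb : b ∈ (adj (K := K) {a, b}).1 := Algebra.subset_adjoin (by simp)
    rw [descFun_eq t (adj {a, b}) a ha, descFun_eq t (adj {a, b}) b hb,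
      descFun_eq t (adj {a, b}) (a * b) (mul_mem ha hb), ← map_mul]
    rfl
  map_add' a b := by
    classical
    have ha : a ∈ (adj (K := K) {a, b}).1 := Algebra.subset_adjoin (by simp)
    have hb : b ∈ (adj (K := K) {a, b}).1 := Algebra.subset_adjoin (by simp)
    rw [descFun_eq t (adj {a, b}) a ha, descFun_eq t (adj {a, b}) b hb,
      descFun_eq t (adj {a, b}) (a + b) (add_mem ha hb), ← map_add]
    rfl

noncomputable def fgIsColimit : IsColimit (fgCocone K B) where
  desc t := CommRingCat.ofHom (descHom t)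
  fac t S := by
    apply CommRingCat.hom_ext
    apply RingHom.ext
    intro (x : S.1)
    show descFun t (x : B) = (t.ι.app S).hom x
    rw [descFun_eq t S _ x.2]
  uniq t m hm := by
    apply CommRingCat.hom_ext
    apply RingHom.ext
    intro (b : B)
    have hb : b ∈ (adj (K := K) {b}).1 := Algebra.subset_adjoin (by simp)
    show m.hom b = descFun t b
    have := hm (adj {b})
    rw [descFun_eq t _ b hb, ← this]
    rfl

end Ind

section Ind2

variable (K B : Type u) [Field K] [CommRing B] [Algebra K B]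

noncomputable def fgStr : (Functor.const (FGSub K B)).obj (CommRingCat.of K) ⟶ fgDiag K B where
  app S := CommRingCat.ofHom (algebraMap K S.1)
  naturality := fun S T h => by
    apply CommRingCat.hom_ext
    apply RingHom.ext
    intro (x : K)
    rfl

variable {K B}

lemma etale_of_fg [Algebra.WeaklyEtale K B] (S : Subalgebra K B) (hS : S.FG) :
    Algebra.Etale K S := by
  obtain ⟨t, rfl⟩ := hS
  exact etale_adjoin (t : Set B) t.finite_toSet (fun b _ => isSepElem_of_weaklyEtale b)

theorem isIndEtale_of_weaklyEtale [Algebra.WeaklyEtale K B] : EtPBC.IsIndEtale K B := by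
  refine ⟨FGSub K B, inferInstance, inferInstance, Under.lift _ (fgStr K B),
    Under.liftCocone _ _ (fgCocone K B) (CommRingCat.ofHom (algebraMap K B)) ?_,
    Under.isColimitLiftCocone _ _ _ _ _ fgIsColimit, ?_, ⟨Iso.refl _⟩⟩
  · intro S
    apply CommRingCat.hom_ext
    apply RingHom.ext
    intro (x : K)
    rfl
  · intro S
    have h := etale_of_fg S.1 S.2
    have e : ((Under.lift _ (fgStr K B)).obj S).hom.hom.toAlgebra =
        (inferInstance : Algebra K S.1) := Algebra.algebra_ext _ _ (fun _ => rfl)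
    show @Algebra.Etale K S.1 _ _ ((Under.lift _ (fgStr K B)).obj S).hom.hom.toAlgebra
    rw [e]
    exact h

end Ind2

section Ind3

variable {K B : Type u} [Field K] [CommRing B] [Algebra K B]

theorem weaklyEtale_of_isIndEtale (h : EtPBC.IsIndEtale K B) : Algebra.WeaklyEtale K B := by
  obtain ⟨J, _, _, D, c, hc, hEt, ⟨iso⟩⟩ := h
  apply weaklyEtale_of_forall_isSepElem
  intro b
  have hc' : IsColimit ((Under.forget (CommRingCat.of K)).mapCocone c) :=
    isColimitOfPreserves (Under.forget _) hc
  obtain ⟨j, (y : (D.obj j).right), hy⟩ :=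
    Concrete.isColimit_exists_rep (D ⋙ Under.forget _) hc' (iso.inv.right.hom b)
  replace hy : (c.ι.app j).right.hom y = iso.inv.right.hom b := hy
  let ψ : D.obj j ⟶ Under.mk (CommRingCat.ofHom (algebraMap K B)) := c.ι.app j ≫ iso.hom
  let _ : Algebra K (D.obj j).right := (D.obj j).hom.hom.toAlgebra
  have hE : Algebra.Etale K (D.obj j).right := hEt j
  let φ : (D.obj j).right →ₐ[K] B :=
    { ψ.right.hom with
      commutes' := fun r => by
        have := Under.w ψ
        exact congrArg (fun f => f.hom r) this }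
  have hb : φ y = b := by
    show iso.hom.right.hom ((c.ι.app j).right.hom y) = b
    rw [hy]
    have h1 : iso.inv ≫ iso.hom = 𝟙 _ := iso.inv_hom_id
    have h2 := congrArg (fun f => f.right.hom b) h1
    exact h2
  rw [← hb]
  exact (isSepElem_of_weaklyEtale y).map φ

end Ind3

end Groth.Agent.Lib.helper10.WEField
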