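import Mathlib

set_option maxHeartbeats 400000
set_option autoImplicit false

namespace Groth.Agent.Lib.helper10.WeakApprox

universe u
variable {K : Type u} [Field K]

open ValuationSubring

/-- archimedean property for a DVR subring. -/
theorem arch (A : ValuationSubring K) [IsDiscreteValuationRing A] {x : K}
    (hx : A.valuation x < 1) {δ : A.ValueGroup} (hδ : δ ≠ 0) :
    ∃ m : ℕ, ∀ m' : ℕ, m ≤ m' → A.valuation x ^ m' < δ := by
  obtain ⟨y, rfl⟩ := A.valuation_surjective δ
  have hy : y ≠ 0 := fun h => hδ (by simp [h])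
  obtain ⟨ϖ, hϖ⟩ := IsDiscreteValuationRing.exists_irreducible A
  have hxA : x ∈ A := (A.valuation_le_one_iff x).1 hx.le
  have hxm : (⟨x, hxA⟩ : A) ∈ IsLocalRing.maximalIdeal A := (A.valuation_lt_one_iff _).2 hx
  rw [(IsDiscreteValuationRing.irreducible_iff_uniformizer ϖ).1 hϖ, Ideal.mem_span_singleton'] at hxm
  obtain ⟨x', hx'⟩ := hxm
  have hϖ1 : A.valuation (ϖ : K) < 1 := by
    rw [← A.valuation_lt_one_iff]
    rw [(IsDiscreteValuationRing.irreducible_iff_uniformizer ϖ).1 hϖ]
    exact Ideal.mem_span_singleton_self ϖ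
  have hϖ0 : A.valuation (ϖ : K) ≠ 0 := by
    rw [Valuation.ne_zero_iff]
    exact_mod_cast hϖ.ne_zero
  have hxle : A.valuation x ≤ A.valuation (ϖ : K) := by
    have : x = (x' : K) * (ϖ : K) := by
      have := congrArg (Subtype.val) hx'
      simpa using this.symm
    rw [this, map_mul]
    calc A.valuation (x' : K) * A.valuation (ϖ : K) ≤ 1 * A.valuation (ϖ : K) := by
          gcongr
          exact A.valuation_le_one x'
      _ = _ := one_mul _
  -- lower bound for v y
  obtain ⟨k, hk⟩ : ∃ k : ℕ, A.valuation (ϖ : K) ^ k ≤ A.valuation y := by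
    rcases A.mem_or_inv_mem y with hyA | hyA
    · have hy0 : (⟨y, hyA⟩ : A) ≠ 0 := fun h => hy (congrArg Subtype.val h)
      obtain ⟨k, u, hu⟩ := IsDiscreteValuationRing.eq_unit_mul_pow_irreducible hy0 hϖ
      refine ⟨k, ?_⟩
      have : y = (u : A) * (ϖ : K) ^ k := by
        have := congrArg (Subtype.val) hu
        simpa using this
      rw [this, map_mul, map_pow, A.valuation_unit, one_mul]
    · refine ⟨0, ?_⟩
      rw [pow_zero]
      have := (A.valuation_le_one_iff _).2 hyA
      rw [map_inv₀] at this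
      exact (inv_le_one₀ (by rw [pos_iff_ne_zero, Valuation.ne_zero_iff]; exact hy)).1 this
  refine ⟨k + 1, fun m' hm' => ?_⟩
  calc A.valuation x ^ m' ≤ A.valuation x ^ (k + 1) := pow_le_pow_right_of_le_one' hx.le hm'
    _ ≤ A.valuation (ϖ : K) ^ (k + 1) := by gcongr
    _ < A.valuation (ϖ : K) ^ k := by
        rw [pow_succ]
        calc A.valuation (ϖ : K) ^ k * A.valuation (ϖ : K) < A.valuation (ϖ : K) ^ k * 1 := by
              apply mul_lt_mul_of_pos_left hϖ1
              exact pow_pos (pos_iff_ne_zero.2 hϖ0) k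
          _ = _ := mul_one _
    _ ≤ _ := hk


theorem not_le_of_ne (A B : ValuationSubring K) [IsDiscreteValuationRing A]
    [IsDiscreteValuationRing B] (h : A ≠ B) : ¬ A ≤ B := by
  intro hle
  have hB : B ≠ ⊤ := by
    intro hB
    subst hB
    exact IsDiscreteValuationRing.not_isField (⊤ : ValuationSubring K) (Field.toIsField _)
  exact h (ValuationSubring.eq_of_le_of_ne_top A hle hB)

/-- two distinct DVRs: element small for `A` and big for `B`. -/
theorem sep_two (A B : ValuationSubring K) [IsDiscreteValuationRing A]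
    [IsDiscreteValuationRing B] (h : A ≠ B) :
    ∃ z : K, A.valuation z < 1 ∧ 1 < B.valuation z := by
  obtain ⟨a, haA, haB⟩ := SetLike.not_le_iff_exists.1 (not_le_of_ne A B h)
  obtain ⟨b, hbB, hbA⟩ := SetLike.not_le_iff_exists.1 (not_le_of_ne B A h.symm)
  have hb0 : b ≠ 0 := fun h0 => hbA (h0 ▸ A.zero_mem)
  refine ⟨a / b, ?_, ?_⟩
  · rw [map_div₀]
    have h1 : A.valuation a ≤ 1 := (A.valuation_le_one_iff a).2 haA
    have h2 : 1 < A.valuation b := by
      rw [← not_le, A.valuation_le_one_iff]; exact hbA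
    rw [div_lt_one₀ (lt_trans zero_lt_one h2)]
    exact lt_of_le_of_lt h1 h2
  · rw [map_div₀]
    have h1 : B.valuation b ≤ 1 := (B.valuation_le_one_iff b).2 hbB
    have h2 : 1 < B.valuation a := by
      rw [← not_le, B.valuation_le_one_iff]; exact haB
    have h3 : 0 < B.valuation b := by
      rw [pos_iff_ne_zero, Valuation.ne_zero_iff]; exact hb0
    rw [one_lt_div₀ h3]
    exact lt_of_le_of_lt h1 h2


/-- separating element. -/
theorem sep {ι : Type*} [DecidableEq ι] (O : ι → ValuationSubring K)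
    [∀ i, IsDiscreteValuationRing (O i)] (hinj : Function.Injective O) (i : ι) (S : Finset ι)
    (hS : i ∉ S) :
    ∃ x : K, (O i).valuation x < 1 ∧ ∀ j ∈ S, 1 < (O j).valuation x := by
  induction S using Finset.induction_on with
  | empty => exact ⟨0, by simp, by simp⟩
  | insert k S' hk ih =>
    have hiS' : i ∉ S' := fun h => hS (Finset.mem_insert_of_mem h)
    have hik : i ≠ k := fun h => hS (h ▸ Finset.mem_insert_self _ _)
    obtain ⟨y, hy1, hy2⟩ := ih hiS'
    obtain ⟨z, hz1, hz2⟩ := sep_two (O i) (O k) (fun h => hik (hinj h))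
    by_cases hyk : 1 < (O k).valuation y
    · refine ⟨y, hy1, ?_⟩
      intro j hj
      rcases Finset.mem_insert.1 hj with rfl | hj
      · exact hyk
      · exact hy2 j hj
    · push Not at hyk
      have hz0 : z ≠ 0 := by
        rintro rfl
        simp at hz2
      have hex : ∀ j ∈ S', ∃ m : ℕ, ∀ m' : ℕ, m ≤ m' →
          (O j).valuation z < (O j).valuation y ^ m' := by
        intro j hj
        have hyj := hy2 j hj
        have hyinv : (O j).valuation y⁻¹ < 1 := by
          rw [map_inv₀]; exact inv_lt_one_of_one_lt₀ hyj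
        have hzj : (O j).valuation z ≠ 0 := (Valuation.ne_zero_iff _).2 hz0
        obtain ⟨m, hm⟩ := arch (O j) hyinv (δ := ((O j).valuation z)⁻¹) (inv_ne_zero hzj)
        refine ⟨m, fun m' hm' => ?_⟩
        have h1 := hm m' hm'
        rw [map_inv₀, inv_pow, inv_lt_inv₀ (pow_pos (lt_trans zero_lt_one hyj) m')
          (pos_iff_ne_zero.2 hzj)] at h1
        exact h1
      choose! mf hmf using hex
      refine ⟨z + y ^ (S'.sup mf + 1), ?_, ?_⟩
      · apply Valuation.map_add_lt _ hz1
        rw [map_pow]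
        exact pow_lt_one₀ zero_le hy1 (Nat.succ_ne_zero _)
      · intro j hj
        rcases Finset.mem_insert.1 hj with rfl | hj
        · have hlt : (O j).valuation (y ^ (S'.sup mf + 1)) < (O j).valuation z := by
            rw [map_pow]; exact lt_of_le_of_lt (pow_le_one₀ zero_le hyk) hz2
          rw [Valuation.map_add_eq_of_lt_left _ hlt]; exact hz2
        · have h1 := hmf j hj (S'.sup mf + 1) (le_trans (Finset.le_sup hj) (Nat.le_succ _))
          have hlt : (O j).valuation z < (O j).valuation (y ^ (S'.sup mf + 1)) := by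
            rw [map_pow]; exact h1
          rw [Valuation.map_add_eq_of_lt_right _ hlt, map_pow]
          exact one_lt_pow₀ (hy2 j hj) (Nat.succ_ne_zero _)


/-- approximate idempotents. -/
theorem approx_idem {ι : Type*} [Fintype ι] [DecidableEq ι] (O : ι → ValuationSubring K)
    [∀ i, IsDiscreteValuationRing (O i)] (hinj : Function.Injective O) (i : ι)
    (δ : ∀ j, (O j).ValueGroup) (hδ : ∀ j, δ j ≠ 0) :
    ∃ e : K, (O i).valuation (e - 1) < δ i ∧ ∀ j, j ≠ i → (O j).valuation e < δ j := by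
  obtain ⟨x, hx1, hx2⟩ := sep O hinj i (Finset.univ.erase i) (by simp)
  obtain ⟨m0, hm0⟩ := arch (O i) hx1 (hδ i)
  have hex' : ∀ j, ∃ m : ℕ, j ≠ i → ∀ m' : ℕ, m ≤ m' → (O j).valuation x⁻¹ ^ m' < δ j := by
    intro j
    by_cases hj : j = i
    · exact ⟨0, fun h' => absurd hj h'⟩
    · have : (O j).valuation x⁻¹ < 1 := by
        rw [map_inv₀]; exact inv_lt_one_of_one_lt₀ (hx2 j (by simp [hj]))
      obtain ⟨m, hm⟩ := arch (O j) this (hδ j)
      exact ⟨m, fun _ => hm⟩
  choose mf hmf using hex'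
  set M := max m0 (Finset.univ.sup mf) + 1 with hM
  refine ⟨(1 + x ^ M)⁻¹, ?_, ?_⟩
  · have hxM : (O i).valuation (x ^ M) < 1 := by
      rw [map_pow]; exact pow_lt_one₀ zero_le hx1 (Nat.succ_ne_zero _)
    have h1 : (O i).valuation (1 + x ^ M) = 1 := Valuation.map_one_add_of_lt _ hxM
    have hne : 1 + x ^ M ≠ 0 := by
      intro h; rw [h, map_zero] at h1; exact zero_ne_one h1
    have : (1 + x ^ M)⁻¹ - 1 = -(x ^ M) * (1 + x ^ M)⁻¹ := by field_simp; ring
    rw [this, map_mul, map_inv₀, h1, inv_one, mul_one, Valuation.map_neg, map_pow]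
    exact hm0 M (le_trans (le_max_left _ _) (Nat.le_succ _))
  · intro j hj
    have hxj := hx2 j (by simp [hj])
    have hxM : 1 < (O j).valuation (x ^ M) := by
      rw [map_pow]; exact one_lt_pow₀ hxj (Nat.succ_ne_zero _)
    have h1 : (O j).valuation (1 + x ^ M) = (O j).valuation (x ^ M) := by
      apply Valuation.map_add_eq_of_lt_right; rw [map_one]; exact hxM
    rw [map_inv₀, h1, map_pow, ← inv_pow, ← map_inv₀]
    exact hmf j hj M (le_trans (le_trans (Finset.le_sup (Finset.mem_univ j)) (le_max_right _ _))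
      (Nat.le_succ _))


/-- weak approximation (strict inequality form). -/
theorem approx {ι : Type*} [Fintype ι] [DecidableEq ι] (O : ι → ValuationSubring K)
    [∀ i, IsDiscreteValuationRing (O i)] (hinj : Function.Injective O)
    (g : ι → K) (ε : ∀ j, (O j).ValueGroup) (hε : ∀ j, ε j ≠ 0) :
    ∃ f : K, ∀ i, (O i).valuation (f - g i) < ε i := by
  have hex : ∀ i, ∃ e : K, (O i).valuation (e - 1) * (O i).valuation (g i) < ε i ∧
      ∀ j, j ≠ i → (O j).valuation e * (O j).valuation (g i) < ε j := by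
    intro i
    by_cases hg : g i = 0
    · refine ⟨0, ?_, ?_⟩ <;> simp [hg, pos_iff_ne_zero, hε]
    · have hpos : ∀ j, 0 < (O j).valuation (g i) := fun j =>
        pos_iff_ne_zero.2 ((Valuation.ne_zero_iff _).2 hg)
      obtain ⟨e, he1, he2⟩ := approx_idem O hinj i (fun j => ε j / (O j).valuation (g i))
        (fun j => div_ne_zero (hε j) (hpos j).ne')
      refine ⟨e, ?_, ?_⟩
      · rwa [lt_div_iff₀ (hpos i)] at he1
      · intro j hj
        have := he2 j hj
        rwa [lt_div_iff₀ (hpos j)] at this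
  choose e he1 he2 using hex
  refine ⟨∑ k, e k * g k, fun i => ?_⟩
  have hsum : ∑ k, e k * g k - g i = ∑ k, (e k * g k - if k = i then g i else 0) := by
    rw [Finset.sum_sub_distrib, Finset.sum_ite_eq' Finset.univ i]
    simp
  rw [hsum]
  apply Valuation.map_sum_lt _ (hε i)
  intro k _
  by_cases hk : k = i
  · subst hk
    rw [if_pos rfl]
    have : e k * g k - g k = (e k - 1) * g k := by ring
    rw [this, map_mul]
    exact he1 k
  · rw [if_neg hk, sub_zero, map_mul]
    exact he2 k i (fun h => hk h.symm)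

/-- main theorem: weak approximation with exact valuations. -/
theorem main {r : ℕ} (O : Fin r → ValuationSubring K)
    (hO : ∀ i, IsDiscreteValuationRing (O i)) (hinj : Function.Injective O)
    (fs : Fin r → K) (n : Fin r → ℤ) :
    ∃ f : K, ∀ i : Fin r, ∃ (ϖ : O i) (_ : Irreducible ϖ) (w : (O i)ˣ),
      f - fs i = ((w : O i) : K) * ((ϖ : K) ^ (n i)) := by
  have hϖ : ∀ i, ∃ ϖ : O i, Irreducible ϖ := fun i => IsDiscreteValuationRing.exists_irreducible _
  choose ϖ hϖ using hϖ
  have hϖ0 : ∀ i, ((ϖ i : O i) : K) ≠ 0 := fun i => by exact_mod_cast (hϖ i).ne_zero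
  obtain ⟨f, hf⟩ := approx O hinj (fun i => fs i + ((ϖ i : O i) : K) ^ (n i))
    (fun i => (O i).valuation (((ϖ i : O i) : K) ^ (n i)))
    (fun i => (Valuation.ne_zero_iff _).2 (zpow_ne_zero _ (hϖ0 i)))
  refine ⟨f, fun i => ⟨ϖ i, hϖ i, ?_⟩⟩
  have h1 : (O i).valuation (f - fs i) = (O i).valuation (((ϖ i : O i) : K) ^ (n i)) := by
    have : f - fs i = (f - (fs i + ((ϖ i : O i) : K) ^ (n i))) + ((ϖ i : O i) : K) ^ (n i) := by
      ring
    rw [this]
    exact Valuation.map_add_eq_of_lt_right _ (hf i)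
  have h2 : (O i).valuation ((f - fs i) / ((ϖ i : O i) : K) ^ (n i)) = 1 := by
    rw [map_div₀, h1, div_self]
    exact (Valuation.ne_zero_iff _).2 (zpow_ne_zero _ (hϖ0 i))
  have hmem : (f - fs i) / ((ϖ i : O i) : K) ^ (n i) ∈ O i :=
    ((O i).valuation_le_one_iff _).1 h2.le
  have hunit : IsUnit (⟨_, hmem⟩ : O i) := ((O i).valuation_eq_one_iff _).2 h2
  refine ⟨hunit.unit, ?_⟩
  rw [IsUnit.unit_spec]
  change f - fs i = (f - fs i) / ((ϖ i : O i) : K) ^ (n i) * _
  rw [div_mul_cancel₀ _ (zpow_ne_zero _ (hϖ0 i))]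

end Groth.Agent.Lib.helper10.WeakApprox
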