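import Mathlib

open TensorProduct

namespace Groth.Agent.Lib.helper10.WeaklyEtaleField

universe u

/-- flatness descends along a faithfully flat map: `R → S → T` with `T` flat over `R` and faithfully
flat over `S` gives `S` flat over `R` -/
theorem flat_of_flat_of_faithfullyFlat (R S T : Type u) [CommRing R] [CommRing S] [CommRing T]
    [Algebra R S] [Algebra S T] [Algebra R T] [IsScalarTower R S T]
    [Module.FaithfullyFlat S T] [Module.Flat R T] : Module.Flat R S := by
  rw [Module.Flat.iff_lTensor_preserves_injective_linearMap]
  intro N P _ _ _ _ f hf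
  show Function.Injective (f.baseChange S)
  rw [← Module.FaithfullyFlat.lTensor_injective_iff_injective S T]
  let eN := AlgebraTensorModule.cancelBaseChange R S T T N
  let eP := AlgebraTensorModule.cancelBaseChange R S T T P
  have key : ∀ z, eP ((f.baseChange S).lTensor T z) = f.lTensor T (eN z) := by
    intro z
    induction z using TensorProduct.induction_on with
    | zero => simp
    | add x y hx hy => simp only [map_add, hx, hy]
    | tmul t y =>
      induction y using TensorProduct.induction_on with
      | zero => simp
      | add x y hx hy => simp only [tmul_add, map_add, hx, hy]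
      | tmul s n => simp [eN, eP]
  have hinj : Function.Injective (f.lTensor T) :=
    Module.Flat.lTensor_preserves_injective_linearMap f hf
  intro z w hzw
  apply eN.injective
  apply hinj
  rw [← key, ← key, hzw]

theorem flat_of_comp_faithfullyFlat {R S T : Type u} [CommRing R] [CommRing S] [CommRing T]
    (f : R →+* S) (g : S →+* T) (hg : g.FaithfullyFlat) (h : (g.comp f).Flat) : f.Flat := by
  algebraize [f, g, g.comp f]
  exact flat_of_flat_of_faithfullyFlat R S T

section Tower

variable {K L' L : Type u} [Field K] [Field L'] [Field L] [Algebra K L'] [Algebra K L]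
  [Algebra L' L] [IsScalarTower K L' L]

theorem flat_lmul'_of_tower (h : (Algebra.TensorProduct.lmul' K (S := L)).Flat) :
    (Algebra.TensorProduct.lmul' K (S := L')).Flat := by
  let i : L' →ₐ[K] L := IsScalarTower.toAlgHom K L' L
  have hi : i.Flat := RingHom.Flat.of_isField (Field.toIsField L') _
  have h1 : (Algebra.TensorProduct.map i i).Flat := RingHom.Flat.tensorProductMap hi hi
  have h2 : ((Algebra.TensorProduct.lmul' K (S := L)).toRingHom.comp
      (Algebra.TensorProduct.map i i).toRingHom).Flat := RingHom.Flat.comp h1 h
  have heq : (Algebra.TensorProduct.lmul' K (S := L)).toRingHom.comp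
      (Algebra.TensorProduct.map i i).toRingHom =
      i.toRingHom.comp (Algebra.TensorProduct.lmul' K (S := L')).toRingHom := by
    have : (Algebra.TensorProduct.lmul' K (S := L)).comp (Algebra.TensorProduct.map i i) =
        i.comp (Algebra.TensorProduct.lmul' K (S := L')) := by
      ext <;> simp
    exact congrArg AlgHom.toRingHom this
  rw [heq] at h2
  refine flat_of_comp_faithfullyFlat _ i.toRingHom ?_ h2
  have : i.toRingHom = algebraMap L' L := rfl
  rw [this, RingHom.faithfullyFlat_algebraMap_iff]
  infer_instance

end Tower

theorem formallyUnramified_of_flat_lmul' (R S : Type u) [CommRing R] [CommRing S] [Algebra R S]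
    (h : (Algebra.TensorProduct.lmul' R (S := S)).Flat) : Algebra.FormallyUnramified R S := by
  have hid : IsIdempotentElem (KaehlerDifferential.ideal R S) := by
    algebraize [(Algebra.TensorProduct.lmul' R (S := S)).toRingHom]
    have hsurj : Function.Surjective (Algebra.ofId (S ⊗[R] S) S) := by
      intro s
      exact ⟨s ⊗ₜ 1, by
        show Algebra.TensorProduct.lmul' R (S := S) (s ⊗ₜ 1) = s
        simp⟩
    let e := Ideal.quotientKerAlgEquivOfSurjective hsurj
    have hker : RingHom.ker (Algebra.ofId (S ⊗[R] S) S) = KaehlerDifferential.ideal R S := rfl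
    have : (RingHom.ker (Algebra.ofId (S ⊗[R] S) S)).Pure :=
      Module.Flat.of_linearEquiv e.toLinearEquiv
    rw [← hker]
    exact Ideal.isIdempotentElem_of_pure _
  have : Subsingleton (KaehlerDifferential.ideal R S).Cotangent :=
    (KaehlerDifferential.ideal R S).cotangent_subsingleton_iff.mpr hid
  exact ⟨this⟩

open scoped IntermediateField.algebraAdjoinAdjoin in
lemma essFiniteType_adjoin_simple {K L : Type u} [Field K] [Field L] [Algebra K L] (x : L) :
    Algebra.EssFiniteType K (IntermediateField.adjoin K ({x} : Set L)) := by
  have : Algebra.FiniteType K (Algebra.adjoin K ({x} : Set L)) :=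
    .adjoin_of_finite (Set.finite_singleton x)
  have : Algebra.EssFiniteType (Algebra.adjoin K ({x} : Set L))
      (IntermediateField.adjoin K ({x} : Set L)) :=
    .of_isLocalization _ (nonZeroDivisors _)
  exact .comp _ (Algebra.adjoin K ({x} : Set L)) _

theorem isSeparable_of_weaklyEtale {K L : Type u} [Field K] [Field L] [Algebra K L]
    [Algebra.WeaklyEtale K L] : Algebra.IsSeparable K L := by
  refine ⟨fun x => ?_⟩
  have hflat : (Algebra.TensorProduct.lmul' K (S := IntermediateField.adjoin K ({x} : Set L))).Flat :=
    flat_lmul'_of_tower (L := L) (Algebra.WeaklyEtale.flat_lmul' K L)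
  have hfu : Algebra.FormallyUnramified K (IntermediateField.adjoin K ({x} : Set L)) :=
    formallyUnramified_of_flat_lmul' K _ hflat
  have hess := essFiniteType_adjoin_simple (K := K) x
  have hsep : Algebra.IsSeparable K (IntermediateField.adjoin K ({x} : Set L)) :=
    Algebra.FormallyUnramified.isSeparable K _
  have hx := Algebra.IsSeparable.isSeparable K
    (⟨x, IntermediateField.mem_adjoin_simple_self K x⟩ : IntermediateField.adjoin K ({x} : Set L))
  unfold IsSeparable at hx ⊢
  rwa [IntermediateField.minpoly_eq] at hx

end Groth.Agent.Lib.helper10.WeaklyEtaleField
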