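import Groth.Agent.Lib.helper10.WeaklyEtaleField
import Mathlib.AlgebraicGeometry.Morphisms.WeaklyEtale
import Mathlib.AlgebraicGeometry.Morphisms.FormallyUnramified

open AlgebraicGeometry CategoryTheory Limits MorphismProperty

namespace Groth.Agent.Lib.helper10.WeaklyEtaleScheme

universe u

set_option backward.isDefEq.respectTransparency.types false in
theorem formallyUnramified_of_weaklyEtale {X Y : Scheme.{u}} (f : X ⟶ Y) [WeaklyEtale f] :
    FormallyUnramified f := by
  wlog hY : ∃ R, Y = Spec R
  · rw [IsZariskiLocalAtTarget.iff_of_openCover (P := @FormallyUnramified) Y.affineCover]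
    intro i
    have inst : WeaklyEtale (pullback.snd f (Y.affineCover.f i)) :=
      MorphismProperty.pullback_snd (P := @WeaklyEtale) _ _ ‹_›
    exact this (pullback.snd _ _) ⟨_, rfl⟩
  obtain ⟨R, rfl⟩ := hY
  wlog hX : ∃ S, X = Spec S generalizing X
  · rw [IsZariskiLocalAtSource.iff_of_openCover (P := @FormallyUnramified) X.affineCover]
    intro i
    have inst : WeaklyEtale (X.affineCover.f i ≫ f) := inferInstance
    exact this (_ ≫ _) ⟨_, rfl⟩
  obtain ⟨S, rfl⟩ := hX
  obtain ⟨φ, rfl : Spec.map φ = f⟩ := Spec.homEquiv.symm.surjective f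
  rw [HasRingHomProperty.Spec_iff (P := @FormallyUnramified)]
  algebraize [φ.hom]
  let F := (Algebra.TensorProduct.lmul' R (S := S)).toRingHom
  have hdiag : Flat (pullback.diagonal (Spec.map φ)) := inferInstance
  have : Flat (Spec.map (CommRingCat.ofHom F)) := by
    rwa [← MorphismProperty.cancel_right_of_respectsIso (P := @Flat) _
      (pullbackSpecIso R S S).inv, ← AlgebraicGeometry.diagonal_SpecMap R S]
  rw [HasRingHomProperty.Spec_iff (P := @Flat)] at this
  exact Groth.Agent.Lib.helper10.WeaklyEtaleField.formallyUnramified_of_flat_lmul' R S this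

theorem etale_of_weaklyEtale {X Y : Scheme.{u}} (f : X ⟶ Y) [WeaklyEtale f]
    [LocallyOfFinitePresentation f] : Etale f := by
  have := formallyUnramified_of_weaklyEtale f
  exact Etale.of_formallyUnramified_of_flat f

end Groth.Agent.Lib.helper10.WeaklyEtaleScheme
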