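import Groth.Agent.Lib.helper10.WeaklyEtaleScheme

open AlgebraicGeometry CategoryTheory Limits MorphismProperty

namespace Groth.Agent.Lib.helper10.WeaklyEtaleScheme

universe u

set_option backward.isDefEq.respectTransparency.types false in
/-- weakly étale for `Spec.map φ` is the ring-level notion -/
theorem weaklyEtale_SpecMap_iff {R S : CommRingCat.{u}} (φ : R ⟶ S) :
    WeaklyEtale (Spec.map φ) ↔
      (letI := φ.hom.toAlgebra
       Algebra.WeaklyEtale R S) := by
  algebraize [φ.hom]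
  let F := (Algebra.TensorProduct.lmul' R (S := S)).toRingHom
  have hdiag : Flat (pullback.diagonal (Spec.map φ)) ↔ F.Flat := by
    rw [show φ = CommRingCat.ofHom (algebraMap R S) from rfl, AlgebraicGeometry.diagonal_SpecMap R S,
      MorphismProperty.cancel_right_of_respectsIso (P := @Flat),
      HasRingHomProperty.Spec_iff (P := @Flat)]
    rfl
  have hflat : Flat (Spec.map φ) ↔ φ.hom.Flat := HasRingHomProperty.Spec_iff (P := @Flat)
  constructor
  · intro h
    exact ⟨hflat.mp h.flat, hdiag.mp h.flat_diagonal⟩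
  · intro h
    exact ⟨hflat.mpr h.flat, hdiag.mpr (Algebra.WeaklyEtale.flat_lmul' R S)⟩

set_option backward.isDefEq.respectTransparency.types false in
theorem weaklyEtale_iff_forall_affine {X S : Scheme.{u}} (f : X ⟶ S) :
    WeaklyEtale f ↔ ∀ (U : X.Opens) (V : S.Opens) (_ : IsAffineOpen U) (_ : IsAffineOpen V)
      (hUV : U ≤ f ⁻¹ᵁ V),
      (letI := (f.appLE V U hUV).hom.toAlgebra
       Algebra.WeaklyEtale Γ(S, V) Γ(X, U)) := by
  constructor
  · intro hf U V hU hV hUV
    rw [← weaklyEtale_SpecMap_iff]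
    have h1 : WeaklyEtale (Spec.map (f.appLE V U hUV) ≫ hV.fromSpec) := by
      rw [IsAffineOpen.SpecMap_appLE_fromSpec f hV hU hUV]
      infer_instance
    exact WeaklyEtale.of_comp _ hV.fromSpec
  · intro h
    let ι := {p : X.Opens × S.Opens // IsAffineOpen p.1 ∧ IsAffineOpen p.2 ∧ p.1 ≤ f ⁻¹ᵁ p.2}
    apply IsZariskiLocalAtSource.of_iSup_eq_top (P := @WeaklyEtale) (fun p : ι => p.1.1)
    · rw [eq_top_iff]
      rintro x -
      obtain ⟨V, hV, hxV, -⟩ := exists_isAffineOpen_mem_and_subset (x := f x) (U := ⊤) trivial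
      obtain ⟨U, hU, hxU, hUV⟩ := exists_isAffineOpen_mem_and_subset (x := x) (U := f ⁻¹ᵁ V) hxV
      simp only [TopologicalSpace.Opens.mem_iSup]
      exact ⟨⟨(U, V), hU, hV, hUV⟩, hxU⟩
    · rintro ⟨⟨U, V⟩, hU, hV, hUV⟩
      have h0 := h U V hU hV hUV
      rw [← weaklyEtale_SpecMap_iff] at h0
      have h1 : U.ι ≫ f = hU.isoSpec.hom ≫ Spec.map (f.appLE V U hUV) ≫ hV.fromSpec := by
        rw [IsAffineOpen.SpecMap_appLE_fromSpec f hV hU hUV, ← Category.assoc, hU.isoSpec_hom_fromSpec]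
      show WeaklyEtale (U.ι ≫ f)
      rw [h1]
      infer_instance

end Groth.Agent.Lib.helper10.WeaklyEtaleScheme
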