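import Groth.Agent.Lib.helper10.WeaklyEtaleScheme2
import Groth.Agent.S7128

open AlgebraicGeometry CategoryTheory Limits MorphismProperty

namespace Groth.Agent.Lib.helper10.WeaklyEtaleScheme

universe u

set_option backward.isDefEq.respectTransparency.types false in
theorem isReduced_of_weaklyEtale {X Y : Scheme.{u}} (f : X ⟶ Y) [hf : WeaklyEtale f]
    [IsReduced Y] : IsReduced X := by
  let ι := {p : X.Opens × Y.Opens // IsAffineOpen p.1 ∧ IsAffineOpen p.2 ∧ p.1 ≤ f ⁻¹ᵁ p.2}
  have hcover : TopologicalSpace.IsOpenCover (fun p : ι => p.1.1) := by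
    show iSup _ = ⊤
    rw [eq_top_iff]
    rintro x -
    obtain ⟨V, hV, hxV, -⟩ := exists_isAffineOpen_mem_and_subset (x := f x) (U := ⊤) trivial
    obtain ⟨U, hU, hxU, hUV⟩ := exists_isAffineOpen_mem_and_subset (x := x) (U := f ⁻¹ᵁ V) hxV
    simp only [TopologicalSpace.Opens.mem_iSup]
    exact ⟨⟨(U, V), hU, hV, hUV⟩, hxU⟩
  let 𝒰 := X.openCoverOfIsOpenCover (fun p : ι => p.1.1) hcover
  have : ∀ i, IsReduced (𝒰.X i) := by
    rintro ⟨⟨U, V⟩, hU, hV, hUV⟩
    show IsReduced U.toScheme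
    have hw := (weaklyEtale_iff_forall_affine f).mp hf U V hU hV hUV
    letI := (f.appLE V U hUV).hom.toAlgebra
    have hred : _root_.IsReduced Γ(X, U) := Groth.Agent.S7128.result Γ(Y, V) Γ(X, U)
    have : IsAffine U.toScheme := hU
    have : _root_.IsReduced Γ(U.toScheme, ⊤) :=
      isReduced_of_injective U.topIso.hom.hom
        ((ConcreteCategory.bijective_of_isIso U.topIso.hom).injective)
    exact isReduced_of_isAffine_isReduced _
  exact IsReduced.of_openCover X 𝒰

end Groth.Agent.Lib.helper10.WeaklyEtaleScheme
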