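import Groth.Agent.Lib.helper10.WeaklyEtaleScheme2
import Mathlib.AlgebraicGeometry.Stalk

open AlgebraicGeometry CategoryTheory Limits MorphismProperty

namespace Groth.Agent.Lib.helper10.WeaklyEtaleScheme

universe u

set_option backward.isDefEq.respectTransparency.types false in
instance flat_fromSpecStalk (X : Scheme.{u}) (x : X) : Flat (X.fromSpecStalk x) := by
  obtain ⟨U, hU, hxU, -⟩ := exists_isAffineOpen_mem_and_subset (x := x) (U := ⊤) trivial
  rw [← hU.fromSpecStalk_eq_fromSpecStalk hxU, IsAffineOpen.fromSpecStalk]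
  have : Flat (Spec.map (X.presheaf.germ U x hxU)) := by
    rw [Flat.SpecMap_iff]
    let _ : Algebra Γ(X, U) (X.presheaf.stalk x) :=
      TopCat.Presheaf.algebra_section_stalk X.presheaf ⟨x, hxU⟩
    have hloc : IsLocalization.AtPrime (X.presheaf.stalk x) (hU.primeIdealOf ⟨x, hxU⟩).asIdeal :=
      hU.isLocalization_stalk ⟨x, hxU⟩
    show Module.Flat Γ(X, U) (X.presheaf.stalk x)
    exact IsLocalization.flat _ (hU.primeIdealOf ⟨x, hxU⟩).asIdeal.primeCompl
  infer_instance

instance weaklyEtale_fromSpecStalk (X : Scheme.{u}) (x : X) :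
    WeaklyEtale (X.fromSpecStalk x) where

lemma flat_stalkMap_of_eq {X Y : Scheme.{u}} (g : X ⟶ Y) (x x' : X) (h : x = x')
    (hx : (g.stalkMap x).hom.Flat) : (g.stalkMap x').hom.Flat := by
  subst h
  exact hx

set_option backward.isDefEq.respectTransparency.types false in
theorem weaklyEtale_iff_stalk {X Y : Scheme.{u}} (f : X ⟶ Y) :
    WeaklyEtale f ↔ ∀ x : X, (f.stalkMap x).hom.Flat ∧
      (letI := (f.stalkMap x).hom.toAlgebra
       (Algebra.TensorProduct.lmul' (S := ↑(X.presheaf.stalk x))
        (↑(Y.presheaf.stalk (f x)))).toRingHom.Flat) := by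
  constructor
  · intro hf x
    have h1 : WeaklyEtale (Spec.map (f.stalkMap x) ≫ Y.fromSpecStalk (f x)) := by
      rw [Scheme.SpecMap_stalkMap_fromSpecStalk]
      infer_instance
    have h2 : WeaklyEtale (Spec.map (f.stalkMap x)) := WeaklyEtale.of_comp _ (Y.fromSpecStalk (f x))
    rw [weaklyEtale_SpecMap_iff] at h2
    letI := (f.stalkMap x).hom.toAlgebra
    exact ⟨h2.flat, Algebra.WeaklyEtale.flat_lmul' _ _⟩
  · intro h
    have hg : ∀ x, WeaklyEtale (Spec.map (f.stalkMap x)) := by
      intro x
      rw [weaklyEtale_SpecMap_iff]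
      letI := (f.stalkMap x).hom.toAlgebra
      exact ⟨(h x).1, (h x).2⟩
    have hflat : Flat f := Flat.of_stalkMap f (fun x => (h x).1)
    refine ⟨hflat, ?_⟩
    apply Flat.of_stalkMap
    intro z
    let j := X.fromSpecStalk z
    let c : ↥(Spec (X.presheaf.stalk z)) := IsLocalRing.closedPoint (X.presheaf.stalk z)
    have hjc : j c = z := Scheme.fromSpecStalk_closedPoint
    apply flat_stalkMap_of_eq (pullback.diagonal f) (j c) z hjc
    -- `j ≫ f` is weakly étale
    have hjf : WeaklyEtale (j ≫ f) := by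
      have : j ≫ f = Spec.map (f.stalkMap z) ≫ Y.fromSpecStalk (f z) :=
        (Scheme.SpecMap_stalkMap_fromSpecStalk f).symm
      rw [this]
      have := hg z
      infer_instance
    have hcomp : Flat (j ≫ pullback.diagonal f) := by
      rw [pullback.comp_diagonal]
      have hmap : Flat (pullback.map (j ≫ f) (j ≫ f) f f j j (𝟙 Y) (by simp) (by simp)) :=
        MorphismProperty.pullbackMap (P := @Flat) (inferInstance : Flat j) (inferInstance : Flat j)
          rfl rfl
      infer_instance
    have hst := Flat.stalkMap (j ≫ pullback.diagonal f) c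
    rw [Scheme.Hom.stalkMap_comp] at hst
    have hff : (j.stalkMap c).hom.FaithfullyFlat := by
      algebraize [(j.stalkMap c).hom]
      exact @Module.FaithfullyFlat.of_flat_of_isLocalHom _ _ _ _ _ _ _
        (Flat.stalkMap j c) (j.toLRSHom.prop c)
    exact Groth.Agent.Lib.helper10.WeaklyEtaleField.flat_of_comp_faithfullyFlat _ _ hff hst

end Groth.Agent.Lib.helper10.WeaklyEtaleScheme
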