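import Groth.Agent.Lib.helper10.WeaklyEtaleScheme2
import Groth.Prelude.Def_Flat
import Mathlib.AlgebraicGeometry.Morphisms.FlatMono

open AlgebraicGeometry CategoryTheory Limits MorphismProperty

namespace Groth.Agent.Lib.helper10.WeaklyEtaleScheme

universe u

lemma quasiCompact_of_isHomeomorph {X Y : Scheme.{u}} (f : X ⟶ Y) (h : IsHomeomorph f.base) :
    QuasiCompact f :=
  ⟨fun _ _ hc => h.homeomorph.isCompact_preimage.mpr hc⟩

lemma surjective_of_isHomeomorph {X Y : Scheme.{u}} (f : X ⟶ Y) (h : IsHomeomorph f.base) :
    Surjective f :=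
  ⟨h.surjective⟩

theorem isIso_of_weaklyEtale_of_isUnivHomeo {X Y : Scheme.{u}} (f : X ⟶ Y) [WeaklyEtale f]
    (h : FlatMor.IsUnivHomeo f) : IsIso f := by
  have hf : IsHomeomorph f.base := MorphismProperty.universally_le _ _ h
  have hfst : IsHomeomorph (pullback.fst f f).base :=
    h (pullback.snd f f) f (pullback.fst f f) (IsPullback.of_hasPullback f f)
  have hΔfst : ∀ x : X, pullback.fst f f (pullback.diagonal f x) = x := by
    intro x
    rw [← Scheme.Hom.comp_apply, pullback.diagonal_fst]
    rfl
  have hΔ : ∀ w, pullback.diagonal f (pullback.fst f f w) = w := by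
    intro w
    apply hfst.injective
    exact hΔfst _
  have : Surjective (pullback.diagonal f) := ⟨fun w => ⟨pullback.fst f f w, hΔ w⟩⟩
  have : QuasiCompact (pullback.diagonal f) := by
    refine ⟨fun U _ hc => ?_⟩
    have hpre : (pullback.diagonal f) ⁻¹' U = (pullback.fst f f) '' U := by
      ext x
      constructor
      · intro hx
        exact ⟨pullback.diagonal f x, hx, hΔfst x⟩
      · rintro ⟨w, hw, rfl⟩
        show pullback.diagonal f (pullback.fst f f w) ∈ U
        rw [hΔ w]
        exact hw
    rw [hpre]
    exact hc.image (pullback.fst f f).continuous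
  have hiso : IsIso (pullback.diagonal f) := Flat.isIso_of_surjective_of_mono _
  have hmono : Mono f := (pullback.isIso_diagonal_iff (f := f)).mp hiso
  have := quasiCompact_of_isHomeomorph _ hf
  have := surjective_of_isHomeomorph _ hf
  exact Flat.isIso_of_surjective_of_mono f

end Groth.Agent.Lib.helper10.WeaklyEtaleScheme
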