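import Mathlib

set_option autoImplicit false

/-!
# S19178: the projective Weierstrass cubic is irreducible.
-/

namespace Groth.Agent.Lib.helper10.WeierIrr

open MvPolynomial

variable {k : Type*} [Field k]

/-- a degree bound for specialisations into `k[t]` -/
lemma natDegree_aeval_le {σ : Type*} (g : σ → Polynomial k) (hg : ∀ i, (g i).natDegree ≤ 1)
    (p : MvPolynomial σ k) : (aeval g p).natDegree ≤ p.totalDegree := by
  classical
  rw [p.as_sum, map_sum]
  refine (Polynomial.natDegree_sum_le_of_forall_le _ _ fun s hs => ?_).trans le_rfl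
  rw [aeval_monomial]
  refine (Polynomial.natDegree_mul_le).trans ?_
  have h1 : ((algebraMap k (Polynomial k)) (p.coeff s)).natDegree = 0 := Polynomial.natDegree_C _
  rw [h1, zero_add, ← p.as_sum]
  refine le_trans ?_ (le_totalDegree hs)
  unfold Finsupp.prod Finsupp.sum
  refine (Polynomial.natDegree_prod_le _ _).trans (Finset.sum_le_sum fun i _ => ?_)
  refine (Polynomial.natDegree_pow_le).trans ?_
  calc s i * (g i).natDegree ≤ s i * 1 := Nat.mul_le_mul_left _ (hg i)
    _ = s i := mul_one _

/-- the ring isomorphism `k[X₀,X₁] ≃ k[X][Y]`, `X₀ ↦ Y`, `X₁ ↦ X` -/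
noncomputable def Θ : MvPolynomial (Fin 2) k ≃+* Polynomial (Polynomial k) :=
  RingEquiv.ofRingHom
    ((aeval (![Polynomial.X, Polynomial.C Polynomial.X] : Fin 2 → Polynomial (Polynomial k)) :
      MvPolynomial (Fin 2) k →ₐ[k] Polynomial (Polynomial k)) : MvPolynomial (Fin 2) k →+* _)
    (Polynomial.eval₂RingHom (Polynomial.eval₂RingHom (MvPolynomial.C : k →+* _) (X 1)) (X 0) :
      Polynomial (Polynomial k) →+* MvPolynomial (Fin 2) k)
    (by
      apply Polynomial.ringHom_ext
      · intro a
        simp only [RingHom.coe_comp, Function.comp_apply, Polynomial.coe_eval₂RingHom,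
          Polynomial.eval₂_C, RingHom.id_apply]
        induction a using Polynomial.induction_on' with
        | add p q hp hq => simp only [Polynomial.eval₂_add, map_add, hp, hq]
        | monomial n a =>
          simp [Polynomial.eval₂_monomial, ← Polynomial.C_mul_X_pow_eq_monomial]
      · simp)
    (by
      apply MvPolynomial.ringHom_ext
      · intro a
        simp
      · intro i
        fin_cases i <;> simp)

lemma Θ_X0 : Θ (k := k) (X 0) = Polynomial.X := by simp [Θ]
lemma Θ_X1 : Θ (k := k) (X 1) = Polynomial.C Polynomial.X := by simp [Θ]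
lemma Θ_C (a : k) : Θ (k := k) (C a) = Polynomial.C (Polynomial.C a) := by simp [Θ]

variable (W : WeierstrassCurve k)

/-- dehomogenisation `Z ↦ 1`, with `X ↦ X₁`, `Y ↦ X₀` -/
noncomputable def φ : MvPolynomial (Fin 3) k →ₐ[k] MvPolynomial (Fin 2) k :=
  aeval (![X 1, X 0, 1] : Fin 3 → MvPolynomial (Fin 2) k)

/-- the specialisation `X ↦ t, Y ↦ 0, Z ↦ 1` -/
noncomputable def ψ : MvPolynomial (Fin 3) k →ₐ[k] Polynomial k :=
  aeval (![Polynomial.X, 0, 1] : Fin 3 → Polynomial k)

noncomputable def ev : MvPolynomial (Fin 2) k →ₐ[k] Polynomial k :=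
  aeval (![0, Polynomial.X] : Fin 2 → Polynomial k)

lemma ψ_eq : (ψ : MvPolynomial (Fin 3) k →ₐ[k] Polynomial k) = ev.comp φ := by
  apply MvPolynomial.algHom_ext
  intro i
  fin_cases i <;> simp [ψ, ev, φ]

lemma Θ_φ_polynomial :
    Θ (φ (WeierstrassCurve.Projective.polynomial W)) = W.toAffine.polynomial := by
  rw [WeierstrassCurve.Projective.polynomial, WeierstrassCurve.Affine.polynomial]
  simp only [φ, map_sub, map_add, map_mul, map_pow, aeval_X, aeval_C,
    Matrix.cons_val_zero, Matrix.cons_val_one, Matrix.cons_val_two, Matrix.head_cons,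
    Matrix.tail_cons, map_one, algebraMap_eq, Θ_X0, Θ_X1, Θ_C]
  simp only [WeierstrassCurve.toAffine, map_add, map_mul, map_pow, Polynomial.C_add]
  ring

lemma ψ_polynomial :
    ψ (WeierstrassCurve.Projective.polynomial W) =
      -(Cubic.toPoly ⟨1, W.a₂, W.a₄, W.a₆⟩) := by
  rw [WeierstrassCurve.Projective.polynomial, Cubic.toPoly]
  simp only [ψ, map_sub, map_add, map_mul, map_pow, aeval_X, aeval_C,
    Matrix.cons_val_zero, Matrix.cons_val_one, Matrix.cons_val_two, Matrix.head_cons,
    Matrix.tail_cons, algebraMap_eq]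
  simp

lemma natDegree_ψ_polynomial :
    (ψ (WeierstrassCurve.Projective.polynomial W)).natDegree = 3 := by
  rw [ψ_polynomial, Polynomial.natDegree_neg]
  exact Cubic.natDegree_of_a_ne_zero one_ne_zero

lemma isHomogeneous_polynomial :
    (WeierstrassCurve.Projective.polynomial W).IsHomogeneous 3 := by
  rw [WeierstrassCurve.Projective.polynomial]
  have hX : ∀ i : Fin 3, (X i : MvPolynomial (Fin 3) k).IsHomogeneous 1 := fun i =>
    isHomogeneous_X k i
  have hC : ∀ a : k, (C a : MvPolynomial (Fin 3) k).IsHomogeneous 0 := fun a =>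
    isHomogeneous_C _ a
  refine IsHomogeneous.sub (IsHomogeneous.add (IsHomogeneous.add ?_ ?_) ?_)
    (IsHomogeneous.add (IsHomogeneous.add (IsHomogeneous.add ?_ ?_) ?_) ?_)
  · exact ((hX 1).pow 2).mul (hX 2)
  · exact (((hC _).mul (hX 0)).mul (hX 1)).mul (hX 2)
  · exact ((hC _).mul (hX 1)).mul ((hX 2).pow 2)
  · exact (hX 0).pow 3
  · exact ((hC _).mul ((hX 0).pow 2)).mul (hX 2)
  · exact ((hC _).mul (hX 0)).mul ((hX 2).pow 2)
  · exact (hC _).mul ((hX 2).pow 3)

lemma natDegree_ψ_le (p : MvPolynomial (Fin 3) k) : (ψ p).natDegree ≤ p.totalDegree := by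
  apply natDegree_aeval_le
  intro i
  fin_cases i
  · simp
  · simp
  · simp

theorem main : Irreducible (WeierstrassCurve.Projective.polynomial W) := by
  set F := WeierstrassCurve.Projective.polynomial W with hF
  have hirr : Irreducible (φ F) := by
    rw [← MulEquiv.irreducible_iff (Θ (k := k)), Θ_φ_polynomial]
    exact WeierstrassCurve.Affine.irreducible_polynomial
  have hFne : F ≠ 0 := by
    intro h0
    have := natDegree_ψ_polynomial W
    rw [← hF, h0, map_zero, Polynomial.natDegree_zero] at this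
    omega
  have hFdeg : F.totalDegree ≤ 3 := (isHomogeneous_polynomial W).totalDegree_le
  -- key lemma
  have key : ∀ G H : MvPolynomial (Fin 3) k, F = G * H → IsUnit (φ G) → IsUnit G := by
    intro G H hGH hu
    obtain ⟨c, hc, hGc⟩ := (MvPolynomial.isUnit_iff_eq_C_of_isReduced).1 hu
    have hGne : G ≠ 0 := fun h => hFne (by rw [hGH, h, zero_mul])
    have hHne : H ≠ 0 := fun h => hFne (by rw [hGH, h, mul_zero])
    have hψG : ψ G = Polynomial.C c := by
      rw [ψ_eq, AlgHom.comp_apply, hGc]
      simp [ev]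
    have h1 : (ψ H).natDegree = 3 := by
      have := natDegree_ψ_polynomial W
      rw [← hF, hGH, map_mul, hψG, Polynomial.natDegree_C_mul hc.ne_zero] at this
      exact this
    have h2 : 3 ≤ H.totalDegree := by
      have := natDegree_ψ_le H
      omega
    have h3 : F.totalDegree = G.totalDegree + H.totalDegree := by
      rw [hGH]
      exact totalDegree_mul_of_isDomain hGne hHne
    have h4 : G.totalDegree = 0 := by omega
    rw [totalDegree_eq_zero_iff_eq_C] at h4
    rw [h4]
    refine (isUnit_iff_ne_zero.2 fun h0 => hGne ?_).map C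
    rw [h4, h0, map_zero]
  refine irreducible_iff.2 ⟨fun hu => ?_, fun G H hGH => ?_⟩
  · obtain ⟨c, hc, hFc⟩ := (MvPolynomial.isUnit_iff_eq_C_of_isReduced).1 hu
    have := natDegree_ψ_polynomial W
    rw [← hF, hFc] at this
    simp [ψ] at this
  · have h1 : φ F = φ G * φ H := by rw [hGH, map_mul]
    rcases hirr.isUnit_or_isUnit h1 with h | h
    · exact Or.inl (key G H hGH h)
    · exact Or.inr (key H G (by rw [hGH, mul_comm]) h)

end Groth.Agent.Lib.helper10.WeierIrr
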