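import Mathlib
import Groth.Agent.S2060
import Groth.Agent.Lib.Helper5.RegSmoothPerfect

/-!
# Regularity of the affine Weierstrass scheme over a discrete valuation ring
-/

set_option autoImplicit false
open Polynomial
open scoped Polynomial.Bivariate
namespace Groth.Agent.Lib.helper10.WeierReg
universe u
variable {R : Type u} [CommRing R] (W : WeierstrassCurve.Affine R)

open WeierstrassCurve.Affine

/-- class of x -/
noncomputable def xb : W.CoordinateRing := CoordinateRing.mk W (C X)
/-- class of y -/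
noncomputable def yb : W.CoordinateRing := CoordinateRing.mk W Y

theorem algebraMap_eq (r : R) : algebraMap R W.CoordinateRing r = CoordinateRing.mk W (C (C r)) := rfl

theorem polynomial_eq : W.polynomial = Y ^ 2 + C (C W.a₁) * C X * Y + C (C W.a₃) * Y -
    (C X ^ 3 + C (C W.a₂) * C X ^ 2 + C (C W.a₄) * C X + C (C W.a₆)) := by
  rw [WeierstrassCurve.Affine.polynomial]
  simp only [map_add, map_mul, map_pow]
  ring

theorem equation_xb_yb :
    (yb W) ^ 2 + algebraMap R _ W.a₁ * xb W * yb W + algebraMap R _ W.a₃ * yb W -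
      ((xb W) ^ 3 + algebraMap R _ W.a₂ * (xb W) ^ 2 + algebraMap R _ W.a₄ * xb W +
        algebraMap R _ W.a₆) = 0 := by
  have h : CoordinateRing.mk W (Y ^ 2 + C (C W.a₁) * C X * Y + C (C W.a₃) * Y -
      (C X ^ 3 + C (C W.a₂) * C X ^ 2 + C (C W.a₄) * C X + C (C W.a₆))) = 0 := by
    rw [← polynomial_eq W]
    exact AdjoinRoot.mk_self
  simp only [map_add, map_sub, map_mul, map_pow] at h
  exact h

variable {B : Type*} [CommRing B] [Algebra R B]

/-- the equation in an `R`-algebra -/
def Eqn (x y : B) : Prop :=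
  y ^ 2 + algebraMap R B W.a₁ * x * y + algebraMap R B W.a₃ * y -
    (x ^ 3 + algebraMap R B W.a₂ * x ^ 2 + algebraMap R B W.a₄ * x + algebraMap R B W.a₆) = 0

theorem eval₂_polynomial (x y : B) :
    W.polynomial.eval₂ (Polynomial.eval₂RingHom (algebraMap R B) x) y =
      y ^ 2 + algebraMap R B W.a₁ * x * y + algebraMap R B W.a₃ * y -
        (x ^ 3 + algebraMap R B W.a₂ * x ^ 2 + algebraMap R B W.a₄ * x + algebraMap R B W.a₆) := by
  rw [polynomial_eq]
  simp only [Polynomial.eval₂_add, Polynomial.eval₂_sub, Polynomial.eval₂_mul,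
    Polynomial.eval₂_pow, Polynomial.eval₂_C, Polynomial.eval₂_X,
    Polynomial.coe_eval₂RingHom]

/-- the ring map out of the coordinate ring given by a point -/
noncomputable def liftRingHom (x y : B) (h : Eqn W x y) : W.CoordinateRing →+* B :=
  AdjoinRoot.lift (Polynomial.eval₂RingHom (algebraMap R B) x) y
    ((eval₂_polynomial W x y).trans h)

theorem liftRingHom_mk (x y : B) (h : Eqn W x y) (p : R[X][Y]) :
    liftRingHom W x y h (CoordinateRing.mk W p) =
      p.eval₂ (Polynomial.eval₂RingHom (algebraMap R B) x) y :=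
  AdjoinRoot.lift_mk _ _

/-- the `R`-algebra map out of the coordinate ring given by a point -/
noncomputable def lift (x y : B) (h : Eqn W x y) : W.CoordinateRing →ₐ[R] B :=
  { liftRingHom W x y h with
    commutes' := fun r => by
      show liftRingHom W x y h (CoordinateRing.mk W (C (C r))) = _
      rw [liftRingHom_mk, Polynomial.eval₂_C, Polynomial.coe_eval₂RingHom, Polynomial.eval₂_C] }

theorem lift_xb (x y : B) (h : Eqn W x y) : lift W x y h (xb W) = x := by
  show liftRingHom W x y h (CoordinateRing.mk W (C X)) = _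
  rw [liftRingHom_mk, Polynomial.eval₂_C, Polynomial.coe_eval₂RingHom, Polynomial.eval₂_X]

theorem lift_yb (x y : B) (h : Eqn W x y) : lift W x y h (yb W) = y := by
  show liftRingHom W x y h (CoordinateRing.mk W Y) = _
  rw [liftRingHom_mk, Polynomial.eval₂_X]

theorem eqn_map (g : W.CoordinateRing →ₐ[R] B) : Eqn W (g (xb W)) (g (yb W)) := by
  have h := congrArg g (equation_xb_yb W)
  simpa only [Eqn, map_add, map_sub, map_mul, map_pow, map_zero, AlgHom.commutes] using h

theorem algHom_ext {g₁ g₂ : W.CoordinateRing →ₐ[R] B} (hx : g₁ (xb W) = g₂ (xb W))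
    (hy : g₁ (yb W) = g₂ (yb W)) : g₁ = g₂ := by
  have h1 : (g₁ : W.CoordinateRing →+* B).comp (AdjoinRoot.of W.polynomial) =
      (g₂ : W.CoordinateRing →+* B).comp (AdjoinRoot.of W.polynomial) := by
    refine Polynomial.ringHom_ext (fun r => ?_) ?_
    · show g₁ (algebraMap R _ r) = g₂ (algebraMap R _ r)
      rw [AlgHom.commutes, AlgHom.commutes]
    · exact hx
  have h2 : (g₁ : W.CoordinateRing →+* B) = (g₂ : W.CoordinateRing →+* B) :=
    AdjoinRoot.ringHom_ext h1 hy
  exact AlgHom.coe_ringHom_injective h2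


/-- the partial derivative in `x` at the generic point -/
noncomputable def FX : W.CoordinateRing :=
  algebraMap R _ W.a₁ * yb W - (3 * (xb W) ^ 2 + 2 * algebraMap R _ W.a₂ * xb W + algebraMap R _ W.a₄)

/-- the partial derivative in `y` at the generic point -/
noncomputable def FY : W.CoordinateRing :=
  2 * yb W + algebraMap R _ W.a₁ * xb W + algebraMap R _ W.a₃

instance : Algebra.FiniteType R W.CoordinateRing := by
  haveI : Module.Finite R[X] W.CoordinateRing := Module.Finite.of_basis (CoordinateRing.basis W)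
  haveI : Algebra.FiniteType R[X] W.CoordinateRing := inferInstance
  exact Algebra.FiniteType.trans (S := R[X]) inferInstance inferInstance

theorem isSmoothAt_of_partial [IsNoetherianRing R] (P : Ideal W.CoordinateRing) [P.IsPrime]
    (h : FX W ∉ P ∨ FY W ∉ P) : Algebra.IsSmoothAt R P := by
  refine (Groth.Agent.S2060.result (R := R) P).mpr ?_
  intro B' B _ _ _ _ _ _ _ _ π hπ ht g hg
  obtain ⟨t, hker, hmt⟩ := ht
  have hπt : π t = 0 := by
    have : t ∈ RingHom.ker π.toRingHom := by
      rw [hker]; exact Ideal.subset_span rfl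
    exact this
  have htm : t ∈ IsLocalRing.maximalIdeal B' := by
    rw [IsLocalRing.mem_maximalIdeal, mem_nonunits_iff]
    intro hu
    have := hu.map π
    rw [hπt] at this
    exact not_isUnit_zero this
  have htt : t * t = 0 := hmt t htm
  obtain ⟨x', hx'⟩ := hπ (g (xb W))
  obtain ⟨y', hy'⟩ := hπ (g (yb W))
  have hg0 := eqn_map W g
  have hc : y' ^ 2 + algebraMap R B' W.a₁ * x' * y' + algebraMap R B' W.a₃ * y' -
      (x' ^ 3 + algebraMap R B' W.a₂ * x' ^ 2 + algebraMap R B' W.a₄ * x' + algebraMap R B' W.a₆) ∈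
      RingHom.ker π.toRingHom := by
    show π _ = 0
    simp only [map_add, map_sub, map_mul, map_pow, AlgHom.commutes, hx', hy']
    exact hg0
  rw [hker, Ideal.mem_span_singleton'] at hc
  obtain ⟨s, hs⟩ := hc
  have hunit : ∀ z : W.CoordinateRing, z ∉ P → ∀ z' : B', π z' = g z → IsUnit z' := by
    intro z hz z' hz'
    have h1 : IsUnit (g z) := by
      by_contra hu
      have : g z ∈ IsLocalRing.maximalIdeal B := (IsLocalRing.mem_maximalIdeal _).mpr hu
      have h2 : z ∈ (IsLocalRing.maximalIdeal B).comap g := this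
      rw [hg] at h2
      exact hz h2
    haveI : IsLocalHom (π : B' →+* B) := IsLocalHom.of_surjective _ hπ
    rw [← hz'] at h1
    exact IsUnit.of_map (π : B' →+* B) z' h1
  rcases h with h | h
  · have hu := hunit (FX W) h (algebraMap R B' W.a₁ * y' -
      (3 * x' ^ 2 + 2 * algebraMap R B' W.a₂ * x' + algebraMap R B' W.a₄)) (by
        simp only [FX, map_add, map_sub, map_mul, map_pow, AlgHom.commutes, hx', hy', map_ofNat])
    obtain ⟨v, hv⟩ := hu.exists_right_inv
    have hE : Eqn W (x' - s * v * t) y' := by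
      unfold Eqn
      linear_combination (exp := 1) hs.symm - s * t * hv +
        ((s * v) ^ 2 * (-3 * x' - algebraMap R B' W.a₂) + (s * v) ^ 3 * t) * htt
    refine ⟨lift W _ _ hE, ?_⟩
    refine algHom_ext W ?_ ?_
    · rw [AlgHom.comp_apply, lift_xb, map_sub, map_mul, hπt, mul_zero, sub_zero, hx']
    · rw [AlgHom.comp_apply, lift_yb, hy']
  · have hu := hunit (FY W) h (2 * y' + algebraMap R B' W.a₁ * x' + algebraMap R B' W.a₃) (by
        simp only [FY, map_add, map_mul, AlgHom.commutes, hx', hy', map_ofNat])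
    obtain ⟨v, hv⟩ := hu.exists_right_inv
    have hE : Eqn W x' (y' - s * v * t) := by
      unfold Eqn
      linear_combination (exp := 1) hs.symm - s * t * hv + (s * v) ^ 2 * htt
    refine ⟨lift W _ _ hE, ?_⟩
    refine algHom_ext W ?_ ?_
    · rw [AlgHom.comp_apply, lift_xb, hx']
    · rw [AlgHom.comp_apply, lift_yb, map_sub, map_mul, hπt, mul_zero, sub_zero, hy']


section DVR

variable [IsDomain R] [IsDiscreteValuationRing R]

theorem maximalIdeal_le_of_partial (hΔ : W.Δ ≠ 0) (P : Ideal W.CoordinateRing) [P.IsPrime]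
    (hX : FX W ∈ P) (hY : FY W ∈ P) :
    ∀ r ∈ IsLocalRing.maximalIdeal R, algebraMap R W.CoordinateRing r ∈ P := by
  by_contra hcon
  push Not at hcon
  obtain ⟨r, hr, hrP⟩ := hcon
  have hp0 : P.comap (algebraMap R W.CoordinateRing) = ⊥ := by
    by_contra hne
    have hmax : (P.comap (algebraMap R W.CoordinateRing)).IsMaximal :=
      Ring.DimensionLEOne.maximalOfPrime hne inferInstance
    have := IsLocalRing.eq_maximalIdeal hmax
    rw [← this] at hr
    exact hrP hr
  have hΔP : algebraMap R W.CoordinateRing W.Δ ∉ P := by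
    intro hmem
    have : W.Δ ∈ P.comap (algebraMap R W.CoordinateRing) := hmem
    rw [hp0] at this
    exact hΔ this
  let φ : R →+* (W.CoordinateRing ⧸ P) := (Ideal.Quotient.mk P).comp (algebraMap R W.CoordinateRing)
  have hΔ' : (W.map φ).Δ ≠ 0 := by
    rw [WeierstrassCurve.map_Δ]
    intro h0
    exact hΔP (Ideal.Quotient.eq_zero_iff_mem.mp h0)
  have heq : (W.map φ).toAffine.Equation (Ideal.Quotient.mk P (xb W)) (Ideal.Quotient.mk P (yb W)) := by
    rw [WeierstrassCurve.Affine.equation_iff']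
    have h := congrArg (Ideal.Quotient.mk P) (equation_xb_yb W)
    simp only [map_add, map_sub, map_mul, map_pow, map_zero] at h
    exact h
  have hns := (WeierstrassCurve.Affine.equation_iff_nonsingular_of_Δ_ne_zero hΔ').mp heq
  rw [WeierstrassCurve.Affine.nonsingular_iff'] at hns
  rcases hns.2 with h | h
  · apply h
    have h0 := Ideal.Quotient.eq_zero_iff_mem.mpr hX
    simp only [FX, map_add, map_sub, map_mul, map_pow, map_ofNat] at h0
    exact h0
  · apply h
    have h0 := Ideal.Quotient.eq_zero_iff_mem.mpr hY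
    simp only [FY, map_add, map_mul, map_ofNat] at h0
    exact h0


omit [IsDomain R] [IsDiscreteValuationRing R] in
theorem xb_yb_mem_of_partial (P : Ideal W.CoordinateRing) [P.IsPrime]
    (h3 : algebraMap R W.CoordinateRing W.a₃ ∈ P) (h4 : algebraMap R W.CoordinateRing W.a₄ ∈ P)
    (h6 : algebraMap R W.CoordinateRing W.a₆ ∈ P)
    (hX : FX W ∈ P) (hY : FY W ∈ P) : xb W ∈ P ∧ yb W ∈ P := by
  have h1 : (xb W) ^ 3 = -(yb W * FY W) - xb W * FX W - algebraMap R _ W.a₃ * yb W +
      algebraMap R _ W.a₄ * xb W + 2 * algebraMap R _ W.a₆ := by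
    unfold FX FY
    linear_combination (2 : W.CoordinateRing) * equation_xb_yb W
  have hx3 : (xb W) ^ 3 ∈ P := by
    rw [h1]
    refine P.add_mem (P.add_mem (P.sub_mem (P.sub_mem (P.neg_mem (P.mul_mem_left _ hY))
      (P.mul_mem_left _ hX)) (P.mul_mem_right _ h3)) (P.mul_mem_right _ h4)) (P.mul_mem_left _ h6)
  have hx : xb W ∈ P := Ideal.IsPrime.mem_of_pow_mem inferInstance 3 hx3
  refine ⟨hx, ?_⟩
  have h2 : (yb W) ^ 2 = -(algebraMap R _ W.a₁ * yb W * xb W) - algebraMap R _ W.a₃ * yb W +
      ((xb W) ^ 2 + algebraMap R _ W.a₂ * xb W + algebraMap R _ W.a₄) * xb W +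
      algebraMap R _ W.a₆ := by
    linear_combination equation_xb_yb W
  have hy2 : (yb W) ^ 2 ∈ P := by
    rw [h2]
    exact P.add_mem (P.add_mem (P.sub_mem (P.neg_mem (P.mul_mem_left _ hx)) (P.mul_mem_right _ h3))
      (P.mul_mem_left _ hx)) h6
  exact Ideal.IsPrime.mem_of_pow_mem inferInstance 2 hy2

/-- elements of the maximal ideal of `R` lie in `(x, y)` when `a₆` is a uniformizer -/
theorem algebraMap_mem_span
    (h6 : W.a₆ ∈ IsLocalRing.maximalIdeal R) (h6' : W.a₆ ∉ IsLocalRing.maximalIdeal R ^ 2)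
    (r : R) (hr : r ∈ IsLocalRing.maximalIdeal R) :
    algebraMap R W.CoordinateRing r ∈ Ideal.span {xb W, yb W} := by
  obtain ⟨ϖ, hϖ⟩ := IsDiscreteValuationRing.exists_irreducible R
  have hm : IsLocalRing.maximalIdeal R = Ideal.span {ϖ} := hϖ.maximalIdeal_eq
  rw [hm, Ideal.mem_span_singleton'] at hr h6
  obtain ⟨r', rfl⟩ := hr
  obtain ⟨u, hu⟩ := h6
  have huu : IsUnit u := by
    by_contra hnu
    have : u ∈ IsLocalRing.maximalIdeal R := (IsLocalRing.mem_maximalIdeal _).mpr hnu
    rw [hm, Ideal.mem_span_singleton'] at this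
    obtain ⟨u', rfl⟩ := this
    apply h6'
    rw [hm, Ideal.span_singleton_pow, Ideal.mem_span_singleton', ← hu]
    exact ⟨u', by ring⟩
  obtain ⟨v, hv⟩ := huu.exists_left_inv
  have h1 : r' * ϖ = r' * v * W.a₆ := by
    rw [← hu]
    linear_combination (-(r' * ϖ)) * hv
  rw [h1, map_mul]
  refine Ideal.mul_mem_left _ _ ?_
  have h2 : algebraMap R W.CoordinateRing W.a₆ =
      (-((xb W) ^ 2 + algebraMap R _ W.a₂ * xb W + algebraMap R _ W.a₄)) * xb W +
      (yb W + algebraMap R _ W.a₁ * xb W + algebraMap R _ W.a₃) * yb W := by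
    linear_combination (-1 : W.CoordinateRing) * equation_xb_yb W
  rw [h2]
  exact Ideal.add_mem _ (Ideal.mul_mem_left _ _ (Ideal.subset_span (by simp)))
    (Ideal.mul_mem_left _ _ (Ideal.subset_span (by simp)))


theorem eq_span_of_mem (h6 : W.a₆ ∈ IsLocalRing.maximalIdeal R)
    (h6' : W.a₆ ∉ IsLocalRing.maximalIdeal R ^ 2) (P : Ideal W.CoordinateRing) [P.IsPrime]
    (hx : xb W ∈ P) (hy : yb W ∈ P) : P = Ideal.span {xb W, yb W} := by
  refine le_antisymm ?_ ?_
  · intro a ha
    obtain ⟨p, q, hpq⟩ := CoordinateRing.exists_smul_basis_eq a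
    rw [CoordinateRing.smul, CoordinateRing.smul, mul_one] at hpq
    have hp : CoordinateRing.mk W (C p) =
        CoordinateRing.mk W (C p.divX) * xb W + algebraMap R _ (p.coeff 0) := by
      conv_lhs => rw [← Polynomial.divX_mul_X_add p]
      rw [map_add, map_mul, map_add, map_mul]
      rfl
    have hdecomp : a = CoordinateRing.mk W (C p.divX) * xb W + algebraMap R _ (p.coeff 0) +
        CoordinateRing.mk W (C q) * yb W := by
      rw [← hpq, hp]
      rfl
    have h0 : algebraMap R W.CoordinateRing (p.coeff 0) ∈ P := by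
      have : algebraMap R W.CoordinateRing (p.coeff 0) =
          a - CoordinateRing.mk W (C p.divX) * xb W - CoordinateRing.mk W (C q) * yb W := by
        rw [hdecomp]; ring
      rw [this]
      exact P.sub_mem (P.sub_mem ha (P.mul_mem_left _ hx)) (P.mul_mem_left _ hy)
    have hmem : p.coeff 0 ∈ IsLocalRing.maximalIdeal R := by
      rw [IsLocalRing.mem_maximalIdeal, mem_nonunits_iff]
      intro hu
      exact (Ideal.IsPrime.ne_top inferInstance)
        (Ideal.eq_top_of_isUnit_mem P h0 (hu.map (algebraMap R W.CoordinateRing)))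
    rw [hdecomp]
    exact Ideal.add_mem _ (Ideal.add_mem _ (Ideal.mul_mem_left _ _ (Ideal.subset_span (by simp)))
      (algebraMap_mem_span W h6 h6' _ hmem))
      (Ideal.mul_mem_left _ _ (Ideal.subset_span (by simp)))
  · rw [Ideal.span_le]
    rintro z (rfl | rfl)
    · exact hx
    · exact hy

theorem two_le_height (P : Ideal W.CoordinateRing) [P.IsPrime]
    (hm : ∀ r ∈ IsLocalRing.maximalIdeal R, algebraMap R W.CoordinateRing r ∈ P)
    (hx : xb W ∈ P) : 2 ≤ P.height := by
  haveI hq₁ : (Ideal.map (C : R →+* R[X]) (IsLocalRing.maximalIdeal R)).IsPrime :=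
    (Ideal.isPrime_map_C_iff_isPrime _).mpr inferInstance
  have hlt : Ideal.map (C : R →+* R[X]) (IsLocalRing.maximalIdeal R) < P.under R[X] := by
    refine lt_of_le_of_ne ?_ ?_
    · rw [Ideal.map_le_iff_le_comap]
      intro r hr
      exact hm r hr
    · intro heq
      have hX : (X : R[X]) ∈ P.under R[X] := hx
      rw [← heq, Ideal.mem_map_C_iff] at hX
      have h1 := hX 1
      rw [Polynomial.coeff_X_one] at h1
      exact (Ideal.IsPrime.ne_top inferInstance) ((Ideal.eq_top_iff_one _).mpr h1)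
  obtain ⟨Q, hQP, hQ, hQo⟩ := Ideal.exists_ideal_lt_liesOver_of_lt (S := W.CoordinateRing) P hlt
  have hbQ : (⊥ : Ideal W.CoordinateRing) < Q := by
    refine lt_of_le_of_ne bot_le ?_
    intro hQb
    obtain ⟨ϖ, hϖ⟩ := IsDiscreteValuationRing.exists_irreducible R
    have hϖm : ϖ ∈ IsLocalRing.maximalIdeal R := by
      rw [hϖ.maximalIdeal_eq]; exact Ideal.subset_span rfl
    have h1 : (C ϖ : R[X]) ∈ Q.under R[X] := by
      rw [← hQo.over]
      exact Ideal.mem_map_of_mem _ hϖm
    rw [← hQb] at h1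
    have h2 : algebraMap R[X] W.CoordinateRing (C ϖ) = 0 := h1
    have h3 := (FaithfulSMul.algebraMap_injective R[X] W.CoordinateRing) (h2.trans (map_zero _).symm)
    exact hϖ.ne_zero (Polynomial.C_eq_zero.mp h3)
  haveI : (⊥ : Ideal W.CoordinateRing).IsPrime := Ideal.isPrime_bot
  have h1 := Ideal.height_add_one_le_of_lt_of_isPrime hbQ
  have h2 := Ideal.height_add_one_le_of_lt_of_isPrime hQP
  have h3 : (1 : ℕ∞) ≤ Q.height := le_trans le_add_self h1
  calc (2 : ℕ∞) = 1 + 1 := by norm_num
    _ ≤ Q.height + 1 := by gcongr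
    _ ≤ P.height := h2

theorem isRegularLocalRing_of_mem (h6 : W.a₆ ∈ IsLocalRing.maximalIdeal R)
    (h6' : W.a₆ ∉ IsLocalRing.maximalIdeal R ^ 2) (P : Ideal W.CoordinateRing) [P.IsPrime]
    (hm : ∀ r ∈ IsLocalRing.maximalIdeal R, algebraMap R W.CoordinateRing r ∈ P)
    (hx : xb W ∈ P) (hy : yb W ∈ P) : IsRegularLocalRing (Localization.AtPrime P) := by
  haveI : IsNoetherianRing W.CoordinateRing := Algebra.FiniteType.isNoetherianRing R _
  haveI : IsNoetherianRing (Localization.AtPrime P) :=
    IsLocalization.isNoetherianRing P.primeCompl _ inferInstance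
  refine IsRegularLocalRing.of_spanFinrank_maximalIdeal_le _ ?_
  rw [IsLocalization.AtPrime.ringKrullDim_eq_height P (Localization.AtPrime P)]
  have hspan : IsLocalRing.maximalIdeal (Localization.AtPrime P) =
      Ideal.span {algebraMap _ (Localization.AtPrime P) (xb W),
        algebraMap _ (Localization.AtPrime P) (yb W)} := by
    rw [← Localization.AtPrime.map_eq_maximalIdeal]
    have hP := eq_span_of_mem W h6 h6' P hx hy
    rw [congrArg (Ideal.map (algebraMap W.CoordinateRing (Localization.AtPrime P))) hP,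
      Ideal.map_span, Set.image_pair]
  have h1 : (IsLocalRing.maximalIdeal (Localization.AtPrime P)).spanFinrank ≤ 2 := by
    rw [hspan]
    refine (Submodule.spanFinrank_span_le_ncard_of_finite (Set.toFinite _)).trans ?_
    exact (Set.ncard_insert_le _ _).trans (by rw [Set.ncard_singleton])
  have h2 := two_le_height W P hm hx
  have h2' : ((2 : ℕ∞) : WithBot ℕ∞) ≤ (P.height : WithBot ℕ∞) := WithBot.coe_le_coe.mpr h2
  exact le_trans (by exact_mod_cast h1) h2'


theorem main (hΔ : W.Δ ≠ 0)
    (h3 : W.a₃ ∈ IsLocalRing.maximalIdeal R) (h4 : W.a₄ ∈ IsLocalRing.maximalIdeal R)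
    (h6 : W.a₆ ∈ IsLocalRing.maximalIdeal R) (h6' : W.a₆ ∉ IsLocalRing.maximalIdeal R ^ 2)
    (P : Ideal W.CoordinateRing) [P.IsPrime] :
    IsRegularLocalRing (Localization.AtPrime P) := by
  by_cases h : FX W ∉ P ∨ FY W ∉ P
  · haveI : Algebra.IsSmoothAt R P := isSmoothAt_of_partial W P h
    haveI : Algebra.FinitePresentation R W.CoordinateRing :=
      Algebra.FinitePresentation.of_finiteType.mp inferInstance
    exact Groth.Agent.Lib.Helper5.RegSmoothCore.regular_of_isSmoothAt R W.CoordinateRing P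
  · push Not at h
    obtain ⟨hX, hY⟩ := h
    have hm := maximalIdeal_le_of_partial W hΔ P hX hY
    obtain ⟨hx, hy⟩ := xb_yb_mem_of_partial W P (hm _ h3) (hm _ h4) (hm _ h6) hX hY
    exact isRegularLocalRing_of_mem W h6 h6' P hm hx hy

end DVR

end Groth.Agent.Lib.helper10.WeierReg
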