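import Mathlib

/-!
# Weil numbers, part A: normal forms in `ℤ[F, V] / (F V - q)`
-/

namespace Groth.Agent.Lib.helper10.Weil

open MvPolynomial

noncomputable section

abbrev MP := MvPolynomial (Fin 2) ℤ

/-- the relation `F V - q` -/
def rel (q : ℤ) : MP := X 0 * X 1 - C q

def J (q : ℤ) : Ideal MP := Ideal.span {rel q}

/-- the normal form `A(F) + V B(V)` -/
def nf (A B : Polynomial ℤ) : MP :=
  Polynomial.aeval (X 0 : MP) A + X 1 * Polynomial.aeval (X 1 : MP) B

theorem nf_add (A1 A2 B1 B2 : Polynomial ℤ) :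
    nf (A1 + A2) (B1 + B2) = nf A1 B1 + nf A2 B2 := by
  simp only [nf, map_add]; ring

theorem nf_sub (A1 A2 B1 B2 : Polynomial ℤ) :
    nf (A1 - A2) (B1 - B2) = nf A1 B1 - nf A2 B2 := by
  simp only [nf, map_sub]; ring

theorem nf_C_mul (c : ℤ) (A B : Polynomial ℤ) :
    nf (Polynomial.C c * A) (Polynomial.C c * B) = C c * nf A B := by
  simp only [nf, map_mul, Polynomial.aeval_C]
  simp only [algebraMap_eq]
  ring

theorem nf_zero : nf 0 0 = 0 := by simp [nf]

theorem rel_mem (q : ℤ) : rel q ∈ J q := Ideal.subset_span rfl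

/-- multiplying a normal form by `F` -/
theorem X0_mul_nf (q : ℤ) (A B : Polynomial ℤ) :
    X 0 * nf A B -
      nf (Polynomial.X * A + Polynomial.C (q * B.coeff 0)) (Polynomial.C q * B.divX) ∈ J q := by
  have hB : Polynomial.aeval (X 1 : MP) B =
      Polynomial.aeval (X 1 : MP) B.divX * X 1 + C (B.coeff 0) := by
    conv_lhs => rw [← Polynomial.divX_mul_X_add B]
    simp
  have : X 0 * nf A B -
      nf (Polynomial.X * A + Polynomial.C (q * B.coeff 0)) (Polynomial.C q * B.divX) =
      rel q * (X 1 * Polynomial.aeval (X 1 : MP) B.divX + C (B.coeff 0)) := by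
    simp only [nf, map_add, map_mul, Polynomial.aeval_X, Polynomial.aeval_C, algebraMap_eq, rel]
    rw [hB]
    ring
  rw [this]
  exact Ideal.mul_mem_right _ _ (rel_mem q)

/-- multiplying a normal form by `V` -/
theorem X1_mul_nf (q : ℤ) (A B : Polynomial ℤ) :
    X 1 * nf A B -
      nf (Polynomial.C q * A.divX) (Polynomial.C (A.coeff 0) + Polynomial.X * B) ∈ J q := by
  have hA : Polynomial.aeval (X 0 : MP) A =
      Polynomial.aeval (X 0 : MP) A.divX * X 0 + C (A.coeff 0) := by
    conv_lhs => rw [← Polynomial.divX_mul_X_add A]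
    simp
  have : X 1 * nf A B -
      nf (Polynomial.C q * A.divX) (Polynomial.C (A.coeff 0) + Polynomial.X * B) =
      rel q * (Polynomial.aeval (X 0 : MP) A.divX) := by
    simp only [nf, map_add, map_mul, Polynomial.aeval_X, Polynomial.aeval_C, algebraMap_eq, rel]
    rw [hA]
    ring
  rw [this]
  exact Ideal.mul_mem_right _ _ (rel_mem q)

theorem exists_nf (q : ℤ) (g : MP) : ∃ A B, g - nf A B ∈ J q := by
  induction g using MvPolynomial.induction_on with
  | C a =>
    refine ⟨Polynomial.C a, 0, ?_⟩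
    simp [nf]
  | add f g hf hg =>
    obtain ⟨A1, B1, h1⟩ := hf
    obtain ⟨A2, B2, h2⟩ := hg
    refine ⟨A1 + A2, B1 + B2, ?_⟩
    have : f + g - nf (A1 + A2) (B1 + B2) = (f - nf A1 B1) + (g - nf A2 B2) := by
      rw [nf_add]; ring
    rw [this]; exact add_mem h1 h2
  | mul_X f i hf =>
    obtain ⟨A, B, h1⟩ := hf
    fin_cases i
    · refine ⟨Polynomial.X * A + Polynomial.C (q * B.coeff 0), Polynomial.C q * B.divX, ?_⟩
      have : f * X 0 - nf (Polynomial.X * A + Polynomial.C (q * B.coeff 0))
          (Polynomial.C q * B.divX) = X 0 * (f - nf A B) + (X 0 * nf A B -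
          nf (Polynomial.X * A + Polynomial.C (q * B.coeff 0)) (Polynomial.C q * B.divX)) := by
        ring
      simp only [Fin.zero_eta]
      rw [this]
      exact add_mem (Ideal.mul_mem_left _ _ h1) (X0_mul_nf q A B)
    · refine ⟨Polynomial.C q * A.divX, Polynomial.C (A.coeff 0) + Polynomial.X * B, ?_⟩
      have : f * X 1 - nf (Polynomial.C q * A.divX)
          (Polynomial.C (A.coeff 0) + Polynomial.X * B) = X 1 * (f - nf A B) + (X 1 * nf A B -
          nf (Polynomial.C q * A.divX) (Polynomial.C (A.coeff 0) + Polynomial.X * B)) := by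
        ring
      simp only [Fin.mk_one]
      rw [this]
      exact add_mem (Ideal.mul_mem_left _ _ h1) (X1_mul_nf q A B)

end

end Groth.Agent.Lib.helper10.Weil
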