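import Groth.Agent.Lib.helper10.WeilA

/-!
# Weil numbers, part B: evaluation of normal forms
-/

namespace Groth.Agent.Lib.helper10.Weil

open MvPolynomial

noncomputable section

/-- `R q N B = X^N * B(q / X)` for `natDegree B ≤ N` -/
def R (q : ℤ) (N : ℕ) (B : Polynomial ℤ) : Polynomial ℤ :=
  Polynomial.reflect N (B.comp (Polynomial.C q * Polynomial.X))

theorem coeff_R (q : ℤ) (N : ℕ) (B : Polynomial ℤ) (hB : ∀ m, N < m → B.coeff m = 0) (n : ℕ) :
    (R q N B).coeff n = if n ≤ N then q ^ (N - n) * B.coeff (N - n) else 0 := by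
  rw [R, Polynomial.coeff_reflect, Polynomial.comp_C_mul_X_coeff]
  split_ifs with h
  · rw [Polynomial.revAt_le h, mul_comm]
  · rw [not_le] at h
    rw [Polynomial.revAt_eq_self_of_lt h, hB n h, zero_mul]

/-- `G q N A B = X^(N+1) * (A(X) + (q/X) B(q/X))` -/
def G (q : ℤ) (N : ℕ) (A B : Polynomial ℤ) : Polynomial ℤ :=
  Polynomial.X ^ (N + 1) * A + Polynomial.C q * R q N B

theorem coeff_G (q : ℤ) (N : ℕ) (A B : Polynomial ℤ) (hB : ∀ m, N < m → B.coeff m = 0) (n : ℕ) :
    (G q N A B).coeff n =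
      if n ≤ N then q ^ (N - n + 1) * B.coeff (N - n) else A.coeff (n - (N + 1)) := by
  rw [G, Polynomial.coeff_add, Polynomial.coeff_X_pow_mul', Polynomial.coeff_C_mul,
    coeff_R q N B hB]
  split_ifs with h1 h2 h2
  · omega
  · simp
  · rw [zero_add, pow_succ]; ring
  · omega

theorem natDegree_le_of_coeff {B : Polynomial ℤ} {N : ℕ} (hB : ∀ m, N < m → B.coeff m = 0) :
    B.natDegree ≤ N := by
  rw [Polynomial.natDegree_le_iff_coeff_eq_zero]
  exact hB

theorem aeval_R {K : Type*} [Field K] (q : ℤ) (x : K) (hx : x ≠ 0) (N : ℕ) (B : Polynomial ℤ)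
    (hB : ∀ m, N < m → B.coeff m = 0) :
    Polynomial.aeval x (R q N B) = x ^ N * Polynomial.aeval ((q : K) / x) B := by
  haveI : Invertible x := invertibleOfNonzero hx
  have h1 : (R q N B).natDegree ≤ N := by
    rw [Polynomial.natDegree_le_iff_coeff_eq_zero]
    intro m hm
    rw [coeff_R q N B hB, if_neg (by omega)]
  have := Polynomial.eval₂_reflect_mul_pow (algebraMap ℤ K) x N (R q N B) h1
  rw [R, Polynomial.reflect_reflect] at this
  rw [Polynomial.aeval_def, R, ← this, Polynomial.eval₂_comp, mul_comm]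
  congr 1
  rw [Polynomial.aeval_def]
  congr 1
  rw [Polynomial.eval₂_mul, Polynomial.eval₂_C, Polynomial.eval₂_X]
  simp [div_eq_mul_inv]

def ev {S : Type*} [CommRing S] (x y : S) : MP →ₐ[ℤ] S := aeval ![x, y]

theorem ev_nf {S : Type*} [CommRing S] (x y : S) (A B : Polynomial ℤ) :
    ev x y (nf A B) = Polynomial.aeval x A + y * Polynomial.aeval y B := by
  simp only [ev, nf, map_add, map_mul, aeval_X]
  rw [← Polynomial.aeval_algHom_apply, ← Polynomial.aeval_algHom_apply]
  simp

theorem ev_rel {S : Type*} [CommRing S] (x y : S) (q : ℤ) (hxy : x * y = q) :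
    ev x y (rel q) = 0 := by
  simp [ev, rel, hxy]

theorem J_le_ker {S : Type*} [CommRing S] (x y : S) (q : ℤ) (hxy : x * y = q) :
    J q ≤ RingHom.ker (ev x y) := by
  rw [J, Ideal.span_le]
  intro g hg
  rw [Set.mem_singleton_iff] at hg
  rw [hg]
  exact ev_rel x y q hxy

theorem key {K : Type*} [Field K] (q : ℤ) (x : K) (hx : x ≠ 0) (N : ℕ) (A B : Polynomial ℤ)
    (hB : ∀ m, N < m → B.coeff m = 0) :
    x ^ (N + 1) * ev x ((q : K) / x) (nf A B) = Polynomial.aeval x (G q N A B) := by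
  rw [ev_nf, G, map_add, map_mul, map_mul, map_pow, Polynomial.aeval_X, Polynomial.aeval_C,
    aeval_R q x hx N B hB]
  simp only [eq_intCast, algebraMap_int_eq]
  field_simp
  ring

end

end Groth.Agent.Lib.helper10.Weil
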