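import Groth.Agent.Lib.helper10.WeilB

/-!
# Weil numbers, part C: uniqueness of normal forms, `(F V - q, h)` is a regular sequence
-/

namespace Groth.Agent.Lib.helper10.Weil

open MvPolynomial
open scoped Pointwise

noncomputable section

/-- the field of rational functions, as an opaque type (to avoid instance diamonds) -/
def KK : Type := FractionRing (Polynomial ℤ)

instance : Field KK := inferInstanceAs (Field (FractionRing (Polynomial ℤ)))

def iota : Polynomial ℤ →+* KK := algebraMap (Polynomial ℤ) (FractionRing (Polynomial ℤ))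

theorem iota_injective : Function.Injective iota :=
  IsFractionRing.injective (Polynomial ℤ) (FractionRing (Polynomial ℤ))

theorem iota_eq_zero_iff (P : Polynomial ℤ) : iota P = 0 ↔ P = 0 :=
  map_eq_zero_iff iota iota_injective

def xx : KK := iota Polynomial.X

theorem xx_ne_zero : xx ≠ 0 := by
  rw [xx, Ne, iota_eq_zero_iff]
  exact Polynomial.X_ne_zero

theorem aeval_xx (P : Polynomial ℤ) : Polynomial.aeval xx P = iota P := by
  conv_rhs => rw [← Polynomial.eval₂_C_X (p := P)]
  rw [Polynomial.hom_eval₂, Polynomial.aeval_def, xx]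
  congr 1
  exact RingHom.ext_int _ _

def mu (q : ℤ) : MP →ₐ[ℤ] KK := ev xx ((q : KK) / xx)

theorem J_le_ker_mu (q : ℤ) : J q ≤ RingHom.ker (mu q) :=
  J_le_ker _ _ q (mul_div_cancel₀ _ xx_ne_zero)

theorem mu_nf_eq_zero (q : ℤ) (hq : q ≠ 0) (A B : Polynomial ℤ) (h : mu q (nf A B) = 0) :
    A = 0 ∧ B = 0 := by
  have hB : ∀ m, B.natDegree < m → B.coeff m = 0 := fun m hm =>
    Polynomial.coeff_eq_zero_of_natDegree_lt hm
  have hk := key q xx xx_ne_zero B.natDegree A B hB
  rw [mu] at h
  rw [h, mul_zero, aeval_xx] at hk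
  have hG : G q B.natDegree A B = 0 := by
    have := hk.symm
    rwa [iota_eq_zero_iff] at this
  constructor
  · ext j
    have := congrArg (fun P => P.coeff (j + (B.natDegree + 1))) hG
    simp only [Polynomial.coeff_zero] at this
    rw [coeff_G q _ A B hB, if_neg (by omega)] at this
    simpa using this
  · ext m
    by_cases hm : m ≤ B.natDegree
    · have := congrArg (fun P => P.coeff (B.natDegree - m)) hG
      simp only [Polynomial.coeff_zero] at this
      rw [coeff_G q _ A B hB, if_pos (by omega)] at this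
      have h2 : B.natDegree - (B.natDegree - m) = m := by omega
      rw [h2] at this
      rcases mul_eq_zero.1 this with h3 | h3
      · exact absurd h3 (pow_ne_zero _ hq)
      · simpa using h3
    · rw [hB m (by omega)]; simp

theorem ker_mu (q : ℤ) (hq : q ≠ 0) : RingHom.ker (mu q) = J q := by
  apply le_antisymm _ (J_le_ker_mu q)
  intro g hg
  obtain ⟨A, B, hAB⟩ := exists_nf q g
  have h1 : mu q (nf A B) = 0 := by
    have h2 := J_le_ker_mu q hAB
    rw [RingHom.mem_ker, map_sub] at h2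
    rw [RingHom.mem_ker] at hg
    rw [hg, zero_sub, neg_eq_zero] at h2
    exact h2
  obtain ⟨rfl, rfl⟩ := mu_nf_eq_zero q hq A B h1
  rwa [nf_zero, sub_zero] at hAB

theorem nf_unique (q : ℤ) (hq : q ≠ 0) (A B A' B' : Polynomial ℤ)
    (h : nf A B - nf A' B' ∈ J q) : A = A' ∧ B = B' := by
  rw [← nf_sub] at h
  have := mu_nf_eq_zero q hq _ _ (J_le_ker_mu q h)
  exact ⟨sub_eq_zero.1 this.1, sub_eq_zero.1 this.2⟩

theorem rel_ne_zero (q : ℤ) (hq : q ≠ 0) : rel q ≠ 0 := by
  intro h
  have := congrArg (MvPolynomial.eval (fun _ => (0 : ℤ))) h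
  simp [rel] at this
  exact hq this

theorem mem_J_iff (q : ℤ) (g : MP) : g ∈ J q ↔ ∃ t, rel q * t = g := by
  rw [J, Ideal.mem_span_singleton']
  constructor
  · rintro ⟨a, ha⟩; exact ⟨a, by rw [mul_comm]; exact ha⟩
  · rintro ⟨a, ha⟩; exact ⟨a, by rw [mul_comm]; exact ha⟩

theorem smul_top_eq (q : ℤ) (g : MP) :
    g ∈ (rel q • (⊤ : Submodule MP MP)) ↔ g ∈ J q := by
  rw [Submodule.mem_smul_pointwise_iff_exists, mem_J_iff]
  simp

theorem regular (q : ℤ) (hq : q ≠ 0) (h : MP) (hh : mu q h ≠ 0) :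
    RingTheory.Sequence.IsWeaklyRegular MP [rel q, h] := by
  rw [RingTheory.Sequence.isWeaklyRegular_cons_iff]
  refine ⟨(isRegular_of_ne_zero (rel_ne_zero q hq)).left.isSMulRegular, ?_⟩
  rw [RingTheory.Sequence.isWeaklyRegular_singleton_iff]
  rw [isSMulRegular_quotient_iff_mem_of_smul_mem]
  intro g hg
  rw [smul_top_eq] at hg ⊢
  rw [← ker_mu q hq, RingHom.mem_ker] at hg ⊢
  rw [smul_eq_mul, map_mul] at hg
  rcases mul_eq_zero.1 hg with h1 | h1
  · exact absurd h1 hh
  · exact h1

theorem mu_aeval_X0 (q : ℤ) (P : Polynomial ℤ) :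
    mu q (Polynomial.aeval (X 0 : MP) P) = iota P := by
  have := ev_nf xx ((q : KK) / xx) P 0
  simp only [nf, map_zero, mul_zero, add_zero] at this
  rw [mu, this, aeval_xx]

theorem mu_ne_zero (q : ℤ) (D : ℕ) (P : Polynomial ℤ) (hP : P ≠ 0) (h : MP)
    (hh : X 0 ^ D * h - Polynomial.aeval (X 0 : MP) P ∈ J q) : mu q h ≠ 0 := by
  intro h0
  have h1 := J_le_ker_mu q hh
  rw [RingHom.mem_ker, map_sub, map_mul, h0, mul_zero, zero_sub, neg_eq_zero, mu_aeval_X0,
    iota_eq_zero_iff] at h1
  exact hP h1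

end

end Groth.Agent.Lib.helper10.Weil
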