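import Groth.Agent.Lib.helper10.WeilC

/-!
# Weil numbers, part D: the shape of `h`
-/

namespace Groth.Agent.Lib.helper10.Weil

open MvPolynomial

noncomputable section

theorem shape_aux (q : ℤ) (D : ℕ) (P : Polynomial ℤ) (h : MP)
    (hh : X 0 ^ D * h - Polynomial.aeval (X 0 : MP) P ∈ J q)
    (A B : Polynomial ℤ) (hAB : h - nf A B ∈ J q) (N : ℕ) (hN : ∀ m, N < m → B.coeff m = 0)
    (hND : D ≤ N + 1) :
    Polynomial.X ^ (N + 1 - D) * P = G q N A B := by
  apply iota_injective
  rw [← aeval_xx (G q N A B), ← key q xx xx_ne_zero N A B hN]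
  have h1 : mu q (nf A B) = mu q h := by
    have := J_le_ker_mu q hAB
    rw [RingHom.mem_ker, map_sub, sub_eq_zero] at this
    exact this.symm
  have h2 : xx ^ D * mu q h = iota P := by
    have := J_le_ker_mu q hh
    rw [RingHom.mem_ker, map_sub, sub_eq_zero, mu_aeval_X0, map_mul, map_pow] at this
    rw [← this]
    congr 2
    simp [mu, ev]
  change _ = xx ^ (N + 1) * mu q (nf A B)
  rw [h1, map_mul, map_pow, ← h2, ← mul_assoc]
  change xx ^ (N + 1 - D) * xx ^ D * _ = _
  rw [← pow_add]
  congr 2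
  omega

theorem shape (q : ℤ) (hq : q ≠ 0) (D : ℕ) (P : Polynomial ℤ) (h : MP)
    (hh : X 0 ^ D * h - Polynomial.aeval (X 0 : MP) P ∈ J q) :
    ∃ A B : Polynomial ℤ, h - nf A B ∈ J q ∧ (∀ j, A.coeff j = P.coeff (j + D)) ∧
      (∀ m, D ≤ m → B.coeff m = 0) ∧
      (∀ m, m < D → q ^ (m + 1) * B.coeff m = P.coeff (D - 1 - m)) := by
  obtain ⟨A, B, hAB⟩ := exists_nf q h
  refine ⟨A, B, hAB, ?_⟩
  set N := max B.natDegree D with hNdef
  have hN : ∀ m, N < m → B.coeff m = 0 := fun m hm =>
    Polynomial.coeff_eq_zero_of_natDegree_lt (lt_of_le_of_lt (le_max_left _ _) hm)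
  have hND : D ≤ N + 1 := le_trans (le_max_right _ _) (Nat.le_succ _)
  have hDN : D ≤ N := le_max_right _ _
  have key2 := shape_aux q D P h hh A B hAB N hN hND
  have hc : ∀ n, (if N + 1 - D ≤ n then P.coeff (n - (N + 1 - D)) else 0) =
      if n ≤ N then q ^ (N - n + 1) * B.coeff (N - n) else A.coeff (n - (N + 1)) := by
    intro n
    rw [← coeff_G q N A B hN, ← key2, Polynomial.coeff_X_pow_mul']
  refine ⟨?_, ?_, ?_⟩
  · intro j
    have := hc (j + (N + 1))
    rw [if_pos (by omega), if_neg (by omega)] at this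
    rw [show j + (N + 1) - (N + 1) = j by omega] at this
    rw [← this]
    congr 1
    omega
  · intro m hm
    by_cases hmN : m ≤ N
    · have := hc (N - m)
      rw [if_neg (by omega), if_pos (by omega), show N - (N - m) = m by omega] at this
      rcases mul_eq_zero.1 this.symm with h3 | h3
      · exact absurd h3 (pow_ne_zero _ hq)
      · exact h3
    · exact hN m (by omega)
  · intro m hm
    have := hc (N - m)
    rw [if_pos (by omega), if_pos (by omega), show N - (N - m) = m by omega] at this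
    rw [← this]
    congr 1
    omega

end

end Groth.Agent.Lib.helper10.Weil
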