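import Groth.Agent.Lib.helper10.WeilD

/-!
# Weil numbers, part E: division by `h` modulo `F V - q`
-/

namespace Groth.Agent.Lib.helper10.Weil

open MvPolynomial

noncomputable section

def I (q : ℤ) (h : MP) : Ideal MP := Ideal.span {rel q, h}

theorem J_le_I (q : ℤ) (h : MP) : J q ≤ I q h :=
  Ideal.span_mono (by simp)

theorem h_mem_I (q : ℤ) (h : MP) : h ∈ I q h := Ideal.subset_span (by simp)

theorem I_le_iff (q : ℤ) (h : MP) (K : Ideal MP) : I q h ≤ K ↔ rel q ∈ K ∧ h ∈ K := by
  rw [I, Ideal.span_le]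
  constructor
  · intro hK; exact ⟨hK (by simp), hK (by simp)⟩
  · rintro ⟨h1, h2⟩ x hx
    rcases hx with rfl | rfl
    · exact h1
    · exact h2

theorem mem_I_of_sub (q : ℤ) (h h' : MP) (hh : h - h' ∈ J q) : h' ∈ I q h := by
  have : h' = h - (h - h') := by ring
  rw [this]
  exact sub_mem (h_mem_I q h) (J_le_I q h hh)

/-- The division statement: modulo `(F V - q, h)` every element is a normal form of small
degree. -/
theorem division (q : ℤ) (D : ℕ) (hD : 1 ≤ D) (h : MP) (Ah Bh : Polynomial ℤ)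
    (hAB : h - nf Ah Bh ∈ J q) (hA1 : Ah.coeff D = 1) (hA2 : ∀ m, D < m → Ah.coeff m = 0)
    (hB2 : ∀ m, D ≤ m → Bh.coeff m = 0) (u : ℤ) (hu : u * u = 1) (hB1 : Bh.coeff (D - 1) = u)
    (g : MP) :
    ∃ A B : Polynomial ℤ, (∀ m, D ≤ m → A.coeff m = 0) ∧ (∀ m, D ≤ m → B.coeff m = 0) ∧
      g - nf A B ∈ I q h := by
  have hnf : nf Ah Bh ∈ I q h := mem_I_of_sub q h _ hAB
  induction g using MvPolynomial.induction_on with
  | C a =>
    refine ⟨Polynomial.C a, 0, ?_, ?_, ?_⟩
    · intro m hm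
      rw [Polynomial.coeff_C, if_neg (by omega)]
    · intro m _; simp
    · simp [nf]
  | add f g hf hg =>
    obtain ⟨A1, B1, a1, b1, h1⟩ := hf
    obtain ⟨A2, B2, a2, b2, h2⟩ := hg
    refine ⟨A1 + A2, B1 + B2, ?_, ?_, ?_⟩
    · intro m hm; rw [Polynomial.coeff_add, a1 m hm, a2 m hm, add_zero]
    · intro m hm; rw [Polynomial.coeff_add, b1 m hm, b2 m hm, add_zero]
    · have : f + g - nf (A1 + A2) (B1 + B2) = (f - nf A1 B1) + (g - nf A2 B2) := by
        rw [nf_add]; ring
      rw [this]; exact add_mem h1 h2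
  | mul_X f i hf =>
    obtain ⟨A, B, hA, hB, h1⟩ := hf
    fin_cases i
    · simp only [Fin.zero_eta]
      obtain ⟨A', hA'⟩ : ∃ t : Polynomial ℤ, t = Polynomial.X * A + Polynomial.C (q * B.coeff 0) := ⟨_, rfl⟩
      obtain ⟨B', hB'⟩ : ∃ t : Polynomial ℤ, t = Polynomial.C q * B.divX := ⟨_, rfl⟩
      set c := A.coeff (D - 1) with hc
      refine ⟨A' - Polynomial.C c * Ah, B' - Polynomial.C c * Bh, ?_, ?_, ?_⟩
      · intro m hm
        obtain ⟨k, rfl⟩ : ∃ k, m = k + 1 := ⟨m - 1, by omega⟩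
        rw [Polynomial.coeff_sub, Polynomial.coeff_C_mul, hA', Polynomial.coeff_add,
          Polynomial.coeff_X_mul, Polynomial.coeff_C, if_neg (by omega), add_zero]
        rcases Nat.lt_or_ge D (k + 1) with h2 | h2
        · rw [hA k (by omega), hA2 _ h2]; ring
        · have : k + 1 = D := by omega
          rw [this, hA1, hc, ← this]; simp
      · intro m hm
        rw [Polynomial.coeff_sub, Polynomial.coeff_C_mul, hB', Polynomial.coeff_C_mul,
          Polynomial.coeff_divX, hB (m + 1) (by omega), hB2 m hm]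
        ring
      · have : f * X 0 - nf (A' - Polynomial.C c * Ah) (B' - Polynomial.C c * Bh) =
            X 0 * (f - nf A B) + (X 0 * nf A B - nf A' B') + C c * nf Ah Bh := by
          rw [nf_sub, nf_C_mul]; ring
        rw [this]
        exact add_mem (add_mem (Ideal.mul_mem_left _ _ h1) (J_le_I q h (by rw [hA', hB']; exact X0_mul_nf q A B)))
          (Ideal.mul_mem_left _ _ hnf)
    · simp only [Fin.mk_one]
      obtain ⟨A', hA'⟩ : ∃ t : Polynomial ℤ, t = Polynomial.C q * A.divX := ⟨_, rfl⟩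
      obtain ⟨B', hB'⟩ : ∃ t : Polynomial ℤ, t = Polynomial.C (A.coeff 0) + Polynomial.X * B := ⟨_, rfl⟩
      obtain ⟨Av, hAv⟩ : ∃ t : Polynomial ℤ, t = Polynomial.C q * Ah.divX := ⟨_, rfl⟩
      obtain ⟨Bv, hBv⟩ : ∃ t : Polynomial ℤ, t = Polynomial.C (Ah.coeff 0) + Polynomial.X * Bh := ⟨_, rfl⟩
      have hv : nf Av Bv ∈ I q h := by
        have h3 : X 1 * nf Ah Bh - nf Av Bv ∈ I q h := by
          rw [hAv, hBv]; exact J_le_I q h (X1_mul_nf q Ah Bh)
        have : nf Av Bv = X 1 * nf Ah Bh - (X 1 * nf Ah Bh - nf Av Bv) := by ring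
        rw [this]
        exact sub_mem (Ideal.mul_mem_left _ _ hnf) h3
      set c := B.coeff (D - 1) with hc
      refine ⟨A' - Polynomial.C (c * u) * Av, B' - Polynomial.C (c * u) * Bv, ?_, ?_, ?_⟩
      · intro m hm
        rw [Polynomial.coeff_sub, Polynomial.coeff_C_mul, hA', hAv, Polynomial.coeff_C_mul,
          Polynomial.coeff_C_mul, Polynomial.coeff_divX, Polynomial.coeff_divX,
          hA (m + 1) (by omega), hA2 (m + 1) (by omega)]
        ring
      · intro m hm
        obtain ⟨k, rfl⟩ : ∃ k, m = k + 1 := ⟨m - 1, by omega⟩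
        rw [Polynomial.coeff_sub, Polynomial.coeff_C_mul, hB', hBv, Polynomial.coeff_add,
          Polynomial.coeff_add, Polynomial.coeff_X_mul, Polynomial.coeff_X_mul,
          Polynomial.coeff_C, Polynomial.coeff_C, if_neg (by omega), if_neg (by omega), zero_add,
          zero_add]
        rcases Nat.lt_or_ge D (k + 1) with h2 | h2
        · rw [hB k (by omega), hB2 k (by omega)]; ring
        · have : k = D - 1 := by omega
          rw [this, hB1, ← hc]
          have : c - c * u * u = c - c * (u * u) := by ring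
          rw [this, hu]; ring
      · have : f * X 1 - nf (A' - Polynomial.C (c * u) * Av) (B' - Polynomial.C (c * u) * Bv) =
            X 1 * (f - nf A B) + (X 1 * nf A B - nf A' B') + C (c * u) * nf Av Bv := by
          rw [nf_sub, nf_C_mul]; ring
        rw [this]
        exact add_mem (add_mem (Ideal.mul_mem_left _ _ h1) (J_le_I q h (by rw [hA', hB']; exact X1_mul_nf q A B)))
          (Ideal.mul_mem_left _ _ hv)

end

end Groth.Agent.Lib.helper10.Weil
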