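import Groth.Agent.Lib.helper10.WeilE

/-!
# Weil numbers, part F: the kernel of the evaluation map
-/

namespace Groth.Agent.Lib.helper10.Weil

open MvPolynomial

noncomputable section

universe u

theorem ev_pi_apply {ι : Type} {K : ι → Type u} [∀ i, CommRing (K i)] (x y : ∀ i, K i) (g : MP)
    (i : ι) : ev x y g i = ev (x i) (y i) g := by
  induction g using MvPolynomial.induction_on with
  | C a => simp [ev]
  | add f g hf hg => rw [map_add, map_add, Pi.add_apply, hf, hg]
  | mul_X f j hf =>
    rw [map_mul, map_mul, Pi.mul_apply, hf]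
    congr 1
    fin_cases j
    · simp [ev]
    · simp [ev]

theorem ev_X0_pow_mul {S : Type*} [CommRing S] (x y : S) (D : ℕ) (h : MP) :
    ev x y (X 0 ^ D * h) = x ^ D * ev x y h := by
  simp [ev]

theorem ev_aeval_X0 {S : Type*} [CommRing S] (x y : S) (P : Polynomial ℤ) :
    ev x y (Polynomial.aeval (X 0 : MP) P) = Polynomial.aeval x P := by
  have := ev_nf x y P 0
  simpa [nf] using this

theorem ker_eq {ι : Type} {K : ι → Type u} [∀ i, Field (K i)] (π : ∀ i, K i)
    (hπ : ∀ i, π i ≠ 0) (q : ℤ) (hq : q ≠ 0) (D : ℕ) (hD : 1 ≤ D) (P : Polynomial ℤ)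
    (hPm : P.Monic) (hPd : P.natDegree = 2 * D)
    (hroot : ∀ i, Polynomial.aeval (π i) P = 0)
    (hdvd : ∀ G : Polynomial ℤ, (∀ i, Polynomial.aeval (π i) G = 0) → P ∣ G)
    (u : ℤ) (hu : u * u = 1) (hP0 : P.coeff 0 = q ^ D * u)
    (h : MP) (hh : X 0 ^ D * h - Polynomial.aeval (X 0 : MP) P ∈ J q) :
    RingHom.ker (ev (fun i => π i) (fun i => (q : K i) / π i)) = I q h := by
  obtain ⟨Ah, Bh, hAB, hAc, hB2, hBc⟩ := shape q hq D P h hh
  have hA1 : Ah.coeff D = 1 := by
    rw [hAc, ← two_mul, ← hPd]; exact hPm.coeff_natDegree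
  have hA2 : ∀ m, D < m → Ah.coeff m = 0 := by
    intro m hm
    rw [hAc]
    exact Polynomial.coeff_eq_zero_of_natDegree_lt (by omega)
  have hB1 : Bh.coeff (D - 1) = u := by
    have := hBc (D - 1) (by omega)
    rw [show D - 1 + 1 = D by omega, show D - 1 - (D - 1) = 0 by omega, hP0] at this
    exact mul_left_cancel₀ (pow_ne_zero _ hq) this
  have hxy : ∀ i, π i * ((q : K i) / π i) = q := fun i => mul_div_cancel₀ _ (hπ i)
  have hJker : J q ≤ RingHom.ker (ev (fun i => π i) (fun i => (q : K i) / π i)) := by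
    apply J_le_ker
    funext i
    simpa using hxy i
  have hIker : I q h ≤ RingHom.ker (ev (fun i => π i) (fun i => (q : K i) / π i)) := by
    rw [I_le_iff]
    refine ⟨hJker (rel_mem q), ?_⟩
    rw [RingHom.mem_ker]
    funext i
    rw [ev_pi_apply]
    have h1 := J_le_ker (π i) ((q : K i) / π i) q (hxy i) hh
    rw [RingHom.mem_ker, map_sub, ev_X0_pow_mul, ev_aeval_X0, hroot i, sub_zero] at h1
    rcases mul_eq_zero.1 h1 with h2 | h2
    · exact absurd h2 (pow_ne_zero _ (hπ i))
    · exact h2
  apply le_antisymm _ hIker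
  intro g hg
  obtain ⟨A, B, hA, hB, hgAB⟩ := division q D hD h Ah Bh hAB hA1 hA2 hB2 u hu hB1 g
  have h0 : ev (fun i => π i) (fun i => (q : K i) / π i) (nf A B) = 0 := by
    have h1 := hIker hgAB
    rw [RingHom.mem_ker] at hg h1
    rw [map_sub, hg, zero_sub, neg_eq_zero] at h1
    exact h1
  have hBN : ∀ m, D - 1 < m → B.coeff m = 0 := fun m hm => hB m (by omega)
  have hG : G q (D - 1) A B = 0 := by
    have hdv : P ∣ G q (D - 1) A B := by
      apply hdvd
      intro i
      rw [← key q (π i) (hπ i) (D - 1) A B hBN]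
      have := congrFun h0 i
      rw [ev_pi_apply] at this
      rw [this]
      simp
    by_contra hne
    have h1 := Polynomial.natDegree_le_of_dvd hdv hne
    have h2 : (G q (D - 1) A B).natDegree ≤ 2 * D - 1 := by
      rw [Polynomial.natDegree_le_iff_coeff_eq_zero]
      intro n hn
      rw [coeff_G q (D - 1) A B hBN, if_neg (by omega)]
      exact hA _ (by omega)
    omega
  have hA0 : A = 0 := by
    ext j
    have := congrArg (fun p => p.coeff (j + D)) hG
    simp only [Polynomial.coeff_zero] at this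
    rw [coeff_G q (D - 1) A B hBN, if_neg (by omega), show j + D - (D - 1 + 1) = j by omega] at this
    simpa using this
  have hB0 : B = 0 := by
    ext m
    by_cases hm : D ≤ m
    · rw [hB m hm]; simp
    · have := congrArg (fun p => p.coeff (D - 1 - m)) hG
      simp only [Polynomial.coeff_zero] at this
      rw [coeff_G q (D - 1) A B hBN, if_pos (by omega),
        show D - 1 - (D - 1 - m) = m by omega] at this
      rcases mul_eq_zero.1 this with h3 | h3
      · exact absurd h3 (pow_ne_zero _ hq)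
      · simpa using h3
  rw [hA0, hB0, nf_zero, sub_zero] at hgAB
  exact hgAB

end

end Groth.Agent.Lib.helper10.Weil
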