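import Groth.Agent.Lib.helper10.WeilF

/-!
# Weil numbers, part G: verification of the hypotheses of `ker_eq`
-/

namespace Groth.Agent.Lib.helper10.Weil

open MvPolynomial

noncomputable section

universe u

theorem eq_ev {S : Type*} [CommRing S] (φ : MP →+* S) (g : MP) :
    φ g = ev (φ (X 0)) (φ (X 1)) g := by
  induction g using MvPolynomial.induction_on with
  | C a =>
    rw [eq_intCast (C : ℤ →+* MP) a, map_intCast, map_intCast]
  | add f g hf hg => rw [map_add, map_add, hf, hg]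
  | mul_X f j hf =>
    rw [map_mul, map_mul, hf]
    congr 1
    fin_cases j
    · simp [ev]
    · simp [ev]

theorem norm_coeff_zero (m : Polynomial ℤ) (hm : m.Monic) (r : ℝ)
    (hr : ∀ z ∈ m.aroots ℂ, ‖z‖ = r) : |(m.coeff 0 : ℝ)| = r ^ m.natDegree := by
  have hfm : (m.map (algebraMap ℤ ℂ)).Monic := hm.map _
  have hs : (m.map (algebraMap ℤ ℂ)).Splits := IsAlgClosed.splits _
  have h1 := hs.coeff_zero_eq_prod_roots_of_monic hfm
  have h2 : (m.map (algebraMap ℤ ℂ)).natDegree = m.natDegree := hm.natDegree_map _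
  have h3 : (m.map (algebraMap ℤ ℂ)).coeff 0 = (m.coeff 0 : ℂ) := by
    simp [Polynomial.coeff_map]
  have h4 : ‖(m.map (algebraMap ℤ ℂ)).roots.prod‖ = r ^ (m.map (algebraMap ℤ ℂ)).roots.card := by
    rw [← Multiset.prod_replicate]
    have : ‖(m.map (algebraMap ℤ ℂ)).roots.prod‖ =
        ((m.map (algebraMap ℤ ℂ)).roots.map (fun z => ‖z‖)).prod :=
      map_multiset_prod (normHom : ℂ →*₀ ℝ) _
    rw [this]
    congr 1
    rw [Multiset.eq_replicate]
    refine ⟨Multiset.card_map _ _, ?_⟩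
    intro b hb
    obtain ⟨z, hz, rfl⟩ := Multiset.mem_map.1 hb
    exact hr z hz
  rw [← Complex.norm_intCast, ← h3, h1, norm_mul, norm_pow, norm_neg, norm_one, one_pow, one_mul,
    h4, ← hs.natDegree_eq_card_roots, h2]

theorem isRelPrime_minpoly {ι : Type} {K : ι → Type u} [∀ i, Field (K i)] [∀ i, CharZero (K i)]
    (π : ∀ i, K i) (hint : ∀ i, IsIntegral ℤ (π i))
    (hinj : ∀ i j, minpoly ℤ (π i) = minpoly ℤ (π j) → i = j) :
    Pairwise (Function.onFun IsRelPrime fun i => minpoly ℤ (π i)) := by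
  intro i j hij
  change IsRelPrime (minpoly ℤ (π i)) (minpoly ℤ (π j))
  rw [(minpoly.irreducible (hint i)).isRelPrime_iff_not_dvd]
  intro hdvd
  apply hij
  apply hinj
  exact Polynomial.eq_of_monic_of_associated (minpoly.monic (hint i)) (minpoly.monic (hint j))
    ((minpoly.irreducible (hint i)).associated_of_dvd (minpoly.irreducible (hint j)) hdvd)

theorem prod_dvd {ι : Type} [Fintype ι] {K : ι → Type u} [∀ i, Field (K i)]
    [∀ i, CharZero (K i)]
    (π : ∀ i, K i) (hint : ∀ i, IsIntegral ℤ (π i))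
    (hinj : ∀ i j, minpoly ℤ (π i) = minpoly ℤ (π j) → i = j) (G : Polynomial ℤ)
    (hG : ∀ i, Polynomial.aeval (π i) G = 0) : (∏ i, minpoly ℤ (π i)) ∣ G :=
  Fintype.prod_dvd_of_isRelPrime (isRelPrime_minpoly π hint hinj)
    (fun i => minpoly.isIntegrallyClosed_dvd (hint i) (hG i))

theorem coeff_zero_prod {ι : Type} [Fintype ι] {K : ι → Type u} [∀ i, Field (K i)]
    [∀ i, CharZero (K i)]
    (π : ∀ i, K i) (hint : ∀ i, IsIntegral ℤ (π i)) (q : ℤ) (hq : 0 ≤ q)
    (hweil : ∀ i, ∀ z ∈ (minpoly ℤ (π i)).aroots ℂ, ‖z‖ = Real.sqrt (q : ℝ))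
    (D : ℕ) (hD : ∑ i, (minpoly ℤ (π i)).natDegree = 2 * D) :
    ∃ u : ℤ, u * u = 1 ∧ (∏ i, minpoly ℤ (π i)).coeff 0 = q ^ D * u := by
  have h1 : |((∏ i, minpoly ℤ (π i)).coeff 0 : ℝ)| = (q : ℝ) ^ D := by
    rw [Polynomial.coeff_zero_prod, Int.cast_prod, Finset.abs_prod]
    have : ∀ i ∈ (Finset.univ : Finset ι), |((minpoly ℤ (π i)).coeff 0 : ℝ)| =
        Real.sqrt (q : ℝ) ^ (minpoly ℤ (π i)).natDegree := fun i _ =>
      norm_coeff_zero _ (minpoly.monic (hint i)) _ (hweil i)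
    rw [Finset.prod_congr rfl this, Finset.prod_pow_eq_pow_sum, hD, pow_mul,
      Real.sq_sqrt (by exact_mod_cast hq)]
  have h2 : |(∏ i, minpoly ℤ (π i)).coeff 0| = q ^ D := by
    have : ((|(∏ i, minpoly ℤ (π i)).coeff 0| : ℤ) : ℝ) = ((q ^ D : ℤ) : ℝ) := by
      rw [Int.cast_abs, h1]; push_cast; rfl
    exact_mod_cast this
  rcases (abs_eq (pow_nonneg hq D)).1 h2 with h3 | h3
  · exact ⟨1, by norm_num, by rw [h3, mul_one]⟩
  · exact ⟨-1, by norm_num, by rw [h3]; ring⟩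

theorem pi_ne_zero {K : Type u} [Field K] [CharZero K] (x : K) (r : ℝ) (hr : 0 < r)
    (hweil : ∀ z ∈ (minpoly ℤ x).aroots ℂ, ‖z‖ = r) : x ≠ 0 := by
  rintro rfl
  have h0 : (0 : ℂ) ∈ (minpoly ℤ (0 : K)).aroots ℂ := by
    have h1 : minpoly ℤ (0 : K) = Polynomial.X := by
      have := minpoly.eq_X_sub_C_of_algebraMap_inj (A := ℤ) (B := K) 0
        (FaithfulSMul.algebraMap_injective ℤ K)
      simpa using this
    rw [h1]
    simp
  have := hweil 0 h0
  rw [norm_zero] at this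
  exact absurd this (ne_of_lt hr)

end

end Groth.Agent.Lib.helper10.Weil
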