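import Groth.Agent.Lib.helper10.WeilG

/-!
# Weil numbers, part H: modules over the minimal central order
-/

namespace Groth.Agent.Lib.helper10.Weil

open MvPolynomial

noncomputable section

universe u

theorem mu_X0 (q : ℤ) : mu q (X 0) = xx := by simp [mu, ev]

theorem key_mem (q : ℤ) (hq : q ≠ 0) (N : ℕ) (A B : Polynomial ℤ)
    (hB : ∀ m, N < m → B.coeff m = 0) :
    X 0 ^ (N + 1) * nf A B - Polynomial.aeval (X 0 : MP) (G q N A B) ∈ J q := by
  rw [← ker_mu q hq, RingHom.mem_ker, map_sub, map_mul, map_pow, mu_aeval_X0, ← aeval_xx,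
    sub_eq_zero, mu_X0]
  exact key q xx xx_ne_zero N A B hB

theorem key_ring {S : Type*} [CommRing S] (q : ℤ) (hq : q ≠ 0) (a b : S) (hab : a * b = q)
    (N : ℕ) (A B : Polynomial ℤ) (hB : ∀ m, N < m → B.coeff m = 0) :
    a ^ (N + 1) * ev a b (nf A B) = Polynomial.aeval a (G q N A B) := by
  have := J_le_ker a b q hab (key_mem q hq N A B hB)
  rw [RingHom.mem_ker, map_sub, sub_eq_zero, ev_X0_pow_mul, ev_aeval_X0] at this
  exact this

theorem ker_le_ker {ι : Type} {K : ι → Type u} [∀ i, Field (K i)] (π : ∀ i, K i)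
    (hπ : ∀ i, π i ≠ 0) (q : ℤ) (hq : q ≠ 0) (P : Polynomial ℤ)
    (hdvd : ∀ G : Polynomial ℤ, (∀ i, Polynomial.aeval (π i) G = 0) → P ∣ G)
    {S : Type*} [CommRing S] (a b : S) (hab : a * b = q) (hPa : Polynomial.aeval a P = 0)
    (ha : ∀ s, a * s = 0 → s = 0) :
    RingHom.ker (ev (fun i => π i) (fun i => (q : K i) / π i)) ≤ RingHom.ker (ev a b) := by
  intro g hg
  obtain ⟨A, B, hAB⟩ := exists_nf q g
  have hB : ∀ m, B.natDegree < m → B.coeff m = 0 := fun m hm =>
    Polynomial.coeff_eq_zero_of_natDegree_lt hm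
  have hxy : ∀ i, π i * ((q : K i) / π i) = q := fun i => mul_div_cancel₀ _ (hπ i)
  have hJker : J q ≤ RingHom.ker (ev (fun i => π i) (fun i => (q : K i) / π i)) := by
    apply J_le_ker
    funext i
    simpa using hxy i
  have h0 : ev (fun i => π i) (fun i => (q : K i) / π i) (nf A B) = 0 := by
    have h1 := hJker hAB
    rw [RingHom.mem_ker] at hg h1
    rw [map_sub, hg, zero_sub, neg_eq_zero] at h1
    exact h1
  have hdv : P ∣ G q B.natDegree A B := by
    apply hdvd
    intro i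
    rw [← key q (π i) (hπ i) B.natDegree A B hB]
    have := congrFun h0 i
    rw [ev_pi_apply] at this
    rw [this]
    simp
  have h1 : Polynomial.aeval a (G q B.natDegree A B) = 0 := by
    obtain ⟨Q, hQ⟩ := hdv
    rw [hQ, map_mul, hPa, zero_mul]
  rw [← key_ring q hq a b hab B.natDegree A B hB] at h1
  have hpow : ∀ (n : ℕ) (s : S), a ^ n * s = 0 → s = 0 := by
    intro n
    induction n with
    | zero => intro s hs; simpa using hs
    | succ n ih =>
      intro s hs
      rw [pow_succ, mul_assoc] at hs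
      exact ha s (ih _ hs)
  have h2 := hpow _ _ h1
  have h3 := J_le_ker a b q hab hAB
  rw [RingHom.mem_ker, map_sub, h2, sub_zero] at h3
  exact h3

section endo

variable {T : Type*} [AddCommGroup T]

theorem FT_injective (htf : ∀ (c : ℤ) (t : T), c ≠ 0 → c • t = 0 → t = 0)
    (FT : T →ₗ[ℤ] T) (P : Polynomial ℤ) (hP0 : P.coeff 0 ≠ 0)
    (hPF : Polynomial.aeval FT P = 0) : Function.Injective FT := by
  rw [injective_iff_map_eq_zero]
  intro t ht
  have h1 : Polynomial.aeval FT P t = 0 := by rw [hPF]; rfl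
  rw [← Polynomial.divX_mul_X_add P] at h1
  simp only [map_add, map_mul, Polynomial.aeval_X, Polynomial.aeval_C, LinearMap.add_apply,
    Module.End.mul_apply, ht, map_zero, zero_add] at h1
  apply htf _ t hP0
  simpa using h1

theorem VT_FT (htf : ∀ (c : ℤ) (t : T), c ≠ 0 → c • t = 0 → t = 0)
    (FT VT : T →ₗ[ℤ] T) (q : ℤ) (hFV : FT ∘ₗ VT = q • LinearMap.id)
    (hinj : Function.Injective FT) : VT ∘ₗ FT = q • LinearMap.id := by
  ext t
  apply hinj
  have := LinearMap.congr_fun hFV (FT t)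
  simp only [LinearMap.comp_apply, LinearMap.smul_apply, LinearMap.id_apply] at this ⊢
  rw [this, map_zsmul]

open scoped IsMulCommutative in
/-- the ring hom `ℤ[F, V] → End T` -/
theorem exists_psi {ι : Type} {K : ι → Type u} [∀ i, Field (K i)] (π : ∀ i, K i)
    (hπ : ∀ i, π i ≠ 0) (q : ℤ) (hq : q ≠ 0) (P : Polynomial ℤ)
    (hdvd : ∀ G : Polynomial ℤ, (∀ i, Polynomial.aeval (π i) G = 0) → P ∣ G)
    (hP0 : P.coeff 0 ≠ 0)
    (htf : ∀ (c : ℤ) (t : T), c ≠ 0 → c • t = 0 → t = 0)
    (FT VT : T →ₗ[ℤ] T) (hFV : FT ∘ₗ VT = q • LinearMap.id)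
    (hPF : Polynomial.aeval FT P = 0) :
    ∃ ψ : MP →+* Module.End ℤ T, ψ (X 0) = FT ∧
      RingHom.ker (ev (fun i => π i) (fun i => (q : K i) / π i)) ≤ RingHom.ker ψ := by
  have hinj := FT_injective htf FT P hP0 hPF
  have hVF := VT_FT htf FT VT q hFV hinj
  have hcomm : FT * VT = VT * FT := by
    rw [Module.End.mul_eq_comp, Module.End.mul_eq_comp, hFV, hVF]
  have hc : ∀ x ∈ ({FT, VT} : Set (Module.End ℤ T)), ∀ y ∈ ({FT, VT} : Set (Module.End ℤ T)),
      x * y = y * x := by
    intro x hx y hy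
    rcases hx with rfl | rfl <;> rcases hy with rfl | rfl
    · rfl
    · exact hcomm
    · exact hcomm.symm
    · rfl
  haveI := Algebra.isMulCommutative_adjoin ℤ hc
  letI : CommRing (Algebra.adjoin ℤ ({FT, VT} : Set (Module.End ℤ T))) := inferInstance
  let a : Algebra.adjoin ℤ ({FT, VT} : Set (Module.End ℤ T)) :=
    ⟨FT, Algebra.subset_adjoin (by simp)⟩
  let b : Algebra.adjoin ℤ ({FT, VT} : Set (Module.End ℤ T)) :=
    ⟨VT, Algebra.subset_adjoin (by simp)⟩
  let cv : Algebra.adjoin ℤ ({FT, VT} : Set (Module.End ℤ T)) →+* Module.End ℤ T :=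
    (Algebra.adjoin ℤ ({FT, VT} : Set (Module.End ℤ T))).val
  have hcv : Function.Injective cv := Subtype.val_injective
  have hab : a * b = (q : Algebra.adjoin ℤ ({FT, VT} : Set (Module.End ℤ T))) := by
    apply hcv
    rw [map_mul, map_intCast]
    change FT * VT = _
    rw [Module.End.mul_eq_comp, hFV]
    ext t
    simp
  have hPa : Polynomial.aeval a P = 0 := by
    apply hcv
    rw [map_zero, Polynomial.aeval_def, Polynomial.hom_eval₂]
    have h1 : cv.comp (algebraMap ℤ _) = algebraMap ℤ (Module.End ℤ T) := RingHom.ext_int _ _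
    rw [h1]
    exact hPF
  have ha : ∀ s, a * s = 0 → s = 0 := by
    intro s hs
    apply hcv
    rw [map_zero]
    have h1 : FT * cv s = 0 := by
      have := congrArg cv hs
      rwa [map_mul, map_zero] at this
    ext t
    apply hinj
    have := LinearMap.congr_fun h1 t
    simpa using this
  refine ⟨cv.comp (ev a b : MP →+* _), ?_, ?_⟩
  · simp [ev, cv, a]
  · refine le_trans (ker_le_ker π hπ q hq P hdvd a b hab hPa ha) ?_
    intro g hg
    rw [RingHom.mem_ker] at hg ⊢
    rw [RingHom.comp_apply]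
    change cv (ev a b g) = 0
    rw [hg, map_zero]

end endo

end

end Groth.Agent.Lib.helper10.Weil
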