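import Groth.Agent.Lib.helper10.WeilH

/-!
# Weil numbers, part I: the functional equation and the existence of `h`
-/

namespace Groth.Agent.Lib.helper10.Weil

open MvPolynomial

noncomputable section

universe u

theorem aeval_conj (P : Polynomial ℤ) (z : ℂ) :
    Polynomial.aeval (starRingEnd ℂ z) P = starRingEnd ℂ (Polynomial.aeval z P) := by
  rw [Polynomial.aeval_def, Polynomial.aeval_def, Polynomial.hom_eval₂]
  congr 1
  exact RingHom.ext_int _ _

theorem eq_C_mul_of_dvd (P G : Polynomial ℤ) (hP : P.Monic) (hdvd : P ∣ G)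
    (hdeg : ∀ m, P.natDegree < m → G.coeff m = 0) :
    G = Polynomial.C (G.coeff P.natDegree) * P := by
  obtain ⟨Q, rfl⟩ := hdvd
  by_cases hQ : Q = 0
  · subst hQ; simp
  have h1 : (P * Q).natDegree = P.natDegree + Q.natDegree := hP.natDegree_mul' hQ
  have h2 : (P * Q).natDegree ≤ P.natDegree := by
    rw [Polynomial.natDegree_le_iff_coeff_eq_zero]
    exact hdeg
  have h3 : Q.natDegree = 0 := by omega
  obtain ⟨a, rfl⟩ : ∃ a, Q = Polynomial.C a := ⟨_, Polynomial.eq_C_of_natDegree_eq_zero h3⟩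
  rw [Polynomial.coeff_mul_C, hP.coeff_natDegree, one_mul, mul_comm]

theorem coeff_R_self (q : ℤ) (B : Polynomial ℤ) (m : ℕ) (hm : B.natDegree < m) :
    (R q B.natDegree B).coeff m = 0 := by
  rw [coeff_R q _ B (fun m hm => Polynomial.coeff_eq_zero_of_natDegree_lt hm), if_neg (by omega)]

theorem funeq_single {K : Type u} [Field K] [CharZero K] (x : K) (hint : IsIntegral ℤ x)
    (q : ℤ) (hq : 0 < q)
    (hweil : ∀ z ∈ (minpoly ℤ x).aroots ℂ, ‖z‖ = Real.sqrt (q : ℝ)) :
    R q (minpoly ℤ x).natDegree (minpoly ℤ x) =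
      Polynomial.C ((minpoly ℤ x).coeff 0) * minpoly ℤ x := by
  have hPm := minpoly.monic hint
  have hPirr := minpoly.irreducible hint
  have hdeg : (minpoly ℤ x).degree ≠ 0 := by
    rw [Polynomial.degree_eq_natDegree hPm.ne_zero]
    exact_mod_cast (minpoly.natDegree_pos hint).ne'
  obtain ⟨α, hα⟩ := IsAlgClosed.exists_aeval_eq_zero ℂ (minpoly ℤ x) hdeg
  have hαmem : α ∈ (minpoly ℤ x).aroots ℂ := by
    rw [Polynomial.mem_aroots]
    exact ⟨hPm.ne_zero, hα⟩
  have hnorm := hweil α hαmem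
  have hqr : (0 : ℝ) < q := by exact_mod_cast hq
  have hα0 : α ≠ 0 := by
    rintro rfl
    rw [norm_zero] at hnorm
    exact absurd hnorm.symm (Real.sqrt_pos.2 hqr).ne'
  have hconj : starRingEnd ℂ α = (q : ℂ) / α := by
    rw [eq_div_iff hα0, mul_comm, Complex.mul_conj, Complex.normSq_eq_norm_sq, hnorm,
      Real.sq_sqrt hqr.le]
    push_cast; rfl
  have hαint : IsIntegral ℤ α := ⟨minpoly ℤ x, hPm, hα⟩
  have hmin : minpoly ℤ α = minpoly ℤ x := by
    have h1 : minpoly ℤ α ∣ minpoly ℤ x := minpoly.isIntegrallyClosed_dvd hαint hα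
    exact Polynomial.eq_of_monic_of_associated (minpoly.monic hαint) hPm
      ((minpoly.irreducible hαint).associated_of_dvd hPirr h1)
  have hroot : Polynomial.aeval α (R q (minpoly ℤ x).natDegree (minpoly ℤ x)) = 0 := by
    rw [aeval_R q α hα0 _ _ (fun m hm => Polynomial.coeff_eq_zero_of_natDegree_lt hm), ← hconj,
      aeval_conj, hα, map_zero, mul_zero]
  have hdvd : minpoly ℤ x ∣ R q (minpoly ℤ x).natDegree (minpoly ℤ x) := by
    rw [← hmin]
    rw [← hmin] at hroot
    exact minpoly.isIntegrallyClosed_dvd hαint hroot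
  have := eq_C_mul_of_dvd _ _ hPm hdvd (coeff_R_self q _)
  rw [coeff_R q _ _ (fun m hm => Polynomial.coeff_eq_zero_of_natDegree_lt hm),
    if_pos le_rfl] at this
  simpa using this

theorem aeval_div_eq_zero {K : Type u} [Field K] [CharZero K] (x : K) (hx : x ≠ 0)
    (hint : IsIntegral ℤ x) (q : ℤ) (hq : 0 < q)
    (hweil : ∀ z ∈ (minpoly ℤ x).aroots ℂ, ‖z‖ = Real.sqrt (q : ℝ)) :
    Polynomial.aeval ((q : K) / x) (minpoly ℤ x) = 0 := by
  have h1 := congrArg (Polynomial.aeval x) (funeq_single x hint q hq hweil)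
  rw [aeval_R q x hx _ _ (fun m hm => Polynomial.coeff_eq_zero_of_natDegree_lt hm), map_mul,
    minpoly.aeval, mul_zero] at h1
  rcases mul_eq_zero.1 h1 with h2 | h2
  · exact absurd h2 (pow_ne_zero _ hx)
  · exact h2

theorem funeq {ι : Type} [Fintype ι] {K : ι → Type u} [∀ i, Field (K i)]
    [∀ i, CharZero (K i)] (π : ∀ i, K i) (hπ : ∀ i, π i ≠ 0) (hint : ∀ i, IsIntegral ℤ (π i))
    (hinj : ∀ i j, minpoly ℤ (π i) = minpoly ℤ (π j) → i = j) (q : ℤ) (hq : 0 < q)
    (hweil : ∀ i, ∀ z ∈ (minpoly ℤ (π i)).aroots ℂ, ‖z‖ = Real.sqrt (q : ℝ)) :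
    R q (∏ i, minpoly ℤ (π i)).natDegree (∏ i, minpoly ℤ (π i)) =
      Polynomial.C ((∏ i, minpoly ℤ (π i)).coeff 0) * ∏ i, minpoly ℤ (π i) := by
  classical
  have hPm : (∏ i, minpoly ℤ (π i)).Monic := Polynomial.monic_prod_of_monic _ _
    (fun i _ => minpoly.monic (hint i))
  have hdvd : (∏ i, minpoly ℤ (π i)) ∣
      R q (∏ i, minpoly ℤ (π i)).natDegree (∏ i, minpoly ℤ (π i)) := by
    apply prod_dvd π hint hinj
    intro i
    have h1 : Polynomial.aeval ((q : K i) / π i) (∏ i, minpoly ℤ (π i)) = 0 := by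
      rw [map_prod]
      exact Finset.prod_eq_zero (Finset.mem_univ i)
        (aeval_div_eq_zero (π i) (hπ i) (hint i) q hq (hweil i))
    rw [aeval_R q (π i) (hπ i) _ _ (fun m hm => Polynomial.coeff_eq_zero_of_natDegree_lt hm),
      h1, mul_zero]
  have := eq_C_mul_of_dvd _ _ hPm hdvd (coeff_R_self q _)
  rw [coeff_R q _ _ (fun m hm => Polynomial.coeff_eq_zero_of_natDegree_lt hm),
    if_pos le_rfl] at this
  simpa using this

/-- coefficientwise form of the functional equation -/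
theorem funeq_coeff (P : Polynomial ℤ) (q : ℤ) (hq : q ≠ 0) (D : ℕ) (hPd : P.natDegree = 2 * D)
    (hfe : R q P.natDegree P = Polynomial.C (P.coeff 0) * P) (u : ℤ)
    (hP0 : P.coeff 0 = q ^ D * u) (m : ℕ) (hm : m ≤ D) :
    P.coeff (D - m) = q ^ m * u * P.coeff (D + m) := by
  have h1 := congrArg (fun p => p.coeff (D + m)) hfe
  simp only [Polynomial.coeff_C_mul] at h1
  rw [coeff_R q _ _ (fun m hm => Polynomial.coeff_eq_zero_of_natDegree_lt hm), hPd,
    if_pos (by omega), show 2 * D - (D + m) = D - m by omega, hP0] at h1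
  have h2 : q ^ D = q ^ (D - m) * q ^ m := by rw [← pow_add]; congr 1; omega
  rw [h2] at h1
  have h3 : q ^ (D - m) * P.coeff (D - m) = q ^ (D - m) * (q ^ m * u * P.coeff (D + m)) := by
    rw [h1]; ring
  exact mul_left_cancel₀ (pow_ne_zero _ hq) h3

theorem coeff_iterate_divX (P : Polynomial ℤ) (k j : ℕ) :
    (Polynomial.divX^[k] P).coeff j = P.coeff (j + k) := by
  induction k generalizing j with
  | zero => simp
  | succ k ih =>
    rw [Function.iterate_succ_apply', Polynomial.coeff_divX, ih]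
    congr 1
    omega

/-- existence of `h` -/
theorem exists_h (P : Polynomial ℤ) (q : ℤ) (hq : q ≠ 0) (D : ℕ) (hD : 1 ≤ D)
    (hPd : P.natDegree = 2 * D)
    (hfe : R q P.natDegree P = Polynomial.C (P.coeff 0) * P) (u : ℤ)
    (hP0 : P.coeff 0 = q ^ D * u) :
    ∃ h : MP, X 0 ^ D * h - Polynomial.aeval (X 0 : MP) P ∈ J q := by
  refine ⟨nf (Polynomial.divX^[D] P) (Polynomial.C u * Polynomial.divX^[D + 1] P), ?_⟩
  have hB : ∀ m, D - 1 < m →
      (Polynomial.C u * Polynomial.divX^[D + 1] P).coeff m = 0 := by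
    intro m hm
    rw [Polynomial.coeff_C_mul, coeff_iterate_divX,
      Polynomial.coeff_eq_zero_of_natDegree_lt (by omega), mul_zero]
  have hG : G q (D - 1) (Polynomial.divX^[D] P) (Polynomial.C u * Polynomial.divX^[D + 1] P) =
      P := by
    ext n
    rw [coeff_G q (D - 1) _ _ hB]
    split_ifs with hn
    · rw [Polynomial.coeff_C_mul, coeff_iterate_divX]
      have := funeq_coeff P q hq D hPd hfe u hP0 (D - n) (by omega)
      rw [show D - (D - n) = n by omega] at this
      rw [this, show D - 1 - n + 1 = D - n by omega,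
        show D - 1 - n + (D + 1) = D + (D - n) by omega]
      ring
    · rw [coeff_iterate_divX]
      congr 1
      omega
  have := key_mem q hq (D - 1) (Polynomial.divX^[D] P)
    (Polynomial.C u * Polynomial.divX^[D + 1] P) hB
  rwa [hG, show D - 1 + 1 = D by omega] at this

end

end Groth.Agent.Lib.helper10.Weil
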