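import Groth.Agent.Lib.helper10.WeilI
import Groth.Agent.Lib.Helper5.GorLCIA
import Groth.Agent.Lib.Helper5.GorFibreC
import Groth.Agent.Lib.Helper5.GorFibreE
import Groth.Agent.Lib.Helper5.LciF
import Groth.Agent.Lib.Helper5.RegImmB

/-!
# Weil numbers, part J: the minimal central order is free of rank `2 D` and Gorenstein
-/

namespace Groth.Agent.Lib.helper10.Weil

open MvPolynomial

noncomputable section

universe u

theorem small_ev_eq_zero {ι : Type} {K : ι → Type u} [∀ i, Field (K i)] (π : ∀ i, K i)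
    (hπ : ∀ i, π i ≠ 0) (q : ℤ) (hq : q ≠ 0) (D : ℕ) (hD : 1 ≤ D) (P : Polynomial ℤ)
    (hPd : P.natDegree = 2 * D)
    (hdvd : ∀ G : Polynomial ℤ, (∀ i, Polynomial.aeval (π i) G = 0) → P ∣ G)
    (A B : Polynomial ℤ) (hA : ∀ m, D ≤ m → A.coeff m = 0) (hB : ∀ m, D ≤ m → B.coeff m = 0)
    (h0 : ev (fun i => π i) (fun i => (q : K i) / π i) (nf A B) = 0) : A = 0 ∧ B = 0 := by
  have hBN : ∀ m, D - 1 < m → B.coeff m = 0 := fun m hm => hB m (by omega)
  have hG : G q (D - 1) A B = 0 := by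
    have hdv : P ∣ G q (D - 1) A B := by
      apply hdvd
      intro i
      rw [← key q (π i) (hπ i) (D - 1) A B hBN]
      have := congrFun h0 i
      rw [ev_pi_apply] at this
      rw [this]
      simp
    by_contra hne
    have h1 := Polynomial.natDegree_le_of_dvd hdv hne
    have h2 : (G q (D - 1) A B).natDegree ≤ 2 * D - 1 := by
      rw [Polynomial.natDegree_le_iff_coeff_eq_zero]
      intro n hn
      rw [coeff_G q (D - 1) A B hBN, if_neg (by omega)]
      exact hA _ (by omega)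
    omega
  constructor
  · ext j
    have := congrArg (fun p => p.coeff (j + D)) hG
    simp only [Polynomial.coeff_zero] at this
    rw [coeff_G q (D - 1) A B hBN, if_neg (by omega), show j + D - (D - 1 + 1) = j by omega] at this
    simpa using this
  · ext m
    by_cases hm : D ≤ m
    · rw [hB m hm]; simp
    · have := congrArg (fun p => p.coeff (D - 1 - m)) hG
      simp only [Polynomial.coeff_zero] at this
      rw [coeff_G q (D - 1) A B hBN, if_pos (by omega),
        show D - 1 - (D - 1 - m) = m by omega] at this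
      rcases mul_eq_zero.1 this with h3 | h3
      · exact absurd h3 (pow_ne_zero _ hq)
      · simpa using h3

theorem mem_degreeLT_iff (D : ℕ) (A : Polynomial ℤ) :
    A ∈ Polynomial.degreeLT ℤ D ↔ ∀ m, D ≤ m → A.coeff m = 0 := by
  rw [Polynomial.mem_degreeLT, Polynomial.degree_lt_iff_coeff_zero]

/-- the basis of normal forms -/
theorem exists_addEquiv {ι : Type} {K : ι → Type u} [∀ i, Field (K i)] (π : ∀ i, K i)
    (hπ : ∀ i, π i ≠ 0) (q : ℤ) (hq : q ≠ 0) (D : ℕ) (hD : 1 ≤ D) (P : Polynomial ℤ)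
    (hPm : P.Monic) (hPd : P.natDegree = 2 * D)
    (hroot : ∀ i, Polynomial.aeval (π i) P = 0)
    (hdvd : ∀ G : Polynomial ℤ, (∀ i, Polynomial.aeval (π i) G = 0) → P ∣ G)
    (u : ℤ) (hu : u * u = 1) (hP0 : P.coeff 0 = q ^ D * u)
    (h : MP) (hh : X 0 ^ D * h - Polynomial.aeval (X 0 : MP) P ∈ J q)
    {R' : Type*} [Ring R'] (f : MP →+* R') (hf : Function.Surjective f)
    (hker : RingHom.ker f = RingHom.ker (ev (fun i => π i) (fun i => (q : K i) / π i))) :
    Nonempty ((Polynomial.degreeLT ℤ D × Polynomial.degreeLT ℤ D) ≃+ R') := by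
  have hkI := ker_eq π hπ q hq D hD P hPm hPd hroot hdvd u hu hP0 h hh
  obtain ⟨Ah, Bh, hAB, hAc, hB2, hBc⟩ := shape q hq D P h hh
  have hA1 : Ah.coeff D = 1 := by
    rw [hAc, ← two_mul, ← hPd]; exact hPm.coeff_natDegree
  have hA2 : ∀ m, D < m → Ah.coeff m = 0 := by
    intro m hm
    rw [hAc]
    exact Polynomial.coeff_eq_zero_of_natDegree_lt (by omega)
  have hB1 : Bh.coeff (D - 1) = u := by
    have := hBc (D - 1) (by omega)
    rw [show D - 1 + 1 = D by omega, show D - 1 - (D - 1) = 0 by omega, hP0] at this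
    exact mul_left_cancel₀ (pow_ne_zero _ hq) this
  let Ψ : (Polynomial.degreeLT ℤ D × Polynomial.degreeLT ℤ D) →+ R' :=
    { toFun := fun x => f (nf x.1.1 x.2.1)
      map_zero' := by simp [nf_zero]
      map_add' := fun x y => by
        simp only [Prod.fst_add, Prod.snd_add, Submodule.coe_add, nf_add, map_add] }
  refine ⟨AddEquiv.ofBijective Ψ ⟨?_, ?_⟩⟩
  · rw [injective_iff_map_eq_zero]
    rintro ⟨⟨A, hA⟩, ⟨B, hB⟩⟩ h0
    change f (nf A B) = 0 at h0
    have h1 : nf A B ∈ RingHom.ker f := h0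
    rw [hker, RingHom.mem_ker] at h1
    obtain ⟨rfl, rfl⟩ := small_ev_eq_zero π hπ q hq D hD P hPd hdvd A B
      ((mem_degreeLT_iff D A).1 hA) ((mem_degreeLT_iff D B).1 hB) h1
    rfl
  · intro r
    obtain ⟨g, rfl⟩ := hf r
    obtain ⟨A, B, hA, hB, hgAB⟩ := division q D hD h Ah Bh hAB hA1 hA2 hB2 u hu hB1 g
    refine ⟨⟨⟨A, (mem_degreeLT_iff D A).2 hA⟩, ⟨B, (mem_degreeLT_iff D B).2 hB⟩⟩, ?_⟩
    change f (nf A B) = f g
    rw [← hkI, ← hker, RingHom.mem_ker, map_sub, sub_eq_zero] at hgAB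
    exact hgAB.symm

theorem free_finrank (D : ℕ) {R' : Type*} [AddCommGroup R']
    (e : (Polynomial.degreeLT ℤ D × Polynomial.degreeLT ℤ D) ≃+ R') :
    Module.Free ℤ R' ∧ Module.Finite ℤ R' ∧ Module.finrank ℤ R' = 2 * D := by
  have e1 : (Polynomial.degreeLT ℤ D) ≃ₗ[ℤ] (Fin D → ℤ) := Polynomial.degreeLTEquiv ℤ D
  have e2 : ((Fin D → ℤ) × (Fin D → ℤ)) ≃ₗ[ℤ] R' :=
    (LinearEquiv.prodCongr e1 e1).symm.trans e.toIntLinearEquiv
  refine ⟨Module.Free.of_equiv e2, Module.Finite.equiv e2, ?_⟩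
  rw [← e2.finrank_eq, Module.finrank_prod, Module.finrank_fin_fun]
  ring

/-- A quotient of `ℤ[F, V]` by a regular sequence of length two is a Gorenstein ring (in any
universe). -/
theorem gorenstein_of_regular {R' : Type u} [CommRing R'] (f : MP →+* R')
    (hf : Function.Surjective f) (r1 r2 : MP) (hker : RingHom.ker f = Ideal.span {r1, r2})
    (hreg : RingTheory.Sequence.IsWeaklyRegular MP [r1, r2]) : LocCoh.IsGorensteinRing R' := by
  let ε : MP ≃+* MvPolynomial (Fin 2) (ULift.{u} ℤ) :=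
    MvPolynomial.mapEquiv (Fin 2) (ULift.ringEquiv.symm : ℤ ≃+* ULift.{u} ℤ)
  haveI : IsRegularRing (ULift.{u} ℤ) :=
    IsRegularRing.of_ringEquiv (ULift.ringEquiv.symm : ℤ ≃+* ULift.{u} ℤ)
  have hG' : LocCoh.IsGorensteinRing (MvPolynomial (Fin 2) (ULift.{u} ℤ)) :=
    Groth.Agent.Lib.Helper5.GorFibre.isGorensteinRing_of_isRegularRing _
  let f' : MvPolynomial (Fin 2) (ULift.{u} ℤ) →+* R' := f.comp (ε.symm : _ →+* MP)
  have hf' : Function.Surjective f' := hf.comp ε.symm.surjective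
  have hker' : RingHom.ker f' = Ideal.ofList [ε r1, ε r2] := by
    have h1 : RingHom.ker f' = (RingHom.ker f).comap (ε.symm : _ →+* MP) :=
      (RingHom.comap_ker f _).symm
    have h2 : Ideal.span ({r1, r2} : Set MP) = Ideal.ofList [r1, r2] := by
      rw [Ideal.ofList]
      congr 1
      ext x
      simp
    rw [h1]
    change Ideal.comap ε.symm (RingHom.ker f) = _
    rw [Ideal.comap_symm, hker, h2]
    change Ideal.map (ε : MP →+* MvPolynomial (Fin 2) (ULift.{u} ℤ)) _ = _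
    rw [Ideal.map_ofList]
    rfl
  have hreg' : RingTheory.Sequence.IsWeaklyRegular (MvPolynomial (Fin 2) (ULift.{u} ℤ))
      [ε r1, ε r2] := by
    refine (AddEquiv.isWeaklyRegular_congr (e := ε.toAddEquiv) ?_).1 hreg
    refine List.Forall₂.cons (fun x => ?_) (List.Forall₂.cons (fun x => ?_) List.Forall₂.nil)
    · exact map_mul ε r1 x
    · exact map_mul ε r2 x
  have hK := Groth.Agent.Lib.Helper5.Lci.isKoszulRegularIdeal_ofList _
    (Groth.Agent.Lib.Helper5.RegImmB.isKoszulRegularSeq_of_isWeaklyRegular _ hreg')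
  rw [← hker'] at hK
  have hQ := Groth.Agent.Lib.Helper5.GorLCI.isGorensteinRing_quotient hG' _ hK
  exact Groth.Agent.Lib.Helper5.GorFibre.isGorensteinRing_of_ringEquiv
    (RingHom.quotientKerEquivOfSurjective hf') hQ

end

end Groth.Agent.Lib.helper10.Weil
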