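import Groth.Agent.Lib.helper10.WeilI

/-!
# Weil numbers, part K: counting unit roots in an ultrametric field
-/

namespace Groth.Agent.Lib.helper10.Weil

open Polynomial

noncomputable section

section ultra

variable {Ω : Type*} [NormedField Ω] [IsUltrametricDist Ω]

theorem norm_sub_le_one' {a b : Ω} (ha : ‖a‖ ≤ 1) (hb : ‖b‖ ≤ 1) : ‖a - b‖ ≤ 1 := by
  rw [sub_eq_add_neg]
  refine le_trans (IsUltrametricDist.norm_add_le_max a (-b)) ?_
  rw [norm_neg]
  exact max_le ha hb

theorem norm_sub_lt_one' {a b : Ω} (ha : ‖a‖ < 1) (hb : ‖b‖ < 1) : ‖a - b‖ < 1 := by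
  rw [sub_eq_add_neg]
  refine lt_of_le_of_lt (IsUltrametricDist.norm_add_le_max a (-b)) ?_
  rw [norm_neg]
  exact max_lt ha hb

theorem norm_sub_eq_one_left {a b : Ω} (ha : ‖a‖ = 1) (hb : ‖b‖ < 1) : ‖a - b‖ = 1 := by
  rw [sub_eq_add_neg, IsUltrametricDist.norm_add_eq_max_of_norm_ne_norm, norm_neg, ha,
    max_eq_left hb.le]
  rw [norm_neg, ha]
  exact hb.ne'

theorem norm_sub_eq_one_right {a b : Ω} (ha : ‖a‖ < 1) (hb : ‖b‖ = 1) : ‖a - b‖ = 1 := by
  rw [← norm_neg, neg_sub]
  exact norm_sub_eq_one_left hb ha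

/-- The number of unit roots of `∏ (X - z)` is read off from the coefficients. -/
theorem unit_count [DecidablePred fun z : Ω => ‖z‖ = 1] (T : Multiset Ω)
    (hT : ∀ z ∈ T, ‖z‖ ≤ 1) :
    (∀ j, ‖((T.map (fun z => X - C z)).prod).coeff j‖ ≤ 1) ∧
    ‖((T.map (fun z => X - C z)).prod).coeff
      (Multiset.card T - Multiset.card (T.filter (fun z => ‖z‖ = 1)))‖ = 1 ∧
    ∀ j, j < Multiset.card T - Multiset.card (T.filter (fun z => ‖z‖ = 1)) →
      ‖((T.map (fun z => X - C z)).prod).coeff j‖ < 1 := by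
  induction T using Multiset.induction_on with
  | empty =>
    refine ⟨?_, ?_, ?_⟩
    · intro j
      simp only [Multiset.map_zero, Multiset.prod_zero, coeff_one]
      split_ifs <;> simp
    · simp
    · intro j hj; simp at hj
  | cons z T' ih =>
    have hT' : ∀ w ∈ T', ‖w‖ ≤ 1 := fun w hw => hT w (Multiset.mem_cons_of_mem hw)
    obtain ⟨ih1, ih2, ih3⟩ := ih hT'
    have hz : ‖z‖ ≤ 1 := hT z (Multiset.mem_cons_self z T')
    have hU : Multiset.card (T'.filter (fun z => ‖z‖ = 1)) ≤ Multiset.card T' :=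
      Multiset.card_le_card (Multiset.filter_le _ _)
    set Q := (T'.map (fun z => X - C z)).prod with hQ
    have hprod : ((z ::ₘ T').map (fun z => X - C z)).prod = Q * (X - C z) := by
      rw [Multiset.map_cons, Multiset.prod_cons, mul_comm]
    have hc0 : (Q * (X - C z)).coeff 0 = Q.coeff 0 * (-z) := by
      rw [mul_coeff_zero]; simp
    have hcs : ∀ k, (Q * (X - C z)).coeff (k + 1) = Q.coeff k - Q.coeff (k + 1) * z :=
      fun k => coeff_mul_X_sub_C
    rw [hprod, Multiset.card_cons]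
    have hall : ∀ j, ‖(Q * (X - C z)).coeff j‖ ≤ 1 := by
      intro j
      rcases j with _ | k
      · rw [hc0, norm_mul, norm_neg]
        exact mul_le_one₀ (ih1 0) (norm_nonneg _) hz
      · rw [hcs]
        refine norm_sub_le_one' (ih1 k) ?_
        rw [norm_mul]
        exact mul_le_one₀ (ih1 _) (norm_nonneg _) hz
    refine ⟨hall, ?_⟩
    by_cases hz1 : ‖z‖ = 1
    · rw [Multiset.filter_cons_of_pos (p := fun z : Ω => ‖z‖ = 1) T' hz1, Multiset.card_cons,
        show Multiset.card T' + 1 - (Multiset.card (T'.filter (fun z => ‖z‖ = 1)) + 1) =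
          Multiset.card T' - Multiset.card (T'.filter (fun z => ‖z‖ = 1)) by omega]
      set s := Multiset.card T' - Multiset.card (T'.filter (fun z => ‖z‖ = 1)) with hs
      constructor
      · rcases hs' : s with _ | k
        · rw [hs'] at ih2
          rw [hc0, norm_mul, norm_neg, ih2, hz1, one_mul]
        · rw [hs'] at ih2 ih3
          rw [hcs]
          refine norm_sub_eq_one_right (ih3 k (by omega)) ?_
          rw [norm_mul, ih2, hz1, one_mul]
      · intro j hj
        rcases j with _ | k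
        · rw [hc0, norm_mul, norm_neg, hz1, mul_one]
          exact ih3 0 hj
        · rw [hcs]
          refine norm_sub_lt_one' (ih3 k (by omega)) ?_
          rw [norm_mul, hz1, mul_one]
          exact ih3 (k + 1) hj
    · have hz2 : ‖z‖ < 1 := lt_of_le_of_ne hz hz1
      rw [Multiset.filter_cons_of_neg (p := fun z : Ω => ‖z‖ = 1) T' hz1,
        show Multiset.card T' + 1 - Multiset.card (T'.filter (fun z => ‖z‖ = 1)) =
          (Multiset.card T' - Multiset.card (T'.filter (fun z => ‖z‖ = 1))) + 1 by omega]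
      set s := Multiset.card T' - Multiset.card (T'.filter (fun z => ‖z‖ = 1)) with hs
      constructor
      · rw [hcs]
        refine norm_sub_eq_one_left ih2 ?_
        rw [norm_mul]
        calc ‖Q.coeff (s + 1)‖ * ‖z‖ ≤ 1 * ‖z‖ :=
              mul_le_mul_of_nonneg_right (ih1 _) (norm_nonneg _)
          _ < 1 := by rw [one_mul]; exact hz2
      · intro j hj
        have hsmall : ∀ m, ‖Q.coeff m * z‖ < 1 := by
          intro m
          rw [norm_mul]
          calc ‖Q.coeff m‖ * ‖z‖ ≤ 1 * ‖z‖ :=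
                mul_le_mul_of_nonneg_right (ih1 _) (norm_nonneg _)
            _ < 1 := by rw [one_mul]; exact hz2
        rcases j with _ | k
        · rw [hc0, ← neg_mul_eq_mul_neg, norm_neg]
          exact hsmall 0
        · rw [hcs]
          exact norm_sub_lt_one' (ih3 k (by omega)) (hsmall _)

/-- roots of a monic polynomial with coefficients of norm `≤ 1` have norm `≤ 1` -/
theorem norm_root_le_one (Q : Polynomial Ω) (hQ : Q.Monic) (hc : ∀ j, ‖Q.coeff j‖ ≤ 1) (z : Ω)
    (hz : Q.eval z = 0) : ‖z‖ ≤ 1 := by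
  by_contra hlt
  rw [not_le] at hlt
  have h1 : Q.eval z = ∑ j ∈ Finset.range (Q.natDegree + 1), Q.coeff j * z ^ j :=
    Polynomial.eval_eq_sum_range z
  rw [hz, Finset.sum_range_succ, hQ.coeff_natDegree, one_mul] at h1
  have h2 : z ^ Q.natDegree = -∑ j ∈ Finset.range Q.natDegree, Q.coeff j * z ^ j := by
    rw [eq_neg_iff_add_eq_zero, add_comm]; exact h1.symm
  have hn : Q.natDegree ≠ 0 := by
    intro h0
    rw [h0] at h2
    simp at h2
  have h3 : ‖∑ j ∈ Finset.range Q.natDegree, Q.coeff j * z ^ j‖ ≤ ‖z‖ ^ (Q.natDegree - 1) := by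
    apply IsUltrametricDist.norm_sum_le_of_forall_le_of_nonneg (by positivity)
    intro j hj
    rw [Finset.mem_range] at hj
    rw [norm_mul, norm_pow]
    calc ‖Q.coeff j‖ * ‖z‖ ^ j ≤ 1 * ‖z‖ ^ j :=
          mul_le_mul_of_nonneg_right (hc j) (by positivity)
      _ = ‖z‖ ^ j := one_mul _
      _ ≤ ‖z‖ ^ (Q.natDegree - 1) := pow_le_pow_right₀ hlt.le (by omega)
  have h4 := congrArg norm h2
  rw [norm_neg, norm_pow] at h4
  rw [← h4] at h3
  have h5 : ‖z‖ ^ (Q.natDegree - 1) < ‖z‖ ^ Q.natDegree :=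
    pow_lt_pow_right₀ hlt (by omega)
  exact absurd h3 (not_le.2 h5)

end ultra

section padic

variable (p : ℕ) [Fact p.Prime]

theorem padic_norm_int_le_one (a : ℤ) : ‖(a : PadicAlgCl p)‖ ≤ 1 := by
  rw [← map_intCast (algebraMap ℚ_[p] (PadicAlgCl p)) a, PadicAlgCl.norm_extends]
  exact Padic.norm_int_le_one a

theorem padic_norm_int_lt_one_iff (a : ℤ) : ‖(a : PadicAlgCl p)‖ < 1 ↔ (p : ℤ) ∣ a := by
  rw [← map_intCast (algebraMap ℚ_[p] (PadicAlgCl p)) a, PadicAlgCl.norm_extends]
  exact Padic.norm_intCast_lt_one_iff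

theorem padic_norm_int_eq_one_iff (a : ℤ) : ‖(a : PadicAlgCl p)‖ = 1 ↔ ¬ (p : ℤ) ∣ a := by
  rw [← padic_norm_int_lt_one_iff, not_lt]
  exact ⟨fun h => h.ge, fun h => le_antisymm (padic_norm_int_le_one p a) h⟩

/-- The number `U` of `p`-adic unit roots of a monic integer polynomial of degree `n`:
`p ∤ a_{n-U}` and `p ∣ a_j` for `j < n - U`. -/
theorem padic_unit_count [DecidablePred fun z : PadicAlgCl p => ‖z‖ = 1] (P : ℤ[X])
    (hP : P.Monic) :
    ¬ (p : ℤ) ∣ P.coeff (P.natDegree -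
        Multiset.card ((P.aroots (PadicAlgCl p)).filter (fun z => ‖z‖ = 1))) ∧
      ∀ j, j < P.natDegree -
        Multiset.card ((P.aroots (PadicAlgCl p)).filter (fun z => ‖z‖ = 1)) →
        (p : ℤ) ∣ P.coeff j := by
  have hm : (P.map (algebraMap ℤ (PadicAlgCl p))).Monic := hP.map _
  have hs : (P.map (algebraMap ℤ (PadicAlgCl p))).Splits := IsAlgClosed.splits _
  have hprod := hs.eq_prod_roots_of_monic hm
  have hcoeff : ∀ j, (P.map (algebraMap ℤ (PadicAlgCl p))).coeff j = ((P.coeff j : ℤ) : PadicAlgCl p) := by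
    intro j; simp [Polynomial.coeff_map]
  have hT : ∀ z ∈ (P.map (algebraMap ℤ (PadicAlgCl p))).roots, ‖z‖ ≤ 1 := by
    intro z hz
    apply norm_root_le_one _ hm _ z
    · exact (Polynomial.mem_roots hm.ne_zero).1 hz
    · intro j
      rw [hcoeff]
      exact padic_norm_int_le_one p _
  have hcard : Multiset.card (P.map (algebraMap ℤ (PadicAlgCl p))).roots = P.natDegree := by
    rw [← hs.natDegree_eq_card_roots, hP.natDegree_map]
  obtain ⟨-, h2, h3⟩ := unit_count _ hT
  rw [← hprod, hcard, hcoeff] at h2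
  refine ⟨(padic_norm_int_eq_one_iff p _).1 h2, ?_⟩
  intro j hj
  have := h3 j (by rw [hcard]; exact hj)
  rw [← hprod, hcoeff] at this
  exact (padic_norm_int_lt_one_iff p _).1 this

end padic

end

end Groth.Agent.Lib.helper10.Weil
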