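import Groth.Agent.Lib.helper10.WeilK

/-!
# Weil numbers, part L: ordinary Weil numbers
-/

namespace Groth.Agent.Lib.helper10.Weil

open Polynomial

noncomputable section

universe u

theorem aeval_real_ne_zero (P : ℤ[X]) (hP : P ≠ 0) (hnr : ∀ z ∈ P.aroots ℂ, z.im ≠ 0) (y : ℝ) :
    Polynomial.aeval y P ≠ 0 := by
  intro h0
  have h1 : Polynomial.aeval ((y : ℂ)) P = 0 := by
    have := Polynomial.aeval_algebraMap_apply ℂ y P
    rw [h0, map_zero] at this
    exact this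
  have h2 : (y : ℂ) ∈ P.aroots ℂ := by
    rw [Polynomial.mem_aroots]
    exact ⟨hP, h1⟩
  exact hnr _ h2 (Complex.ofReal_im y)

theorem nonreal_even {K : Type u} [Field K] [CharZero K] (x : K) (hint : IsIntegral ℤ x)
    (q : ℤ) (hq : 0 < q)
    (hweil : ∀ z ∈ (minpoly ℤ x).aroots ℂ, ‖z‖ = Real.sqrt (q : ℝ))
    (hnr : ∀ z ∈ (minpoly ℤ x).aroots ℂ, z.im ≠ 0) :
    Even (minpoly ℤ x).natDegree ∧
      (minpoly ℤ x).coeff 0 = q ^ ((minpoly ℤ x).natDegree / 2) := by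
  have hfe := funeq_single x hint q hq hweil
  have hPm := minpoly.monic hint
  have hqr : (0 : ℝ) < q := by exact_mod_cast hq
  have hr : 0 < Real.sqrt (q : ℝ) := Real.sqrt_pos.2 hqr
  have hrr : Real.sqrt (q : ℝ) * Real.sqrt (q : ℝ) = q := Real.mul_self_sqrt hqr.le
  have hev : ∀ y : ℝ, y ≠ 0 → (q : ℝ) / y = y →
      y ^ (minpoly ℤ x).natDegree = ((minpoly ℤ x).coeff 0 : ℝ) := by
    intro y hy hqy
    have h1 := congrArg (Polynomial.aeval y) hfe
    rw [aeval_R q y hy _ _ (fun m hm => Polynomial.coeff_eq_zero_of_natDegree_lt hm), hqy,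
      map_mul, Polynomial.aeval_C] at h1
    have h2 := mul_right_cancel₀ (aeval_real_ne_zero _ hPm.ne_zero hnr y) h1
    rw [h2]
    simp
  have h1 := hev (Real.sqrt (q : ℝ)) hr.ne' (by rw [div_eq_iff hr.ne', hrr])
  have h2 := hev (-Real.sqrt (q : ℝ)) (neg_ne_zero.2 hr.ne')
    (by rw [div_eq_iff (neg_ne_zero.2 hr.ne')]; rw [neg_mul_neg, hrr])
  have h3 : (-1 : ℝ) ^ (minpoly ℤ x).natDegree = 1 := by
    rw [← h1, neg_pow] at h2
    have h4 : Real.sqrt (q : ℝ) ^ (minpoly ℤ x).natDegree ≠ 0 := pow_ne_zero _ hr.ne'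
    exact mul_right_cancel₀ h4 (by rw [h2, one_mul])
  have heven : Even (minpoly ℤ x).natDegree := by
    rcases Nat.even_or_odd (minpoly ℤ x).natDegree with h | h
    · exact h
    · rw [h.neg_one_pow] at h3
      norm_num at h3
  refine ⟨heven, ?_⟩
  obtain ⟨d, hd⟩ := heven
  have h5 : (minpoly ℤ x).natDegree / 2 = d := by omega
  rw [h5]
  have h6 : (((minpoly ℤ x).coeff 0 : ℤ) : ℝ) = ((q ^ d : ℤ) : ℝ) := by
    rw [← h1, hd, ← two_mul, pow_mul, Real.sq_sqrt hqr.le]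
    push_cast; rfl
  exact_mod_cast h6

theorem card_filter_le (p : ℕ) [Fact p.Prime] [DecidablePred fun z : PadicAlgCl p => ‖z‖ = 1]
    (P : ℤ[X]) :
    Multiset.card ((P.aroots (PadicAlgCl p)).filter (fun z => ‖z‖ = 1)) ≤ P.natDegree := by
  refine le_trans (Multiset.card_le_card (Multiset.filter_le _ _)) ?_
  refine le_trans (Polynomial.card_roots' _) ?_
  exact Polynomial.natDegree_map_le

theorem ordinary_iff (p e : ℕ) [Fact p.Prime] (he : 0 < e)
    [DecidablePred fun z : PadicAlgCl p => ‖z‖ = 1]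
    {K : Type u} [Field K] [CharZero K] (x : K) (hint : IsIntegral ℤ x)
    (hweil : ∀ z ∈ (minpoly ℤ x).aroots ℂ, ‖z‖ = Real.sqrt ((p : ℝ) ^ e))
    (hnr : ∀ z ∈ (minpoly ℤ x).aroots ℂ, z.im ≠ 0) :
    2 * Multiset.card (((minpoly ℤ x).aroots (PadicAlgCl p)).filter (fun z => ‖z‖ = 1)) =
        (minpoly ℤ x).natDegree ↔
      ¬ ((p : ℤ) ∣ (minpoly ℤ x).coeff ((minpoly ℤ x).natDegree / 2)) := by
  have hp : (p : ℤ) ≠ 0 := by exact_mod_cast (Fact.out : p.Prime).ne_zero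
  have hq : ((p : ℤ) ^ e) ≠ 0 := pow_ne_zero _ hp
  have hqpos : (0 : ℤ) < (p : ℤ) ^ e := by
    have : (0 : ℤ) < p := by exact_mod_cast (Fact.out : p.Prime).pos
    positivity
  have hqr : (((p : ℤ) ^ e : ℤ) : ℝ) = (p : ℝ) ^ e := by push_cast; rfl
  have hweil' : ∀ z ∈ (minpoly ℤ x).aroots ℂ,
      ‖z‖ = Real.sqrt ((((p : ℤ) ^ e : ℤ)) : ℝ) := by rw [hqr]; exact hweil
  have hPm := minpoly.monic hint
  obtain ⟨heven, hc0⟩ := nonreal_even x hint _ hqpos hweil' hnr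
  obtain ⟨d, hd⟩ := heven
  have hd2 : (minpoly ℤ x).natDegree / 2 = d := by omega
  have hPd : (minpoly ℤ x).natDegree = 2 * d := by omega
  rw [hd2] at hc0 ⊢
  have hfe := funeq_single x hint _ hqpos hweil'
  have hfc := funeq_coeff (minpoly ℤ x) _ hq d hPd hfe 1 (by rw [hc0, mul_one])
  obtain ⟨hA, hB⟩ := padic_unit_count p (minpoly ℤ x) hPm
  have hUn := card_filter_le p (minpoly ℤ x)
  set U := Multiset.card (((minpoly ℤ x).aroots (PadicAlgCl p)).filter (fun z => ‖z‖ = 1))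
    with hU
  have hUd : U ≤ d := by
    by_contra hlt
    rw [not_le] at hlt
    apply hA
    have h1 := hfc (d - ((minpoly ℤ x).natDegree - U)) (by omega)
    rw [show d - (d - ((minpoly ℤ x).natDegree - U)) = (minpoly ℤ x).natDegree - U by omega] at h1
    rw [h1, mul_one]
    apply Dvd.dvd.mul_right
    have h2 : d - ((minpoly ℤ x).natDegree - U) ≠ 0 := by omega
    exact dvd_pow (dvd_pow_self _ he.ne') h2
  constructor
  · intro h2U
    have : (minpoly ℤ x).natDegree - U = d := by omega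
    rwa [this] at hA
  · intro hnd
    have h1 : ¬ d < (minpoly ℤ x).natDegree - U := fun hlt => hnd (hB d hlt)
    omega

end

end Groth.Agent.Lib.helper10.Weil
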