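import Mathlib
import Groth.Agent.Lib.helper10.KosDet
import Groth.Agent.Lib.helper10.KosAug
import Groth.Agent.Lib.helper10.KProjLift

/-!
# Wiebe's theorem for Koszul-regular sequences

If `f = C g` and `f` is Koszul-regular, then `((f) : (g)) = (f) + (det C)`.
-/

set_option autoImplicit false
universe u
open CategoryTheory CategoryTheory.Limits CochainComplex HomComplex

namespace Groth.Agent.Lib.helper10.Wiebe

open Groth.Agent.Lib.Helper5.KosLow Groth.Agent.Lib.helper10.KosOps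
  Groth.Agent.Lib.helper10.KosLambda Groth.Agent.Lib.helper10.KosDet
  Groth.Agent.Lib.helper10.KosAug

attribute [local instance] HasDerivedCategory.standard

variable {R : Type u} [CommRing R]

/-- list form of the main inclusion -/
theorem mem_sup_of_forall_mul_mem (gl : List R) (N : ℕ) (hN : gl.length = N)
    (C : Matrix (Fin N) (Fin N) R)
    (hf : LCI.IsKoszulRegularSeq R ((List.ofFn fun i => ext N (C i)).map (dot gl)))
    (y : R)
    (hy : ∀ r ∈ Ideal.ofList gl,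
      y * r ∈ Ideal.ofList ((List.ofFn fun i => ext N (C i)).map (dot gl))) :
    y ∈ Ideal.ofList ((List.ofFn fun i => ext N (C i)).map (dot gl)) ⊔ Ideal.span {C.det} := by
  set rows : List (ℕ → R) := List.ofFn fun i => ext N (C i) with hrows
  set fl : List R := rows.map (dot gl) with hfl
  have hlen : fl.length = N := by simp [hfl, hrows]
  -- the augmentation of `K(fl)` is a quasi-isomorphism
  have hq : QuasiIso (aug fl) := quasiIso_aug fl hf
  have : IsIso (DerivedCategory.Q.map (aug fl)) := by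
    rw [DerivedCategory.isIso_Q_map_iff_quasiIso]
    exact hq
  -- lift multiplication by `y`
  obtain ⟨φ, hφ⟩ := Groth.Agent.Lib.helper10.KProjLift.exists_lift (K := K gl) (L := K fl)
    (DerivedCategory.Q.map (toS gl (Ideal.ofList fl) y hy) ≫ inv (DerivedCategory.Q.map (aug fl)))
  -- the two composites agree after augmentation
  have hcomp : Λ gl rows ≫ toS gl (Ideal.ofList fl) y hy = (y • 𝟙 (K fl)) ≫ aug fl := by
    refine HomologicalComplex.to_single_hom_ext ?_
    ext x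
    apply (ModuleCat.mono_iff_injective _).1 (inferInstance : Mono
      (HomologicalComplex.singleObjXSelf (ComplexShape.up ℤ) 0
        (ModuleCat.of R (R ⧸ Ideal.ofList fl))).hom)
    change (HomologicalComplex.singleObjXSelf (ComplexShape.up ℤ) 0
        (ModuleCat.of R (R ⧸ Ideal.ofList fl))).hom.hom
        (((toS gl (Ideal.ofList fl) y hy).f 0).hom (((Λ gl rows).f 0).hom x)) =
      (HomologicalComplex.singleObjXSelf (ComplexShape.up ℤ) 0
        (ModuleCat.of R (R ⧸ Ideal.ofList fl))).hom.hom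
        (((aug fl).f 0).hom (((y • 𝟙 (K fl) : K fl ⟶ K fl).f 0).hom x))
    rw [toS_f_zero, aug_f_zero, ε0_Λ, smul_id_f_hom, map_smul, smul_eq_mul]
  have hQ : DerivedCategory.Q.map (Λ gl rows ≫ φ) = DerivedCategory.Q.map (y • 𝟙 (K fl)) := by
    rw [← cancel_mono (DerivedCategory.Q.map (aug fl)), ← Functor.map_comp, ← Functor.map_comp,
      ← hcomp, Category.assoc, Functor.map_comp, Functor.map_comp, hφ, Category.assoc,
      IsIso.inv_hom_id, Category.comp_id, Functor.map_comp]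
  obtain ⟨h⟩ := Groth.Agent.Lib.helper10.KProjLift.nonempty_homotopy_of_Q_map_eq _ _ hQ
  -- look at the lowest degree
  have hkf : -(N : ℤ) + (fl.length : ℤ) = 0 := by rw [hlen]; omega
  have hkg : -(N : ℤ) + (gl.length : ℤ) = 0 := by rw [hN]; omega
  have hcomm := h.comm (-(N : ℤ))
  have hdn : dNext (-(N : ℤ)) h.hom =
      (K fl).d (-(N : ℤ)) (-(N : ℤ) + 1) ≫ h.hom (-(N : ℤ) + 1) (-(N : ℤ)) :=
    dNext_eq h.hom (by simp)
  have hpd : prevD (-(N : ℤ)) h.hom =
      h.hom (-(N : ℤ)) (-(N : ℤ) - 1) ≫ (K fl).d (-(N : ℤ) - 1) (-(N : ℤ)) :=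
    prevD_eq h.hom (by simp)
  rw [hdn, hpd] at hcomm
  have hsub : Subsingleton ((K fl).X (-(N : ℤ) - 1)) :=
    subsingleton_X_below fl _ (by rw [hlen]; omega)
  have hev := congrArg (fun k => τ fl (-(N : ℤ)) hkf (k.hom (t fl (-(N : ℤ)) hkf))) hcomm
  have e1 : ((Λ gl rows ≫ φ).f (-(N : ℤ))).hom (t fl (-(N : ℤ)) hkf) =
      C.det • (φ.f (-(N : ℤ))).hom (t gl (-(N : ℤ)) hkg) := by
    change (φ.f (-(N : ℤ))).hom (((Λ gl rows).f (-(N : ℤ))).hom (t fl (-(N : ℤ)) hkf)) = _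
    rw [eq_τ_smul_t gl (-(N : ℤ)) hkg (((Λ gl rows).f (-(N : ℤ))).hom (t fl (-(N : ℤ)) hkf))]
    rw [τ_Λ_eq_det gl N hN C (-(N : ℤ)) hkf hkg, map_smul]
  have e2 : ((K fl).d (-(N : ℤ)) (-(N : ℤ) + 1) ≫ h.hom (-(N : ℤ) + 1) (-(N : ℤ)) +
      h.hom (-(N : ℤ)) (-(N : ℤ) - 1) ≫ (K fl).d (-(N : ℤ) - 1) (-(N : ℤ)) +
      (y • 𝟙 (K fl) : K fl ⟶ K fl).f (-(N : ℤ))).hom (t fl (-(N : ℤ)) hkf) =
      (h.hom (-(N : ℤ) + 1) (-(N : ℤ))).hom
        (((K fl).d (-(N : ℤ)) (-(N : ℤ) + 1)).hom (t fl (-(N : ℤ)) hkf)) +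
      y • t fl (-(N : ℤ)) hkf := by
    have hz : (h.hom (-(N : ℤ)) (-(N : ℤ) - 1)).hom (t fl (-(N : ℤ)) hkf) = 0 :=
      Subsingleton.elim _ _
    change (h.hom (-(N : ℤ) + 1) (-(N : ℤ))).hom
        (((K fl).d (-(N : ℤ)) (-(N : ℤ) + 1)).hom (t fl (-(N : ℤ)) hkf)) +
      ((K fl).d (-(N : ℤ) - 1) (-(N : ℤ))).hom
        ((h.hom (-(N : ℤ)) (-(N : ℤ) - 1)).hom (t fl (-(N : ℤ)) hkf)) +
      ((y • 𝟙 (K fl) : K fl ⟶ K fl).f (-(N : ℤ))).hom (t fl (-(N : ℤ)) hkf) = _
    rw [hz, map_zero, add_zero, smul_id_f_hom]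
  rw [e1, e2, map_smul, map_add, map_smul, τ_t, smul_eq_mul, smul_eq_mul, mul_one] at hev
  -- the homotopy term lies in the ideal
  have hmem : τ fl (-(N : ℤ)) hkf ((h.hom (-(N : ℤ) + 1) (-(N : ℤ))).hom
      (((K fl).d (-(N : ℤ)) (-(N : ℤ) + 1)).hom (t fl (-(N : ℤ)) hkf))) ∈ Ideal.ofList fl := by
    have h1 := d_mem fl (-(N : ℤ)) (-(N : ℤ) + 1) (t fl (-(N : ℤ)) hkf)
    have h2 := map_mem_smul_top ((τ fl (-(N : ℤ)) hkf).comp
      (h.hom (-(N : ℤ) + 1) (-(N : ℤ))).hom) (le_refl (Ideal.ofList fl)) h1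
    rwa [smul_eq_mul, Ideal.mul_top] at h2
  have hyeq : y = C.det * τ fl (-(N : ℤ)) hkf ((φ.f (-(N : ℤ))).hom (t gl (-(N : ℤ)) hkg)) -
      τ fl (-(N : ℤ)) hkf ((h.hom (-(N : ℤ) + 1) (-(N : ℤ))).hom
      (((K fl).d (-(N : ℤ)) (-(N : ℤ) + 1)).hom (t fl (-(N : ℤ)) hkf))) := by
    rw [hev]; ring
  rw [hyeq]
  refine Ideal.sub_mem _ (Ideal.mem_sup_right ?_) (Ideal.mem_sup_left hmem)
  exact Ideal.mul_mem_right _ _ (Ideal.subset_span rfl)


/-! ### the `Fin n` form -/

theorem ext_succ (n : ℕ) (w : Fin (n + 1) → R) :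
    (fun i => ext (n + 1) w (i + 1)) = ext n (fun j => w j.succ) := by
  funext i
  rw [ext_apply, ext_apply]
  by_cases h : i < n
  · rw [dif_pos h, dif_pos (by omega)]
    rfl
  · rw [dif_neg h, dif_neg (by omega)]

theorem dot_ofFn : ∀ (n : ℕ) (g : Fin n → R) (w : Fin n → R),
    dot (List.ofFn g) (ext n w) = ∑ j, w j * g j
  | 0, g, w => by
    simp [dot]
  | n + 1, g, w => by
    rw [List.ofFn_succ]
    change ext (n + 1) w 0 * g 0 + dot (List.ofFn fun i => g i.succ)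
      (fun i => ext (n + 1) w (i + 1)) = _
    rw [ext_succ, dot_ofFn n, Fin.sum_univ_succ, ext_apply, dif_pos (Nat.succ_pos n)]
    rfl

theorem ofList_ofFn {n : ℕ} (v : Fin n → R) :
    Ideal.ofList (List.ofFn v) = Ideal.span (Set.range v) := by
  unfold Ideal.ofList
  congr 1
  ext x
  simp [List.mem_ofFn]

/-- **Wiebe's theorem** (Koszul-regular form): if `f = C g` and `f` is Koszul-regular then
`((f) : (g)) = (f) + (det C)`. -/
theorem mul_mem_iff {n : ℕ} (f g : Fin n → R) (C : Matrix (Fin n) (Fin n) R)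
    (hC : ∀ i, f i = ∑ j, C i j * g j) (hf : LCI.IsKoszulRegularSeq R (List.ofFn f)) (y : R) :
    (∀ j, y * g j ∈ Ideal.span (Set.range f)) ↔
      y ∈ Ideal.span (Set.range f) ⊔ Ideal.span {C.det} := by
  have hfl : (List.ofFn fun i => ext n (C i)).map (dot (List.ofFn g)) = List.ofFn f := by
    rw [List.map_ofFn]
    congr 1
    funext i
    change dot (List.ofFn g) (ext n (C i)) = f i
    rw [dot_ofFn, hC]
  constructor
  · intro hy
    have h := mem_sup_of_forall_mul_mem (List.ofFn g) n (List.length_ofFn) C (by rw [hfl]; exact hf) y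
      (by
        rw [hfl, ofList_ofFn, ofList_ofFn]
        intro r hr
        refine Submodule.span_induction (p := fun r _ => y * r ∈ Ideal.span (Set.range f)) ?_ ?_ ?_ ?_ hr
        · rintro _ ⟨j, rfl⟩
          exact hy j
        · simp
        · intro a b _ _ ha hb
          rw [mul_add]
          exact Ideal.add_mem _ ha hb
        · intro c a _ ha
          rw [smul_eq_mul, mul_left_comm]
          exact Ideal.mul_mem_left _ _ ha)
    rwa [hfl, ofList_ofFn] at h
  · intro hy j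
    rw [Submodule.mem_sup] at hy
    obtain ⟨a, ha, b, hb, rfl⟩ := hy
    obtain ⟨c, rfl⟩ := Ideal.mem_span_singleton'.1 hb
    rw [add_mul]
    refine Ideal.add_mem _ (Ideal.mul_mem_right _ _ ha) ?_
    -- Cramer's rule
    have hcr : C.det * g j = ∑ i, C.adjugate j i * f i := by
      have h1 : (C.adjugate * C).mulVec g = C.adjugate.mulVec f := by
        rw [← Matrix.mulVec_mulVec]
        congr 1
        funext i
        rw [hC i]
        rfl
      rw [Matrix.adjugate_mul] at h1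
      have h2 := congrFun h1 j
      rw [Matrix.smul_mulVec, Matrix.one_mulVec] at h2
      simpa [Matrix.mulVec, dotProduct] using h2
    rw [mul_assoc, hcr]
    refine Ideal.mul_mem_left _ _ (Ideal.sum_mem _ fun i _ => ?_)
    exact Ideal.mul_mem_left _ _ (Ideal.subset_span ⟨i, rfl⟩)

end Groth.Agent.Lib.helper10.Wiebe
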