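import Mathlib

set_option autoImplicit false
set_option maxHeartbeats 800000

/-!
# The `n`-th ghost component on rings with `p^n = 0`
-/

namespace Groth.Agent.Lib.helper10.WittDP

open WittVector

variable (p : ℕ) [hp : Fact p.Prime] (n : ℕ) {B : Type*} [CommRing B]

theorem ghost_eq (hpn : (p : B) ^ n = 0) (x : WittVector p B) :
    WittVector.ghostComponent n x =
      ∑ i : Fin n, (p : B) ^ (i : ℕ) * (x.coeff i) ^ (p ^ (n - i)) := by
  rw [WittVector.ghostComponent_apply, wittPolynomial_eq_sum_C_mul_X_pow, map_sum,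
    Finset.sum_range_succ, Finset.sum_range (fun i => (MvPolynomial.aeval x.coeff)
      (MvPolynomial.C ((p : ℤ) ^ i) * MvPolynomial.X i ^ p ^ (n - i)))]
  simp only [map_mul, map_pow, MvPolynomial.aeval_C, MvPolynomial.aeval_X, map_natCast,
    eq_intCast, Int.cast_pow, Int.cast_natCast]
  rw [hpn, zero_mul, add_zero]

/-- `θ` is surjective when Frobenius is surjective mod `p` -/
theorem theta_surjective (hpn : (p : B) ^ n = 0)
    (hF : Function.Surjective (fun y : B ⧸ (Ideal.span {(p : B)}) => y ^ p))
    (θ : TruncatedWittVector p n (B ⧸ (Ideal.span {(p : B)})) →+* B)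
    (hθ : ∀ x : WittVector p B,
      θ (WittVector.truncate n (WittVector.map (Ideal.Quotient.mk (Ideal.span {(p : B)})) x)) =
        ∑ i : Fin n, (p : B) ^ (i : ℕ) * (x.coeff i) ^ (p ^ (n - i))) :
    Function.Surjective θ := by
  classical
  have hpp : p.Prime := Fact.out
  have hθ' : ∀ x : WittVector p B,
      θ (WittVector.truncate n (WittVector.map (Ideal.Quotient.mk (Ideal.span {(p : B)})) x)) =
        WittVector.ghostComponent n x := fun x => by
    rw [hθ, ghost_eq p n hpn x]
  have hFm : ∀ m : ℕ, ∀ c : B, ∃ b : B, c - b ^ (p ^ m) ∈ Ideal.span {(p : B)} := by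
    intro m
    induction m with
    | zero =>
      intro c
      exact ⟨c, by simp⟩
    | succ m ih =>
      intro c
      obtain ⟨y, hy⟩ := hF (Ideal.Quotient.mk (Ideal.span {(p : B)}) c)
      obtain ⟨b₁, rfl⟩ := Ideal.Quotient.mk_surjective y
      obtain ⟨b, hb⟩ := ih b₁
      refine ⟨b, ?_⟩
      rw [← Ideal.Quotient.eq]
      have h1 : Ideal.Quotient.mk (Ideal.span {(p : B)}) b₁ =
          Ideal.Quotient.mk (Ideal.span {(p : B)}) b ^ (p ^ m) := by
        rw [← map_pow]
        exact Ideal.Quotient.eq.mpr hb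
      rw [map_pow, pow_succ, pow_mul, ← h1]
      exact hy.symm
  have key : ∀ j : ℕ, j ≤ n → ∀ a : B, ∃ x : WittVector p B, ∃ c : B,
      a - WittVector.ghostComponent n x = (p : B) ^ j * c := by
    intro j
    induction j with
    | zero =>
      intro _ a
      exact ⟨0, a, by simp⟩
    | succ j ih =>
      intro hj a
      obtain ⟨x, c, hxc⟩ := ih (by omega) a
      obtain ⟨b, hb⟩ := hFm (n - j) c
      obtain ⟨e, he⟩ := Ideal.mem_span_singleton'.mp hb
      let y : WittVector p B := WittVector.mk p (fun i => if i = j then b else 0)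
      have hy : WittVector.ghostComponent n y = (p : B) ^ j * b ^ (p ^ (n - j)) := by
        rw [ghost_eq p n hpn y]
        rw [Finset.sum_eq_single (⟨j, by omega⟩ : Fin n)]
        · simp [y]
        · intro i _ hi
          have hij : (i : ℕ) ≠ j := fun h => hi (Fin.ext h)
          have : y.coeff i = 0 := by simp [y, hij]
          rw [this, zero_pow (pow_ne_zero _ hpp.ne_zero), mul_zero]
        · intro h
          exact absurd (Finset.mem_univ _) h
      refine ⟨x + y, e, ?_⟩
      rw [map_add, hy, ← sub_sub, hxc, ← mul_sub, ← he, pow_succ]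
      ring
  intro a
  obtain ⟨x, c, hxc⟩ := key n le_rfl a
  rw [hpn, zero_mul, sub_eq_zero] at hxc
  exact ⟨_, (hθ' x).trans hxc.symm⟩

end Groth.Agent.Lib.helper10.WittDP
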